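import Groth.Agent.L12.CotTVanish
import Groth.Agent.L07.RationalSmooth
import Groth.Agent.L21.Smooth.EtaleRegular
import Groth.Agent.L01.Regular
import Groth.Agent.L07.QuasiRegular
import Mathlib.RingTheory.Smooth.Locus
import Mathlib.RingTheory.Smooth.StandardSmoothOfFree
import Mathlib.RingTheory.Jacobson.Ring
import Mathlib.RingTheory.RingHom.Surjective
import Mathlib.FieldTheory.IsAlgClosed.Basic

/-!
# Smoothness and regularity over an algebraically closed field; vanishing of `T²` of a smooth algebra
-/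

universe u v w t m

open TensorProduct CotT IsLocalRing

namespace Groth.L12.CotTLib

theorem mem_map_ker_of_localRingHom {R S : Type u} [CommRing R] [CommRing S] (φ : R →+* S)
    (hφ : Function.Surjective φ) (P : Ideal S) [P.IsPrime] (x : Localization.AtPrime (P.comap φ))
    (hx : Localization.localRingHom (P.comap φ) P φ rfl x = 0) :
    x ∈ (RingHom.ker φ).map (algebraMap R (Localization.AtPrime (P.comap φ))) := by
  obtain ⟨a, s, rfl⟩ := IsLocalization.exists_mk'_eq (P.comap φ).primeCompl x
  rw [Localization.localRingHom_mk', IsLocalization.mk'_eq_zero_iff] at hx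
  obtain ⟨⟨t, ht⟩, hta⟩ := hx
  obtain ⟨t', rfl⟩ := hφ t
  rw [IsLocalization.mk'_mem_map_algebraMap_iff]
  exact ⟨t', ht, by rw [RingHom.mem_ker, map_mul]; exact hta⟩

theorem regular_congr {R : Type u} [CommRing R] {p q : Ideal R} [p.IsPrime] [q.IsPrime] (h : p = q)
    (hp : IsRegularLocalRing (Localization.AtPrime p)) : IsRegularLocalRing (Localization.AtPrime q) := by
  subst h; exact hp

variable {k : Type u} [Field k]

theorem regular_of_isSmoothAt {B : Type u} [CommRing B] [Algebra k B] [Algebra.FiniteType k B] (p : Ideal B)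
    [p.IsPrime] [Algebra.IsSmoothAt k p] : IsRegularLocalRing (Localization.AtPrime p) := by
  haveI : Algebra.FinitePresentation k B := Algebra.FinitePresentation.of_finiteType.1 ‹_›
  obtain ⟨f, hf, hsm⟩ := Algebra.IsSmoothAt.exists_notMem_isStandardSmooth k p
  let Bf := Localization.Away f
  have hdisj : Disjoint (Submonoid.powers f : Set B) (p : Set B) := by
    rw [Set.disjoint_left]
    rintro _ ⟨n, rfl⟩ hmem
    exact hf (Ideal.IsPrime.mem_of_pow_mem ‹_› n hmem)
  let P : Ideal Bf := p.map (algebraMap B Bf)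
  haveI : P.IsPrime := IsLocalization.isPrime_of_isPrime_disjoint (Submonoid.powers f) Bf p ‹_› hdisj
  have hc : P.comap (algebraMap B Bf) = p := IsLocalization.comap_map_of_isPrime_disjoint _ _ ‹_› hdisj
  haveI := Groth.L21.Smooth.regular_of_isStandardSmooth k (algebraMap k Bf)
    (RingHom.isStandardSmooth_algebraMap.2 hsm) P
  have : IsRegularLocalRing (Localization.AtPrime (P.comap (algebraMap B Bf))) :=
    IsRegularLocalRing.of_ringEquiv
      (IsLocalization.localizationLocalizationAtPrimeIsoLocalization (Submonoid.powers f) P).toRingEquiv.symm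
  exact regular_congr hc this

variable [IsAlgClosed k] {B : Type u} [CommRing B] [Algebra k B] [Algebra.FiniteType k B]

theorem exists_point (m : Ideal B) [m.IsMaximal] : ∃ χ : B →ₐ[k] k, m = RingHom.ker χ := by
  letI := Ideal.Quotient.field m
  haveI : Module.Finite k (B ⧸ m) := finite_of_finite_type_of_isJacobsonRing k (B ⧸ m)
  have h1 : Function.Bijective (Algebra.ofId k (B ⧸ m)) := IsAlgClosed.algebraMap_bijective_of_isIntegral
  refine ⟨(AlgEquiv.ofBijective _ h1).symm.toAlgHom.comp (Ideal.Quotient.mkₐ k m), ?_⟩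
  ext x
  simp [Ideal.Quotient.eq_zero_iff_mem]

theorem isSmoothAt_iff_regular_of_isMaximal (m : Ideal B) [m.IsMaximal] :
    Algebra.IsSmoothAt k m ↔ IsRegularLocalRing (Localization.AtPrime m) := by
  refine ⟨fun _ => regular_of_isSmoothAt (k := k) m, fun _ => ?_⟩
  obtain ⟨χ, hχ⟩ := exists_point (k := k) m
  exact Groth.L07.RationalSmooth.isSmoothAt_of_regular m χ hχ

theorem smooth_of_regular_maximal
    (h : ∀ (m : Ideal B) [m.IsMaximal], IsRegularLocalRing (Localization.AtPrime m)) : Algebra.Smooth k B := by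
  haveI : Algebra.FinitePresentation k B := Algebra.FinitePresentation.of_finiteType.1 ‹_›
  refine ⟨Algebra.smoothLocus_eq_univ_iff.1 (Set.eq_univ_of_forall fun p => ?_), inferInstance⟩
  obtain ⟨m, hm, hpm⟩ := Ideal.exists_le_maximal p.asIdeal p.2.ne_top
  have hmem : (⟨m, hm.isPrime⟩ : PrimeSpectrum B) ∈ Algebra.smoothLocus k B :=
    (isSmoothAt_iff_regular_of_isMaximal m).2 (h m)
  exact ((PrimeSpectrum.le_iff_specializes p ⟨m, hm.isPrime⟩).1 hpm).mem_open Algebra.isOpen_smoothLocus hmem

theorem regular_iff_formallySmooth :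
    (∀ (p : Ideal B) [p.IsPrime], IsRegularLocalRing (Localization.AtPrime p)) ↔ Algebra.FormallySmooth k B := by
  refine ⟨fun h => (smooth_of_regular_maximal fun m _ => h m).formallySmooth, fun h p _ => ?_⟩
  haveI : Algebra.IsSmoothAt k p := inferInstanceAs (Algebra.FormallySmooth k (Localization p.primeCompl))
  exact regular_of_isSmoothAt (k := k) p

omit [IsAlgClosed k] [Algebra.FiniteType k B] in
/-- `T²` of a smooth algebra over a field vanishes. -/
theorem T2_subsingleton_of_smooth [Algebra.Smooth k B]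
    (M : Type u) [AddCommGroup M] [Module B M] : Subsingleton (T2 (canon k B) M) := by
  classical
  let P := Algebra.Presentation.ofFinitePresentation k B
  rw [T2_subsingleton_congr (canon k B) P]
  refine T2_subsingleton_of_injective P (d2_injective P ?_) (projective_cotangent_of_formallySmooth P) M
  intro S p _ hp
  haveI : Algebra.FiniteType k B := inferInstance
  have hsurj : Function.Surjective (algebraMap P.toExtension.Ring B) := P.toExtension.algebraMap_surjective
  have hker : RingHom.ker (algebraMap P.toExtension.Ring B) ≤ p := hp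
  obtain ⟨p', hp', rfl⟩ : ∃ (p' : Ideal B) (_ : p'.IsPrime), p = p'.comap (algebraMap P.toExtension.Ring B) :=
    ⟨p.map (algebraMap P.toExtension.Ring B), Ideal.map_isPrime_of_surjective hsurj hker,
      by rw [Ideal.comap_map_of_surjective _ hsurj, ← RingHom.ker_eq_comap_bot, sup_eq_left.2 hker]⟩
  haveI := hp'
  haveI : IsRegularLocalRing (Localization.AtPrime p') := by
    haveI : Algebra.IsSmoothAt k p' := inferInstanceAs (Algebra.FormallySmooth k (Localization p'.primeCompl))
    exact regular_of_isSmoothAt (k := k) p'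
  haveI : IsRegularRing k := inferInstance
  haveI : IsRegularRing P.toExtension.Ring := inferInstanceAs (IsRegularRing (MvPolynomial _ k))
  set Rp := Localization.AtPrime (p'.comap (algebraMap P.toExtension.Ring B))
  haveI : IsRegularLocalRing Rp := IsRegularRing.isRegularLocalRing_localization _
  let φ : Rp →+* Localization.AtPrime p' := Localization.localRingHom _ p' (algebraMap P.toExtension.Ring B) rfl
  have hφ : Function.Surjective φ := RingHom.surjective_localRingHom_of_surjective _ hsurj p'
  obtain ⟨d, hd⟩ := Groth.L01.exists_dim_eq_nat (R := Rp)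
  obtain ⟨l₁, l₂, hlen, hmax, hI⟩ := Groth.L01.exists_lists_of_regular_quotient d Rp hd (RingHom.ker φ)
    (IsRegularLocalRing.of_ringEquiv (RingHom.quotientKerEquivOfSurjective hφ).symm)
  have hreg : RingTheory.Sequence.IsWeaklyRegular Rp l₁ :=
    ((RingTheory.Sequence.isWeaklyRegular_append_iff Rp _ _).1
      (Groth.L01.isRegular_of_ofList_eq_maximalIdeal (l₁ ++ l₂) hmax (by rw [hlen, hd])).toIsWeaklyRegular).1
  let g : Fin l₁.length → Rp := fun i => l₁.get i
  have hl : List.ofFn g = l₁ := List.ofFn_get l₁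
  have hgI : RingHom.ker φ = Ideal.span (Set.range g) := by
    rw [hI]
    exact (congrArg Ideal.ofList hl.symm).trans (Groth.L07.QReg.ofList_ofFn g)
  have hnum : ∀ i, ∃ (a : P.toExtension.Ring) (s : (p'.comap (algebraMap P.toExtension.Ring B)).primeCompl),
      a ∈ P.toExtension.ker ∧ g i * algebraMap _ Rp (s : P.toExtension.Ring) = algebraMap _ Rp a := fun i => by
    have h1 : g i ∈ (RingHom.ker (algebraMap P.toExtension.Ring B)).map (algebraMap _ Rp) :=
      mem_map_ker_of_localRingHom _ hsurj p' (g i) (RingHom.mem_ker.1 (hgI ▸ Ideal.subset_span ⟨i, rfl⟩))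
    obtain ⟨⟨⟨a, ha⟩, s⟩, h⟩ := (IsLocalization.mem_map_algebraMap_iff
      (p'.comap (algebraMap P.toExtension.Ring B)).primeCompl Rp).1 h1
    exact ⟨a, s, ha, h⟩
  choose a s ha hs using hnum
  have hunit : ∀ i, IsUnit (algebraMap _ Rp ((s i : P.toExtension.Ring))) := fun i =>
    IsLocalization.map_units Rp (s i)
  have hfg : (fun i => algebraMap _ Rp (a i)) = fun i => algebraMap _ Rp (s i : P.toExtension.Ring) * g i :=
    funext fun i => by rw [← hs, mul_comm]
  have hspan : Ideal.span (Set.range fun i => algebraMap _ Rp (a i)) = RingHom.ker φ := by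
    rw [hgI]
    refine le_antisymm (Ideal.span_le.2 ?_) (Ideal.span_le.2 ?_)
    · rintro _ ⟨i, rfl⟩
      dsimp only
      rw [congrFun hfg i]
      exact Ideal.mul_mem_left _ _ (Ideal.subset_span ⟨i, rfl⟩)
    · rintro _ ⟨i, rfl⟩
      rw [SetLike.mem_coe, ← Ideal.unit_mul_mem_iff_mem _ (hunit i), ← congrFun hfg i]
      exact Ideal.subset_span ⟨i, rfl⟩
  have hrels : ∀ σ' ∈ S, ∃ u : P.toExtension.Ring, u ∉ p'.comap (algebraMap P.toExtension.Ring B) ∧
      u * rel P σ' ∈ Ideal.span (Set.range a) := fun σ' _ => by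
    have h1 : algebraMap _ Rp (rel P σ') ∈ (Ideal.span (Set.range a)).map (algebraMap _ Rp) := by
      rw [Ideal.map_span, ← Set.range_comp]
      change _ ∈ Ideal.span (Set.range fun i => algebraMap _ Rp (a i))
      rw [hspan, RingHom.mem_ker, Localization.localRingHom_to_map, algebraMap_rel, map_zero]
    obtain ⟨⟨x, t⟩, h⟩ := (IsLocalization.mem_map_algebraMap_iff
      (p'.comap (algebraMap P.toExtension.Ring B)).primeCompl Rp).1 h1
    rw [← map_mul, IsLocalization.eq_iff_exists (p'.comap (algebraMap P.toExtension.Ring B)).primeCompl Rp] at h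
    obtain ⟨c, hc⟩ := h
    refine ⟨c * t, fun hm => (Ideal.IsPrime.mem_or_mem inferInstance hm).elim c.2 t.2, ?_⟩
    rw [mul_assoc, mul_comm (t : P.toExtension.Ring), hc]
    exact Ideal.mul_mem_left _ _ x.2
  choose! u hu hur using hrels
  refine ⟨_, a, ∏ σ' ∈ S, u σ', fun hm => ?_, ha, fun σ' hσ => ?_, fun z hz =>
    koszul_of_localization _ a ?_ z hz⟩
  · obtain ⟨σ', hσ, hm'⟩ := (Ideal.IsPrime.prod_mem_iff).1 hm
    exact hu σ' hσ hm'
  · rw [← Finset.mul_prod_erase _ _ hσ, mul_comm (u σ'), mul_assoc]
    exact Ideal.mul_mem_left _ _ (hur σ' hσ)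
  · rw [hfg]
    exact koszul_unit_mul g _ hunit (Groth.L07.RegSeq.koszulH1Zero_of_isWeaklyRegular (by rw [hl]; exact hreg))

end Groth.L12.CotTLib
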