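import Mathlib.RingTheory.MvPowerSeries.Equiv
import Mathlib.RingTheory.AdicCompletion.Completeness
import Mathlib.RingTheory.AdicCompletion.RingHom
import Mathlib.RingTheory.AdicCompletion.Functoriality

/-!
# Evaluation of power series in finitely many variables into adically complete rings
-/

universe u v w

namespace Groth.L12

variable {σ : Type w} [Finite σ] {R : Type u} [CommRing R]

lemma eq_of_forall_sub_mem_pow {S : Type v} [CommRing S] (J : Ideal S) [IsHausdorff J S] {x y : S}
    (h : ∀ n, x - y ∈ J ^ n) : x = y :=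
  sub_eq_zero.1 (IsHausdorff.haus ‹_› _ fun n => by
    rw [SModEq.zero, smul_eq_mul, Ideal.mul_top]
    exact h n)

lemma sub_truncTotal_mem (p : MvPowerSeries σ R) (n : ℕ) :
    p - ((MvPowerSeries.truncTotal n p : MvPolynomial σ R) : MvPowerSeries σ R) ∈
      Ideal.span (Set.range (MvPowerSeries.X : σ → MvPowerSeries σ R)) ^ n := by
  set q : MvPowerSeries σ R :=
    p - ((MvPowerSeries.truncTotal n p : MvPolynomial σ R) : MvPowerSeries σ R) with hq
  set e := MvPowerSeries.toAdicCompletionAlgEquiv σ R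
  have hmap : Ideal.map e.toRingEquiv (Ideal.span (Set.range (MvPowerSeries.X : σ → MvPowerSeries σ R)))
      = (MvPolynomial.idealOfVars σ R).map (algebraMap (MvPolynomial σ R)
        (AdicCompletion (MvPolynomial.idealOfVars σ R) (MvPolynomial σ R))) := by
    simp_rw [Ideal.map_span, ← Set.range_comp]
    congr 2; ext1
    simp [e, AdicCompletion.algebraMap_apply, ← MvPolynomial.coe_X,
      MvPowerSeries.toAdicCompletion_coe]
  have h0 : MvPowerSeries.truncTotal n q = 0 := by
    apply MvPolynomial.ext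
    intro x
    by_cases hx : x.degree < n
    · rw [MvPowerSeries.coeff_truncTotal _ hx, hq, map_sub, MvPolynomial.coeff_coe,
        MvPowerSeries.coeff_truncTotal _ hx, sub_self, MvPolynomial.coeff_zero]
    · rw [MvPowerSeries.coeff_truncTotal_eq_zero _ (not_lt.1 hx), MvPolynomial.coeff_zero]
  have hker : (e q) ∈ ((MvPolynomial.idealOfVars σ R) ^ n •
      (⊤ : Submodule (MvPolynomial σ R) (AdicCompletion (MvPolynomial.idealOfVars σ R) (MvPolynomial σ R)))) := by
    rw [AdicCompletion.pow_smul_top_eq_ker_eval (MvPolynomial.idealOfVars_fg σ R), LinearMap.mem_ker]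
    change (MvPowerSeries.toAdicCompletion σ R q).val n = 0
    rw [MvPowerSeries.toAdicCompletion_apply_eq_mk_truncTotal, h0]
    exact map_zero _
  rw [Ideal.smul_top_eq_map, Submodule.restrictScalars_mem, Ideal.map_pow, ← hmap, ← Ideal.map_pow] at hker
  rw [← Ideal.comap_symm, Ideal.mem_comap] at hker
  simpa using hker

variable {S : Type v} [CommRing S] [Algebra R S] (J : Ideal S)

theorem exists_evalPS [IsAdicComplete J S] (s : σ → S) (hs : ∀ i, s i ∈ J) :
    ∃ φ : MvPowerSeries σ R →ₐ[R] S, ∀ i, φ (MvPowerSeries.X i) = s i := by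
  have hle : (MvPolynomial.idealOfVars σ R).map (MvPolynomial.aeval s (R := R)) ≤ J := by
    rw [MvPolynomial.idealOfVars, Ideal.map_span, Ideal.span_le]
    rintro - ⟨-, ⟨i, rfl⟩, rfl⟩
    simpa using hs i
  let g : ∀ n, (MvPolynomial σ R ⧸ MvPolynomial.idealOfVars σ R ^ n) →ₐ[R] S ⧸ J ^ n := fun n =>
    Ideal.Quotient.liftₐ _ ((Ideal.Quotient.mkₐ R (J ^ n)).comp (MvPolynomial.aeval s)) fun a ha =>
      Ideal.Quotient.eq_zero_iff_mem.2 (Ideal.pow_right_mono hle n (by
        rw [← Ideal.map_pow]; exact Ideal.mem_map_of_mem _ ha))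
  let f : ∀ n, MvPowerSeries σ R →ₐ[R] S ⧸ J ^ n := fun n =>
    (g n).comp ((MvPowerSeries.truncTotalAlgHom σ R n).restrictScalars R)
  have hf : ∀ {m n : ℕ} (hmn : m ≤ n),
      (Ideal.Quotient.factorₐ R (Ideal.pow_le_pow_right hmn)).comp (f n) = f m := by
    intro m n hmn
    apply AlgHom.ext
    intro p
    apply Ideal.Quotient.eq.2
    rw [← map_sub]
    refine Ideal.pow_right_mono hle m ?_
    rw [← Ideal.map_pow]
    exact Ideal.mem_map_of_mem _ (MvPowerSeries.truncTotal_sub_truncTotal_mem_pow_idealOfVars hmn le_rfl p)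
  refine ⟨IsAdicComplete.liftAlgHom J f hf, fun i => ?_⟩
  refine eq_of_forall_sub_mem_pow J fun n => Ideal.Quotient.eq.1 ?_
  rw [IsAdicComplete.mk_liftAlgHom]
  change Ideal.Quotient.mk (J ^ n) (MvPolynomial.aeval s (MvPowerSeries.truncTotal n (MvPowerSeries.X i))) = _
  rw [Ideal.Quotient.eq]
  have h1 : MvPowerSeries.truncTotal n (MvPowerSeries.X i : MvPowerSeries σ R) - MvPolynomial.X i ∈
      MvPolynomial.idealOfVars σ R ^ n := by
    refine (MvPolynomial.mem_pow_idealOfVars_iff' ..).mpr (fun x hx => ?_)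
    rw [MvPolynomial.coeff_sub, MvPowerSeries.coeff_truncTotal _ hx, sub_eq_zero,
      ← MvPolynomial.coe_X, MvPolynomial.coeff_coe]
  have h2 := Ideal.mem_map_of_mem (MvPolynomial.aeval s (R := R)) h1
  rw [Ideal.map_pow, map_sub, MvPolynomial.aeval_X] at h2
  exact Ideal.pow_right_mono hle n h2

theorem evalPS_ext [IsHausdorff J S] {φ ψ : MvPowerSeries σ R →ₐ[R] S}
    (hφ : ∀ i, φ (MvPowerSeries.X i) ∈ J) (h : ∀ i, φ (MvPowerSeries.X i) = ψ (MvPowerSeries.X i)) :
    φ = ψ := by
  have hle : ∀ (χ : MvPowerSeries σ R →ₐ[R] S), (∀ i, χ (MvPowerSeries.X i) ∈ J) → ∀ n,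
      (Ideal.span (Set.range (MvPowerSeries.X : σ → MvPowerSeries σ R)) ^ n).map χ ≤ J ^ n := by
    intro χ hχ n
    rw [Ideal.map_pow]
    refine Ideal.pow_right_mono ?_ n
    rw [Ideal.map_span, Ideal.span_le]
    rintro - ⟨-, ⟨i, rfl⟩, rfl⟩
    exact hχ i
  refine AlgHom.ext fun p => eq_of_forall_sub_mem_pow J fun n => ?_
  have key : ∀ q : MvPolynomial σ R, φ (q : MvPowerSeries σ R) = ψ (q : MvPowerSeries σ R) := fun q => by
    induction q using MvPolynomial.induction_on with
    | C r =>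
      rw [MvPolynomial.coe_C]
      exact (φ.commutes r).trans (ψ.commutes r).symm
    | add a b ha hb => rw [MvPolynomial.coe_add, map_add, map_add, ha, hb]
    | mul_X a i ha => rw [MvPolynomial.coe_mul, MvPolynomial.coe_X, map_mul, map_mul, ha, h]
  have e : φ p - ψ p = φ (p - ((MvPowerSeries.truncTotal n p : MvPolynomial σ R) : MvPowerSeries σ R)) -
      ψ (p - ((MvPowerSeries.truncTotal n p : MvPolynomial σ R) : MvPowerSeries σ R)) := by
    rw [map_sub, map_sub, key]; ring
  rw [e]
  exact sub_mem (hle φ hφ n (Ideal.mem_map_of_mem _ (sub_truncTotal_mem p n)))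
    (hle ψ (fun i => h i ▸ hφ i) n (Ideal.mem_map_of_mem _ (sub_truncTotal_mem p n)))

end Groth.L12
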