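import Groth.Agent.L12.CRingHom
import Groth.Agent.L12.PowSer

/-!
# Power series rings over coefficient rings
-/

universe u v

open CategoryTheory ArtFun ArtFun.Art IsLocalRing

namespace Groth.L12

section Local

variable {σ : Type*} [Finite σ] {R : Type u} [CommRing R] [IsLocalRing R]

lemma ps_mem_maximalIdeal_iff (f : MvPowerSeries σ R) :
    f ∈ maximalIdeal (MvPowerSeries σ R) ↔ MvPowerSeries.constantCoeff f ∈ maximalIdeal R := by
  rw [mem_maximalIdeal, mem_nonunits_iff, MvPowerSeries.isUnit_iff_constantCoeff, mem_maximalIdeal, mem_nonunits_iff]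

/-- series whose coefficient of degree `d` lies in `m ^ (n - d)` -/
def psPowIdeal (σ : Type*) [Finite σ] (R : Type u) [CommRing R] [IsLocalRing R] (n : ℕ) :
    Ideal (MvPowerSeries σ R) where
  carrier := {f | ∀ d : σ →₀ ℕ, MvPowerSeries.coeff d f ∈ maximalIdeal R ^ (n - Finsupp.degree d)}
  add_mem' := fun {a b} ha hb d => by rw [map_add]; exact add_mem (ha d) (hb d)
  zero_mem' := fun d => by rw [map_zero]; exact zero_mem _
  smul_mem' := fun c f hf d => by
    classical
    rw [smul_eq_mul, MvPowerSeries.coeff_mul]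
    refine Ideal.sum_mem _ fun x hx => Ideal.mul_mem_left _ _ (Ideal.pow_le_pow_right ?_ (hf x.2))
    have h := congrArg Finsupp.degree (Finset.HasAntidiagonal.mem_antidiagonal.1 hx)
    rw [map_add] at h
    omega

lemma mem_psPowIdeal {n : ℕ} {f : MvPowerSeries σ R} :
    f ∈ psPowIdeal σ R n ↔ ∀ d : σ →₀ ℕ, MvPowerSeries.coeff d f ∈ maximalIdeal R ^ (n - Finsupp.degree d) :=
  Iff.rfl

lemma psPowIdeal_mul_le (a b : ℕ) : psPowIdeal σ R a * psPowIdeal σ R b ≤ psPowIdeal σ R (a + b) := by
  classical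
  refine Ideal.mul_le.2 fun f hf g hg => mem_psPowIdeal.2 fun d => ?_
  rw [MvPowerSeries.coeff_mul]
  refine Ideal.sum_mem _ fun x hx => ?_
  have h := congrArg Finsupp.degree (Finset.HasAntidiagonal.mem_antidiagonal.1 hx)
  rw [map_add] at h
  have h1 := Ideal.mul_mem_mul (hf x.1) (hg x.2)
  rw [← pow_add] at h1
  refine Ideal.pow_le_pow_right ?_ h1
  omega

lemma pow_maximalIdeal_le (n : ℕ) : maximalIdeal (MvPowerSeries σ R) ^ n ≤ psPowIdeal σ R n := by
  induction n with
  | zero => exact fun f _ d => by simp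
  | succ n ih =>
    rw [pow_succ]
    refine (Ideal.mul_mono ih fun f hf => mem_psPowIdeal.2 fun d => ?_).trans (psPowIdeal_mul_le n 1)
    rcases eq_or_ne d 0 with rfl | hd
    · simpa [MvPowerSeries.coeff_zero_eq_constantCoeff] using (ps_mem_maximalIdeal_iff f).1 hf
    · have : 1 ≤ Finsupp.degree d := Nat.one_le_iff_ne_zero.2 fun h => hd ((Finsupp.degree_eq_zero_iff d).1 h)
      rw [Nat.sub_eq_zero_of_le this, pow_zero, Ideal.one_eq_top]
      trivial

lemma C_mem_maximalIdeal {r : R} (hr : r ∈ maximalIdeal R) :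
    (MvPowerSeries.C r : MvPowerSeries σ R) ∈ maximalIdeal (MvPowerSeries σ R) := by
  rw [ps_mem_maximalIdeal_iff, MvPowerSeries.constantCoeff_C]
  exact hr

lemma X_mem_maximalIdeal (i : σ) :
    (MvPowerSeries.X i : MvPowerSeries σ R) ∈ maximalIdeal (MvPowerSeries σ R) := by
  rw [ps_mem_maximalIdeal_iff, MvPowerSeries.constantCoeff_X]
  exact zero_mem _

lemma span_X_le_maximalIdeal :
    Ideal.span (Set.range (MvPowerSeries.X : σ → MvPowerSeries σ R)) ≤ maximalIdeal (MvPowerSeries σ R) :=
  Ideal.span_le.2 (by rintro - ⟨i, rfl⟩; exact X_mem_maximalIdeal i)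

lemma psPowIdeal_le_pow (n : ℕ) : psPowIdeal σ R n ≤ maximalIdeal (MvPowerSeries σ R) ^ n := by
  classical
  intro f hf
  rw [← sub_add_cancel f ((MvPowerSeries.truncTotal n f : MvPolynomial σ R) : MvPowerSeries σ R)]
  refine add_mem (Ideal.pow_right_mono span_X_le_maximalIdeal n (sub_truncTotal_mem f n)) ?_
  set q := MvPowerSeries.truncTotal n f
  rw [← MvPolynomial.coeToMvPowerSeries.ringHom_apply, MvPolynomial.as_sum q, map_sum]
  refine Ideal.sum_mem _ fun d hd => ?_
  have hdn : Finsupp.degree d < n := by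
    by_contra h
    exact MvPolynomial.mem_support_iff.1 hd (MvPowerSeries.coeff_truncTotal_eq_zero _ (not_lt.1 h))
  have hc : q.coeff d ∈ maximalIdeal R ^ (n - Finsupp.degree d) := by
    rw [MvPowerSeries.coeff_truncTotal _ hdn]
    exact hf d
  have hX : ((MvPolynomial.idealOfVars σ R).map MvPolynomial.coeToMvPowerSeries.ringHom) ≤
      maximalIdeal (MvPowerSeries σ R) := by
    rw [MvPolynomial.idealOfVars, Ideal.map_span, Ideal.span_le]
    rintro - ⟨-, ⟨i, rfl⟩, rfl⟩
    rw [MvPolynomial.coeToMvPowerSeries.ringHom_apply, MvPolynomial.coe_X]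
    exact X_mem_maximalIdeal i
  have hC : (maximalIdeal R).map (MvPowerSeries.C (σ := σ) (R := R)) ≤ maximalIdeal (MvPowerSeries σ R) :=
    Ideal.map_le_iff_le_comap.2 fun r hr => C_mem_maximalIdeal hr
  rw [← mul_one (q.coeff d), ← MvPolynomial.C_mul_monomial, map_mul,
    show n = (n - Finsupp.degree d) + Finsupp.degree d by omega, pow_add]
  refine Ideal.mul_mem_mul ?_ ?_
  · rw [MvPolynomial.coeToMvPowerSeries.ringHom_apply, MvPolynomial.coe_C]
    refine Ideal.pow_right_mono hC _ ?_
    rw [← Ideal.map_pow]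
    exact Ideal.mem_map_of_mem _ hc
  · refine Ideal.pow_right_mono hX _ ?_
    rw [← Ideal.map_pow]
    refine Ideal.mem_map_of_mem _ ((MvPolynomial.mem_pow_idealOfVars_iff' _ _).2 fun x hx => ?_)
    rw [MvPolynomial.coeff_monomial, if_neg]
    rintro rfl
    exact lt_irrefl _ hx

lemma pow_maximalIdeal_eq (n : ℕ) : maximalIdeal (MvPowerSeries σ R) ^ n = psPowIdeal σ R n :=
  le_antisymm (pow_maximalIdeal_le n) (psPowIdeal_le_pow n)

lemma sub_C_mem_span_X (f : MvPowerSeries σ R) :
    f - MvPowerSeries.C (MvPowerSeries.constantCoeff f) ∈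
      Ideal.span (Set.range (MvPowerSeries.X : σ → MvPowerSeries σ R)) := by
  classical
  have h1 := sub_truncTotal_mem f 1
  rw [pow_one] at h1
  have h2 : ((MvPowerSeries.truncTotal 1 f : MvPolynomial σ R) : MvPowerSeries σ R) =
      MvPowerSeries.C (MvPowerSeries.constantCoeff f) := by
    rw [← MvPolynomial.coe_C]
    congr 1
    refine MvPolynomial.ext _ _ fun d => ?_
    rw [MvPolynomial.coeff_C]
    rcases eq_or_ne d 0 with rfl | hd
    · rw [if_pos rfl, MvPowerSeries.coeff_truncTotal _ (by rw [map_zero]; exact one_pos),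
        MvPowerSeries.coeff_zero_eq_constantCoeff]
    · rw [if_neg (Ne.symm hd), MvPowerSeries.coeff_truncTotal_eq_zero]
      exact Nat.one_le_iff_ne_zero.2 fun h => hd ((Finsupp.degree_eq_zero_iff d).1 h)
  rwa [h2] at h1

theorem isAdicComplete_mvPowerSeries [IsAdicComplete (maximalIdeal R) R] :
    IsAdicComplete (maximalIdeal (MvPowerSeries σ R)) (MvPowerSeries σ R) := by
  have hmod : ∀ (n : ℕ) (x y : MvPowerSeries σ R),
      x ≡ y [SMOD (maximalIdeal (MvPowerSeries σ R) ^ n • ⊤ : Submodule (MvPowerSeries σ R) (MvPowerSeries σ R))] ↔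
        x - y ∈ psPowIdeal σ R n := fun n x y => by
    rw [SModEq.sub_mem, smul_eq_mul, Ideal.mul_top, pow_maximalIdeal_eq]
  haveI : IsHausdorff (maximalIdeal (MvPowerSeries σ R)) (MvPowerSeries σ R) := ⟨fun f hf => by
    ext d
    rw [map_zero]
    refine eq_of_forall_sub_mem_pow (maximalIdeal R) fun n => ?_
    rw [sub_zero]
    have h := (hmod _ _ _).1 (hf (n + Finsupp.degree d)) d
    rwa [sub_zero, Nat.add_sub_cancel] at h⟩
  haveI : IsPrecomplete (maximalIdeal (MvPowerSeries σ R)) (MvPowerSeries σ R) := ⟨fun f hf => by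
    have hc : ∀ d : σ →₀ ℕ, ∃ L : R, ∀ n, MvPowerSeries.coeff d (f (n + Finsupp.degree d)) - L ∈ maximalIdeal R ^ n :=
      fun d => by
      obtain ⟨L, hL⟩ := IsPrecomplete.prec (I := maximalIdeal R) (M := R) inferInstance
        (f := fun n => MvPowerSeries.coeff d (f (n + Finsupp.degree d))) fun {a b} hab => by
          rw [SModEq.sub_mem, smul_eq_mul, Ideal.mul_top, ← map_sub]
          have h := (hmod _ _ _).1 (hf (Nat.add_le_add_right hab (Finsupp.degree d))) d
          rwa [Nat.add_sub_cancel] at h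
      refine ⟨L, fun n => ?_⟩
      have h := SModEq.sub_mem.1 (hL n)
      rwa [smul_eq_mul, Ideal.mul_top] at h
    choose L hL using hc
    let g : MvPowerSeries σ R := L
    have hg : ∀ d, MvPowerSeries.coeff d g = L d := fun d => rfl
    refine ⟨g, fun n => (hmod _ _ _).2 fun d => ?_⟩
    rw [map_sub, hg]
    rcases le_or_gt (Finsupp.degree d) n with h | h
    · have h1 := hL d (n - Finsupp.degree d)
      rwa [Nat.sub_add_cancel h] at h1
    · rw [Nat.sub_eq_zero_of_le h.le, pow_zero, Ideal.one_eq_top]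
      trivial⟩
  exact { }

end Local

variable {Λ : Type u} {k : Type u} [CommRing Λ] [Field k] [Algebra Λ k]

/-- the augmentation of a power series ring over a coefficient ring -/
noncomputable def psRes (R : CRing Λ k) (σ : Type) : MvPowerSeries σ R.carrier →ₐ[Λ] k :=
  R.res.comp
    { (MvPowerSeries.constantCoeff : MvPowerSeries σ R.carrier →+* R.carrier) with
      commutes' := fun l => by
        change MvPowerSeries.constantCoeff (algebraMap Λ (MvPowerSeries σ R.carrier) l) = _
        rw [MvPowerSeries.algebraMap_apply, MvPowerSeries.constantCoeff_C] }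

/-- the power series ring as a coefficient ring -/
noncomputable def psRing (R : CRing Λ k) (σ : Type) [Finite σ] : CRing Λ k where
  carrier := MvPowerSeries σ R.carrier
  res := psRes R σ
  res_surjective := fun c => by
    obtain ⟨r, hr⟩ := R.res_surjective c
    refine ⟨MvPowerSeries.C r, ?_⟩
    change R.res (MvPowerSeries.constantCoeff (MvPowerSeries.C r)) = c
    rw [MvPowerSeries.constantCoeff_C, hr]
  isAdicComplete := isAdicComplete_mvPowerSeries

/-- the constants -/
noncomputable def psC (R : CRing Λ k) (σ : Type) [Finite σ] : R.carrier →ₐ[Λ] (psRing R σ).carrier :=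
  { (MvPowerSeries.C : R.carrier →+* MvPowerSeries σ R.carrier) with
    commutes' := fun l => (MvPowerSeries.algebraMap_apply (r := l) (R := Λ) (A := R.carrier)).symm }

lemma psC_res (R : CRing Λ k) (σ : Type) [Finite σ] : (psRing R σ).res.comp (psC R σ) = R.res :=
  AlgHom.ext fun r => congrArg R.res (show MvPowerSeries.constantCoeff (MvPowerSeries.C r : MvPowerSeries σ R.carrier) = r from MvPowerSeries.constantCoeff_C r)

lemma psX_res (R : CRing Λ k) (σ : Type) [Finite σ] (i : σ) :
    (psRing R σ).res (MvPowerSeries.X i : MvPowerSeries σ R.carrier) = 0 := by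
  change R.res (MvPowerSeries.constantCoeff (MvPowerSeries.X i)) = 0
  rw [MvPowerSeries.constantCoeff_X, map_zero]

/-- evaluation of power series into a complete local algebra -/
theorem exists_psLift (R : CRing Λ k) {σ : Type} [Finite σ] {S : Type u} [CommRing S] [IsLocalRing S]
    [Algebra Λ S] [IsAdicComplete (maximalIdeal S) S] (g : R.carrier →ₐ[Λ] S)
    (s : σ → S) (hs : ∀ i, s i ∈ maximalIdeal S) :
    ∃ φ : (psRing R σ).carrier →ₐ[Λ] S, φ.comp (psC R σ) = g ∧
      ∀ i, φ (MvPowerSeries.X i : MvPowerSeries σ R.carrier) = s i := by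
  letI : Algebra R.carrier S := g.toRingHom.toAlgebra
  obtain ⟨ψ, hψ⟩ := exists_evalPS (R := R.carrier) (σ := σ) (maximalIdeal S) s hs
  have hψC : ∀ r, ψ (MvPowerSeries.C r) = g r := fun r => ψ.commutes r
  refine ⟨{ ψ.toRingHom with commutes' := fun l => ?_ }, AlgHom.ext hψC, hψ⟩
  exact (congrArg ψ ((psC R σ).commutes l).symm).trans ((hψC _).trans (g.commutes l))

/-- maps out of a power series ring are determined by constants and variables -/
theorem psHom_ext (R : CRing Λ k) {σ : Type} [Finite σ] {S : Type u} [CommRing S] [IsLocalRing S]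
    [Algebra Λ S] [IsHausdorff (maximalIdeal S) S] {φ φ' : (psRing R σ).carrier →ₐ[Λ] S}
    (hX : ∀ i, φ (MvPowerSeries.X i : MvPowerSeries σ R.carrier) ∈ maximalIdeal S)
    (hC : φ.comp (psC R σ) = φ'.comp (psC R σ))
    (h : ∀ i, φ (MvPowerSeries.X i : MvPowerSeries σ R.carrier) = φ' (MvPowerSeries.X i : MvPowerSeries σ R.carrier)) :
    φ = φ' := by
  letI : Algebra R.carrier S := (φ.comp (psC R σ)).toRingHom.toAlgebra
  let ψ : MvPowerSeries σ R.carrier →ₐ[R.carrier] S :=
    { φ.toRingHom with commutes' := fun r => rfl }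
  let ψ' : MvPowerSeries σ R.carrier →ₐ[R.carrier] S :=
    { φ'.toRingHom with commutes' := fun r => (DFunLike.congr_fun hC r).symm }
  exact AlgHom.ext fun p => DFunLike.congr_fun (evalPS_ext (maximalIdeal S) (φ := ψ) (ψ := ψ') hX h) p

/-- power series rings over `R` are smooth over `R` -/
theorem psRing_versal (R : CRing Λ k) (σ : Type) [Finite σ] :
    IsVersal ((Family.self R.carrier R.res).along (psC R σ) (psC_res R σ)) := by
  intro B A μ hμ φ y hy
  choose b hb using fun i : σ => hμ (φ.1 (MvPowerSeries.X i : MvPowerSeries σ R.carrier))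
  haveI : IsAdicComplete (maximalIdeal B) B := (artCRing B).isAdicComplete
  haveI : IsAdicComplete (maximalIdeal A) A := (artCRing A).isAdicComplete
  have hbm : ∀ i, b i ∈ maximalIdeal B := fun i => by
    rw [B.mem_maximalIdeal_iff, ← Art.res_app μ, hb]
    exact (DFunLike.congr_fun φ.2 _).trans (psX_res R σ i)
  obtain ⟨ψ, hψC, hψX⟩ := exists_psLift R y.1 b hbm
  have hres : B.res.comp ψ = (psRing R σ).res := by
    haveI : IsAdicComplete (maximalIdeal k) k := (artCRing (Art.base Λ k)).isAdicComplete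
    refine psHom_ext R (S := k) (fun i => ?_) ?_ fun i => ?_
    · change B.res (ψ _) ∈ _
      rw [hψX, (B.mem_maximalIdeal_iff _).1 (hbm i)]
      exact zero_mem _
    · rw [AlgHom.comp_assoc, hψC, psC_res]
      exact y.2
    · change B.res (ψ _) = (psRing R σ).res _
      rw [hψX, (B.mem_maximalIdeal_iff _).1 (hbm i), psX_res]
  refine ⟨⟨ψ, hres⟩, Subtype.ext ?_, Subtype.ext hψC⟩
  refine psHom_ext R (fun i => ?_) ?_ fun i => ?_
  · change μ (ψ _) ∈ _
    rw [A.mem_maximalIdeal_iff, Art.res_app μ, hψX, (B.mem_maximalIdeal_iff _).1 (hbm i)]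
  · refine Eq.trans ?_ (congrArg Subtype.val hy)
    change (μ.toAlgHom.comp ψ).comp (psC R σ) = μ.toAlgHom.comp y.1
    rw [AlgHom.comp_assoc, hψC]
  · exact (congrArg μ.toAlgHom (hψX i)).trans (hb i)

end Groth.L12
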