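/-
Points of qcqs schemes with values in a product of rings.
-/
import Groth.Agent.L19.Approx.FactorSystem
import Mathlib.AlgebraicGeometry.PointsPi
import Mathlib.AlgebraicGeometry.AffineTransitionLimit
import Mathlib.Algebra.Category.Ring.FilteredColimits
import Mathlib.Algebra.Group.Pi.Units

/-!
# `X(∏ A i) = ∏ X(A i)` for qcqs schemes
-/

set_option autoImplicit false
set_option linter.style.haveILetI false

universe u

noncomputable section

open CategoryTheory CategoryTheory.Limits AlgebraicGeometry Opposite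

namespace Groth.L12.PointsProd

variable {ι : Type u} (A : ι → CommRingCat.{u})

/-- the product ring -/
abbrev P : Type u := ∀ i, A i

variable {A}

/-- exponents, with the product order -/
def Idx (ι : Type u) : Type u := ι → ℕ

instance : SemilatticeSup (Idx ι) := inferInstanceAs (SemilatticeSup (ι → ℕ))

instance : Nonempty (Idx ι) := ⟨(0 : ι → ℕ)⟩

/-- componentwise powers of an element of the product -/
def cpow (c : P A) (N : ι → ℕ) : P A := fun i => c i ^ (N i + 1)

/-- the localization at componentwise powers -/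
abbrev PN (c : P A) (N : ι → ℕ) : Type u := Localization.Away (cpow c N)

/-- the product of the localizations -/
abbrev Q (c : P A) : Type u := ∀ i, Localization.Away (c i)

lemma cpow_dvd (c : P A) {N M : ι → ℕ} (h : N ≤ M) : cpow c N ∣ cpow c M :=
  ⟨fun i => c i ^ (M i - N i), funext fun i => by
    have : N i ≤ M i := h i
    simp only [cpow, Pi.mul_apply, ← pow_add]
    congr 1
    omega⟩

lemma isUnit_cpow_of_le (c : P A) {N M : ι → ℕ} (h : N ≤ M) :
    IsUnit (algebraMap (P A) (PN c M) (cpow c N)) :=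
  isUnit_of_dvd_unit (map_dvd _ (cpow_dvd c h)) (IsLocalization.Away.algebraMap_isUnit _)

/-- the transition map -/
def tr (c : P A) {N M : ι → ℕ} (h : N ≤ M) : PN c N →+* PN c M :=
  IsLocalization.Away.lift (cpow c N) (g := algebraMap (P A) (PN c M)) (isUnit_cpow_of_le c h)

@[simp]
lemma tr_algebraMap (c : P A) {N M : ι → ℕ} (h : N ≤ M) (x : P A) :
    tr c h (algebraMap _ _ x) = algebraMap _ _ x :=
  IsLocalization.Away.lift_eq _ _ x

/-- the map from the product to the product of the localizations -/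
def piMap (c : P A) : P A →+* Q c :=
  RingHom.pi fun i => (algebraMap (A i) (Localization.Away (c i))).comp (Pi.evalRingHom (fun j => (A j : Type u)) i)

lemma isUnit_piMap (c : P A) (N : ι → ℕ) : IsUnit (piMap c (cpow c N)) :=
  Pi.isUnit_iff.2 fun i => by
    change IsUnit (algebraMap (A i) (Localization.Away (c i)) (c i ^ (N i + 1)))
    rw [map_pow]
    exact (IsLocalization.Away.algebraMap_isUnit (c i)).pow _

/-- the map to the product of the localizations -/
def toQ (c : P A) (N : ι → ℕ) : PN c N →+* Q c :=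
  IsLocalization.Away.lift (cpow c N) (g := piMap c) (isUnit_piMap c N)

@[simp]
lemma toQ_algebraMap (c : P A) (N : ι → ℕ) (x : P A) : toQ c N (algebraMap _ _ x) = piMap c x :=
  IsLocalization.Away.lift_eq _ _ x

@[simp]
lemma toQ_tr (c : P A) {N M : ι → ℕ} (h : N ≤ M) (x : PN c N) : toQ c M (tr c h x) = toQ c N x := by
  suffices (toQ c M).comp (tr c h) = toQ c N from RingHom.congr_fun this x
  refine IsLocalization.ringHom_ext (Submonoid.powers (cpow c N)) (RingHom.ext fun x => ?_)
  simp

variable (c : P A)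

/-- the system of localizations -/
def sys : Idx ι ⥤ CommRingCat.{u} where
  obj N := .of (PN c N)
  map {N M} f := CommRingCat.ofHom (tr c f.le)
  map_id N := by
    refine CommRingCat.hom_ext (IsLocalization.ringHom_ext (Submonoid.powers (cpow c N)) (RingHom.ext fun x => ?_))
    simp
  map_comp {N M K} f g := by
    refine CommRingCat.hom_ext (IsLocalization.ringHom_ext (Submonoid.powers (cpow c N)) (RingHom.ext fun x => ?_))
    simp

/-- the cocone to the product -/
def sysCocone : Cocone (sys c) where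
  pt := .of (Q c)
  ι :=
    { app := fun N => CommRingCat.ofHom (toQ c N)
      naturality := fun {N M} f => by
        refine CommRingCat.hom_ext (RingHom.ext fun x => ?_)
        exact toQ_tr c f.le x }

lemma toQ_surjective (x : Q c) : ∃ N z, x = toQ c N z := by
  choose k a h using fun i => IsLocalization.Away.surj (c i) (x i)
  refine ⟨k, IsLocalization.mk' (PN c k) (fun i => a i * c i)
    (⟨cpow c k, Submonoid.mem_powers _⟩ : Submonoid.powers (cpow c k)), ?_⟩
  refine (isUnit_piMap c k).mul_left_cancel ?_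
  rw [← toQ_algebraMap c k (cpow c k), ← map_mul]
  refine (Eq.trans ?_ (congrArg (toQ c k) (IsLocalization.mk'_spec' (PN c k) (fun i => a i * c i)
    (⟨cpow c k, Submonoid.mem_powers _⟩ : Submonoid.powers (cpow c k)))).symm)
  rw [toQ_algebraMap, toQ_algebraMap]
  funext i
  change algebraMap (A i) _ (c i ^ (k i + 1)) * x i = algebraMap (A i) _ (a i * c i)
  rw [map_mul, map_pow, pow_succ, ← h i]
  ring

lemma toQ_injective (N : ι → ℕ) (z : PN c N) (hz : toQ c N z = 0) :
    ∃ (M : ι → ℕ) (h : N ≤ M), tr c h z = 0 := by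
  obtain ⟨r, ⟨s, hs⟩, rfl⟩ := IsLocalization.exists_mk'_eq (Submonoid.powers (cpow c N)) z
  have h1 : piMap c r = 0 := by
    rw [← toQ_algebraMap c N, ← IsLocalization.mk'_spec (PN c N) r ⟨s, hs⟩, map_mul, hz, zero_mul]
  have h2 : ∀ i, ∃ e : ℕ, c i ^ e * r i = 0 := fun i => by
    obtain ⟨⟨_, e, rfl⟩, he⟩ := (IsLocalization.map_eq_zero_iff (Submonoid.powers (c i))
      (Localization.Away (c i)) (r i)).1 (congrFun h1 i)
    exact ⟨e, he⟩
  choose e he using h2
  refine ⟨N + e, le_self_add, ?_⟩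
  have h3 : algebraMap (P A) (PN c (N + e)) r = 0 := by
    refine (IsLocalization.Away.algebraMap_isUnit (S := PN c (N + e)) (cpow c (N + e))).mul_left_cancel ?_
    rw [← map_mul, mul_zero, show cpow c (N + e) * r = 0 from funext fun i => ?_, map_zero]
    simp only [cpow, Pi.mul_apply, Pi.add_apply, Pi.zero_apply]
    rw [show N i + e i + 1 = (N i + 1) + e i by omega, pow_add, mul_assoc, he, mul_zero]
  have h4 : tr c le_self_add (IsLocalization.mk' (PN c N) r ⟨s, hs⟩) *
      algebraMap (P A) (PN c (N + e)) s = 0 := by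
    rw [← tr_algebraMap c le_self_add, ← map_mul, IsLocalization.mk'_spec, tr_algebraMap, h3]
  refine (IsUnit.mul_left_eq_zero ?_).1 h4
  obtain ⟨n, rfl⟩ := hs
  rw [map_pow]
  exact (isUnit_cpow_of_le c le_self_add).pow n

/-- the cocone is a colimit -/
def isColimitSysCocone : IsColimit (sysCocone c) := by
  haveI : ReflectsColimit (sys c) (forget CommRingCat.{u}) :=
    reflectsColimit_of_reflectsIsomorphisms _ _
  refine isColimitOfReflects (forget CommRingCat.{u}) ?_
  refine Types.FilteredColimit.isColimitOf' _ _ (fun x => toQ_surjective c x) fun N x y h => ?_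
  have key : ∀ (N : ι → ℕ) (x y : PN c N), toQ c N x = toQ c N y →
      ∃ (M : ι → ℕ) (hM : N ≤ M), tr c hM x = tr c hM y := fun N x y h => by
    obtain ⟨M, hM, h0⟩ := toQ_injective c N (x - y) (by rw [map_sub, sub_eq_zero]; exact h)
    exact ⟨M, hM, by rwa [map_sub, sub_eq_zero] at h0⟩
  obtain ⟨M, hM, h0⟩ := key N x y h
  exact ⟨M, homOfLE hM, h0⟩

/-- the system of open subschemes -/
def W : (Idx ι)ᵒᵖ ⥤ Scheme.{u} := (sys c).op ⋙ Scheme.Spec

/-- the cone -/
def WCone : Cone (W c) := Scheme.Spec.mapCone (sysCocone c).op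

/-- the cone is a limit -/
def isLimitWCone : IsLimit (WCone c) := isLimitOfPreserves Scheme.Spec (isColimitSysCocone c).op

instance (N : (Idx ι)ᵒᵖ) : IsAffine ((W c).obj N) := inferInstanceAs (IsAffine (Spec _))

instance {N M : (Idx ι)ᵒᵖ} (f : N ⟶ M) : IsAffineHom ((W c).map f) := inferInstance

/-- the open immersion -/
def incl (N : ι → ℕ) : Spec (.of (PN c N)) ⟶ Spec (.of (P A)) :=
  Spec.map (CommRingCat.ofHom (algebraMap (P A) (PN c N)))

instance (N : ι → ℕ) : IsOpenImmersion (incl c N) := by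
  delta incl
  infer_instance

/-- the transition morphism -/
def trS {N M : ι → ℕ} (h : N ≤ M) : Spec (.of (PN c M)) ⟶ Spec (.of (PN c N)) :=
  Spec.map (CommRingCat.ofHom (tr c h))

@[reassoc (attr := simp)]
lemma trS_incl {N M : ι → ℕ} (h : N ≤ M) : trS c h ≫ incl c N = incl c M := by
  rw [trS, incl, incl, ← Spec.map_comp]
  congr 1
  exact CommRingCat.hom_ext (RingHom.ext fun x => tr_algebraMap c h x)

/-- the component -/
def comp (N : ι → ℕ) (i : ι) : Spec (.of (Localization.Away (c i))) ⟶ Spec (.of (PN c N)) :=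
  Spec.map (CommRingCat.ofHom ((Pi.evalRingHom (fun j => Localization.Away (c j)) i).comp (toQ c N)))

/-- the inclusion of a component -/
def cincl (i : ι) : Spec (.of (Localization.Away (c i))) ⟶ Spec (A i) :=
  Spec.map (CommRingCat.ofHom (algebraMap (A i) (Localization.Away (c i))))

instance (i : ι) : IsOpenImmersion (cincl c i) := by
  delta cincl
  infer_instance

/-- projection -/
def pr (i : ι) : Spec (A i) ⟶ Spec (.of (P A)) :=
  Spec.map (CommRingCat.ofHom (Pi.evalRingHom (fun j => (A j : Type u)) i))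

lemma comp_incl (N : ι → ℕ) (i : ι) : comp c N i ≫ incl c N = cincl c i ≫ pr i := by
  rw [comp, incl, cincl, pr, ← Spec.map_comp, ← Spec.map_comp]
  congr 1
  refine CommRingCat.hom_ext (RingHom.ext fun x => ?_)
  change toQ c N (algebraMap _ _ x) i = _
  rw [toQ_algebraMap]
  rfl

lemma comp_trS {N M : ι → ℕ} (h : N ≤ M) (i : ι) : comp c M i ≫ trS c h = comp c N i := by
  rw [comp, comp, trS, ← Spec.map_comp]
  congr 1
  refine CommRingCat.hom_ext (RingHom.ext fun x => ?_)
  exact congrFun (toQ_tr c h x) i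

variable {X S : Scheme.{u}} (x : X ⟶ S) (hS : IsTerminal S)

include hS in
/-- descent of a family of morphisms to a stage -/
lemma exists_stage [LocallyOfFinitePresentation x] (φ : Spec (.of (Q c)) ⟶ X) :
    ∃ (N : ι → ℕ) (g : Spec (.of (PN c N)) ⟶ X), Spec.map (CommRingCat.ofHom (toQ c N)) ≫ g = φ := by
  obtain ⟨N, g, hg, -⟩ := Scheme.exists_π_app_comp_eq_of_locallyOfFinitePresentation (W c)
    { app := fun N => hS.from _, naturality := fun _ _ _ => hS.hom_ext _ _ } x (WCone c) (isLimitWCone c)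
    φ (NatTrans.ext (funext fun N => hS.hom_ext _ _))
  exact ⟨N.unop, g, hg⟩

include hS in
/-- morphisms from a stage which agree componentwise agree at a later stage -/
lemma exists_stage_eq [LocallyOfFiniteType x] [QuasiSeparatedSpace X] (N : ι → ℕ)
    (g g' : Spec (.of (PN c N)) ⟶ X) (h : ∀ i, comp c N i ≫ g = comp c N i ≫ g') :
    ∃ (M : ι → ℕ) (hM : N ≤ M), trS c hM ≫ g = trS c hM ≫ g' := by
  have h' : Spec.map (CommRingCat.ofHom (toQ c N)) ≫ g = Spec.map (CommRingCat.ofHom (toQ c N)) ≫ g' := by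
    refine pointsPi_injective (fun i => CommRingCat.of (Localization.Away (c i))) X (funext fun i => ?_)
    simp only [pointsPi, ← Category.assoc, ← Spec.map_comp]
    exact h i
  obtain ⟨M, f, hf⟩ := Scheme.exists_hom_comp_eq_comp_of_locallyOfFiniteType (W c)
    { app := fun N => hS.from _, naturality := fun _ _ _ => hS.hom_ext _ _ } x (WCone c) (isLimitWCone c)
    (i := op N) g g' (hS.hom_ext _ _) (hS.hom_ext _ _) h'
  exact ⟨M.unop, f.unop.le, hf⟩

lemma mem_range_incl {R : Type u} [CommRing R] (s : R) (y : (Spec (.of R) : Scheme.{u})) :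
    y ∈ (Spec.map (CommRingCat.ofHom (algebraMap R (Localization.Away s)))).opensRange ↔ s ∉ y.asIdeal := by
  change y ∈ Set.range (PrimeSpectrum.comap (algebraMap R (Localization.Away s))) ↔ _
  rw [PrimeSpectrum.localization_away_comap_range (Localization.Away s) s]
  rfl

omit x hS in
lemma exists_partition [CompactSpace X] {R : CommRingCat.{u}} (𝒰 : X.OpenCover) [Fintype 𝒰.I₀]
    (f : Spec R ⟶ X) :
    ∃ a : 𝒰.I₀ → R, ∑ j, a j = 1 ∧ ∀ j (y : (Spec R : Scheme.{u})), a j ∉ y.asIdeal → f y ∈ (𝒰.f j).opensRange := by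
  let I : 𝒰.I₀ → Ideal R := fun j =>
    PrimeSpectrum.vanishingIdeal ((f ⁻¹' ((𝒰.f j).opensRange : Set X))ᶜ : Set (PrimeSpectrum R))
  have hI : ⨆ j, I j = ⊤ := by
    by_contra hne
    obtain ⟨m, hm, hle⟩ := Ideal.exists_le_maximal _ hne
    let y : PrimeSpectrum R := ⟨m, hm.isPrime⟩
    have hy : y ∈ PrimeSpectrum.zeroLocus (I (𝒰.idx (f y)) : Set R) := (le_iSup I _).trans hle
    rw [PrimeSpectrum.zeroLocus_vanishingIdeal_eq_closure] at hy
    have hcl : IsClosed ((f ⁻¹' ((𝒰.f (𝒰.idx (f y))).opensRange : Set X))ᶜ : Set (PrimeSpectrum R)) :=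
      (((𝒰.f _).opensRange.2).preimage f.continuous).isClosed_compl
    rw [hcl.closure_eq] at hy
    exact hy (𝒰.covers (f y))
  obtain ⟨μ, hμ⟩ := (Submodule.mem_iSup_finset_iff_exists_sum (s := Finset.univ) (p := I) (1 : R)).1 (by simp [hI])
  refine ⟨fun j => μ j, hμ, fun j y hy => ?_⟩
  by_contra hcon
  exact hy ((PrimeSpectrum.mem_vanishingIdeal _ _).1 (μ j).2 y hcon)

include hS in
/-- the case of finite presentation over the final scheme -/
theorem surjective_of_lfp [LocallyOfFinitePresentation x] [CompactSpace X] [QuasiSeparatedSpace X] :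
    Function.Surjective (pointsPi A X) := by
  classical
  intro f
  let 𝒰 : X.OpenCover := X.affineCover.finiteSubcover
  haveI : ∀ j, IsAffine (𝒰.X j) := fun j => inferInstanceAs (IsAffine (X.affineCover.X _))
  choose a hsum hmem using fun i => exists_partition 𝒰 (f i)
  let c : 𝒰.I₀ → P A := fun j i => a i j
  have hrange : ∀ j i, Set.range (cincl (c j) i ≫ f i) ⊆ ((𝒰.f j).opensRange : Set X) := by
    rintro j i _ ⟨z, rfl⟩
    exact hmem i j _ ((mem_range_incl (c j i) _).1 ⟨z, rfl⟩)
  choose h hh using fun j => pointsPi_surjective_of_isAffine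
    (fun i => CommRingCat.of (Localization.Away (c j i))) (𝒰.X j)
    (fun i => IsOpenImmersion.lift (𝒰.f j) (cincl (c j) i ≫ f i) (hrange j i))
  choose N g hg using fun j => exists_stage (c j) x hS (h j ≫ 𝒰.f j)
  have hgi : ∀ j i, comp (c j) (N j) i ≫ g j = cincl (c j) i ≫ f i := by
    intro j i
    have h1 := congrFun (hh j) i
    simp only [pointsPi] at h1
    rw [comp, CommRingCat.ofHom_comp, Spec.map_comp, Category.assoc, hg j, ← Category.assoc, h1,
      IsOpenImmersion.lift_fac]
  let N₀ : ι → ℕ := Finset.univ.sup N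
  let g₀ : ∀ j, Spec (.of (PN (c j) N₀)) ⟶ X := fun j =>
    trS (c j) (Finset.le_sup (f := N) (Finset.mem_univ j)) ≫ g j
  have hg₀ : ∀ j i, comp (c j) N₀ i ≫ g₀ j = cincl (c j) i ≫ f i := fun j i => by
    rw [← Category.assoc, comp_trS, hgi]
  -- overlaps
  have hrinc : ∀ (j : 𝒰.I₀) (N M : ι → ℕ) (d : P A), c j ∣ d → N ≤ M →
      Set.range (incl d M) ⊆ Set.range (incl (c j) N) := by
    rintro j N M d ⟨b, rfl⟩ hNM z hz
    refine (mem_range_incl (cpow (c j) N) z).2 fun hbad => (mem_range_incl (cpow (c j * b) M) z).1 hz ?_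
    obtain ⟨q, hq⟩ : cpow (c j) N ∣ cpow (c j * b) M :=
      ⟨fun i => c j i ^ (M i - N i) * b i ^ (M i + 1), funext fun i => by
        have : N i ≤ M i := hNM i
        simp only [cpow, Pi.mul_apply, mul_pow, ← mul_assoc, ← pow_add]
        congr 2
        omega⟩
    rw [hq]
    exact Ideal.mul_mem_right _ _ hbad
  let d : 𝒰.I₀ × 𝒰.I₀ → P A := fun jl => c jl.1 * c jl.2
  let r₁ : ∀ jl, Spec (.of (PN (d jl) N₀)) ⟶ Spec (.of (PN (c jl.1) N₀)) := fun jl =>
    IsOpenImmersion.lift (incl (c jl.1) N₀) (incl (d jl) N₀) (hrinc _ _ _ _ (dvd_mul_right _ _) le_rfl)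
  let r₂ : ∀ jl, Spec (.of (PN (d jl) N₀)) ⟶ Spec (.of (PN (c jl.2) N₀)) := fun jl =>
    IsOpenImmersion.lift (incl (c jl.2) N₀) (incl (d jl) N₀) (hrinc _ _ _ _ (dvd_mul_left _ _) le_rfl)
  have hci : ∀ (jl : 𝒰.I₀ × 𝒰.I₀) (j : 𝒰.I₀), c j ∣ d jl → ∀ i,
      ∃ q : Spec (.of (Localization.Away (d jl i))) ⟶ Spec (.of (Localization.Away (c j i))),
        q ≫ cincl (c j) i = cincl (d jl) i := by
    rintro jl j ⟨b, hb⟩ i
    refine ⟨IsOpenImmersion.lift (f := cincl (c j) i) (g := cincl (d jl) i)
      ?_, IsOpenImmersion.lift_fac _ _ _⟩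
    intro z hz
    refine (mem_range_incl (c j i) z).2 fun hbad => (mem_range_incl (d jl i) z).1 hz ?_
    rw [hb, Pi.mul_apply]
    exact Ideal.mul_mem_right _ _ hbad
  have key : ∀ (jl : 𝒰.I₀ × 𝒰.I₀) (j : 𝒰.I₀) (r : Spec (.of (PN (d jl) N₀)) ⟶ Spec (.of (PN (c j) N₀))),
      c j ∣ d jl → r ≫ incl (c j) N₀ = incl (d jl) N₀ → ∀ i,
        comp (d jl) N₀ i ≫ r ≫ g₀ j = cincl (d jl) i ≫ f i := by
    intro jl j r hdvd hr i
    obtain ⟨q, hq⟩ := hci jl j hdvd i
    have e : comp (d jl) N₀ i ≫ r = q ≫ comp (c j) N₀ i := by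
      rw [← cancel_mono (incl (c j) N₀), Category.assoc, hr, comp_incl, Category.assoc, comp_incl,
        reassoc_of% hq]
    rw [reassoc_of% e, hg₀, reassoc_of% hq]
  choose M hM hMeq using fun jl => exists_stage_eq (d jl) x hS N₀ (r₁ jl ≫ g₀ jl.1) (r₂ jl ≫ g₀ jl.2)
    fun i => (key jl jl.1 (r₁ jl) (dvd_mul_right _ _) (IsOpenImmersion.lift_fac _ _ _) i).trans
      (key jl jl.2 (r₂ jl) (dvd_mul_left _ _) (IsOpenImmersion.lift_fac _ _ _) i).symm
  let M₀ : ι → ℕ := N₀ ⊔ Finset.univ.sup M
  let g₁ : ∀ j, Spec (.of (PN (c j) M₀)) ⟶ X := fun j => trS (c j) le_sup_left ≫ g₀ j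
  have hspan : Ideal.span (Set.range fun j => cpow (c j) M₀) = (⊤ : Ideal (P A)) := by
    refine Ideal.span_eq_top_of_span_image_evalRingHom _ (Set.finite_range _) fun i => ?_
    rw [← Set.range_comp]
    have h1 : Ideal.span (Set.range (a i)) = ⊤ := (Ideal.eq_top_iff_one _).2
      (hsum i ▸ Ideal.sum_mem _ fun j _ => Ideal.subset_span ⟨j, rfl⟩)
    have h2 := Ideal.span_pow_eq_top (Set.range (a i)) h1 (M₀ i + 1)
    rw [← Set.range_comp] at h2
    exact h2
  let C : (Spec (.of (P A))).OpenCover :=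
    (Scheme.affineOpenCoverOfSpanRangeEqTop (R := .of (P A)) (fun j => cpow (c j) M₀) hspan).openCover
  have compat : ∀ j l : 𝒰.I₀, pullback.fst (incl (c j) M₀) (incl (c l) M₀) ≫ g₁ j =
      pullback.snd (incl (c j) M₀) (incl (c l) M₀) ≫ g₁ l := by
    intro j l
    have hle : M (j, l) ≤ M₀ := le_trans (Finset.le_sup (Finset.mem_univ (j, l))) le_sup_right
    have hsub : Set.range (pullback.fst (incl (c j) M₀) (incl (c l) M₀) ≫ incl (c j) M₀) ⊆
        Set.range (incl (d (j, l)) M₀) := by
      rintro _ ⟨z, rfl⟩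
      refine (mem_range_incl (cpow (d (j, l)) M₀) _).2 fun hbad => ?_
      have e : cpow (d (j, l)) M₀ = cpow (c j) M₀ * cpow (c l) M₀ :=
        funext fun i => mul_pow _ _ _
      rw [e] at hbad
      rcases Ideal.IsPrime.mem_or_mem inferInstance hbad with hb | hb
      · exact (mem_range_incl (cpow (c j) M₀) _).1 ⟨_, rfl⟩ hb
      · exact (mem_range_incl (cpow (c l) M₀) _).1 ⟨_, (congrArg (fun φ : _ ⟶ Spec (.of (P A)) => φ z)
          pullback.condition).symm⟩ hb
    let q := IsOpenImmersion.lift (incl (d (j, l)) M₀)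
      (pullback.fst (incl (c j) M₀) (incl (c l) M₀) ≫ incl (c j) M₀) hsub
    have hq : q ≫ incl (d (j, l)) M₀ = _ := IsOpenImmersion.lift_fac _ _ _
    have e₁ : pullback.fst (incl (c j) M₀) (incl (c l) M₀) ≫ trS (c j) le_sup_left =
        (q ≫ trS (d (j, l)) hle ≫ trS (d (j, l)) (hM (j, l))) ≫ r₁ (j, l) := by
      rw [← cancel_mono (incl (c j) N₀)]
      simp only [Category.assoc, trS_incl, r₁, IsOpenImmersion.lift_fac, hq]
    have e₂ : pullback.snd (incl (c j) M₀) (incl (c l) M₀) ≫ trS (c l) le_sup_left =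
        (q ≫ trS (d (j, l)) hle ≫ trS (d (j, l)) (hM (j, l))) ≫ r₂ (j, l) := by
      rw [← cancel_mono (incl (c l) N₀)]
      simp only [Category.assoc, trS_incl, r₂, IsOpenImmersion.lift_fac, hq]
      rw [← pullback.condition]
    simp only [g₁]
    rw [reassoc_of% e₁, reassoc_of% e₂, hMeq (j, l)]
  refine ⟨C.glueMorphisms (fun j => g₁ j) compat, funext fun i => ?_⟩
  let 𝒱 : (Spec (A i)).OpenCover :=
    (Scheme.affineOpenCoverOfSpanRangeEqTop (R := A i) (fun j => c j i) ((Ideal.eq_top_iff_one _).2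
      (hsum i ▸ Ideal.sum_mem _ fun j _ => Ideal.subset_span ⟨j, rfl⟩))).openCover
  refine Scheme.Cover.hom_ext 𝒱 _ _ fun j => ?_
  change cincl (c j) i ≫ pr i ≫ C.glueMorphisms (fun j => g₁ j) compat = cincl (c j) i ≫ f i
  rw [← Category.assoc, ← comp_incl (c j) M₀ i, Category.assoc]
  have : incl (c j) M₀ ≫ C.glueMorphisms (fun j => g₁ j) compat = g₁ j := C.ι_glueMorphisms _ compat j
  rw [this, ← Category.assoc, comp_trS, hg₀]

omit x hS in
/-- points with values in a product -/
theorem bijective [CompactSpace X] [QuasiSeparatedSpace X] : Function.Bijective (pointsPi A X) := by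
  refine ⟨pointsPi_injective A X, fun f => ?_⟩
  let S₀ : Scheme.{u} := Spec (.of (ULift.{u} ℤ))
  have hS₀ : IsTerminal S₀ := specULiftZIsTerminal
  obtain ⟨M, g, a, hg, hc, hq, ha, -⟩ := Groth.L19.Approx.affFactors (hS₀.from X)
  let D := Groth.L19.Approx.system a (⊤ : MorphismProperty Scheme.{u}) ⋙ Over.forget M
  let cn : Cone D := (Over.forget M).mapCone (Groth.L19.Approx.cone a ⊤)
  have hlim : IsLimit cn := (Groth.L19.Approx.nonempty_isLimit_forget_cone a).some
  have hsurj : ∀ k, ∃ F : Spec (.of (P A)) ⟶ D.obj k, pointsPi A (D.obj k) F = fun i => f i ≫ cn.π.app k := by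
    intro k
    haveI : CompactSpace (D.obj k) := Groth.L19.Approx.compactSpace_factorSystem a g k
    haveI : QuasiSeparatedSpace (D.obj k) := Groth.L19.Approx.quasiSeparatedSpace_factorSystem a g k
    haveI : CompactSpace ((Groth.L19.Approx.factorSystem a g).obj k).left :=
      Groth.L19.Approx.compactSpace_factorSystem a g k
    haveI : QuasiSeparatedSpace ((Groth.L19.Approx.factorSystem a g).obj k).left :=
      Groth.L19.Approx.quasiSeparatedSpace_factorSystem a g k
    haveI : LocallyOfFinitePresentation ((Groth.L19.Approx.factorSystem a g).obj k).hom :=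
      Groth.L19.Approx.lfp_factorSystem a g k
    exact surjective_of_lfp ((Groth.L19.Approx.factorSystem a g).obj k).hom hS₀ _
  choose F hF using hsurj
  let s : Cone D :=
    { pt := Spec (.of (P A))
      π :=
        { app := F
          naturality := fun {k l} φ => by
            haveI : QuasiSeparatedSpace (D.obj l) := Groth.L19.Approx.quasiSeparatedSpace_factorSystem a g l
            refine (Category.id_comp _).trans (pointsPi_injective A (D.obj l) (funext fun i => ?_))
            have h1 := congrFun (hF k) i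
            have h2 := congrFun (hF l) i
            simp only [pointsPi] at h1 h2 ⊢
            rw [h2, reassoc_of% h1]
            exact (congrArg (fun e => f i ≫ e) (cn.w φ)).symm } }
  refine ⟨hlim.lift s, funext fun i => hlim.hom_ext fun k => ?_⟩
  have h1 := congrFun (hF k) i
  simp only [pointsPi] at h1 ⊢
  refine (Category.assoc _ _ _).trans (Eq.trans ?_ h1)
  exact congrArg (fun e => Spec.map (CommRingCat.ofHom (Pi.evalRingHom (fun j => (A j : Type u)) i)) ≫ e)
    (hlim.fac s k)

end Groth.L12.PointsProd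

end
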