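/-
Products of sections of pullbacks of finitely presented modules.
-/
import Groth.Agent.L12.PointsProd
import Groth.Agent.L18.LocFreeTilde
import Groth.Agent.L18.TildeFunctor
import Groth.Agent.L19.TildeFP
import Groth.Agent.L19.LocFreeDescent
import Mathlib.Algebra.Module.FinitePresentation

/-!
# Finite presentation of products of sections
-/

set_option autoImplicit false
set_option linter.style.haveILetI false

universe u

noncomputable section

open CategoryTheory CategoryTheory.Limits AlgebraicGeometry TensorProduct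

namespace Groth.L12.FPProd

/-- pullback of a finitely presented module to an affine scheme -/
theorem isFP_pullback_spec {X : Scheme.{u}} {R : CommRingCat.{u}} (g : Spec R ⟶ X) (F : X.Modules)
    (hF : CohB1.IsFP F) {G : (Spec R).Modules} (iG : G ≅ (Scheme.Modules.pullback g).obj F) :
    CohB1.IsFP G := by
  refine Groth.L19.isFP_of_tilde_charts _ fun y => ?_
  obtain ⟨U, n, m, φ, hyU, ⟨e⟩⟩ := Groth.L18.LFP.exists_cokernel_free_nhd F hF (g y)
  obtain ⟨_, ⟨a, rfl⟩, hya, haU⟩ := PrimeSpectrum.isTopologicalBasis_basic_opens.exists_subset_of_mem_open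
    (show y ∈ (g ⁻¹ᵁ U : (Spec R).Opens) from hyU) (g ⁻¹ᵁ U).2
  let S : CommRingCat.{u} := .of (Localization.Away a)
  let j : Spec S ⟶ Spec R := Spec.map (CommRingCat.ofHom (algebraMap R (Localization.Away a)))
  have hrange : Set.range (j ≫ g) ⊆ Set.range U.ι := by
    rw [Scheme.Opens.range_ι]
    rintro _ ⟨z, rfl⟩
    exact haU ((Groth.L12.PointsProd.mem_range_incl a (j z)).1 ⟨z, rfl⟩)
  let l : Spec S ⟶ (U : Scheme.{u}) := IsOpenImmersion.lift U.ι (j ≫ g) hrange
  let ψ' : tilde (ModuleCat.of S (ULift.{u} (Fin n) →₀ S)) ⟶ tilde (ModuleCat.of S (ULift.{u} (Fin m) →₀ S)) :=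
    (Groth.L19.PullChart.freeTildeIso S n).hom ≫ (Groth.L29.LocFree.pullbackFreeIso l n).inv ≫
      (Scheme.Modules.pullback l).map φ ≫ (Groth.L29.LocFree.pullbackFreeIso l m).hom ≫
        (Groth.L19.PullChart.freeTildeIso S m).inv
  let ψ : ModuleCat.of S (ULift.{u} (Fin n) →₀ S) ⟶ ModuleCat.of S (ULift.{u} (Fin m) →₀ S) :=
    tilde.fullyFaithfulFunctor.preimage ψ'
  haveI : PreservesColimitsOfSize.{0, 0} (tilde.functor S) := tilde.adjunction.leftAdjoint_preservesColimits
  haveI : PreservesColimitsOfSize.{0, 0} (Scheme.Modules.pullback l) :=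
    (Scheme.Modules.pullbackPushforwardAdjunction l).leftAdjoint_preservesColimits
  refine ⟨S, j, inferInstance, ModuleCat.of S ((ULift.{u} (Fin m) →₀ S) ⧸ LinearMap.range ψ.hom),
    (Groth.L12.PointsProd.mem_range_incl a y).2 hya, ?_, ⟨?_⟩⟩
  · exact Module.finitePresentation_of_surjective (Submodule.mkQ _) (Submodule.mkQ_surjective _) (by
      rw [Submodule.ker_mkQ]
      exact Module.Finite.iff_fg.1 (Module.Finite.range ψ.hom))
  · exact (Scheme.Modules.restrictFunctorIsoPullback j).app _ ≪≫ (Scheme.Modules.pullback j).mapIso iG ≪≫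
      (Scheme.Modules.pullbackComp j g).app F ≪≫
      (Scheme.Modules.pullbackCongr (IsOpenImmersion.lift_fac U.ι (j ≫ g) hrange).symm).app F ≪≫
      ((Scheme.Modules.pullbackComp l U.ι).app F).symm ≪≫
      (Scheme.Modules.pullback l).mapIso (((Scheme.Modules.restrictFunctorIsoPullback U.ι).app F).symm ≪≫ e.symm) ≪≫
      PreservesCokernel.iso (Scheme.Modules.pullback l) φ ≪≫
      cokernel.mapIso _ ((tilde.functor S).map ψ)
        (Groth.L29.LocFree.pullbackFreeIso l n ≪≫ (Groth.L19.PullChart.freeTildeIso S n).symm)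
        (Groth.L29.LocFree.pullbackFreeIso l m ≪≫ (Groth.L19.PullChart.freeTildeIso S m).symm)
        (by
          rw [show (tilde.functor S).map ψ = ψ' from tilde.fullyFaithfulFunctor.map_preimage ψ']
          simp only [ψ', Iso.trans_hom, Iso.symm_hom, Category.assoc]
          erw [Iso.inv_hom_id_assoc, Iso.hom_inv_id_assoc]
          rfl) ≪≫
      (PreservesCokernel.iso (tilde.functor S) ψ).symm ≪≫
      (tilde.functor S).mapIso (ModuleCat.cokernelIsoRangeQuotient ψ)

/-- global sections of `M~` -/
theorem exists_sections_equiv {S : CommRingCat.{u}} {M : (Spec S).Modules} {N : ModuleCat.{u} S}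
    (e : M ≅ tilde N) : ∃ k : N ≃+ Γ(M, ⊤), ∀ (s : S) (x : N), k (s • x) = (Scheme.ΓSpecIso S).inv s • k x := by
  let l : N ≅ (moduleSpecΓFunctor (R := S)).obj M :=
    (tilde.toTildeΓNatIso.app N) ≪≫ (moduleSpecΓFunctor (R := S)).mapIso e.symm
  refine ⟨l.toLinearEquiv.toAddEquiv, fun s x => ?_⟩
  exact map_smul l.toLinearEquiv s x

/-- products of base changes of a finitely presented module -/
theorem bijective_piBaseChange {ι : Type u} {A : ι → Type u} [∀ i, CommRing (A i)]
    (N : Type u) [AddCommGroup N] [Module (∀ i, A i) N] [Module.FinitePresentation (∀ i, A i) N]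
    (Ni : ι → Type u) [∀ i, AddCommGroup (Ni i)] [∀ i, Module (A i) (Ni i)]
    (c : ∀ i, N →+ Ni i) (hsmul : ∀ i (r : ∀ j, A j) (x : N), c i (r • x) = r i • c i x)
    (hspan : ∀ i (n : ℕ) (g : Fin n → N), Submodule.span (∀ j, A j) (Set.range g) = ⊤ →
      ∀ z : Ni i, ∃ a : Fin n → A i, ∑ l, a l • c i (g l) = z)
    (hker : ∀ i (n m : ℕ) (g : Fin n → N) (R : Fin m → Fin n → ∀ j, A j),
      Submodule.span (∀ j, A j) (Set.range g) = ⊤ →
      LinearMap.ker (Fintype.linearCombination (∀ j, A j) g) = Submodule.span (∀ j, A j) (Set.range R) →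
      ∀ a : Fin n → A i, ∑ l, a l • c i (g l) = 0 → ∃ b : Fin m → A i, ∀ l, ∑ k, b k * R k l i = a l) :
    Function.Bijective (fun (x : N) (i : ι) => c i x) := by
  obtain ⟨n, g, hg⟩ := Module.Finite.exists_fin (R := ∀ j, A j) (M := N)
  have hsurj : Function.Surjective (Fintype.linearCombination (∀ j, A j) g) := by
    rw [← LinearMap.range_eq_top, Fintype.range_linearCombination, hg]
  obtain ⟨m, R, hR⟩ := Submodule.fg_iff_exists_fin_generating_family.1
    (Module.FinitePresentation.fg_ker (Fintype.linearCombination (∀ j, A j) g) hsurj)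
  have hc : ∀ i (v : Fin n → ∀ j, A j), c i (Fintype.linearCombination (∀ j, A j) g v) = ∑ l, v l i • c i (g l) :=
    fun i v => by simp only [Fintype.linearCombination_apply, map_sum, hsmul]
  refine ⟨fun x y hxy => ?_, fun z => ?_⟩
  · obtain ⟨v, rfl⟩ := hsurj x
    obtain ⟨w, rfl⟩ := hsurj y
    have h0 : ∀ i, ∃ b : Fin m → A i, ∀ l, ∑ k, b k * R k l i = v l i - w l i := fun i => by
      refine hker i n m g R hg hR.symm _ ?_
      have := congrFun hxy i
      simp only [hc] at this
      simp only [sub_smul, Finset.sum_sub_distrib, this, sub_self]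
    choose b hb using h0
    rw [← sub_eq_zero, ← map_sub]
    refine LinearMap.mem_ker.1 (hR ▸ ?_)
    refine (Submodule.mem_span_range_iff_exists_fun _).2 ⟨fun k i => b i k, ?_⟩
    funext l i
    simp only [Finset.sum_apply, Pi.smul_apply, smul_eq_mul, Pi.mul_apply, Pi.sub_apply]
    exact hb i l
  · choose a ha using fun i => hspan i n g hg (z i)
    refine ⟨Fintype.linearCombination (∀ j, A j) g (fun l i => a i l), funext fun i => ?_⟩
    change c i (Fintype.linearCombination (∀ j, A j) g (fun l i => a i l)) = z i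
    rw [hc]
    exact ha i

/-- products of global sections of pullbacks -/
theorem finitePresentation_prod {X : Scheme.{u}} [CompactSpace X] [QuasiSeparatedSpace X]
    {ι : Type u} (A : ι → CommRingCat.{u}) (f : ∀ i, Spec (A i) ⟶ X) (F : X.Modules) (hF : CohB1.IsFP F) :
    Module.FinitePresentation (∀ i, Γ(Spec (A i), ⊤))
      (∀ i, Γ((Scheme.Modules.pullback (f i)).obj F, ⊤)) := by
  classical
  obtain ⟨g, hg⟩ := (Groth.L12.PointsProd.bijective (A := A) (X := X)).2 f
  let R : CommRingCat.{u} := .of (∀ i, A i)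
  let G : (Spec R).Modules := (Scheme.Modules.pullback g).obj F
  have hG : CohB1.IsFP G := isFP_pullback_spec g F hF (Iso.refl _)
  haveI : G.IsQuasicoherent := by
    haveI := hG
    infer_instance
  let N : ModuleCat.{u} R := (moduleSpecΓFunctor (R := R)).obj G
  let eG : G ≅ tilde N := (Groth.L18.TildeF.counitIso G).symm
  haveI hN : Module.FinitePresentation R N :=
    Groth.L18.LFP.finitePresentation_of_isFP_tilde N (isFP_pullback_spec g F hF eG.symm)
  let φ : ∀ i, R →+* A i := fun i => Pi.evalRingHom (fun j => (A j : Type u)) i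
  letI : ∀ i, Algebra R (A i) := fun i => (φ i).toAlgebra
  have hfi : ∀ i, f i = Spec.map (CommRingCat.ofHom (φ i)) ≫ g := fun i => (congrFun hg i).symm
  let Ni : ι → Type u := fun i => A i ⊗[R] N
  have hk : ∀ i, ∃ k : Ni i ≃+ Γ((Scheme.Modules.pullback (f i)).obj F, ⊤),
      ∀ (s : A i) (x : Ni i), k (s • x) = (Scheme.ΓSpecIso (A i)).inv s • k x := by
    intro i
    obtain ⟨q⟩ := Groth.L18.TildeF.extendScalars_equiv (R := R) (S := A i) N
    exact exists_sections_equiv (N := ModuleCat.of (A i) (Ni i))
      ((Scheme.Modules.pullbackCongr (hfi i)).app F ≪≫ ((Scheme.Modules.pullbackComp _ g).app F).symm ≪≫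
        (Scheme.Modules.pullback _).mapIso eG ≪≫
        (Groth.L18.TildeF.pullbackTildeIso (CommRingCat.ofHom (φ i))).app N ≪≫
        (tilde.functor _).mapIso (show (ModuleCat.extendScalars (φ i)).obj N ≅ ModuleCat.of (A i) (Ni i) from
          q.toModuleIso))
  choose k hk using hk
  let e : (∀ i, (A i : Type u)) ≃+* (∀ i, Γ(Spec (A i), ⊤)) :=
    RingEquiv.piCongrRight fun i => (Scheme.ΓSpecIso (A i)).symm.commRingCatIsoToRingEquiv
  let c : ∀ i, N →+ Ni i := fun i => (TensorProduct.mk R (A i) N 1).toAddMonoidHom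
  have hsmul : ∀ i (r : ∀ j, A j) (x : N), c i (r • x) = r i • c i x := fun i r x => by
    change (1 : A i) ⊗ₜ[R] ((r : R) • x) = r i • ((1 : A i) ⊗ₜ[R] x)
    rw [← TensorProduct.smul_tmul, TensorProduct.smul_tmul', Algebra.smul_def, smul_eq_mul]
    rfl
  have hbij : Function.Bijective (fun (x : N) (i : ι) => c i x) := by
    haveI : Module.FinitePresentation (∀ j, (A j : Type u)) N := hN
    refine bijective_piBaseChange (A := fun i => (A i : Type u)) N Ni c hsmul (fun i n g hg z => ?_)
      fun i n m g Rl hg hR a ha => ?_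
    · have hs : Function.Surjective (Fintype.linearCombination R (M := N) g) := by
        rw [← LinearMap.range_eq_top, Fintype.range_linearCombination]
        exact hg
      obtain ⟨w, rfl⟩ := LinearMap.lTensor_surjective (A i) hs z
      refine ⟨fun l => TensorProduct.piScalarRight R (A i) (A i) (Fin n) w l, ?_⟩
      induction w using TensorProduct.induction_on with
      | zero => simp
      | tmul x v =>
        simp only [TensorProduct.piScalarRight_apply, TensorProduct.piScalarRightHom_tmul, LinearMap.lTensor_tmul,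
          Fintype.linearCombination_apply, TensorProduct.tmul_sum, TensorProduct.tmul_smul]
        refine Finset.sum_congr rfl fun l _ => ?_
        change (v l • x) • ((1 : A i) ⊗ₜ[R] g l) = v l • (x ⊗ₜ[R] g l)
        rw [TensorProduct.smul_tmul', smul_eq_mul, mul_one, TensorProduct.smul_tmul']
      | add w w' hw hw' =>
        simp only [map_add, Pi.add_apply, add_smul, Finset.sum_add_distrib, hw, hw']
    · have hs : Function.Surjective (Fintype.linearCombination R (M := N) g) := by
        rw [← LinearMap.range_eq_top, Fintype.range_linearCombination]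
        exact hg
      have hexact : Function.Exact (Fintype.linearCombination R (M := Fin n → R) Rl)
          (Fintype.linearCombination R (M := N) g) := by
        rw [LinearMap.exact_iff, Fintype.range_linearCombination]
        exact hR
      obtain ⟨w, hw⟩ := ((lTensor_exact (A i) hexact hs) (∑ l, (a l) ⊗ₜ[R] (Pi.single l 1 : Fin n → R))).1 (by
        rw [map_sum]
        refine (Finset.sum_congr rfl fun l _ => ?_).trans ha
        rw [LinearMap.lTensor_tmul, Fintype.linearCombination_apply_single, one_smul]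
        change a l ⊗ₜ[R] g l = a l • ((1 : A i) ⊗ₜ[R] g l)
        rw [TensorProduct.smul_tmul', smul_eq_mul, mul_one])
      refine ⟨fun k => TensorProduct.piScalarRight R (A i) (A i) (Fin m) w k, fun l => ?_⟩
      have h1 := congrArg (fun z => TensorProduct.piScalarRight R (A i) (A i) (Fin n) z l) hw
      simp only [map_sum, Finset.sum_apply, TensorProduct.piScalarRight_apply, TensorProduct.piScalarRightHom_tmul] at h1
      simp only [TensorProduct.piScalarRight_apply]
      have h2 : ∀ w : A i ⊗[R] (Fin m → R),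
          ∑ k, TensorProduct.piScalarRightHom R (A i) (A i) (Fin m) w k * Rl k l i =
            TensorProduct.piScalarRightHom R (A i) (A i) (Fin n)
              (LinearMap.lTensor (A i) (Fintype.linearCombination R (M := Fin n → R) Rl) w) l := by
        intro w
        induction w using TensorProduct.induction_on with
        | zero => simp
        | tmul x v =>
          simp only [TensorProduct.piScalarRightHom_tmul, LinearMap.lTensor_tmul, Fintype.linearCombination_apply,
            Finset.sum_apply, Pi.smul_apply, smul_eq_mul, Finset.sum_smul]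
          refine Finset.sum_congr rfl fun k _ => ?_
          change (v k) i * x * Rl k l i = ((v k) i * (Rl k l) i) * x
          ring
        | add w w' hw hw' => simp only [map_add, Pi.add_apply, add_mul, Finset.sum_add_distrib, hw, hw']
      refine (h2 w).trans (h1.trans ?_)
      rw [Finset.sum_eq_single l]
      · rw [Pi.single_eq_same, one_smul]
      · intro b _ hb
        rw [Pi.single_eq_of_ne' hb, zero_smul]
      · simp
  let E : N ≃+ (∀ i, Γ((Scheme.Modules.pullback (f i)).obj F, ⊤)) :=
    (AddEquiv.ofBijective (AddMonoidHom.pi c) hbij).trans (AddEquiv.piCongrRight k)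
  letI : Algebra (∀ i, Γ(Spec (A i), ⊤)) (∀ i, (A i : Type u)) := e.symm.toRingHom.toAlgebra
  letI : Module (∀ i, Γ(Spec (A i), ⊤)) N := Module.compHom N e.symm.toRingHom
  haveI : IsScalarTower (∀ i, Γ(Spec (A i), ⊤)) (∀ i, (A i : Type u)) N :=
    IsScalarTower.of_algebraMap_smul fun _ _ => rfl
  haveI : Module.FinitePresentation (∀ j, (A j : Type u)) N := hN
  haveI : Module.FinitePresentation (∀ i, Γ(Spec (A i), ⊤)) (∀ i, (A i : Type u)) :=
    Module.FinitePresentation.of_equiv
      (LinearEquiv.ofBijective (Algebra.linearMap (∀ i, Γ(Spec (A i), ⊤)) (∀ i, (A i : Type u))) e.symm.bijective)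
  haveI : Module.FinitePresentation (∀ i, Γ(Spec (A i), ⊤)) N :=
    Module.FinitePresentation.trans _ _ (∀ i, (A i : Type u))
  exact Module.FinitePresentation.of_equiv
    ({ E with
        map_smul' := fun r x => by
          obtain ⟨r, rfl⟩ := e.surjective r
          funext i
          change k i (c i ((e.symm (e r)) • x)) = (Scheme.ΓSpecIso (A i)).inv (r i) • k i (c i x)
          rw [e.symm_apply_apply, hsmul, hk] } :
      N ≃ₗ[∀ i, Γ(Spec (A i), ⊤)] ∀ i, Γ((Scheme.Modules.pullback (f i)).obj F, ⊤))

end Groth.L12.FPProd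

end
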