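import Groth.Agent.L04.FibreDepth
import Groth.Agent.L04.CMBasic
import Mathlib.RingTheory.Noetherian.OfPrime
import Mathlib.RingTheory.Artinian.Module
import Mathlib.RingTheory.KrullDimension.Regular
import Mathlib.Tactic

/-!
Regular sequences on the closed fibre of a flat algebra over an Artinian local ring.
-/

universe u

open RingTheory.Sequence Ideal IsLocalRing
open scoped Pointwise

namespace Groth.L12.RegLift

/-- A CM local ring: a sequence dropping the dimension by its length is regular. -/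
theorem isWeaklyRegular_of_dim {A : Type u} [CommRing A] [LocCoh.IsCohenMacaulayLocalRing A]
    (xs : List A) (hxs : ∀ x ∈ xs, x ∈ maximalIdeal A)
    (h : ringKrullDim (A ⧸ Ideal.ofList xs) + xs.length = ringKrullDim A) : IsWeaklyRegular A xs := by
  haveI := (inferInstance : IsLocalRing A).toNontrivial
  have hI : Ideal.ofList xs ≠ ⊤ :=
    ne_top_of_le_ne_top (maximalIdeal.isMaximal A).ne_top (Ideal.span_le.2 hxs)
  have hmod : LocCoh.IsCohenMacaulayModule A A := LocCoh.IsCohenMacaulayLocalRing.supportDim_eq_depth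
  have h2 := Groth.L04.supportDim_eq_add_idealDepth hI hmod
  rw [Module.supportDim_self_eq_ringKrullDim, smul_eq_mul, Ideal.mul_top,
    Module.supportDim_quotient_eq_ringKrullDim] at h2
  refine (Groth.L04.idealDepth_eq_length_iff xs hxs).1 ?_
  refine le_antisymm (Groth.L04.idealDepth_ofList_le_length xs hxs) ?_
  haveI : Nontrivial (A ⧸ Ideal.ofList xs) := Ideal.Quotient.nontrivial_iff.2 hI
  haveI : IsLocalRing (A ⧸ Ideal.ofList xs) := IsLocalRing.of_surjective' _ Ideal.Quotient.mk_surjective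
  obtain ⟨d, hd⟩ := WithBot.ne_bot_iff_exists.1 (ringKrullDim_ne_bot (R := A ⧸ Ideal.ofList xs))
  have hfin : d ≠ ⊤ := fun ht => ringKrullDim_ne_top (R := A ⧸ Ideal.ofList xs) (by rw [← hd, ht]; rfl)
  rw [← hd] at h h2
  rw [← h, ← WithBot.coe_natCast, ← WithBot.coe_add, ← WithBot.coe_add, WithBot.coe_inj] at h2
  exact (ENat.add_right_injective_of_ne_top hfin h2).le

/-- Noetherianity through a finitely generated nilpotent ideal. -/
theorem isNoetherianRing_of_nilpotent {R : Type u} [CommRing R] (K : Ideal R) (hK : K.FG)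
    (hnil : IsNilpotent K) [IsNoetherianRing (R ⧸ K)] : IsNoetherianRing R := by
  refine IsNoetherianRing.of_prime fun p hp => ?_
  have hle : K ≤ p := by
    obtain ⟨n, hn⟩ := hnil
    exact hp.le_of_pow_le (n := n) (hn ▸ bot_le)
  have h1 : (p.map (Ideal.Quotient.mk K)).FG := IsNoetherian.noetherian _
  have hker : RingHom.ker (Ideal.Quotient.mk K) = K := Ideal.mk_ker
  have : p = (p.map (Ideal.Quotient.mk K)).comap (Ideal.Quotient.mk K) := by
    rw [Ideal.comap_map_of_surjective _ Ideal.Quotient.mk_surjective, ← RingHom.ker_eq_comap_bot, hker,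
      sup_eq_left.2 hle]
  obtain ⟨s, hs⟩ := h1
  classical
  choose g hg using fun x : R ⧸ K => Ideal.Quotient.mk_surjective x
  have hp2 : p = Ideal.span (s.image g) ⊔ K := by
    conv_lhs => rw [this, ← hs]
    have hmap : (Ideal.span (s.image g : Set R)).map (Ideal.Quotient.mk K) = Ideal.span (s : Set (R ⧸ K)) := by
      rw [Ideal.map_span, Finset.coe_image, ← Set.image_comp]
      refine congrArg _ ?_
      ext x; simp [hg]
    rw [← hmap, Ideal.comap_map_of_surjective _ Ideal.Quotient.mk_surjective, ← RingHom.ker_eq_comap_bot, hker]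
  rw [hp2]
  exact Submodule.FG.sup ⟨s.image g, rfl⟩ hK

theorem ringKrullDim_quotient_nilpotent {R : Type u} [CommRing R] (K : Ideal R) (hnil : IsNilpotent K) :
    ringKrullDim (R ⧸ K) = ringKrullDim R := by
  rw [ringKrullDim_quotient]
  have hu : PrimeSpectrum.zeroLocus (K : Set R) = Set.univ := by
    refine Set.eq_univ_of_forall fun p => ?_
    obtain ⟨n, hn⟩ := hnil
    exact p.2.le_of_pow_le (n := n) (hn ▸ bot_le)
  rw [hu]
  exact Order.krullDim_eq_of_orderIso OrderIso.Set.univ

variable {R S : Type u} [CommRing R] [IsLocalRing R] [IsNoetherianRing R] [CommRing S]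
  [IsLocalRing S] [IsNoetherianRing S] [Algebra R S] [IsLocalHom (algebraMap R S)]

theorem flat_of_fibre_aux : ∀ (rs : List S) (J : Ideal S), (∀ r ∈ rs, r ∈ maximalIdeal S) →
    J ≤ maximalIdeal S → Module.Flat R (S ⧸ J) →
    IsWeaklyRegular (S ⧸ ((maximalIdeal R).map (algebraMap R S) ⊔ J)) rs →
    Module.Flat R (S ⧸ (J ⊔ Ideal.ofList rs))
  | [], J, _, _, hflat, _ =>
    Module.Flat.of_linearEquiv (Ideal.quotientEquivAlgOfEq R (by simp : J ⊔ Ideal.ofList [] = J)).toLinearEquiv
  | f :: rs, J, hrs, hJ, hflat, h => by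
    rw [List.forall_mem_cons] at hrs
    rw [isWeaklyRegular_cons_iff] at h
    haveI : Nontrivial (S ⧸ J) :=
      Ideal.Quotient.nontrivial_iff.2 (ne_top_of_le_ne_top (maximalIdeal.isMaximal S).ne_top hJ)
    haveI : IsLocalRing (S ⧸ J) := IsLocalRing.of_surjective' _ Ideal.Quotient.mk_surjective
    haveI : IsLocalHom (Ideal.Quotient.mk J) :=
      IsLocalHom.of_surjective _ Ideal.Quotient.mk_surjective
    haveI : IsLocalHom (algebraMap R (S ⧸ J)) := by
      rw [IsScalarTower.algebraMap_eq R S (S ⧸ J)]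
      exact RingHom.isLocalHom_comp _ _
    set K := (maximalIdeal R).map (algebraMap R (S ⧸ J))
    have hcomap : K.comap (Ideal.Quotient.mk J) = (maximalIdeal R).map (algebraMap R S) ⊔ J := by
      have : K = ((maximalIdeal R).map (algebraMap R S)).map (Ideal.Quotient.mk J) := by
        rw [Ideal.map_map]; rfl
      rw [this, Ideal.comap_map_of_surjective _ Ideal.Quotient.mk_surjective,
        ← RingHom.ker_eq_comap_bot, Ideal.mk_ker]
    have hnz : Ideal.Quotient.mk K (Ideal.Quotient.mk J f) ∈ nonZeroDivisors ((S ⧸ J) ⧸ K) := by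
      refine mem_nonZeroDivisors_iff_right.2 fun x hx => ?_
      obtain ⟨x, rfl⟩ := Ideal.Quotient.mk_surjective x
      obtain ⟨x, rfl⟩ := Ideal.Quotient.mk_surjective x
      rw [← map_mul, ← map_mul, Ideal.Quotient.eq_zero_iff_mem, ← Ideal.mem_comap, hcomap,
        ← Ideal.Quotient.eq_zero_iff_mem] at hx
      rw [Ideal.Quotient.eq_zero_iff_mem, ← Ideal.mem_comap, hcomap,
        ← Ideal.Quotient.eq_zero_iff_mem]
      refine h.1 ?_
      simp only [smul_zero]
      rw [← Ideal.Quotient.mk_eq_mk, ← Submodule.Quotient.mk_smul, smul_eq_mul, mul_comm]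
      exact hx
    obtain ⟨hflat', -⟩ :=
      Groth.Agent.S0395.result (R := R) (S := S ⧸ J) (Ideal.Quotient.mk J f) hnz
    have e : ((S ⧸ J) ⧸ Ideal.span {Ideal.Quotient.mk J f}) ≃ₐ[R] S ⧸ (J ⊔ Ideal.span {f}) :=
      (Ideal.quotientEquivAlgOfEq R (by rw [Ideal.map_span, Set.image_singleton]; rfl)).trans
        (DoubleQuot.quotQuotEquivQuotSupₐ R J (Ideal.span {f}))
    have hfl : Module.Flat R (S ⧸ (J ⊔ Ideal.span {f})) :=
      Module.Flat.of_linearEquiv e.toLinearEquiv.symm
    have := flat_of_fibre_aux rs _ hrs.2 (sup_le hJ ((Ideal.span_singleton_le_iff_mem _).2 hrs.1)) hfl (by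
      rw [← sup_assoc]
      exact ((Groth.L04.quotSMulTopQuotientEquiv _ f).isWeaklyRegular_congr rs).1 h.2)
    exact Module.Flat.of_linearEquiv (Ideal.quotientEquivAlgOfEq R
      (by rw [Ideal.ofList_cons, sup_assoc] : J ⊔ Ideal.ofList (f :: rs) = J ⊔ Ideal.span {f} ⊔ Ideal.ofList rs)).toLinearEquiv

theorem flat_of_fibre [Module.Flat R S] {rs : List S} (hrs : ∀ r ∈ rs, r ∈ maximalIdeal S)
    (h : IsWeaklyRegular (S ⧸ (maximalIdeal R).map (algebraMap R S)) rs) :
    Module.Flat R (S ⧸ Ideal.ofList rs) := by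
  have hfl : Module.Flat R (S ⧸ (⊥ : Ideal S)) :=
    Module.Flat.of_linearEquiv
      ((Submodule.quotEquivOfEqBot (⊥ : Ideal S) rfl).restrictScalars R)
  have := flat_of_fibre_aux (R := R) rs ⊥ hrs bot_le hfl
    (by rwa [(Submodule.quotEquivOfEq _ _ (sup_bot_eq _)).isWeaklyRegular_congr rs])
  exact Module.Flat.of_linearEquiv (Ideal.quotientEquivAlgOfEq R (by simp : Ideal.ofList rs = ⊥ ⊔ Ideal.ofList rs)).toLinearEquiv

end Groth.L12.RegLift
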