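import Groth.Agent.L17.BC.Fibre
import Groth.Agent.L17.BC.Criteria
import Groth.Agent.L16.HomSh.FreeFrames
import Groth.Agent.L16.Rees.HomNearFibre
import Groth.Agent.L03.ShStab.EulerConst
import Groth.Agent.L21.Bundle.Stable
import Groth.Agent.L21.RR.Sections
import Groth.Agent.L21.CurveTop
import Groth.Agent.L16.NegPow.Gen

/-! Limits of isomorphic families of stable bundles on a curve. -/

set_option autoImplicit false
set_option linter.style.haveILetI false
set_option linter.unusedSectionVars false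
set_option backward.isDefEq.respectTransparency false
set_option backward.isDefEq.respectTransparency.types false

universe u

open CategoryTheory CategoryTheory.Limits AlgebraicGeometry TopologicalSpace Opposite Groth.L17.BC

noncomputable section

namespace Groth.L12.StabLimit

open Groth.L01.FlatCx (mu Coker)
open Groth.L16.HomSh (homMod globalEquiv pullHomMap isIso_pullHomMap isFinLocFree_homMod)

/-- Fibre dimensions of a finite free complex are upper semicontinuous. -/
theorem isClosed_le_dRank {A : Type u} [CommRing A] [IsNoetherianRing A] (L : CochainComplex (ModuleCat.{u} A) ℤ)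
    (hL : ∀ i, Module.Finite A (L.X i) ∧ Module.Free A (L.X i)) (j : ℤ) (n : ℕ) :
    IsClosed {z : PrimeSpectrum A | n ≤ CohIII.dRank L (j + 1) z} := by
  haveI := fun i => (hL i).1
  haveI := fun i => (hL i).2
  haveI : ∀ i, Module.FinitePresentation A (L.X i) := fun i => Module.finitePresentation_of_finite _ _
  have key := fun z => Groth.L01.FlatCx.dRank_add_mu L (Crit.prev_eq j) (Crit.next_eq (j + 1)) z
  rw [← isOpen_compl_iff, isOpen_iff_eventually]
  intro z hz
  filter_upwards [Groth.L01.FlatCx.mu_eventually_le (Coker L j (j + 1)) z,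
    Groth.L01.FlatCx.mu_eventually_le (Coker L (j + 1) (j + 1 + 1)) z,
    (IsLocallyConstant.iff_eventually_eq _).1 (Groth.L01.FlatCx.isLocallyConstant_mu (A := A) (L.X (j + 1 + 1))) z]
    with w e1 e2 e3
  have := key z; have := key w
  simp only [Set.mem_compl_iff, Set.mem_setOf_eq, not_le] at hz ⊢
  omega

theorem isFinLocFreeOfRank_pullback {Z X : Scheme.{u}} (f : Z ⟶ X) {n : ℕ} {E : X.Modules}
    (hE : FlatMod.IsFinLocFreeOfRank n E) : FlatMod.IsFinLocFreeOfRank n ((Scheme.Modules.pullback f).obj E) :=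
  fun x => by
    obtain ⟨U, hx, ⟨i⟩⟩ := hE (f x)
    exact ⟨f ⁻¹ᵁ U, hx, Groth.L29.LocFree.restrict_pullback f i⟩

theorem isZero_of_rank_zero {X : Scheme.{u}} {M : X.Modules} (hM : FlatMod.IsFinLocFreeOfRank 0 M) : IsZero M := by
  rw [Groth.L21.Mod.isZero_iff_stalk_subsingleton]
  intro x
  obtain ⟨θ⟩ := Groth.L22.CurveDeg.nonempty_stalk_equiv hM x
  exact θ.symm.toEquiv.subsingleton

theorem not_isZero_of_rank_pos {X : Scheme.{u}} [Nonempty ↥X] {r : ℕ} (hr : 0 < r) {M : X.Modules}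
    (hM : FlatMod.IsFinLocFreeOfRank r M) : ¬ IsZero M := by
  rw [Groth.L21.Mod.isZero_iff_stalk_subsingleton]
  intro h
  obtain ⟨x⟩ := ‹Nonempty ↥X›
  obtain ⟨θ⟩ := Groth.L22.CurveDeg.nonempty_stalk_equiv hM x
  haveI := h x
  haveI := θ.toEquiv.subsingleton
  haveI : Nonempty (Fin r) := ⟨⟨0, hr⟩⟩
  exact one_ne_zero (α := X.presheaf.stalk x)
    (congrFun (Subsingleton.elim (fun _ : Fin r => (1 : X.presheaf.stalk x)) 0) ⟨0, hr⟩)

variable {k : Type u} [Field k] {X T P : Scheme.{u}} [X.Over (Spec (CommRingCat.of k))]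
  (f : P ⟶ T) {V : T.Opens} (hV : IsAffineOpen V)

/-- A fibre over a point of an affine open. -/
theorem exists_square {j : X ⟶ P} {t : Spec (CommRingCat.of k) ⟶ T}
    (sq : IsPullback j (X ↘ Spec (CommRingCat.of k)) f t) (ht : t (IsLocalRing.closedPoint k) ∈ V) :
    ∃ (a : Γ(T, V) ⟶ CommRingCat.of k) (g : X ⟶ ↑(f ⁻¹ᵁ V)), Spec.map a ≫ hV.fromSpec = t ∧
      g ≫ (f ⁻¹ᵁ V).ι = j ∧ IsPullback g (X ↘ Spec (CommRingCat.of k)) (fV f hV) (Spec.map a) ∧
      hV.fromSpec (PrimeSpectrum.comap a.hom ⊥) = t (IsLocalRing.closedPoint k) := by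
  have hpt : ∀ z : ↥(Spec (CommRingCat.of k)), t z = t (IsLocalRing.closedPoint k) := fun z =>
    congrArg _ (Subsingleton.elim (α := PrimeSpectrum k) z (IsLocalRing.closedPoint k))
  have hr' : Set.range t ⊆ Set.range hV.fromSpec := by
    rw [hV.range_fromSpec]
    rintro _ ⟨z, rfl⟩
    rw [hpt]; exact ht
  let t' := IsOpenImmersion.lift hV.fromSpec t hr'
  have ht' : t' ≫ hV.fromSpec = t := IsOpenImmersion.lift_fac _ _ _
  have hr : Set.range j ⊆ Set.range (f ⁻¹ᵁ V).ι := by
    rw [Scheme.Opens.range_ι]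
    rintro _ ⟨z, rfl⟩
    show f (j z) ∈ V
    rw [← Scheme.Hom.comp_apply, sq.w, Scheme.Hom.comp_apply, hpt]
    exact ht
  let g := IsOpenImmersion.lift (f ⁻¹ᵁ V).ι j hr
  have hg : g ≫ (f ⁻¹ᵁ V).ι = j := IsOpenImmersion.lift_fac _ _ _
  refine ⟨Spec.preimage t', g, by rw [Spec.map_preimage, ht'], hg, ?_, ?_⟩
  · rw [Spec.map_preimage]
    have big : IsPullback (g ≫ (f ⁻¹ᵁ V).ι) (X ↘ Spec (CommRingCat.of k)) f (t' ≫ hV.fromSpec) := by
      rw [hg, ht']; exact sq
    have w : g ≫ fV f hV = (X ↘ Spec (CommRingCat.of k)) ≫ t' := by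
      rw [← cancel_mono hV.fromSpec, Category.assoc, fV_fromSpec, Category.assoc, ← big.w, Category.assoc]
    refine IsPullback.of_right big w ?_
    have h2 : IsPullback (f ⁻¹ᵁ V).ι (f ∣_ V) f V.ι := (isPullback_morphismRestrict f V).flip
    refine h2.of_iso (Iso.refl _) (Iso.refl _) hV.isoSpec (Iso.refl _) (by simp) (by simp [fV]) (by simp) ?_
    simp [IsAffineOpen.isoSpec_hom_fromSpec]
  · show hV.fromSpec ((Spec.map (Spec.preimage t')) (⊥ : PrimeSpectrum k)) = _
    rw [Spec.map_preimage, ← Scheme.Hom.comp_apply, ht']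
    exact hpt _

variable [IsProper f] [Flat f] [IsLocallyNoetherian T]

theorem nonempty_model' {H : P.Modules} (hH : FlatMod.IsFinLocFree H) :
    haveI : IsProper (fV f hV) := by
      rw [fV]; infer_instance
    Nonempty (Model (fV f hV) (FV f (V := V) H)) := by
  haveI : IsNoetherianRing Γ(T, V) := IsLocallyNoetherian.component_noetherian ⟨V, hV⟩
  haveI : IsProper (fV f hV) := by rw [fV]; infer_instance
  haveI : IsLocallyNoetherian P := LocallyOfFiniteType.isLocallyNoetherian f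
  have hc : Coh.IsCoh H := Groth.L16.NegPow.isCoh_of_isFinLocFree hH
  haveI : Coh.IsQCoh H := hc.1
  have hFV := isCoh_FV (V := V) f hc
  exact nonempty_model _ _ hFV fun W hW => flat_sec_FV f hV H
    (Groth.L29.DC.RelTor.isFlatOver_of_isFlat f (Groth.L29.DC.isFlat_of_isFinLocFree hH)) hW

variable [IsIntegral T] (hne : (V : Set T).Nonempty)

include hV hne in
/-- Euler characteristics of fibres agree. -/
theorem euler_fibre_eq {H : P.Modules} (hH : FlatMod.IsFinLocFree H) {j j' : X ⟶ P}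
    {t t' : Spec (CommRingCat.of k) ⟶ T} (sq : IsPullback j (X ↘ Spec (CommRingCat.of k)) f t)
    (sq' : IsPullback j' (X ↘ Spec (CommRingCat.of k)) f t') (ht : t (IsLocalRing.closedPoint k) ∈ V)
    (ht' : t' (IsLocalRing.closedPoint k) ∈ V) :
    Curv2.euler k X ((Scheme.Modules.pullback j).obj H) = Curv2.euler k X ((Scheme.Modules.pullback j').obj H) := by
  haveI : IsNoetherianRing Γ(T, V) := IsLocallyNoetherian.component_noetherian ⟨V, hV⟩
  haveI : Nonempty V := hne.to_subtype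
  haveI : IsProper (fV f hV) := by rw [fV]; infer_instance
  haveI : IsLocallyNoetherian P := LocallyOfFiniteType.isLocallyNoetherian f
  have hc : Coh.IsCoh H := Groth.L16.NegPow.isCoh_of_isFinLocFree hH
  haveI : Coh.IsQCoh (FV f (V := V) H) := (isCoh_FV (V := V) f hc).1
  obtain ⟨m⟩ := nonempty_model' f hV hH
  obtain ⟨e, he⟩ := Groth.L03.ShStab.EulerConst.exists_euler_eq m
  have main : ∀ {j : X ⟶ P} {t : Spec (CommRingCat.of k) ⟶ T}, IsPullback j (X ↘ Spec (CommRingCat.of k)) f t →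
      t (IsLocalRing.closedPoint k) ∈ V → Curv2.euler k X ((Scheme.Modules.pullback j).obj H) = e := by
    intro j t sq ht
    obtain ⟨a, g, -, hg, sqg, -⟩ := exists_square f hV sq ht
    letI : Algebra Γ(T, V) k := a.hom.toAlgebra
    rw [← he k X g sqg]
    exact Groth.L21.RR.euler_congr k (((Scheme.Modules.pullback g).mapIso
      ((Scheme.Modules.restrictFunctorIsoPullback _).app H) ≪≫
        (Scheme.Modules.pullbackComp g (f ⁻¹ᵁ V).ι).app H ≪≫ (Scheme.Modules.pullbackCongr hg).app H).symm)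
  rw [main sq ht, main sq' ht']

include hV hne in
/-- A homomorphism in the limit. -/
theorem exists_hom_limit {E E' : P.Modules} (hE : FlatMod.IsFinLocFree E) (hE' : FlatMod.IsFinLocFree E')
    {j₀ : X ⟶ P} {t₀ : Spec (CommRingCat.of k) ⟶ T} (sq₀ : IsPullback j₀ (X ↘ Spec (CommRingCat.of k)) f t₀)
    (ht₀ : t₀ (IsLocalRing.closedPoint k) ∈ V) (D : Set T) (hDV : D ⊆ V) (hD : genericPoint T ∈ closure D)
    (hfib : ∀ d ∈ D, ∃ (t : Spec (CommRingCat.of k) ⟶ T) (j : X ⟶ P), t (IsLocalRing.closedPoint k) = d ∧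
      IsPullback j (X ↘ Spec (CommRingCat.of k)) f t ∧
      ∃ φ : (Scheme.Modules.pullback j).obj E ⟶ (Scheme.Modules.pullback j).obj E', φ ≠ 0) :
    ∃ φ : (Scheme.Modules.pullback j₀).obj E ⟶ (Scheme.Modules.pullback j₀).obj E', φ ≠ 0 := by
  haveI : IsNoetherianRing Γ(T, V) := IsLocallyNoetherian.component_noetherian ⟨V, hV⟩
  haveI : Nonempty V := hne.to_subtype
  haveI : IsProper (fV f hV) := by rw [fV]; infer_instance
  haveI : IsLocallyNoetherian P := LocallyOfFiniteType.isLocallyNoetherian f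
  let H := homMod E E'
  have hH := isFinLocFree_homMod hE hE'
  haveI : Coh.IsQCoh (FV f (V := V) H) := (isCoh_FV (V := V) f (Groth.L16.NegPow.isCoh_of_isFinLocFree hH)).1
  obtain ⟨m⟩ := nonempty_model' f hV hH
  have key : ∀ {j : X ⟶ P} {t : Spec (CommRingCat.of k) ⟶ T}, IsPullback j (X ↘ Spec (CommRingCat.of k)) f t →
      t (IsLocalRing.closedPoint k) ∈ V → ∃ x : PrimeSpectrum Γ(T, V),
        hV.fromSpec x = t (IsLocalRing.closedPoint k) ∧
          (1 ≤ CohIII.dRank m.L ((-1 : ℤ) + 1) x ↔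
            ∃ φ : (Scheme.Modules.pullback j).obj E ⟶ (Scheme.Modules.pullback j).obj E', φ ≠ 0) := by
    intro j t sq ht
    obtain ⟨a, g, -, hg, sqg, hx⟩ := exists_square f hV sq ht
    letI : Algebra Γ(T, V) k := a.hom.toAlgebra
    refine ⟨PrimeSpectrum.comap (algebraMap Γ(T, V) k) ⊥, hx, ?_⟩
    haveI := isIso_pullHomMap j hE hE'
    let i : (Scheme.Modules.pullback g).obj (FV f (V := V) H) ≅
        homMod ((Scheme.Modules.pullback j).obj E) ((Scheme.Modules.pullback j).obj E') :=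
      ((Scheme.Modules.pullback g).mapIso ((Scheme.Modules.restrictFunctorIsoPullback _).app H) ≪≫
        (Scheme.Modules.pullbackComp g (f ⁻¹ᵁ V).ι).app H ≪≫ (Scheme.Modules.pullbackCongr hg).app H) ≪≫
        asIso (pullHomMap j E E')
    let Θ : Coh.HH X ((Scheme.Modules.pullback g).obj (FV f (V := V) H)) 0 ≃
        ((Scheme.Modules.pullback j).obj E ⟶ (Scheme.Modules.pullback j).obj E') :=
      ((HHequiv i 0).toEquiv.trans (Groth.L21.RR.e0 _).toEquiv).trans (globalEquiv _ _).toEquiv.symm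
    letI : Module k (Coh.HH X ((Scheme.Modules.pullback g).obj (FV f (V := V) H)) 0) :=
      Module.compHom _ (Coh.toGlobal (X ↘ Spec (CommRingCat.of k)))
    haveI := m.finite_fibre (X ↘ Spec (CommRingCat.of k)) g sqg 0
    rw [show ((-1 : ℤ) + 1) = ((0 : ℕ) : ℤ) by norm_num, ← m.finrank_eq_dRank (X ↘ Spec (CommRingCat.of k)) g sqg 0,
      Nat.one_le_iff_ne_zero, ne_eq, Module.finrank_eq_zero_iff_of_free,
      ← not_iff_not, not_not, not_exists]
    constructor
    · intro hs φ hφ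
      haveI := hs
      haveI := Θ.symm.subsingleton
      exact hφ (Subsingleton.elim _ _)
    · intro h
      haveI : Subsingleton ((Scheme.Modules.pullback j).obj E ⟶ (Scheme.Modules.pullback j).obj E') :=
        ⟨fun a b => by rw [not_not.1 (h a), not_not.1 (h b)]⟩
      exact Θ.subsingleton
  obtain ⟨x₀, hx₀, h₀⟩ := key sq₀ ht₀
  refine h₀.1 ?_
  have hcl := isClosed_le_dRank m.L m.finiteFree (-1) 1
  haveI : IsIntegral (Spec Γ(T, V)) := inferInstance
  have hDsub : D ⊆ hV.fromSpec '' {x | 1 ≤ CohIII.dRank m.L ((-1 : ℤ) + 1) x} := by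
    intro d hd
    obtain ⟨t, j, hd', sq, hφ⟩ := hfib d hd
    obtain ⟨x, hx, hiff⟩ := key sq (by rw [hd']; exact hDV hd)
    exact ⟨x, hiff.2 hφ, hx.trans hd'⟩
  have hη : genericPoint T ∈ Set.range hV.fromSpec := by
    rw [hV.range_fromSpec]
    exact ((genericPoint_spec T).mem_open_set_iff V.2).2 ⟨hne.some, trivial, hne.some_mem⟩
  obtain ⟨ξ, hξ⟩ := hη
  have hξmem : ξ ∈ {x | 1 ≤ CohIII.dRank m.L ((-1 : ℤ) + 1) x} := by
    refine hcl.closure_subset ?_
    rw [hV.fromSpec.isOpenEmbedding.isInducing.closure_eq_preimage_closure_image]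
    rw [Set.mem_preimage, hξ]
    exact closure_mono hDsub hD
  refine hcl.closure_subset ((specializes_iff_mem_closure.1 ?_ : x₀ ∈ closure {ξ}) |> fun h =>
    closure_mono (Set.singleton_subset_iff.2 hξmem) h)
  rw [← hV.fromSpec.isOpenEmbedding.isInducing.specializes_iff, hξ]
  exact (genericPoint_spec T).specializes trivial

end Groth.L12.StabLimit
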