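import Groth.Agent.L12.KBun.Wedge
import Groth.Agent.L12.KBun.Split
import Groth.Agent.L26.AV.InterPic
import Groth.Agent.L22.ExtSh.GenRank
import Groth.Agent.L29.K.Sub
import Groth.Agent.L08.Lambda.Gamma

/-!
# The determinant on `K` of a connected scheme, and `K = ℤ ⊕ Pic` when `F² = 0`
-/

set_option autoImplicit false
set_option maxHeartbeats 400000
set_option linter.style.haveILetI false
set_option linter.unusedSectionVars false
set_option backward.isDefEq.respectTransparency false
set_option backward.isDefEq.respectTransparency.types false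

universe v u

open CategoryTheory CategoryTheory.Limits AlgebraicGeometry LambdaRing

noncomputable section

namespace Groth.L12.KDetLine

open Groth.L12.ExtSh (wedgeMod filMod isExtPow_wedgeMod)
open Groth.L12.KBun (exists_piece isZero_tensor_left isZero_tensor_right)

variable {X : Scheme.{u}}

theorem isZero_wedge {E : X.Modules} [Coh.IsQCoh E] {r i : ℕ} (hE : FlatMod.IsFinLocFreeOfRank r E) (h : r < i) :
    IsZero (wedgeMod E i) := by
  have hL := Groth.L12.ExtSh.isFinLocFreeOfRank_of_isExtPow hE (isExtPow_wedgeMod E i)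
  rw [Nat.choose_eq_zero_of_lt h] at hL
  exact Groth.L12.Kvb.isZero_of_rank_zero hL

theorem isInvertible_wedge {E : X.Modules} [Coh.IsQCoh E] {r : ℕ} (hE : FlatMod.IsFinLocFreeOfRank r E) :
    PicF.IsInvertible (wedgeMod E r) := by
  have hL := Groth.L12.ExtSh.isFinLocFreeOfRank_of_isExtPow hE (isExtPow_wedgeMod E r)
  rw [Nat.choose_self] at hL
  exact Groth.L22.GenRank.isInvertible_of_rank_one hL

/-- The top exterior power of an extension. -/
theorem nonempty_wedge_top_iso {S : ShortComplex X.Modules} [Coh.IsQCoh S.X₁] [Coh.IsQCoh S.X₂]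
    [Coh.IsQCoh S.X₃] (hS : S.ShortExact) {p q : ℕ}
    (h₁ : FlatMod.IsFinLocFreeOfRank p S.X₁) (h₃ : FlatMod.IsFinLocFreeOfRank q S.X₃)
    (h₂ : FlatMod.IsFinLocFree S.X₂) :
    Nonempty (wedgeMod S.X₂ (p + q) ≅ CohB1.tensorMod (wedgeMod S.X₁ p) (wedgeMod S.X₃ q)) := by
  have f₁ := Groth.L18.KRRAmple.isFinLocFree_of_rank h₁
  have f₃ := Groth.L18.KRRAmple.isFinLocFree_of_rank h₃
  have step : ∀ i, i ≤ p + q → ∃ (a : filMod S (p + q) (i + 1) ⟶ filMod S (p + q) i)
      (b : filMod S (p + q) i ⟶ CohB1.tensorMod (wedgeMod S.X₁ i) (wedgeMod S.X₃ (p + q - i)))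
      (w : a ≫ b = 0), (ShortComplex.mk a b w).ShortExact := fun i hi =>
    exists_piece hS f₁ f₃ (isExtPow_wedgeMod S.X₁ i) (isExtPow_wedgeMod S.X₃ (p + q - i)) (by omega)
  have high : IsZero (filMod S (p + q) (p + 1)) := by
    suffices ∀ j, ∀ i, p + 1 ≤ i → p + q + 1 ≤ i + j → IsZero (filMod S (p + q) i) from
      this (p + q + 1) (p + 1) le_rfl (by omega)
    intro j
    induction j with
    | zero => exact fun i _ hi => Groth.L12.ExtSh.isZero_filMod S (by omega)
    | succ j ih =>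
      intro i hpi hij
      by_cases h : p + q < i
      · exact Groth.L12.ExtSh.isZero_filMod S h
      · obtain ⟨a, b, w, hT⟩ := step i (not_lt.1 h)
        haveI : IsIso a := hT.isIso_f_iff.2 (isZero_tensor_left (isZero_wedge h₁ (by omega)) _)
        exact (ih (i + 1) (by omega) (by omega)).of_iso (asIso a).symm
  obtain ⟨a, b, w, hT⟩ := step p (by omega)
  haveI : IsIso b := hT.isIso_g_iff.2 high
  have low : ∀ i, i ≤ p → Nonempty (filMod S (p + q) i ≅ filMod S (p + q) 0) := fun i hi => by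
    induction i with
    | zero => exact ⟨Iso.refl _⟩
    | succ i ih =>
      obtain ⟨e⟩ := ih (by omega)
      obtain ⟨a', b', w', hT'⟩ := step i (by omega)
      haveI : IsIso a' := hT'.isIso_f_iff.2 (isZero_tensor_right (isZero_wedge h₃ (by omega)) _)
      exact ⟨asIso a' ≪≫ e⟩
  obtain ⟨e⟩ := low p le_rfl
  obtain ⟨e'⟩ := Groth.L12.ExtSh.nonempty_filMod_zero_iso S (isExtPow_wedgeMod S.X₂ (p + q))
  have hb : Nonempty (filMod S (p + q) p ≅ CohB1.tensorMod (wedgeMod S.X₁ p) (wedgeMod S.X₃ q)) := by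
    have := asIso b
    rw [Nat.add_sub_cancel_left] at this
    exact ⟨this⟩
  obtain ⟨e''⟩ := hb
  exact ⟨(e ≪≫ e').symm ≪≫ e''⟩

theorem isLine_rank_one {Y : Scheme.{u}} {K : Type v} [CommRing K] [LambdaOps K] {P : PosStructure K}
    {φ : SGA6.Kvb Y →+ K} (hK : _root_.KRR.IsModel Y K P φ) {L : Y.Modules}
    (hL : FlatMod.IsFinLocFreeOfRank 1 L) : P.IsLine (φ (_root_.KRR.cl Y L)) :=
  ⟨(hK.mem_pos_iff _).2 ⟨1, L, le_rfl, hL, rfl⟩, by exact_mod_cast hK.aug_cl 1 _ hL⟩

theorem lam_sum_top {K : Type v} [CommRing K] [LambdaOps K] {P : PosStructure K} {r : ℕ} {u : Fin r → K}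
    (hu : ∀ j, P.IsLine (u j)) : LambdaOps.lam r (∑ j, u j) = ∏ j, u j := by
  have h := Groth.L22.Lambda.lam_sum_lines P (s := Finset.univ.val.map u)
    (fun x hx => by obtain ⟨j, -, rfl⟩ := Multiset.mem_map.1 hx; exact hu j) r
  rw [Finset.esymm_map_val] at h
  refine h.trans ?_
  have hc := Finset.powersetCard_self (Finset.univ : Finset (Fin r))
  rw [Finset.card_univ, Fintype.card_fin] at hc
  rw [hc]
  simp

attribute [local instance] Groth.Agent.AV.InterPic.picLaw

variable [ConnectedSpace X]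

theorem rank_unique' {E : X.Modules} {r s : ℕ} (hr : FlatMod.IsFinLocFreeOfRank r E)
    (hs : FlatMod.IsFinLocFreeOfRank s E) : r = s := by
  obtain ⟨x⟩ := (inferInstance : Nonempty X)
  obtain ⟨U, hU, ⟨i⟩⟩ := hr x
  obtain ⟨V, hV, ⟨j⟩⟩ := hs x
  exact Groth.L18.KRRAmple.rank_unique hU hV i j

/-- The class of the determinant. -/
def detCl (E : X.Modules) : Additive (PicLoc.PicSet X) :=
  open scoped Classical in
  if h : FlatMod.IsFinLocFree E then
    haveI := Groth.L29.DC.PCQCoh.isQCoh_of_isFinLocFree h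
    Additive.ofMul (PicGrp.cls _ (isInvertible_wedge (Groth.L18.KRRAmple.exists_rank h).choose_spec))
  else 0

theorem detCl_eq {E : X.Modules} [Coh.IsQCoh E] {r : ℕ} (hE : FlatMod.IsFinLocFreeOfRank r E) :
    detCl E = Additive.ofMul (PicGrp.cls _ (isInvertible_wedge hE)) := by
  have h := Groth.L18.KRRAmple.isFinLocFree_of_rank hE
  obtain rfl : r = (Groth.L18.KRRAmple.exists_rank h).choose :=
    rank_unique' hE (Groth.L18.KRRAmple.exists_rank h).choose_spec
  rw [detCl, dif_pos h]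

theorem detCl_add (S : ShortComplex X.Modules) (hS : S.ShortExact) (h₁ : FlatMod.IsFinLocFree S.X₁)
    (h₂ : FlatMod.IsFinLocFree S.X₂) (h₃ : FlatMod.IsFinLocFree S.X₃) :
    detCl S.X₂ = detCl S.X₁ + detCl S.X₃ := by
  obtain ⟨p, hp⟩ := Groth.L18.KRRAmple.exists_rank h₁
  obtain ⟨q, hq⟩ := Groth.L18.KRRAmple.exists_rank h₃
  obtain ⟨r, hr⟩ := Groth.L18.KRRAmple.exists_rank h₂
  obtain rfl := Groth.L12.Kvb.rank_middle hS hp hr hq
  haveI := Groth.L29.DC.PCQCoh.isQCoh_of_isFinLocFree h₁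
  haveI := Groth.L29.DC.PCQCoh.isQCoh_of_isFinLocFree h₂
  haveI := Groth.L29.DC.PCQCoh.isQCoh_of_isFinLocFree h₃
  obtain ⟨e⟩ := nonempty_wedge_top_iso hS hp hq h₂
  rw [detCl_eq hp, detCl_eq hq, detCl_eq hr, ← ofMul_mul]
  refine congrArg Additive.ofMul (Subtype.ext ?_)
  rw [PicGrp.cls_mul_cls_val, PicGrp.cls_val]
  exact Quot.sound ⟨e⟩

/-- The determinant `K(X) → Pic(X)`. -/
def detHom (X : Scheme.{u}) [ConnectedSpace X] : SGA6.Kvb X →+ Additive (PicLoc.PicSet X) :=
  Groth.L29.KSub.lift detCl fun S hS h₁ h₂ h₃ => detCl_add S hS h₁ h₂ h₃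

theorem detHom_invertible {L : X.Modules} (hL : PicF.IsInvertible L) :
    detHom X (_root_.KRR.cl X L) = Additive.ofMul (PicGrp.cls L hL) := by
  have h1 := Groth.L18.KRRAmple.isRankOne_of_isInvertible hL
  refine (Groth.L29.KSub.lift_clSub _ _ (Groth.L18.KRRAmple.isFinLocFree_of_rank h1)).trans ?_
  haveI := Groth.L29.DC.PCQCoh.isQCoh_of_isFinLocFree (Groth.L18.KRRAmple.isFinLocFree_of_rank h1)
  rw [detCl_eq h1]
  refine congrArg Additive.ofMul ((PicGrp.cls_eq_cls_iff _ _).2 ?_)
  exact Groth.L12.ExtSh.nonempty_iso_of_isExtPow (isExtPow_wedgeMod L 1) (Groth.L12.Kvb.isExtPow_one L)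

theorem detHom_O : detHom X (_root_.KRR.cl X (Coh.structureModule X)) = 0 := by
  rw [detHom_invertible (PicLoc.isInvertible_structureModule X), PicGrp.cls_structureModule_eq_one]
  rfl

variable [IsNoetherian X]

/-- If `F² K(X) = 0` then every bundle of rank `r` has class `r - 1 + [det]`. -/
theorem cl_eq_rank_add_det {r : ℕ} {E : X.Modules} [Coh.IsQCoh E] (h2 : gammaFiltration (Groth.L12.Kvb.posStructure (X := X)) 2 = ⊥)
    (hE : FlatMod.IsFinLocFreeOfRank r E) :
    Groth.L12.Kvb.toKR X (_root_.KRR.cl X E) =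
      ((r : ℤ) - 1 : ℤ) + Groth.L12.Kvb.toKR X (_root_.KRR.cl X (wedgeMod E r)) := by
  have hK := Groth.L12.Kvb.isModel (X := X)
  obtain ⟨X', _, _, f, K', _, _, P', φ', hK', g, hg, hinj, hfil, L, hL, he⟩ :=
    Groth.L12.KBun.exists_split r X _ _ _ hK E hE
  obtain ⟨Q, hQ⟩ := Groth.L12.KRR.exists_pullHom hK' hK hg
  have hEf := Groth.L18.KRRAmple.isFinLocFree_of_rank hE
  set e := Groth.L12.Kvb.toKR X (_root_.KRR.cl X E)
  set u : Fin r → K' := fun j => φ' (_root_.KRR.cl X' (L j))
  have hu : ∀ j, P'.IsLine (u j) := fun j => isLine_rank_one hK' (hL j)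
  have hlam : g (Groth.L12.Kvb.toKR X (_root_.KRR.cl X (wedgeMod E r))) = ∏ j, u j := by
    rw [← Groth.L12.KBun.lam_cl_eq hK hEf r, Groth.L12.KRR.pull_lam hK' hK hg, he]
    exact lam_sum_top hu
  have h1 : ∀ j, u j - 1 ∈ gammaFiltration P' 1 := fun j => by
    rw [gammaFiltration, if_neg one_ne_zero]
    refine AddSubgroup.subset_closure ⟨[(1, u j - 1)], ?_, by simp, by simp [Groth.L08.Lambda.gamma_one]⟩
    simp [(hu j).2]
  have key : ∀ s : Finset (Fin r), (∏ j ∈ s, u j) - 1 - ∑ j ∈ s, (u j - 1) ∈ gammaFiltration P' 2 ∧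
      (∏ j ∈ s, u j) - 1 ∈ gammaFiltration P' 1 := fun s => by
    induction s using Finset.induction with
    | empty => simp
    | insert a s ha ih =>
      rw [Finset.prod_insert ha, Finset.sum_insert ha]
      have hm := Groth.L08.Lambda.mul_mem_gammaFiltration P' (h1 a) ih.2
      constructor
      · convert add_mem hm ih.1 using 1; ring
      · have h21 := Groth.L08.Lambda.gammaFiltration_antitone P' one_le_two hm
        convert add_mem h21 (add_mem (h1 a) ih.2) using 1; ring
  have h := (key Finset.univ).1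
  have hmem : Groth.L12.Kvb.toKR X (_root_.KRR.cl X (wedgeMod E r)) - 1 - (e - (r : ℤ)) ∈
      gammaFiltration (Groth.L12.Kvb.posStructure (X := X)) 2 := by
    rw [← hfil 2, AddSubgroup.mem_comap, ← hQ, map_sub, map_sub, map_sub, map_one, map_intCast, hQ, hQ, hlam,
      show g e = ∑ j, u j from he]
    simpa [Finset.sum_sub_distrib] using h
  rw [h2, AddSubgroup.mem_bot] at hmem
  push_cast at hmem ⊢
  linear_combination -hmem

/-- `K = ℤ ⊕ Pic` when `F² = 0`. -/
theorem decomposition (h2 : gammaFiltration (Groth.L12.Kvb.posStructure (X := X)) 2 = ⊥) :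
    (∀ a : SGA6.Kvb X, ∃ (n : ℤ) (L : X.Modules), PicF.IsInvertible L ∧
        a = (n - 1) • _root_.KRR.cl X (Coh.structureModule X) + _root_.KRR.cl X L) ∧
      (∀ (n m : ℤ) (L L' : X.Modules), PicF.IsInvertible L → PicF.IsInvertible L' →
        (n - 1) • _root_.KRR.cl X (Coh.structureModule X) + _root_.KRR.cl X L =
          (m - 1) • _root_.KRR.cl X (Coh.structureModule X) + _root_.KRR.cl X L' →
        n = m ∧ Nonempty (L ≅ L')) := by
  have hK := Groth.L12.Kvb.isModel (X := X)
  constructor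
  · let P : SGA6.Kvb X → Prop := fun a => ∃ (n : ℤ) (L : X.Modules), PicF.IsInvertible L ∧
        a = (n - 1) • _root_.KRR.cl X (Coh.structureModule X) + _root_.KRR.cl X L
    intro a
    change P a
    have hO := PicLoc.isInvertible_structureModule X
    have hmk : ∀ (z : ℤ) (L : X.Modules), PicF.IsInvertible L → ∀ a,
        Groth.L12.Kvb.toKR X a = z + Groth.L12.Kvb.toKR X (_root_.KRR.cl X L) → P a := fun z L hL a h => by
      refine ⟨z + 1, L, hL, Groth.L12.Kvb.toKR_bijective.1 ?_⟩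
      rw [map_add, map_zsmul, hK.map_one, h]
      simp
    obtain ⟨x, rfl⟩ := QuotientAddGroup.mk_surjective a
    induction x using FreeAbelianGroup.induction_on with
    | zero =>
      refine hmk (-1) _ hO _ ?_
      simp [hK.map_one]
    | of E =>
      obtain ⟨r, hr⟩ := Groth.L18.KRRAmple.exists_rank E.2
      haveI := Groth.L29.DC.PCQCoh.isQCoh_of_isFinLocFree E.2
      refine hmk ((r : ℤ) - 1) _ (isInvertible_wedge hr) _ ?_
      rw [← Groth.L29.KSub.clSub_of _ E.2]
      exact cl_eq_rank_add_det h2 hr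
    | neg E _ =>
      obtain ⟨r, hr⟩ := Groth.L18.KRRAmple.exists_rank E.2
      haveI := Groth.L29.DC.PCQCoh.isQCoh_of_isFinLocFree E.2
      have hd := isInvertible_wedge hr
      obtain ⟨M, hM, ⟨i⟩⟩ := Groth.L08.Cube.exists_inverse hd
      refine hmk (-(r : ℤ) - 1) M hM _ ?_
      rw [QuotientAddGroup.mk_neg, map_neg, ← Groth.L29.KSub.clSub_of _ E.2]
      have hl1 := fun {N : X.Modules} (hN : PicF.IsInvertible N) => show
          Groth.L12.Kvb.toKR X (_root_.KRR.cl X N) - 1 ∈ gammaFiltration (Groth.L12.Kvb.posStructure (X := X)) 1 by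
        rw [gammaFiltration, if_neg one_ne_zero]
        refine AddSubgroup.subset_closure ⟨[(1, Groth.L12.Kvb.toKR X (_root_.KRR.cl X N) - 1)], ?_, by simp,
          by simp [Groth.L08.Lambda.gamma_one]⟩
        simp [(isLine_rank_one hK (Groth.L18.KRRAmple.isRankOne_of_isInvertible hN)).2]
      have h0 := Groth.L08.Lambda.mul_mem_gammaFiltration _ (hl1 hd) (hl1 hM)
      rw [h2, AddSubgroup.mem_bot] at h0
      have hmul : Groth.L12.Kvb.toKR X (_root_.KRR.cl X (wedgeMod E.1 r)) *
          Groth.L12.Kvb.toKR X (_root_.KRR.cl X M) = 1 := by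
        have hd' := Groth.L16.Existence.isFinLocFree_of_isInvertible hd
        have hM' := Groth.L16.Existence.isFinLocFree_of_isInvertible hM
        rw [Groth.L12.Kvb.toKR_cl_mul hd' hM', Groth.L12.Kvb.cl_iso i (Groth.L29.DC.isFinLocFree_tensor hd' hM'),
          Groth.L12.Kvb.toKR_one]
      have := cl_eq_rank_add_det h2 hr
      push_cast at this ⊢
      linear_combination h0 - hmul - this
    | add x y hx hy =>
      obtain ⟨n, L, hL, e⟩ := hx
      obtain ⟨m, M, hM, e'⟩ := hy
      have hl1 := fun {N : X.Modules} (hN : PicF.IsInvertible N) => show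
          Groth.L12.Kvb.toKR X (_root_.KRR.cl X N) - 1 ∈ gammaFiltration (Groth.L12.Kvb.posStructure (X := X)) 1 by
        rw [gammaFiltration, if_neg one_ne_zero]
        refine AddSubgroup.subset_closure ⟨[(1, Groth.L12.Kvb.toKR X (_root_.KRR.cl X N) - 1)], ?_, by simp,
          by simp [Groth.L08.Lambda.gamma_one]⟩
        simp [(isLine_rank_one hK (Groth.L18.KRRAmple.isRankOne_of_isInvertible hN)).2]
      have h0 := Groth.L08.Lambda.mul_mem_gammaFiltration _ (hl1 hL) (hl1 hM)
      rw [h2, AddSubgroup.mem_bot] at h0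
      have hL' := Groth.L16.Existence.isFinLocFree_of_isInvertible hL
      have hM' := Groth.L16.Existence.isFinLocFree_of_isInvertible hM
      refine hmk (n + m - 1) (CohB1.tensorMod L M) ?_ _ ?_
      · exact Groth.L18.GenLoc.isInvertible_tensor hL hM
      · rw [← Groth.L12.Kvb.toKR_cl_mul hL' hM', QuotientAddGroup.mk_add, e, e', map_add, map_add, map_add,
          map_zsmul, map_zsmul, hK.map_one]
        simp
        linear_combination -h0
  · intro n m L L' hL hL' h
    have hnm : n = m := by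
      have := congrArg (fun a => (Groth.L12.Kvb.posStructure (X := X)).aug (Groth.L12.Kvb.toKR X a)) h
      simpa [hK.map_one, hK.aug_cl 1 _ (Groth.L18.KRRAmple.isRankOne_of_isInvertible hL),
        hK.aug_cl 1 _ (Groth.L18.KRRAmple.isRankOne_of_isInvertible hL')] using this
    subst hnm
    have h' := congrArg (detHom X) (add_left_cancel h)
    rw [detHom_invertible hL, detHom_invertible hL'] at h'
    exact ⟨rfl, (PicGrp.cls_eq_cls_iff hL hL').1 (Additive.ofMul.injective h')⟩

end Groth.L12.KDetLine
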