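import Groth.Agent.L12.CotTLoc
import Groth.Agent.L12.RegLift
import Groth.Agent.L01.Regular
import Groth.Agent.L07.RegSeq
import Groth.Agent.L07.QuasiRegular
import Mathlib.RingTheory.KrullDimension.Regular

/-!
# Complete intersections and `T²`
-/

universe u

open TensorProduct CotT IsLocalRing RingTheory.Sequence

namespace Groth.L12.CotTLib

theorem cm_of_regular (A : Type u) [CommRing A] [IsRegularLocalRing A] : LocCoh.IsCohenMacaulayLocalRing A := by
  haveI := (inferInstance : IsLocalRing A).toNontrivial
  classical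
  obtain ⟨s, hcard, hs⟩ :=
    Submodule.FG.exists_span_finset_card_eq_spanFinrank (IsNoetherian.noetherian (maximalIdeal A))
  have hdim : ringKrullDim A = (s.toList.length : WithBot ℕ∞) := by
    rw [Finset.length_toList, hcard]; exact ((isRegularLocalRing_iff A).1 inferInstance).symm
  have hl : Ideal.ofList s.toList = maximalIdeal A := by
    rw [Ideal.ofList, ← hs]; simp
  have hreg := (Groth.L01.isRegular_of_ofList_eq_maximalIdeal s.toList hl hdim).toIsWeaklyRegular
  refine ⟨(Groth.L04.isCohenMacaulayModule_iff_supportDim_le (R := A) (M := A)).2 ?_⟩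
  rw [Module.supportDim_self_eq_ringKrullDim, hdim, ← WithBot.coe_natCast]
  exact WithBot.coe_le_coe.2 (Groth.L04.length_le_idealDepth hreg fun r hr => by
    rw [← hl]; exact Ideal.subset_span hr)

variable {A B : Type u} [CommRing A] [IsLocalRing A] [IsNoetherianRing A] [CommRing B] [Algebra A B]

theorem weaklyRegular_of_T2 (hs : Function.Surjective (algebraMap A B)) {c : ℕ} (f : Fin c → A)
    (hI : RingHom.ker (algebraMap A B) = Ideal.span (Set.range f)) (hm : ∀ k, f k ∈ maximalIdeal A)
    (hmin : ∀ z : Fin c → A, ∑ k, z k * f k = 0 → ∀ k, z k ∈ maximalIdeal A)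
    (hT : ∀ (M : Type u) [AddCommGroup M] [Module B M], Subsingleton (T2 (canon A B) M)) :
    IsWeaklyRegular A (List.ofFn f) := by
  classical
  let P := quotPres.{u, u, u, 0} hs f hI
  let C : A →+* P.toExtension.Ring := MvPolynomial.C
  have hC : Function.Surjective C := MvPolynomial.C_surjective PEmpty.{u + 1}
  have hCi : Function.Injective C := MvPolynomial.C_injective _ _
  haveI : IsNoetherianRing P.toExtension.Ring := isNoetherianRing_of_surjective A _ C hC
  haveI : Nontrivial B := ⟨⟨0, 1, fun h => by
    have h1 : (1 : A) ∈ RingHom.ker (algebraMap A B) := by rw [RingHom.mem_ker, map_one]; exact h.symm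
    rw [hI] at h1
    exact (maximalIdeal.isMaximal A).ne_top ((Ideal.eq_top_iff_one _).2
      ((Ideal.span_le.2 (Set.range_subset_iff.2 hm)) h1))⟩⟩
  haveI : IsLocalRing B := IsLocalRing.of_surjective' _ hs
  haveI : IsLocalHom (algebraMap A B) := IsLocalHom.of_surjective _ hs
  have hAB : ∀ a : A, algebraMap P.toExtension.Ring B (C a) = algebraMap A B a := fun a =>
    (algebraMap_toExtension P _).trans (MvPolynomial.aeval_C _ a)
  haveI : Module.Finite P.toExtension.Ring (relKer P) := inferInstance
  haveI : Module.Finite B (L2 P) := inferInstance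
  have hjC : ∀ (q : relMod P) (z : Fin c → A), (∀ k, C (z k) = q k) →
      jmap P q = C (∑ k, z k * f k) := fun q z hz => by
    rw [jmap, Finsupp.linearCombination_apply, Finsupp.sum_fintype]
    swap
    · exact fun _ => zero_smul _ _
    rw [map_sum]
    exact Finset.sum_congr rfl fun k _ => by rw [map_mul, hz]; rfl
  -- minimality puts the image of `d₂` inside `m L₁`
  obtain ⟨χ, hχ⟩ := exists_retraction_of_T2 P ((T2_subsingleton_congr (canon A B) P _).1 (hT _))
  have hle : (⊤ : Submodule B (L2 P)) ≤ maximalIdeal B • (⊤ : Submodule B (L2 P)) := by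
    intro x _
    obtain ⟨q, rfl⟩ := relClass_surjective P x
    choose z hz using fun k => hC ((q : relMod P) k)
    have hrel : ∑ k, z k * f k = 0 := hCi (by rw [← hjC _ z hz, map_zero]; exact q.2)
    have h1 : relClass P q = χ ((1 : B) ⊗ₜ (q : relMod P)) := by
      rw [← d2_relClass]; exact (LinearMap.congr_fun hχ _).symm
    rw [h1, ← (L1basis P).sum_repr ((1 : B) ⊗ₜ (q : relMod P)), map_sum]
    refine Submodule.sum_mem _ fun k _ => ?_
    rw [map_smul]
    refine Submodule.smul_mem_smul ?_ trivial
    rw [L1basis, Algebra.TensorProduct.basis_repr_tmul]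
    simp only [Finsupp.smul_apply, Finsupp.basisSingleOne_repr, LinearEquiv.refl_apply, Finsupp.mapRange_apply,
      smul_eq_mul, one_mul]
    rw [← hz, hAB]
    exact map_nonunit (algebraMap A B) _ (hmin z hrel k)
  have hbot : (⊤ : Submodule B (L2 P)) = ⊥ :=
    Submodule.eq_bot_of_le_smul_of_le_jacobson_bot _ _ Module.Finite.fg_top hle
      (IsLocalRing.maximalIdeal_le_jacobson _)
  haveI : Subsingleton (L2 P) := subsingleton_of_forall_eq 0 fun x =>
    (Submodule.mem_bot B).1 (hbot ▸ Submodule.mem_top)
  refine Groth.L07.RegSeq.isWeaklyRegular_of_koszulH1Zero_of_jacobson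
    (fun k => (IsLocalRing.maximalIdeal_le_jacobson _) (hm k)) ?_
  intro z hz
  let q : relMod P := Finsupp.equivFunOnFinite.symm fun k => C (z k)
  have hq : jmap P q = 0 := by
    rw [hjC q z (fun k => rfl)]
    simp only [smul_eq_mul] at hz
    rw [show ∑ k, z k * f k = 0 by simpa [mul_comm] using hz, map_zero]
  have hmem : q ∈ trivRel P :=
    (Submodule.Quotient.mk_eq_zero _).1 ((relClass_eq_zero_iff P ⟨q, hq⟩).1 (Subsingleton.elim _ _))
  have key : ∀ y ∈ trivRel P, ∀ w : Fin c → A, (∀ k, C (w k) = y k) → w ∈ Groth.L07.RegSeq.triv f A := by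
    intro y hy
    induction hy using Submodule.span_induction with
    | mem y hy =>
      obtain ⟨a, b, rfl⟩ := hy
      choose a' ha using fun k => hC (a k)
      choose b' hb using fun k => hC (b k)
      intro w hw
      have hw' : w = ∑ i, ∑ j, (f i • (Pi.single j (a' i * b' j) : Fin c → A) -
          f j • (Pi.single i (a' i * b' j) : Fin c → A)) := by
        funext k
        apply hCi
        rw [hw, Finsupp.sub_apply, Finsupp.smul_apply, Finsupp.smul_apply, smul_eq_mul, smul_eq_mul,
          hjC a a' ha, hjC b b' hb, ← ha, ← hb, ← map_mul, ← map_mul, ← map_sub]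
        congr 1
        simp only [Finset.sum_apply, Pi.sub_apply, Pi.smul_apply, Pi.single_apply, smul_eq_mul, mul_ite, mul_zero,
          Finset.sum_sub_distrib, Finset.sum_ite_eq, Finset.mem_univ, if_true]
        rw [Finset.sum_comm]
        simp only [Finset.sum_ite_eq, Finset.mem_univ, if_true]
        rw [Finset.sum_mul, Finset.sum_mul]
        congr 1 <;> exact Finset.sum_congr rfl fun i _ => by ring
      rw [hw']
      exact Submodule.sum_mem _ fun i _ => Submodule.sum_mem _ fun j _ => Submodule.subset_span ⟨j, i, _, rfl⟩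
    | zero =>
      intro w hw
      have : w = 0 := funext fun k => hCi (by rw [hw, Pi.zero_apply, map_zero]; rfl)
      rw [this]; exact zero_mem _
    | add u v _ _ hu hv =>
      intro w hw
      choose u' hu' using fun k => hC (u k)
      choose v' hv' using fun k => hC (v k)
      have : w = u' + v' := funext fun k => hCi (by rw [hw, Pi.add_apply, map_add, hu', hv']; rfl)
      rw [this]; exact add_mem (hu u' hu') (hv v' hv')
    | smul r u _ hu =>
      intro w hw
      choose u' hu' using fun k => hC (u k)
      obtain ⟨r', rfl⟩ := hC r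
      have : w = r' • u' := funext fun k => hCi (by rw [hw, Pi.smul_apply, smul_eq_mul, map_mul, hu']; rfl)
      rw [this]; exact Submodule.smul_mem _ _ (hu u' hu')
  exact key q hmem z fun k => rfl

theorem minimal_coeff {I : Ideal A} {c : ℕ} (f : Fin c → A) (hI : Ideal.span (Set.range f) = I)
    (hc : I.spanFinrank = c) (z : Fin c → A) (hz : ∑ k, z k * f k = 0) (k : Fin c) : z k ∈ maximalIdeal A := by
  classical
  by_contra hu
  rw [IsLocalRing.mem_maximalIdeal, mem_nonunits_iff, not_not] at hu
  let S : Set A := f '' ((Finset.univ.erase k : Finset (Fin c)) : Set (Fin c))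
  have hmem : f k ∈ Ideal.span S := by
    rw [← Ideal.unit_mul_mem_iff_mem _ hu]
    have h1 : z k * f k = -∑ i ∈ Finset.univ.erase k, z i * f i :=
      eq_neg_of_add_eq_zero_left ((Finset.add_sum_erase _ (fun i => z i * f i) (Finset.mem_univ k)).trans hz)
    rw [h1]
    exact neg_mem (Ideal.sum_mem _ fun i hi => Ideal.mul_mem_left _ _ (Ideal.subset_span ⟨i, hi, rfl⟩))
  have hI' : I = Ideal.span S := by
    rw [← hI]
    refine le_antisymm (Ideal.span_le.2 ?_) (Ideal.span_mono (Set.image_subset_range _ _))
    rintro _ ⟨i, rfl⟩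
    by_cases hi : i = k
    · exact hi ▸ hmem
    · exact Ideal.subset_span ⟨i, Finset.mem_erase.2 ⟨hi, Finset.mem_univ _⟩, rfl⟩
  have h2 : I.spanFinrank ≤ (Finset.univ.erase k).card := by
    rw [hI']
    refine (Submodule.spanFinrank_span_le_ncard_of_finite ((Finset.finite_toSet _).image _)).trans ?_
    refine (Set.ncard_image_le (Finset.finite_toSet _)).trans ?_
    rw [Set.ncard_coe_finset]
  rw [hc, Finset.card_erase_of_mem (Finset.mem_univ k), Finset.card_univ, Fintype.card_fin] at h2
  have := k.pos
  omega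

theorem completeIntersection_iff (k A : Type u) [Field k] [CommRing A] [IsRegularLocalRing A] [Algebra k A]
    (hT : ∀ (N : Type u) [AddCommGroup N] [Module A N],
      Subsingleton (T1 (canon k A) N) ∧ Subsingleton (T2 (canon k A) N))
    (I : Ideal A) (hI : I ≠ ⊤) :
    (∃ rs : List A, Ideal.ofList rs = I ∧ (rs.length : WithBot ℕ∞) + ringKrullDim (A ⧸ I) = ringKrullDim A) ↔
      ∀ (M : Type u) [AddCommGroup M] [Module (A ⧸ I) M], Subsingleton (T2 (canon k (A ⧸ I)) M) := by
  have hiff : ∀ (M : Type u) [AddCommGroup M] [Module (A ⧸ I) M],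
      Subsingleton (T2 (canon k (A ⧸ I)) M) ↔ Subsingleton (T2 (canon A (A ⧸ I)) M) := by
    intro M _ _
    letI : Module A M := Module.compHom M (algebraMap A (A ⧸ I))
    haveI : IsScalarTower A (A ⧸ I) M := IsScalarTower.of_compHom A (A ⧸ I) M
    exact T2_iff_of_T1_T2 k A (A ⧸ I) M (hT M).1 (hT M).2
  have hs : Function.Surjective (algebraMap A (A ⧸ I)) := Ideal.Quotient.mk_surjective
  have hker : RingHom.ker (algebraMap A (A ⧸ I)) = I := Ideal.mk_ker
  constructor
  · rintro ⟨rs, hrs, hdim⟩ M _ _
    rw [hiff M]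
    haveI := cm_of_regular A
    have hreg : IsWeaklyRegular A rs := Groth.L12.RegLift.isWeaklyRegular_of_dim rs
      (fun r hr => IsLocalRing.le_maximalIdeal hI (hrs ▸ Ideal.subset_span hr)) (by rw [hrs, add_comm]; exact hdim)
    refine quotient_regular_vanish hs (fun i : Fin rs.length => rs.get i) ?_
      (Groth.L07.RegSeq.koszulH1Zero_of_isWeaklyRegular ?_) M
    · rw [hker, ← hrs, ← Groth.L07.QReg.ofList_ofFn]
      exact (congrArg Ideal.ofList (List.ofFn_get rs)).symm
    · exact (List.ofFn_get rs).symm ▸ hreg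
  · intro h
    classical
    obtain ⟨s, hcard, hspan⟩ := Submodule.FG.exists_span_finset_card_eq_spanFinrank (IsNoetherian.noetherian I)
    let f : Fin s.card → A := fun i => (s.equivFin.symm i).1
    have hr : Set.range f = (s : Set A) := by
      ext a
      exact ⟨by rintro ⟨i, rfl⟩; exact (s.equivFin.symm i).2, fun ha => ⟨s.equivFin ⟨a, ha⟩, by simp [f]⟩⟩
    have hf : Ideal.span (Set.range f) = I := by rw [hr]; exact hspan
    have hm : ∀ i, f i ∈ maximalIdeal A := fun i =>
      IsLocalRing.le_maximalIdeal hI (hf ▸ Ideal.subset_span ⟨i, rfl⟩)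
    have hw := weaklyRegular_of_T2 hs f (hker.trans hf.symm) hm
      (fun z hz i => minimal_coeff f hf hcard.symm z hz i) fun M _ _ => (hiff M).1 (h M)
    have hl : Ideal.ofList (List.ofFn f) = I := by rw [Groth.L07.QReg.ofList_ofFn, hf]
    refine ⟨List.ofFn f, hl, ?_⟩
    have hreg : IsRegular A (List.ofFn f) := ⟨hw, by rw [hl, smul_eq_mul, Ideal.mul_top]; exact hI.symm⟩
    have := ringKrullDim_add_length_eq_ringKrullDim_of_isRegular (List.ofFn f) hreg
    rw [hl] at this
    rw [add_comm]
    exact this

end Groth.L12.CotTLib
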