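import Groth.Agent.L12.GrLCKGen
import Groth.Agent.L04.LC.Vanish
import Mathlib.RingTheory.Ideal.AssociatedPrime.Finiteness

/-!
# Local cohomology with respect to the irrelevant ideal of a positively graded Noetherian ring
-/

set_option autoImplicit false

universe u

open DirectSum

namespace Groth.L12.GrLCLib

variable {R : Type u} [CommRing R] {𝒜 : ℤ → AddSubgroup R} [GradedRing 𝒜]

/-! ### pieces -/

section Pieces

variable {M : Type u} [AddCommGroup M] [Module R M] {τ : Type u} [SetLike τ M] [AddSubgroupClass τ M]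
  (ℳ : ℤ → τ) [DirectSum.Decomposition ℳ] [SetLike.GradedSMul 𝒜 ℳ]

variable (𝒜) in
/-- Pieces of a Noetherian graded module are Noetherian over the degree zero subring. -/
theorem isNoetherian_comp [IsNoetherian R M] (g : ℤ) : IsNoetherian (GrLC.deg0 𝒜) (GrLC.comp 𝒜 ℳ g) := by
  classical
  let F : Submodule (GrLC.deg0 𝒜) (GrLC.comp 𝒜 ℳ g) → Submodule R M := fun N =>
    Submodule.span R ((GrLC.comp 𝒜 ℳ g).subtype '' (N : Set (GrLC.comp 𝒜 ℳ g)))
  have hF : ∀ N, ∀ x ∈ F N, cp ℳ g x ∈ (GrLC.comp 𝒜 ℳ g).subtype '' (N : Set (GrLC.comp 𝒜 ℳ g)) := by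
    intro N x hx
    suffices H : ∀ c : R, ∀ y ∈ (GrLC.comp 𝒜 ℳ g).subtype '' (N : Set (GrLC.comp 𝒜 ℳ g)),
        cp ℳ g (c • y) ∈ N.map (GrLC.comp 𝒜 ℳ g).subtype by
      change cp ℳ g x ∈ N.map (GrLC.comp 𝒜 ℳ g).subtype
      obtain ⟨l, hl, rfl⟩ := Submodule.mem_span_set.1 hx
      rw [Finsupp.sum, map_sum]
      exact Submodule.sum_mem _ fun y hy => H _ y (hl hy)
    rintro c _ ⟨y, hy, rfl⟩
    rw [cp_smul_mem 𝒜 ℳ c (show ((GrLC.comp 𝒜 ℳ g).subtype y) ∈ ℳ g from y.2), sub_self]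
    exact ⟨(⟨cp 𝒜 0 c, cp_mem 𝒜 0 c⟩ : GrLC.deg0 𝒜) • y, N.smul_mem _ hy, rfl⟩
  have hmono : StrictMono F := fun N N' hlt =>
    lt_of_le_of_ne (Submodule.span_mono (Set.image_mono hlt.le)) fun heq => by
      obtain ⟨y, hy', hy⟩ := SetLike.exists_of_lt hlt
      have hyF : (y : M) ∈ F N := heq ▸ Submodule.subset_span ⟨y, hy', rfl⟩
      obtain ⟨z, hz, hzy⟩ := hF N _ hyF
      rw [cp_same ℳ (show (y : M) ∈ ℳ g from y.2)] at hzy
      exact hy (Subtype.ext hzy ▸ hz)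
  exact isNoetherian_iff'.2 hmono.wellFoundedGT

include 𝒜 in
/-- pieces of a finite module vanish in low degrees -/
theorem exists_bddBelow (hpos : ∀ n : ℤ, n < 0 → 𝒜 n = ⊥) [Module.Finite R M] :
    ∃ lo : ℤ, ∀ g < lo, ∀ x ∈ ℳ g, x = 0 := by
  classical
  obtain ⟨n, deg, x, hx, hspan⟩ := exists_homog_gens ℳ (P := (⊤ : Submodule R M)) (fun _ _ _ => trivial) Module.Finite.fg_top
  obtain ⟨lo, hlo⟩ := (Finset.univ.image deg).bddBelow
  refine ⟨lo, fun g hg z hz => ?_⟩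
  obtain ⟨c, hc⟩ := (Submodule.mem_span_range_iff_exists_fun R).1 (hspan ▸ Submodule.mem_top (x := z))
  rw [← cp_same ℳ hz, ← hc, map_sum]
  refine Finset.sum_eq_zero fun b _ => ?_
  rw [cp_smul_mem 𝒜 ℳ (c b) (hx b)]
  have hb : g - deg b < 0 := by have := hlo (Finset.mem_image_of_mem deg (Finset.mem_univ b)); omega
  have h0 := cp_mem 𝒜 (g - deg b) (c b)
  rw [hpos _ hb, AddSubgroup.mem_bot] at h0
  rw [h0, zero_smul]

end Pieces

section Irrel

variable (a : HomogeneousIdeal 𝒜) (ha : a.toIdeal = Ideal.span (⋃ n ∈ Set.Ioi (0 : ℤ), (𝒜 n : Set R)))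

include ha

lemma mem_irrel_of_pos {n : ℤ} (hn : 0 < n) {x : R} (hx : x ∈ 𝒜 n) : x ∈ a.toIdeal := by
  rw [ha]
  exact Ideal.subset_span (Set.mem_biUnion (Set.mem_Ioi.2 hn) hx)

variable [IsNoetherianRing R]

/-- high pieces of the ring lie in high powers of the irrelevant ideal -/
theorem exists_pow_bound : ∃ E : ℤ, 0 < E ∧ ∀ (t : ℕ) (b : ℤ), (t : ℤ) * E ≤ b → ∀ x ∈ 𝒜 b, x ∈ a.toIdeal ^ t := by
  classical
  obtain ⟨n, deg, c, hc, hspan⟩ := exists_homog_gens 𝒜 (P := (a.toIdeal : Submodule R R)) a.isHomogeneous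
    (IsNoetherian.noetherian _)
  obtain ⟨E, hE⟩ := (insert (1 : ℤ) (Finset.univ.image deg)).bddAbove
  have hE0 : 0 < E := lt_of_lt_of_le one_pos (hE (Finset.mem_insert_self _ _))
  refine ⟨E, hE0, fun t => ?_⟩
  induction t with
  | zero => intro b _ x _; simp
  | succ t ih =>
    intro b hb x hx
    push_cast at hb
    have hb0 : 0 < b := by nlinarith [Int.natCast_nonneg t]
    obtain ⟨s, hs⟩ := (Submodule.mem_span_range_iff_exists_fun R).1
      (hspan ▸ (mem_irrel_of_pos a ha hb0 hx : x ∈ (a.toIdeal : Submodule R R)))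
    rw [← cp_same 𝒜 hx, ← hs, map_sum, pow_succ]
    refine Ideal.sum_mem _ fun j _ => ?_
    rw [cp_smul_mem 𝒜 𝒜 (s j) (hc j)]
    have hj : deg j ≤ E := hE (Finset.mem_insert_of_mem (Finset.mem_image_of_mem deg (Finset.mem_univ j)))
    exact Ideal.mul_mem_mul (ih _ (by linarith) _ (cp_mem 𝒜 _ _))
      (show c j ∈ (a.toIdeal : Submodule R R) from hspan ▸ Submodule.subset_span ⟨j, rfl⟩)

omit [IsNoetherianRing R] ha in
lemma exists_pow_gam' {M : Type u} [AddCommGroup M] [Module R M] [IsNoetherian R M] :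
    ∃ t : ℕ, ∀ z ∈ GrLC.gam a.toIdeal M, ∀ c ∈ a.toIdeal ^ t, c • z = 0 := by
  obtain ⟨s, hs⟩ := (IsNoetherian.noetherian (GrLC.gam a.toIdeal M))
  have : ∀ z ∈ s, ∃ t : ℕ, ∀ c ∈ a.toIdeal ^ t, c • z = 0 := fun z hz =>
    (hs ▸ Submodule.subset_span hz : z ∈ GrLC.gam a.toIdeal M)
  choose! tf htf using this
  refine ⟨s.sup tf, fun z hz c hc => ?_⟩
  rw [← hs] at hz
  refine Submodule.span_induction (fun w hw => ?_) (smul_zero _) (fun a b _ _ ha hb => by rw [smul_add, ha, hb, add_zero])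
    (fun a w _ hw => by rw [smul_comm, hw, smul_zero]) hz
  exact htf w hw c (Ideal.pow_le_pow_right (Finset.le_sup (f := tf) hw) hc)

/-- torsion is bounded above -/
theorem exists_bddAbove_gam {M : Type u} [AddCommGroup M] [Module R M] {τ : Type u} [SetLike τ M]
    [AddSubgroupClass τ M] (ℳ : ℤ → τ) [DirectSum.Decomposition ℳ] [SetLike.GradedSMul 𝒜 ℳ] [Module.Finite R M] :
    ∃ hi : ℤ, ∀ g, hi ≤ g → ∀ z ∈ GrLC.gam a.toIdeal M, z ∈ ℳ g → z = 0 := by
  classical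
  obtain ⟨t, ht⟩ := exists_pow_gam' a (M := M)
  obtain ⟨E, -, hE⟩ := exists_pow_bound a ha
  obtain ⟨n, deg, x, hx, hspan⟩ := exists_homog_gens ℳ (gam_isHomogeneous 𝒜 ℳ a)
    (IsNoetherian.noetherian (GrLC.gam a.toIdeal M))
  obtain ⟨D, hD⟩ := (Finset.univ.image deg).bddAbove
  refine ⟨D + t * E, fun g hg z hzT hz => ?_⟩
  obtain ⟨c, hc⟩ := (Submodule.mem_span_range_iff_exists_fun R).1 (hspan ▸ hzT)
  rw [← cp_same ℳ hz, ← hc, map_sum]
  refine Finset.sum_eq_zero fun b _ => ?_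
  rw [cp_smul_mem 𝒜 ℳ (c b) (hx b)]
  have hb := hD (Finset.mem_image_of_mem deg (Finset.mem_univ b))
  exact ht _ (hspan ▸ Submodule.subset_span ⟨b, rfl⟩) _ (hE t _ (by linarith) _ (cp_mem 𝒜 _ _))

/-- finite graded prime avoidance: a homogeneous nonzerodivisor of positive degree -/
theorem exists_homog_regular_pos {M : Type u} [AddCommGroup M] [Module R M] [Module.Finite R M]
    (h0 : GrLC.gam a.toIdeal M = ⊥) :
    ∃ (e : ℕ) (y : R), 0 < e ∧ y ∈ 𝒜 (e : ℤ) ∧ IsSMulRegular M y := by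
  classical
  let f : Ideal R → Set (ℕ × R) := fun p => {c | c.2 ∈ 𝒜 (c.1 : ℤ) ∧ c.2 ∈ p}
  set A : Finset (Set (ℕ × R)) := (associatedPrimes.finite R M).toFinset.image f with hA
  set T := A.filter fun s => ∀ b ∈ A, s ⊆ b → s = b with hT
  have hX : ∀ p ∈ associatedPrimes R M, ∃ (v : R) (e : ℕ), 0 < e ∧ v ∈ 𝒜 (e : ℤ) ∧ v ∉ p := by
    intro p hp
    by_contra hcon
    push Not at hcon
    obtain ⟨hpp, x, hx⟩ := isAssociatedPrime_iff.1 hp
    have hxg : x ∈ GrLC.gam a.toIdeal M := ⟨1, fun c hc => by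
      have hcp : c ∈ p := by
        rw [pow_one, ha] at hc
        refine Ideal.span_le.2 ?_ hc
        rintro v hv
        obtain ⟨n, hn, hvn⟩ := Set.mem_iUnion₂.1 hv
        rw [Set.mem_Ioi] at hn
        refine hcon v n.toNat (by omega) ?_
        rw [Int.toNat_of_nonneg hn.le]
        exact hvn
      rwa [hx, Submodule.mem_colon_singleton, Submodule.mem_bot] at hcp⟩
    rw [h0, Submodule.mem_bot] at hxg
    refine hpp.ne_top ((Ideal.eq_top_iff_one p).2 ?_)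
    rw [hx, Submodule.mem_colon_singleton, hxg, smul_zero]
    exact zero_mem _
  have hz : ∀ s ∈ T, ∃ (D : ℕ) (z : R) (p : Ideal R), 0 < D ∧ p.IsPrime ∧ f p = s ∧ z ∈ 𝒜 (D : ℤ) ∧
      (D, z) ∉ s ∧ ∀ b ∈ T, b ≠ s → (D, z) ∈ b := by
    intro s hs
    obtain ⟨hsA, hsmax⟩ := Finset.mem_filter.1 hs
    obtain ⟨p, hp, hpa⟩ := Finset.mem_image.1 hsA
    rw [Set.Finite.mem_toFinset] at hp
    obtain ⟨v, ev, hev, hv1, hv⟩ := hX p hp
    have hb : ∀ b ∈ T.erase s, ∃ c : ℕ × R, c ∈ b ∧ c ∉ s := fun b hb => by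
      obtain ⟨hne, hbT⟩ := Finset.mem_erase.1 hb
      obtain ⟨hbA, hbmax⟩ := Finset.mem_filter.1 hbT
      by_contra hcon
      push Not at hcon
      exact hne (hbmax s hsA hcon)
    choose! c hcb hca using hb
    have hcd : ∀ b ∈ T.erase s, (c b).2 ∈ 𝒜 ((c b).1 : ℤ) := fun b hb => by
      have := hcb b hb
      obtain ⟨q, -, rfl⟩ := Finset.mem_image.1 (Finset.mem_filter.1 (Finset.mem_of_mem_erase hb)).1
      exact this.1
    refine ⟨(∑ b ∈ T.erase s, (c b).1) + ev, (∏ b ∈ T.erase s, (c b).2) * v, p, by omega,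
      hp.isPrime, hpa, ?_, ?_, ?_⟩
    · rw [Nat.cast_add, Nat.cast_sum]
      exact SetLike.mul_mem_graded (SetLike.prod_mem_graded 𝒜 _ _ hcd) hv1
    · intro h
      have h2 : (∏ b ∈ T.erase s, (c b).2) * v ∈ p := (hpa.symm.subset h).2
      rcases hp.isPrime.mem_or_mem h2 with h' | h'
      · obtain ⟨b, hb, hb'⟩ := (Ideal.IsPrime.prod_mem_iff (hp := hp.isPrime)).1 h'
        refine hca b hb ?_
        rw [← hpa]
        exact ⟨hcd b hb, hb'⟩
      · exact hv h'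
    · intro b hbT hne
      have hmem := hcb b (Finset.mem_erase.2 ⟨hne, hbT⟩)
      obtain ⟨q, -, rfl⟩ := Finset.mem_image.1 (Finset.mem_filter.1 hbT).1
      refine ⟨?_, Ideal.mul_mem_right _ _ ?_⟩
      · rw [Nat.cast_add, Nat.cast_sum]
        exact SetLike.mul_mem_graded (SetLike.prod_mem_graded 𝒜 _ _ hcd) hv1
      · exact Ideal.mem_of_dvd _ (Finset.dvd_prod_of_mem (fun b => (c b).2) (Finset.mem_erase.2 ⟨hne, hbT⟩)) hmem.2
  choose! D z p hD hpp hpa hz1 hza hzb using hz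
  set e := ∏ s ∈ T, D s with he
  set m := fun s => ∏ b ∈ T.erase s, D b with hm
  have hye1 : (∑ s ∈ T, z s ^ m s) ∈ 𝒜 (e : ℤ) := sum_mem fun s hs => by
    have := SetLike.pow_mem_graded (m s) (hz1 s hs)
    rwa [nsmul_eq_mul, ← Nat.cast_mul, hm, Finset.prod_erase_mul _ _ hs] at this
  refine ⟨e, ∑ s ∈ T, z s ^ m s, Finset.prod_pos hD, hye1, ?_⟩
  rw [isSMulRegular_iff_right_eq_zero_of_smul]
  intro x hx
  by_contra hx0
  have hmem : (∑ s ∈ T, z s ^ m s) ∈ {c : R | ∃ x : M, x ≠ 0 ∧ c • x = 0} := ⟨x, hx0, hx⟩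
  rw [← biUnion_associatedPrimes_eq_zero_divisors R M] at hmem
  obtain ⟨q, hq, hyq⟩ := Set.mem_iUnion₂.1 hmem
  have hqA : f q ∈ A := Finset.mem_image_of_mem f ((Set.Finite.mem_toFinset _).2 hq)
  obtain ⟨s, hs, hsmax⟩ := (A.filter fun b => f q ⊆ b).exists_maximal ⟨f q, Finset.mem_filter.2 ⟨hqA, subset_rfl⟩⟩
  obtain ⟨hsA, hqs⟩ := Finset.mem_filter.1 hs
  have hsT : s ∈ T := Finset.mem_filter.2 ⟨hsA, fun b hb hsb =>
    le_antisymm hsb (hsmax (Finset.mem_filter.2 ⟨hb, hqs.trans hsb⟩) hsb)⟩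
  have hye : ((e, ∑ s ∈ T, z s ^ m s) : ℕ × R) ∈ f q := ⟨hye1, hyq⟩
  have hyp := hqs hye
  rw [← hpa s hsT] at hyp
  have hothers : ∀ b ∈ T.erase s, z b ^ m b ∈ p s := fun b hb => by
    obtain ⟨hne, hbT⟩ := Finset.mem_erase.1 hb
    have := hzb b hbT s hsT (Ne.symm hne)
    rw [← hpa s hsT] at this
    refine Ideal.pow_mem_of_mem _ this.2 _ (Finset.prod_pos fun c hc => hD c (Finset.mem_of_mem_erase hc))
  have hself : z s ^ m s ∈ p s := by
    have := Ideal.sub_mem _ hyp.2 (Ideal.sum_mem _ hothers)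
    rwa [← Finset.add_sum_erase T _ hsT, add_sub_cancel_right] at this
  refine hza s hsT ?_
  have hzp : (D s, z s) ∈ f (p s) := ⟨hz1 s hsT, (hpp s hsT).mem_of_pow_mem _ hself⟩
  rwa [hpa s hsT] at hzp

omit ha in
/-- cohomology vanishes above the number of generators -/
theorem exists_van_above_gens : ∃ N : ℕ, ∀ (M : Type u) [AddCommGroup M] [Module R M] (ℳ : ℤ → AddSubgroup M)
    [DirectSum.Decomposition ℳ] [SetLike.GradedSMul 𝒜 ℳ] (i : ℕ) (g : ℤ), N < i → Van a ℳ i g := by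
  classical
  obtain ⟨s, hs⟩ := (IsNoetherian.noetherian a.toIdeal)
  refine ⟨s.card, fun M _ _ ℳ _ _ i g hi => ?_⟩
  obtain ⟨E⟩ := nonempty_starInjRes 𝒜 ℳ
  obtain ⟨e⟩ := nonempty_H_equiv E a i
  haveI : Subsingleton (LocCoh.H a.toIdeal i M) := by
    have := Groth.L04.LC.cdLE_span_finset s M i hi
    rwa [show Ideal.span (s : Set R) = a.toIdeal from hs] at this
  exact van_of_subsingleton_H a E e.toEquiv.subsingleton g

end Irrel

/-! ### the main induction -/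

section Main

variable {M₁ : Type u} [AddCommGroup M₁] [Module R M₁] {τ₁ : Type u} [SetLike τ₁ M₁] [AddSubgroupClass τ₁ M₁]
  {ℳ₁ : ℤ → τ₁} [DirectSum.Decomposition ℳ₁] [SetLike.GradedSMul 𝒜 ℳ₁]
variable {M₂ : Type u} [AddCommGroup M₂] [Module R M₂] {τ₂ : Type u} [SetLike τ₂ M₂] [AddSubgroupClass τ₂ M₂]
  {ℳ₂ : ℤ → τ₂} [DirectSum.Decomposition ℳ₂] [SetLike.GradedSMul 𝒜 ℳ₂]

/-- a linear map of cohomology, restricted to pieces -/
def compMap {a : HomogeneousIdeal 𝒜} {E₁ : GrLC.StarInjRes 𝒜 ℳ₁} {E₂ : GrLC.StarInjRes 𝒜 ℳ₂} {i j : ℕ} {g g' : ℤ}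
    (F : E₁.H a i →ₗ[R] E₂.H a j) (hF : ∀ x ∈ E₁.Hgr a i g, F x ∈ E₂.Hgr a j g') :
    E₁.Hcomp a i g →ₗ[GrLC.deg0 𝒜] E₂.Hcomp a j g' :=
  (F.restrictScalars (GrLC.deg0 𝒜)).restrict hF

variable [IsNoetherianRing R] (a : HomogeneousIdeal 𝒜)
  (ha : a.toIdeal = Ideal.span (⋃ n ∈ Set.Ioi (0 : ℤ), (𝒜 n : Set R)))

include ha

theorem bound_and_finite : ∀ (i : ℕ) (M : Type u) [AddCommGroup M] [Module R M] (ℳ : ℤ → AddSubgroup M)
    [DirectSum.Decomposition ℳ] [SetLike.GradedSMul 𝒜 ℳ], Module.Finite R M →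
    (∃ r : ℤ, ∀ g, r ≤ g → Van a ℳ i g) ∧
      ∀ (E : GrLC.StarInjRes 𝒜 ℳ) (g : ℤ), IsNoetherian (GrLC.deg0 𝒜) (E.Hcomp a i g) := by
  intro i
  induction i with
  | zero =>
    intro M _ _ ℳ _ _ _
    refine ⟨?_, fun E g => ?_⟩
    · obtain ⟨hi, hhi⟩ := exists_bddAbove_gam a ha ℳ
      exact ⟨hi, fun g hg => (van_zero_iff a).2 (hhi g hg)⟩
    · obtain ⟨e, he⟩ := exists_H0_equiv a E
      haveI := isNoetherian_comp 𝒜 ℳ g
      let S : Submodule (GrLC.deg0 𝒜) (GrLC.comp 𝒜 ℳ g) :=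
        ((GrLC.gam a.toIdeal M).restrictScalars (GrLC.deg0 𝒜)).comap (GrLC.comp 𝒜 ℳ g).subtype
      let F : S →ₗ[GrLC.deg0 𝒜] E.Hcomp a 0 g :=
        { toFun := fun x => ⟨e ⟨x.1.1, x.2⟩, (he g ⟨x.1.1, x.2⟩).1 x.1.2⟩
          map_add' := fun x y => Subtype.ext (map_add e ⟨x.1.1, x.2⟩ ⟨y.1.1, y.2⟩)
          map_smul' := fun c x => Subtype.ext (map_smul e (c : R) ⟨x.1.1, x.2⟩) }
      refine isNoetherian_of_surjective F (LinearMap.range_eq_top.2 fun x => ?_)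
      obtain ⟨m, hm⟩ := e.surjective x.1
      have hmg : (m : M) ∈ ℳ g := (he g m).2 (hm.symm ▸ x.2)
      exact ⟨⟨⟨m.1, hmg⟩, m.2⟩, Subtype.ext hm⟩
  | succ i ih =>
    intro M _ _ ℳ _ _ hMfin
    set T := GrLC.gam a.toIdeal M with hTdef
    let TG := subG 𝒜 ℳ T (gam_isHomogeneous 𝒜 ℳ a)
    let QG := quoG 𝒜 ℳ T (gam_isHomogeneous 𝒜 ℳ a)
    let ι₀ : TG.carrier →ₗ[R] M := T.subtype
    let π₀ : M →ₗ[R] QG.carrier := T.mkQ
    have hι : GrLC.IsGrHom TG.gr ℳ ι₀ := fun g x hx => hx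
    have hπ : GrLC.IsGrHom ℳ QG.gr π₀ := fun g x hx => ⟨x, hx, rfl⟩
    have hex : LinearMap.range ι₀ = LinearMap.ker π₀ := (Submodule.range_subtype _).trans (Submodule.ker_mkQ _).symm
    have hTtop : GrLC.gam a.toIdeal TG.carrier = ⊤ := eq_top_iff.2 fun z _ => by
      obtain ⟨n, hn⟩ := (z : T).2
      exact ⟨n, fun c hc => Subtype.ext (hn c hc)⟩
    obtain ⟨t, ht⟩ := exists_pow_gam' a (M := M)
    have hQ0 : GrLC.gam a.toIdeal QG.carrier = ⊥ := eq_bot_iff.2 fun q hq => by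
      obtain ⟨x, rfl⟩ := Submodule.Quotient.mk_surjective T q
      obtain ⟨n, hn⟩ := hq
      refine (Submodule.mem_bot _).2 ((Submodule.Quotient.mk_eq_zero T).2 ⟨t + n, fun c hc => ?_⟩)
      rw [pow_add] at hc
      induction hc using Submodule.mul_induction_on' with
      | add b _ d _ hb hd => rw [add_smul, hb, hd, add_zero]
      | mem_mul_mem b hb d hd =>
        rw [mul_smul]
        refine ht _ ?_ b hb
        exact (Submodule.Quotient.mk_eq_zero T).1 ((Submodule.Quotient.mk_smul T d x).trans (hn d hd))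
    haveI hQfin : Module.Finite R QG.carrier := inferInstanceAs (Module.Finite R (M ⧸ T))
    obtain ⟨e, y, he, hy, hreg⟩ := exists_homog_regular_pos a ha (M := QG.carrier) hQ0
    let X := shG 𝒜 QG.gr (-(e : ℤ))
    let f : X.carrier →ₗ[R] QG.carrier := (y • LinearMap.id : QG.carrier →ₗ[R] QG.carrier)
    have hfgr : GrLC.IsGrHom X.gr QG.gr f := fun g x hx => by
      change y • (x : QG.carrier) ∈ QG.gr g
      have h := smul_mem' 𝒜 QG.gr hy (show (x : QG.carrier) ∈ QG.gr (g + -(e : ℤ)) from hx)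
      rwa [show (e : ℤ) + (g + -(e : ℤ)) = g from by ring] at h
    let NG := quoG 𝒜 QG.gr (LinearMap.range f) (range_isHomogeneous X.gr QG.gr hfgr)
    let ψ₀ : QG.carrier →ₗ[R] NG.carrier := (LinearMap.range f).mkQ
    have hψ₀ : GrLC.IsGrHom QG.gr NG.gr ψ₀ := fun g x hx => ⟨x, hx, rfl⟩
    haveI hNfin : Module.Finite R NG.carrier := inferInstanceAs (Module.Finite R (QG.carrier ⧸ LinearMap.range f))
    obtain ⟨⟨r, hr⟩, hN⟩ := ih NG.carrier NG.gr hNfin
    obtain ⟨EQ⟩ := nonempty_starInjRes 𝒜 QG.gr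
    obtain ⟨EN⟩ := nonempty_starInjRes 𝒜 NG.gr
    obtain ⟨ψ, hψ⟩ := exists_map EQ EN ψ₀ hψ₀
    have hφ := isMap_smul' EQ (y := y) (d := (e : ℤ)) hy
    obtain ⟨δ, hδ, -, -, hx3, -⟩ := exists_les (shiftRes EQ (-(e : ℤ))) EQ EN a (f := f) hreg
      (Submodule.mkQ_surjective _) (Submodule.ker_mkQ _).symm hfgr hψ₀ hφ hψ
    have hlift : ∀ h, ∀ x ∈ EQ.Hgr a (i + 1) h, y • x = 0 →
        ∃ z ∈ EN.Hgr a i (h + e), unshift EQ (-(e : ℤ)) a (i + 1) (δ i z) = x := by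
      intro h x hx hyx
      set x' := (unshift EQ (-(e : ℤ)) a (i + 1)).symm x with hx'
      have hxx : unshift EQ (-(e : ℤ)) a (i + 1) x' = x := LinearEquiv.apply_symm_apply _ x
      have hmem : x' ∈ (shiftRes EQ (-(e : ℤ))).Hgr a (i + 1) (h + e) := by
        rw [unshift_grHom, hxx, show h + (e : ℤ) + -(e : ℤ) = h from by ring]
        exact hx
      have h0 : hφ.Hmap a (i + 1) x' = 0 := by rw [Hmap_smul' EQ _ hy, hxx]; exact hyx
      obtain ⟨z, hz, hzx⟩ := exists_preimage a _ (hδ i) hmem ((hx3 i x').1 h0)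
      exact ⟨z, hz, by rw [hzx, hxx]⟩
    have hQvan : ∀ g, r - e ≤ g → Van a QG.gr (i + 1) g := by
      intro g hg
      refine van_of_res a EQ ((AddSubgroup.eq_bot_iff_forall _).2 fun x hx => ?_)
      have key : ∀ n : ℕ, ∀ h, r - e ≤ h → ∀ x ∈ EQ.Hgr a (i + 1) h, y ^ n • x = 0 → x = 0 := by
        intro n
        induction n with
        | zero => intro h _ x _ hx; simpa using hx
        | succ n ihn =>
          intro h hh x hx hyx
          rw [pow_succ, mul_smul] at hyx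
          obtain ⟨z, hz, hzx⟩ := hlift h x hx (ihn ((e : ℤ) + h) (by omega) _ (smul_mem_Hgr EQ a (i + 1) hy hx) hyx)
          rw [← hzx, show z = 0 from (AddSubgroup.mem_bot).1 (hr (h + e) (by omega) EN ▸ hz), map_zero, map_zero]
      obtain ⟨n, hn⟩ := isPowerTorsion_H a EQ (i + 1) x
      exact key n g hg x hx (hn _ (Ideal.pow_mem_pow (mem_irrel_of_pos a ha (by omega) hy) n))
    have hQnoeth : ∀ (m : ℕ) (g : ℤ), r - e ≤ g + m → IsNoetherian (GrLC.deg0 𝒜) (EQ.Hcomp a (i + 1) g) := by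
      intro m
      induction m using Nat.strong_induction_on with
      | _ m ihm =>
        intro g hg
        by_cases hge : r - e ≤ g
        · haveI : Subsingleton (EQ.Hcomp a (i + 1) g) := subsingleton_of_forall_eq 0 fun x =>
            Subtype.ext ((AddSubgroup.mem_bot).1 ((van_iff a EQ).1 (hQvan g hge) ▸ (x.2 : x.1 ∈ EQ.Hgr a (i + 1) g)))
          exact isNoetherian_of_finite _ _
        haveI := hN EN (g + e)
        haveI := ihm (m - min m e) (by omega) (g + e) (by omega)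
        let L : EN.H a i →ₗ[R] EQ.H a (i + 1) := (unshift EQ (-(e : ℤ)) a (i + 1)).toLinearMap ∘ₗ δ i
        let f1 : EN.Hcomp a i (g + e) →ₗ[GrLC.deg0 𝒜] EQ.Hcomp a (i + 1) g := compMap L fun z hz => by
          have h := (unshift_grHom EQ (-(e : ℤ)) a (i + 1) (g + e) (δ i z)).1 (hδ i _ z hz)
          rwa [show g + (e : ℤ) + -(e : ℤ) = g from by ring] at h
        let g1 : EQ.Hcomp a (i + 1) g →ₗ[GrLC.deg0 𝒜] EQ.Hcomp a (i + 1) (g + e) :=
          compMap (y • LinearMap.id : EQ.H a (i + 1) →ₗ[R] EQ.H a (i + 1)) fun x hx => by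
            rw [add_comm g (e : ℤ)]
            exact smul_mem_Hgr EQ a (i + 1) hy hx
        refine isNoetherian_of_range_eq_ker f1 g1 (le_antisymm ?_ fun x hx => ?_)
        · rintro _ ⟨z, rfl⟩
          rw [LinearMap.mem_ker]
          refine Subtype.ext ?_
          change y • unshift EQ (-(e : ℤ)) a (i + 1) (δ i z.1) = 0
          rw [← Hmap_smul' EQ a hy]
          exact (hx3 i (δ i z.1)).2 ⟨z.1, rfl⟩
        · obtain ⟨z, hz, hzx⟩ := hlift g x.1 x.2 (congrArg Subtype.val (LinearMap.mem_ker.1 hx))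
          exact ⟨⟨z, hz⟩, Subtype.ext hzx⟩
    refine ⟨⟨r - e, fun g hg => van_mid (ℳ₁ := TG.gr) (ℳ₂ := ℳ) (ℳ₃ := QG.gr) a (f := ι₀) (g := π₀)
      T.injective_subtype (Submodule.mkQ_surjective T) hex hι hπ (van_of_torsion a hTtop (Nat.succ_pos i) g)
      (hQvan g hg)⟩, fun E g => ?_⟩
    obtain ⟨ET⟩ := nonempty_starInjRes 𝒜 TG.gr
    obtain ⟨φ', hφ'⟩ := exists_map ET E ι₀ hι
    obtain ⟨ψ', hψ'⟩ := exists_map E EQ π₀ hπ
    obtain ⟨δ', -, hx1, -, -, -⟩ := exists_les ET E EQ a T.injective_subtype (Submodule.mkQ_surjective T) hex hι hπ hφ' hψ'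
    haveI := hQnoeth (r - e - g).toNat g (by omega)
    refine isNoetherian_of_injective (compMap (hψ'.Hmap a (i + 1)) (hψ'.Hmap_grHom a (i + 1) g)) ?_
    refine (injective_iff_map_eq_zero _).2 fun x hx => Subtype.ext ?_
    obtain ⟨w, hw⟩ := (hx1 (i + 1) x.1).1 (congrArg Subtype.val hx)
    haveI := subsingleton_H_of_torsion ET a hTtop (i + 1) (Nat.succ_pos i)
    rw [← hw, Subsingleton.elim w 0, map_zero]
    rfl

end Main

end Groth.L12.GrLCLib

namespace Groth.L12.GrLCLib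

section Applications

variable {R : Type u} [CommRing R] {𝒜 : ℤ → AddSubgroup R} [GradedRing 𝒜]
variable {M : Type u} [AddCommGroup M] [Module R M] {τ : Type u} [SetLike τ M] [AddSubgroupClass τ M]
  {ℳ : ℤ → τ} [DirectSum.Decomposition ℳ] [SetLike.GradedSMul 𝒜 ℳ] (a : HomogeneousIdeal 𝒜)

lemma hcomp_eq_bot_iff (E : GrLC.StarInjRes 𝒜 ℳ) (i : ℕ) (g : ℤ) : E.Hcomp a i g = ⊥ ↔ Van a ℳ i g := by
  rw [van_iff a E, Submodule.eq_bot_iff, AddSubgroup.eq_bot_iff_forall]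
  rfl

omit [DirectSum.Decomposition ℳ] in
lemma span_mono_pieces {P : ℤ → Prop} {n : ℤ} (h : P n) {x : M} (hx : x ∈ ℳ n) :
    x ∈ Submodule.span R (⋃ (n : ℤ) (_ : P n), (ℳ n : Set M)) :=
  Submodule.subset_span (Set.mem_iUnion₂.2 ⟨n, h, hx⟩)

include 𝒜 in
/-- graded Nakayama: if the pieces outside `P` lie in `aM`, the pieces in `P` generate -/
theorem span_eq_top_of_mem_smul (hpos : ∀ n : ℤ, n < 0 → 𝒜 n = ⊥) (hhom : a.toIdeal = Ideal.span (𝒜 1 : Set R))
    [Module.Finite R M] (P : ℤ → Prop) (h : ∀ n, ¬ P n → ∀ x ∈ ℳ n, x ∈ a.toIdeal • (⊤ : Submodule R M)) :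
    Submodule.span R (⋃ (n : ℤ) (_ : P n), (ℳ n : Set M)) = ⊤ := by
  classical
  set S := Submodule.span R (⋃ (n : ℤ) (_ : P n), (ℳ n : Set M)) with hS
  obtain ⟨lo, hlo⟩ := exists_bddBelow ℳ hpos (M := M)
  have key : ∀ (m : ℕ) (n : ℤ), n < lo + m → ∀ x ∈ ℳ n, x ∈ S := by
    intro m
    induction m with
    | zero =>
      intro n hn x hx
      rw [hlo n (by simpa using hn) x hx]
      exact zero_mem _
    | succ m ih =>
      intro n hn x hx
      by_cases hP : P n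
      · exact span_mono_pieces hP hx
      rw [← cp_same ℳ hx]
      refine Submodule.smul_induction_on (p := fun y => cp ℳ n y ∈ S) (h n hP x hx) ?_ ?_
      · intro c hc y _
        rw [hhom] at hc
        induction hc using Submodule.span_induction generalizing y with
        | mem v hv =>
          rw [cp_smul_hom' 𝒜 ℳ hv]
          exact S.smul_mem _ (ih (n - 1) (by push_cast at hn; omega) _ (cp_mem ℳ _ _))
        | zero => rw [zero_smul, map_zero]; exact zero_mem _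
        | add u v _ _ hu hv => rw [add_smul, map_add]; exact add_mem (hu y (by simp)) (hv y (by simp))
        | smul u v _ hv => rw [smul_eq_mul, mul_comm, mul_smul]; exact hv _ (by simp)
      · intro u v hu hv
        rw [map_add]
        exact add_mem hu hv
  refine eq_top_iff.2 fun x _ => ?_
  obtain ⟨s, hs, -⟩ := exists_sum_cp ℳ x
  rw [← hs]
  exact Submodule.sum_mem _ fun n _ => key (n - lo + 1).toNat n (by omega) _ (cp_mem ℳ n x)

/-- eventually zero modules are torsion -/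
theorem gam_eq_top_of_bddAbove (hhom : a.toIdeal = Ideal.span (𝒜 1 : Set R)) (n₀ : ℤ)
    (h : ∀ n, n₀ ≤ n → ∀ x ∈ ℳ n, x = 0) : GrLC.gam a.toIdeal M = ⊤ := by
  classical
  have key : ∀ (t : ℕ) (g : ℤ), n₀ ≤ g + t → ∀ x ∈ ℳ g, ∀ c ∈ a.toIdeal ^ t, c • x = 0 := by
    intro t
    induction t with
    | zero => intro g hg x hx c _; rw [h g (by simpa using hg) x hx, smul_zero]
    | succ t ih =>
      intro g hg x hx c hc
      rw [pow_succ] at hc
      induction hc using Submodule.mul_induction_on' with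
      | add p _ q _ hp hq => rw [add_smul, hp, hq, add_zero]
      | mem_mul_mem p hp q hq =>
        rw [mul_smul]
        rw [hhom] at hq
        induction hq using Submodule.span_induction with
        | mem w hw => exact ih (1 + g) (by push_cast at hg; omega) _ (smul_mem' 𝒜 ℳ hw hx) p hp
        | zero => rw [zero_smul, smul_zero]
        | add u v _ _ hu hv => rw [add_smul, smul_add, hu, hv, add_zero]
        | smul u v _ hv => rw [smul_eq_mul, mul_smul, smul_comm, hv, smul_zero]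
  refine eq_top_iff.2 fun x _ => ?_
  obtain ⟨s, hs, -⟩ := exists_sum_cp ℳ x
  rw [← hs]
  exact Submodule.sum_mem _ fun g _ => ⟨(n₀ - g).toNat, fun c hc => key _ g (by omega) _ (cp_mem ℳ g x) c hc⟩

end Applications

end Groth.L12.GrLCLib
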