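import Groth.Agent.L12.GrLCInj
import Groth.Agent.L04.LC.Torsion
import Groth.Prelude.Def_Wider
import Mathlib.Algebra.Homology.DerivedCategory.Ext.ExactSequences
import Mathlib.Algebra.Homology.DerivedCategory.Ext.EnoughProjectives
import Mathlib.Algebra.Category.ModuleCat.Projective

/-!
# *injective modules are acyclic for Ext from finite graded modules and for torsion functors
-/

set_option autoImplicit false

universe u

open DirectSum CategoryTheory CategoryTheory.Abelian

namespace Groth.L12.GrLCLib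

variable {ι : Type} [AddCommGroup ι] [DecidableEq ι]
variable {R : Type u} [CommRing R] {σ : Type u} [SetLike σ R] [AddSubgroupClass σ R]
variable (𝒜 : ι → σ) [GradedRing 𝒜]

section HomDecomp

variable {M : Type u} [AddCommGroup M] [Module R M] {τ : Type u} [SetLike τ M] [AddSubgroupClass τ M]
  (ℳ : ι → τ) [DirectSum.Decomposition ℳ] [SetLike.GradedSMul 𝒜 ℳ]
variable {N : Type u} [AddCommGroup N] [Module R N] {τ' : Type u} [SetLike τ' N] [AddSubgroupClass τ' N]
  (𝒩 : ι → τ') [DirectSum.Decomposition 𝒩] [SetLike.GradedSMul 𝒜 𝒩]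

include 𝒜 in
theorem exists_hom_comp (f : M →ₗ[R] N) (d : ι) :
    ∃ fd : M →ₗ[R] N, ∀ g, ∀ x ∈ ℳ g, fd x = cp 𝒩 (g + d) (f x) := by
  classical
  let φ : ∀ g, (asub ℳ g) →+ N := fun g =>
    (cp 𝒩 (g + d)).comp (f.toAddMonoidHom.comp (asub ℳ g).subtype)
  letI : DirectSum.Decomposition (asub ℳ) := (asub_isInternal ℳ).chooseDecomposition
  let F : M →+ N := (DirectSum.toAddMonoid φ).comp (DirectSum.decomposeAddEquiv (asub ℳ)).toAddMonoidHom
  have hF : ∀ g, ∀ x ∈ ℳ g, F x = cp 𝒩 (g + d) (f x) := fun g x hx => by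
    change DirectSum.toAddMonoid φ (DirectSum.decompose (asub ℳ) x) = _
    rw [DirectSum.decompose_of_mem (asub ℳ) (show x ∈ asub ℳ g from hx), DirectSum.toAddMonoid_of]
    rfl
  refine ⟨{ toFun := F, map_add' := map_add F, map_smul' := fun r x => ?_ }, hF⟩
  induction x using induction_on_hom ℳ with
  | h0 => simp
  | hh g y hy =>
    induction r using induction_on_hom 𝒜 with
    | h0 => simp
    | hh a c hc =>
      rw [RingHom.id_apply, hF _ _ (smul_mem' 𝒜 ℳ hc hy), hF _ _ hy, map_smul, add_assoc,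
        cp_smul_hom 𝒜 𝒩 hc]
    | ha a b iha ihb => simp only [RingHom.id_apply] at iha ihb ⊢; rw [add_smul, map_add, iha, ihb, add_smul]
  | ha a b iha ihb => simp only [RingHom.id_apply] at iha ihb ⊢; rw [smul_add, map_add, iha, ihb, map_add, smul_add]

lemma exists_homog_gens {P : Submodule R M} (hP : P.IsHomogeneous ℳ) (hfg : P.FG) :
    ∃ (n : ℕ) (deg : Fin n → ι) (x : Fin n → M), (∀ b, x b ∈ ℳ (deg b)) ∧ Submodule.span R (Set.range x) = P := by
  classical
  obtain ⟨t, ht⟩ := hfg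
  choose s hs _ using fun x => exists_sum_cp ℳ x
  let T : Finset (M × ι) := t.biUnion fun x => (s x).image fun d => (x, d)
  refine ⟨T.card, fun b => (T.equivFin.symm b).1.2, fun b => cp ℳ (T.equivFin.symm b).1.2 (T.equivFin.symm b).1.1,
    fun b => cp_mem ℳ _ _, le_antisymm (Submodule.span_le.2 ?_) ?_⟩
  · rintro _ ⟨b, rfl⟩
    refine hP _ ?_
    obtain ⟨x, hx, hxd⟩ := Finset.mem_biUnion.1 (T.equivFin.symm b).2
    obtain ⟨d, -, hd⟩ := Finset.mem_image.1 hxd
    rw [← hd, ← ht]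
    exact Submodule.subset_span hx
  · rw [← ht]
    refine Submodule.span_le.2 fun x hx => ?_
    rw [SetLike.mem_coe, ← hs x]
    refine Submodule.sum_mem _ fun d hd => Submodule.subset_span
      ⟨T.equivFin ⟨(x, d), Finset.mem_biUnion.2 ⟨x, hx, Finset.mem_image.2 ⟨d, hd, rfl⟩⟩⟩, ?_⟩
    simp only [Equiv.symm_apply_apply]

include 𝒜 in
/-- a map out of a finite graded module is a finite sum of homogeneous maps -/
theorem exists_hom_decomp [Module.Finite R M] (f : M →ₗ[R] N) :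
    ∃ (D : Finset ι) (fd : ι → (M →ₗ[R] N)), (∀ d, GrLC.IsGrHomDeg ℳ 𝒩 (fd d) d) ∧ f = ∑ d ∈ D, fd d := by
  classical
  obtain ⟨n, deg, x, hx, hspan⟩ := exists_homog_gens ℳ (P := (⊤ : Submodule R M)) (fun _ _ _ => trivial) Module.Finite.fg_top
  choose fd hfd using exists_hom_comp 𝒜 ℳ 𝒩 f
  choose s hs hs' using fun y => exists_sum_cp 𝒩 y
  refine ⟨Finset.univ.biUnion fun b => (s (f (x b))).image fun e => e - deg b, fd,
    fun d g m hm => by rw [hfd d g m hm]; exact cp_mem 𝒩 _ _, ?_⟩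
  refine LinearMap.ext_on_range hspan fun b => ?_
  rw [LinearMap.sum_apply, Finset.sum_congr rfl (fun d _ => hfd d _ _ (hx b))]
  conv_lhs => rw [← hs (f (x b))]
  refine Eq.symm ?_
  refine (Finset.sum_subset (s₁ := (s (f (x b))).image fun e => e - deg b) ?_ ?_).symm.trans ?_
  · exact fun d hd => Finset.mem_biUnion.2 ⟨b, Finset.mem_univ b, hd⟩
  · intro d _ hd
    by_contra h
    exact hd (Finset.mem_image.2 ⟨deg b + d, hs' _ _ h, add_sub_cancel_left _ _⟩)
  · rw [Finset.sum_image fun a _ c _ hac => sub_left_inj.1 hac]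
    simp only [add_sub_cancel]

end HomDecomp

section FreeCover

variable {M : Type u} [AddCommGroup M] [Module R M] {τ : Type u} [SetLike τ M] [AddSubgroupClass τ M]
  (ℳ : ι → τ) [DirectSum.Decomposition ℳ] [SetLike.GradedSMul 𝒜 ℳ]

lemma free_isInternal {n : ℕ} (deg : Fin n → ι) :
    DirectSum.IsInternal fun g => AddSubgroup.pi (Set.univ : Set (Fin n)) fun b => asub 𝒜 (g - deg b) := by
  classical
  refine isInternal_of_pr _ (fun g => Pi.addMonoidHom fun b => (cp 𝒜 (g - deg b)).comp (Pi.evalAddMonoidHom (fun _ : Fin n => R) b))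
    (fun g v hv => funext fun b => cp_same 𝒜 (hv b (Set.mem_univ b)))
    (fun g h hgh v hv => funext fun b => cp_ne 𝒜 (hv b (Set.mem_univ b)) fun e => hgh (sub_left_inj.1 e)) fun v => ?_
  rw [← Finset.univ_sum_single v]
  refine sum_mem fun b _ => ?_
  obtain ⟨s, hs, -⟩ := exists_sum_cp 𝒜 (v b)
  rw [← hs, show Pi.single b (∑ g ∈ s, cp 𝒜 g (v b)) = ∑ g ∈ s, (Pi.single b (cp 𝒜 g (v b)) : Fin n → R) from
    map_sum (AddMonoidHom.single (fun _ : Fin n => R) b) _ _]
  refine sum_mem fun g _ => AddSubgroup.mem_iSup_of_mem (g + deg b) fun c _ => ?_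
  rw [Pi.single_apply]
  split_ifs with h
  · subst h
    change cp 𝒜 g (v c) ∈ 𝒜 (g + deg c - deg c)
    rw [add_sub_cancel_right]
    exact cp_mem 𝒜 g _
  · exact zero_mem _

/-- a graded free module -/
noncomputable def freeG {n : ℕ} (deg : Fin n → ι) : GrLC.GMod.{u} 𝒜 :=
  { carrier := Fin n → R
    gr := fun g => AddSubgroup.pi (Set.univ : Set (Fin n)) fun b => asub 𝒜 (g - deg b)
    dec := (free_isInternal 𝒜 deg).chooseDecomposition
    gsmul := ⟨fun {i j c v} hc hv b _ => by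
      change c * v b ∈ 𝒜 (i + j - deg b)
      rw [add_sub_assoc]
      exact SetLike.mul_mem_graded hc (hv b (Set.mem_univ b))⟩ }

include 𝒜 in
theorem exists_free_cover [Module.Finite R M] :
    ∃ (n : ℕ) (deg : Fin n → ι) (g : (freeG 𝒜 deg).carrier →ₗ[R] M), GrLC.IsGrHom (freeG 𝒜 deg).gr ℳ g ∧ Function.Surjective g := by
  classical
  obtain ⟨n, deg, x, hx, hspan⟩ := exists_homog_gens ℳ (P := (⊤ : Submodule R M)) (fun _ _ _ => trivial) Module.Finite.fg_top
  let L : (freeG 𝒜 deg).carrier →ₗ[R] M := Fintype.linearCombination R x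
  refine ⟨n, deg, L, fun g v hv => ?_, ?_⟩
  · change ∑ b, v b • x b ∈ ℳ g
    refine sum_mem fun b _ => ?_
    have := smul_mem' 𝒜 ℳ (show v b ∈ 𝒜 (g - deg b) from hv b (Set.mem_univ b)) (hx b)
    rwa [sub_add_cancel] at this
  · change Function.Surjective (Fintype.linearCombination R x)
    rw [← LinearMap.range_eq_top, Fintype.range_linearCombination, hspan]

end FreeCover

variable {I : Type u} [AddCommGroup I] [Module R I] {τI : Type u} [SetLike τI I] [AddSubgroupClass τI I]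
  {ℐ : ι → τI} [DirectSum.Decomposition ℐ] [SetLike.GradedSMul 𝒜 ℐ]

variable {𝒜} in
/-- Every map from a finite homogeneous submodule into a *injective extends. -/
theorem exists_extend_any (hI : GrLC.IsStarInj 𝒜 ℐ) {X : Type u} [AddCommGroup X] [Module R X] {τ : Type u}
    [SetLike τ X] [AddSubgroupClass τ X] {𝒳 : ι → τ} [DirectSum.Decomposition 𝒳] [SetLike.GradedSMul 𝒜 𝒳]
    {K : Submodule R X} (hK : K.IsHomogeneous 𝒳) (hfg : K.FG) (f : K →ₗ[R] I) :
    ∃ h : X →ₗ[R] I, h ∘ₗ K.subtype = f := by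
  let Kg := subG 𝒜 𝒳 K hK
  haveI : Module.Finite R Kg.carrier := Module.Finite.of_fg hfg
  let f' : Kg.carrier →ₗ[R] I := f
  obtain ⟨D, fd, hfd, hf⟩ := exists_hom_decomp 𝒜 Kg.gr ℐ f'
  let incl : Kg.carrier →ₗ[R] X := K.subtype
  have hincl : GrLC.IsGrHom Kg.gr 𝒳 incl := fun g x hx => hx
  have : ∀ d, ∃ h : X →ₗ[R] I, h ∘ₗ incl = fd d := fun d => by
    let Id := shG 𝒜 ℐ d
    let φ : Kg.carrier →ₗ[R] Id.carrier := fd d
    obtain ⟨h, -, hc⟩ := exists_extend (starInj_shift hI d) incl hincl φ (fun g x hx => hfd d g x hx)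
      (le_trans (le_of_eq (LinearMap.ker_eq_bot.2 K.injective_subtype)) bot_le)
    exact ⟨h, hc⟩
  choose h hc using this
  refine ⟨∑ d ∈ D, h d, ?_⟩
  have key : (∑ d ∈ D, h d) ∘ₗ incl = f' := by
    rw [hf]
    refine LinearMap.ext fun x => ?_
    rw [LinearMap.comp_apply, LinearMap.sum_apply, LinearMap.sum_apply]
    exact Finset.sum_congr rfl fun d _ => LinearMap.congr_fun (hc d) x
  exact key

variable {𝒜} in
theorem subsingleton_ext_of_starInj [IsNoetherianRing R] (hI : GrLC.IsStarInj 𝒜 ℐ) :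
    ∀ (i : ℕ) (M : GrLC.GMod.{u} 𝒜), Module.Finite R M.carrier →
      Subsingleton (Ext.{u} (ModuleCat.of R M.carrier) (ModuleCat.of R I) (i + 1)) := by
  intro i
  induction i with
  | zero =>
    intro M hM
    obtain ⟨n, deg, g, hg, hsurj⟩ := exists_free_cover 𝒜 M.gr
    haveI hN : IsNoetherian R (freeG 𝒜 deg).carrier := inferInstanceAs (IsNoetherian R (Fin n → R))
    haveI hP : CategoryTheory.Projective (ModuleCat.of R (freeG 𝒜 deg).carrier) :=
      (IsProjective.iff_projective _).1 (inferInstanceAs (Module.Projective R (Fin n → R)))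
    have hK : (LinearMap.ker g).IsHomogeneous (freeG 𝒜 deg).gr := ker_isHomogeneous (freeG 𝒜 deg).gr M.gr hg
    have hS := Groth.L04.LC.ses_shortExact (LinearMap.ker g).subtype g (LinearMap.ker g).injective_subtype hsurj g.exact_subtype_ker_map
    refine subsingleton_of_forall_eq 0 fun x => ?_
    obtain ⟨y, rfl⟩ := Ext.contravariant_sequence_exact₃ hS (ModuleCat.of R I) x
      (@Subsingleton.elim _ (Ext.subsingleton_of_projective (ModuleCat.of R (freeG 𝒜 deg).carrier) _ _) _ _) (add_zero 1)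
    obtain ⟨φ, rfl⟩ := (Ext.mk₀_bijective _ _).2 y
    obtain ⟨h, hh⟩ := exists_extend_any (𝒳 := (freeG 𝒜 deg).gr) hI hK (IsNoetherian.noetherian _) φ.hom
    have hφ : φ = ModuleCat.ofHom (LinearMap.ker g).subtype ≫ ModuleCat.ofHom h := ModuleCat.hom_ext hh.symm
    rw [hφ, ← Ext.mk₀_comp_mk₀, hS.extClass_comp_assoc]
  | succ i ih =>
    intro M hM
    obtain ⟨n, deg, g, hg, hsurj⟩ := exists_free_cover 𝒜 M.gr
    haveI hN : IsNoetherian R (freeG 𝒜 deg).carrier := inferInstanceAs (IsNoetherian R (Fin n → R))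
    haveI hP : CategoryTheory.Projective (ModuleCat.of R (freeG 𝒜 deg).carrier) :=
      (IsProjective.iff_projective _).1 (inferInstanceAs (Module.Projective R (Fin n → R)))
    have hK : (LinearMap.ker g).IsHomogeneous (freeG 𝒜 deg).gr := ker_isHomogeneous (freeG 𝒜 deg).gr M.gr hg
    have hS := Groth.L04.LC.ses_shortExact (LinearMap.ker g).subtype g (LinearMap.ker g).injective_subtype hsurj g.exact_subtype_ker_map
    haveI hKs : Subsingleton (Ext.{u} (ModuleCat.of R (LinearMap.ker g)) (ModuleCat.of R I) (i + 1)) :=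
      ih (subG 𝒜 (freeG 𝒜 deg).gr _ hK) (Module.Finite.of_fg (IsNoetherian.noetherian _))
    refine subsingleton_of_forall_eq 0 fun x => ?_
    obtain ⟨y, rfl⟩ := Ext.contravariant_sequence_exact₃ hS (ModuleCat.of R I) x
      (@Subsingleton.elim _ (Ext.subsingleton_of_projective (ModuleCat.of R (freeG 𝒜 deg).carrier) _ _) _ _) (add_comm 1 (i + 1))
    rw [@Subsingleton.elim _ hKs y 0, Ext.comp_zero]

variable {𝒜} in
theorem subsingleton_H_of_starInj [IsNoetherianRing R] (hI : GrLC.IsStarInj 𝒜 ℐ) (a : HomogeneousIdeal 𝒜)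
    (i : ℕ) : Subsingleton (LocCoh.H a.toIdeal (i + 1) I) := by
  refine Groth.L04.LC.subsingleton_H_of_forall a.toIdeal (i + 1) _ fun n => ?_
  have hhom : (a.toIdeal ^ n).IsHomogeneous 𝒜 := by
    induction n with
    | zero => rw [pow_zero, Ideal.one_eq_top]; exact Ideal.IsHomogeneous.top 𝒜
    | succ n ih => rw [pow_succ]; exact ih.mul a.isHomogeneous
  exact subsingleton_ext_of_starInj hI i (quoG 𝒜 𝒜 (a.toIdeal ^ n) hhom) (inferInstanceAs (Module.Finite R (R ⧸ a.toIdeal ^ n)))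

end Groth.L12.GrLCLib
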