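import Groth.Agent.L12.GrLCBase

/-!
# Passing to pieces that are additive subgroups

Most of `GrLC*` is written for `AddSubgroup` families; a grading by any family of pieces gives one.
-/

set_option autoImplicit false

universe u

open DirectSum

namespace Groth.L12.GrLCLib

namespace Asub

variable {ι : Type} [AddCommGroup ι] [DecidableEq ι]
variable {R : Type u} [CommRing R] {σ : Type u} [SetLike σ R] [AddSubgroupClass σ R] {𝒜 : ι → σ} [GradedRing 𝒜]
variable {M : Type u} [AddCommGroup M] [Module R M] {τ : Type u} [SetLike τ M] [AddSubgroupClass τ M] {ℳ : ι → τ}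

scoped instance instGradedMonoid : SetLike.GradedMonoid (asub 𝒜) where
  one_mem := SetLike.one_mem_graded 𝒜
  mul_mem := fun _ _ _ _ ha hb => SetLike.mul_mem_graded (A := 𝒜) ha hb

noncomputable scoped instance instGradedRing : GradedRing (asub 𝒜) :=
  { instGradedMonoid (𝒜 := 𝒜), (asub_isInternal 𝒜).chooseDecomposition with }

noncomputable scoped instance instDecomposition [DirectSum.Decomposition ℳ] : DirectSum.Decomposition (asub ℳ) :=
  (asub_isInternal ℳ).chooseDecomposition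

scoped instance instGradedSMul [SetLike.GradedSMul 𝒜 ℳ] : SetLike.GradedSMul (asub 𝒜) (asub ℳ) :=
  ⟨fun {_ _ _ _} hr hx => SetLike.GradedSMul.smul_mem (A := 𝒜) (B := ℳ) hr hx⟩

/-- a module graded over `𝒜` is graded over `asub 𝒜` -/
@[reducible] noncomputable def up (X : GrLC.GMod.{u} 𝒜) : GrLC.GMod.{u} (asub 𝒜) :=
  { carrier := X.carrier
    gr := X.gr
    gsmul := ⟨fun {_ _ _ _} hr hx => SetLike.GradedSMul.smul_mem (A := 𝒜) (B := X.gr) hr hx⟩ }

/-- a module graded over `asub 𝒜` is graded over `𝒜` -/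
@[reducible] noncomputable def down (X : GrLC.GMod.{u} (asub 𝒜)) : GrLC.GMod.{u} 𝒜 :=
  { carrier := X.carrier
    gr := X.gr
    gsmul := ⟨fun {_ _ _ _} hr hx => SetLike.GradedSMul.smul_mem (A := asub 𝒜) (B := X.gr) hr hx⟩ }

omit [Module R M] in
lemma cp_asub [DirectSum.Decomposition ℳ] (g : ι) (x : M) : cp (asub ℳ) g x = cp ℳ g x :=
  cp_map ℳ (asub ℳ) (AddMonoidHom.id M) (fun _ _ hx => hx) g x

lemma starInj_up [DirectSum.Decomposition ℳ] [SetLike.GradedSMul 𝒜 ℳ] (h : GrLC.IsStarInj 𝒜 ℳ) :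
    GrLC.IsStarInj (asub 𝒜) (asub ℳ) :=
  fun A B f hf hinj g hg => h (down A) (down B) f hf hinj g hg

lemma starInj_up' (X : GrLC.GMod.{u} 𝒜) (h : GrLC.IsStarInj 𝒜 X.gr) : GrLC.IsStarInj (asub 𝒜) (up X).gr :=
  fun A B f hf hinj g hg => h (down A) (down B) f hf hinj g hg

lemma isHomogeneous_up {I : Submodule R M} [DirectSum.Decomposition ℳ] (h : I.IsHomogeneous ℳ) :
    I.IsHomogeneous (asub ℳ) := fun i x hx => by
  change cp (asub ℳ) i x ∈ I
  rw [cp_asub]
  exact h i hx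

lemma isHomogeneous_down {I : Submodule R M} [DirectSum.Decomposition ℳ] (h : I.IsHomogeneous (asub ℳ)) :
    I.IsHomogeneous ℳ := fun i x hx => by
  change cp ℳ i x ∈ I
  rw [← cp_asub]
  exact h i hx

/-- homogeneous ideals do not see the type of pieces -/
noncomputable def hid (a : HomogeneousIdeal 𝒜) : HomogeneousIdeal (asub 𝒜) :=
  ⟨a.toIdeal, fun i x hx => by
    change cp (asub 𝒜) i x ∈ a.toIdeal
    rw [cp_asub]
    exact a.isHomogeneous i hx⟩

@[simp] lemma hid_toIdeal (a : HomogeneousIdeal 𝒜) : (hid a).toIdeal = a.toIdeal := rfl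

lemma starLocal_up {a : HomogeneousIdeal 𝒜} (h : GrLC.IsStarLocal 𝒜 a) : GrLC.IsStarLocal (asub 𝒜) (hid a) := by
  let e : HomogeneousIdeal (asub 𝒜) ≃o HomogeneousIdeal 𝒜 :=
    { toFun := fun b => ⟨b.toIdeal, fun i x hx => by
        change cp 𝒜 i x ∈ b.toIdeal
        rw [← cp_asub]
        exact b.isHomogeneous i hx⟩
      invFun := hid
      left_inv := fun b => HomogeneousIdeal.toIdeal_injective rfl
      right_inv := fun b => HomogeneousIdeal.toIdeal_injective rfl
      map_rel_iff' := Iff.rfl }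
  have he : e (hid a) = a := HomogeneousIdeal.toIdeal_injective rfl
  refine ⟨(e.isCoatom_iff _).1 (he.symm ▸ h.1), fun n hn => e.injective ?_⟩
  rw [he]
  exact h.2 _ ((e.isCoatom_iff n).2 hn)

lemma quotGr_up (a : HomogeneousIdeal 𝒜) : GrLC.quotGr (asub 𝒜) (hid a) = GrLC.quotGr 𝒜 a := rfl

lemma starInjHull_up [DirectSum.Decomposition ℳ] [SetLike.GradedSMul 𝒜 ℳ] {a : HomogeneousIdeal 𝒜}
    {e : (R ⧸ a.toIdeal) →ₗ[R] M} (h : GrLC.IsStarInjHull 𝒜 (GrLC.quotGr 𝒜 a) ℳ e) :
    GrLC.IsStarInjHull (asub 𝒜) (GrLC.quotGr (asub 𝒜) (hid a)) (asub ℳ) e :=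
  { injective := h.injective
    grHom := fun g x hx => h.grHom g x hx
    essential := fun P hP hne => h.essential P (isHomogeneous_down hP) hne
    starInj := starInj_up h.starInj }

section Res

variable [DirectSum.Decomposition ℳ] [SetLike.GradedSMul 𝒜 ℳ]

/-- resolutions over `asub 𝒜` -/
@[reducible] noncomputable def res (E : GrLC.StarInjRes 𝒜 ℳ) : GrLC.StarInjRes (asub 𝒜) (asub ℳ) :=
  { X := fun n => up (E.X n)
    d := E.d
    ε := E.ε
    d_grHom := E.d_grHom
    ε_grHom := fun g x hx => E.ε_grHom g x hx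
    ε_injective := E.ε_injective
    exact_zero := E.exact_zero
    exact_succ := E.exact_succ
    starInj := fun n => starInj_up' (E.X n) (E.starInj n) }

lemma res_H (E : GrLC.StarInjRes 𝒜 ℳ) (a : HomogeneousIdeal 𝒜) (i : ℕ) : (res E).H (hid a) i = E.H a i := rfl

lemma res_endDeg {R : Type u} [CommRing R] {σ : Type u} [SetLike σ R] [AddSubgroupClass σ R] {𝒜 : ℤ → σ}
    [GradedRing 𝒜] {M : Type u} [AddCommGroup M] [Module R M] {τ : Type u} [SetLike τ M] [AddSubgroupClass τ M]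
    {ℳ : ℤ → τ} [DirectSum.Decomposition ℳ] [SetLike.GradedSMul 𝒜 ℳ] (E : GrLC.StarInjRes 𝒜 ℳ)
    (a : HomogeneousIdeal 𝒜) (i : ℕ) : GrLC.endDeg ((res E).Hgr (hid a) i) = GrLC.endDeg (E.Hgr a i) := rfl

end Res

end Asub

end Groth.L12.GrLCLib
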