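import Groth.Agent.L12.GrRegSeq

/-!
# The torsion part of a graded module and regularity
-/

set_option autoImplicit false

universe u

open DirectSum Pointwise

namespace Groth.L12.GrSyzLib

variable {k : Type u} [Field k] {r : ℕ}

lemma mm_pow_isHom (n : ℕ) : ((mm k (Fin (r + 1))) ^ n).IsHomogeneous (GrSyz.stdGr k (Fin (r + 1))) := by
  induction n with
  | zero => rw [pow_zero, Ideal.one_eq_top]; exact Ideal.IsHomogeneous.top _
  | succ n ih => rw [pow_succ]; exact ih.mul (GrSyz.irrel (GrSyz.stdGr k (Fin (r + 1)))).isHomogeneous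

section Gamma

variable {M : Type u} [AddCommGroup M] [Module (MvPolynomial (Fin (r + 1)) k) M] [Module k M]
  [IsScalarTower k (MvPolynomial (Fin (r + 1)) k) M]
  (ℳ : ℤ → Submodule k M) [DirectSum.Decomposition ℳ] [SetLike.GradedSMul (GrSyz.stdGr k (Fin (r + 1))) ℳ]

omit [IsScalarTower k (MvPolynomial (Fin (r + 1)) k) M] in
lemma gam_isHom : IsHom ℳ (GrLC.gam (mm k (Fin (r + 1))) M) := by
  intro d x hx
  obtain ⟨n, hn⟩ := hx
  refine ⟨n, fun c hc => ?_⟩
  obtain ⟨T, hT⟩ := exists_sum_prj (GrSyz.stdGr k (Fin (r + 1))) c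
  rw [← hT, Finset.sum_smul]
  refine Finset.sum_eq_zero fun a _ => ?_
  have ha : prj (GrSyz.stdGr k (Fin (r + 1))) a c ∈ mm k (Fin (r + 1)) ^ n := mm_pow_isHom n a hc
  rw [← prj_smul ℳ (GrSyz.stdGr k (Fin (r + 1))) (prj_mem _ a c), hn _ ha, map_zero]

omit [IsScalarTower k (MvPolynomial (Fin (r + 1)) k) M] in
lemma pow_smul_eq_zero (L : Submodule (MvPolynomial (Fin (r + 1)) k) M) (b : ℤ)
    (hb : ∀ d, b < d → ∀ z ∈ L, z ∈ ℳ d → z = 0) :
    ∀ (n : ℕ) (d : ℤ), b - d < n → ∀ z ∈ L, z ∈ ℳ d → ∀ c ∈ mm k (Fin (r + 1)) ^ n, c • z = 0 := by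
  intro n
  induction n with
  | zero =>
    intro d hd z hzL hz c _
    rw [hb d (by simp at hd; omega) z hzL hz, smul_zero]
  | succ n ih =>
    intro d hd z hzL hz c hc
    rw [pow_succ] at hc
    induction hc using Submodule.mul_induction_on' with
    | add p _ q _ hp hq => rw [add_smul, hp, hq, add_zero]
    | mem_mul_mem p hp q hq =>
      rw [mul_smul]
      induction hq using Submodule.span_induction with
      | mem w hw =>
        obtain ⟨e, he, hwe⟩ := hw
        exact ih (e + d) (by push_cast at hd; omega) _ (L.smul_mem w hzL)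
          (smul_mem_add ℳ (GrSyz.stdGr k (Fin (r + 1))) hwe hz) p hp
      | zero => rw [zero_smul, smul_zero]
      | add a a' _ _ ha ha' => rw [add_smul, smul_add, ha, ha', add_zero]
      | smul a w _ hw => rw [smul_eq_mul, mul_smul, smul_comm, hw, smul_zero]

lemma le_gam_of_isFiniteLength (L : Submodule (MvPolynomial (Fin (r + 1)) k) M) (hL : IsHom ℳ L)
    (hfl : IsFiniteLength (MvPolynomial (Fin (r + 1)) k) ↥L) : L ≤ GrLC.gam (mm k (Fin (r + 1))) M := by
  letI := subDec ℳ hL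
  haveI : IsArtinian (MvPolynomial (Fin (r + 1)) k) ↥L := (isFiniteLength_iff_isNoetherian_isArtinian.1 hfl).2
  obtain ⟨b, hb⟩ := bddAbove_of_isArtinian (σ := Fin (r + 1)) (subGr ℳ L)
  intro x hx
  obtain ⟨T, hT⟩ := exists_sum_prj ℳ x
  rw [← hT]
  refine Submodule.sum_mem _ fun d _ => ?_
  refine ⟨(b - d + 1).toNat, fun c hc => pow_smul_eq_zero ℳ L b (fun e he z hzL hz => ?_) _ d (by omega) _
    (hL d x hx) (prj_mem ℳ d x) c hc⟩
  have hmem : (⟨z, hzL⟩ : L) ∈ subGr ℳ L e := hz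
  rw [hb e he, Submodule.mem_bot] at hmem
  exact congrArg Subtype.val hmem

theorem endDeg_H0_le_iff (E : GrLC.StarInjRes (GrSyz.stdGr k (Fin (r + 1))) ℳ) (e : ℤ) :
    GrLC.endDeg (E.Hgr (GrSyz.irrel (GrSyz.stdGr k (Fin (r + 1)))) 0) ≤ ((e : WithTop ℤ) : WithBot (WithTop ℤ)) ↔
      ∀ d, e < d → ∀ z ∈ GrLC.gam (mm k (Fin (r + 1))) M, z ∈ ℳ d → z = 0 := by
  have hiff : ∀ d, E.Hgr (GrSyz.irrel (GrSyz.stdGr k (Fin (r + 1)))) 0 d = ⊥ ↔
      ∀ z ∈ GrLC.gam (mm k (Fin (r + 1))) M, z ∈ ℳ d → z = 0 := by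
    intro d
    constructor
    · intro h z hz hzd
      have hcoc : E.ε z ∈ E.cocyc (GrSyz.irrel (GrSyz.stdGr k (Fin (r + 1)))) 0 := by
        obtain ⟨n, hn⟩ := hz
        refine ⟨⟨n, fun (c : MvPolynomial (Fin (r + 1)) k) hc => (E.ε.map_smul c z).symm.trans (by rw [hn c hc, map_zero])⟩, ?_⟩
        rw [E.exact_zero]; exact LinearMap.mem_range_self _ z
      have hmem : E.toH (GrSyz.irrel (GrSyz.stdGr k (Fin (r + 1)))) 0 ⟨E.ε z, hcoc⟩ ∈
          E.Hgr (GrSyz.irrel (GrSyz.stdGr k (Fin (r + 1)))) 0 d := ⟨⟨E.ε z, hcoc⟩, E.ε_grHom d z hzd, rfl⟩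
      rw [h, AddSubgroup.mem_bot, Submodule.mkQ_apply, Submodule.Quotient.mk_eq_zero] at hmem
      have h2 : E.ε z ∈ (⊥ : Submodule (MvPolynomial (Fin (r + 1)) k) (E.X 0).carrier) := hmem
      rw [Submodule.mem_bot, ← map_zero E.ε] at h2
      exact E.ε_injective h2
    · intro h
      refine (AddSubgroup.eq_bot_iff_forall _).2 ?_
      rintro _ ⟨⟨w, hw1, hw2⟩, hwd, rfl⟩
      rw [SetLike.mem_coe, E.exact_zero] at hw2
      obtain ⟨z, rfl⟩ := hw2
      obtain ⟨T, hT⟩ := exists_sum_prj ℳ z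
      have hzd : z ∈ ℳ d := by
        have hz : ∀ e ∈ T, e ≠ d → prj ℳ e z = 0 := fun e _ hed => by
          refine E.ε_injective ?_
          rw [map_zero]
          have h1 : ∀ m : M, (DirectSum.decompose (E.X 0).gr (E.ε m) e : (E.X 0).carrier) = E.ε (prj ℳ e m) := by
            intro m
            induction m using DirectSum.Decomposition.inductionOn ℳ with
            | zero => simp
            | homogeneous y =>
              rename_i i
              rcases eq_or_ne i e with rfl | hie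
              · rw [DirectSum.decompose_of_mem_same _ (E.ε_grHom i y y.2), prj_same ℳ y.2]
              · rw [DirectSum.decompose_of_mem_ne _ (E.ε_grHom i y y.2) hie, prj_ne ℳ y.2 hie, map_zero]
            | add a b ha hb => simp [ha, hb]
          rw [← h1]
          exact DirectSum.decompose_of_mem_ne _ hwd (Ne.symm hed)
        rw [← hT]
        refine Submodule.sum_mem _ fun e he => ?_
        rcases eq_or_ne e d with rfl | hed
        · exact prj_mem ℳ e z
        · rw [hz e he hed]; exact zero_mem _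
      obtain ⟨n, hn⟩ := hw1
      have hz0 := h z ⟨n, fun c hc => E.ε_injective (by rw [map_smul, map_zero]; exact hn c hc)⟩ hzd
      rw [Submodule.mkQ_apply, Submodule.Quotient.mk_eq_zero]
      change E.ε z ∈ (⊥ : Submodule (MvPolynomial (Fin (r + 1)) k) (E.X 0).carrier)
      rw [hz0, map_zero]
      exact zero_mem _
  constructor
  · intro h d hd
    refine (hiff d).1 ?_
    by_contra hne
    have := (le_iSup₂ (f := fun (n : ℤ) (_ : E.Hgr (GrSyz.irrel (GrSyz.stdGr k (Fin (r + 1)))) 0 n ≠ ⊥) =>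
      ((n : WithTop ℤ) : WithBot (WithTop ℤ))) d hne).trans h
    rw [WithBot.coe_le_coe, WithTop.coe_le_coe] at this
    omega
  · intro h
    refine iSup₂_le fun d hd => ?_
    rw [WithBot.coe_le_coe, WithTop.coe_le_coe]
    by_contra hlt
    exact hd ((hiff d).2 (h d (not_le.1 hlt)))

variable [Module.Finite (MvPolynomial (Fin (r + 1)) k) M]

theorem isRegLE_of_reg_le {e : ℤ}
    (h : GrSyz.reg (GrSyz.stdGr k (Fin (r + 1))) ℳ (mm k (Fin (r + 1))) ≤ ((e : WithTop ℤ) : WithBot (WithTop ℤ))) :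
    GrSyz.IsRegLE (GrSyz.stdGr k (Fin (r + 1))) ℳ (mm k (Fin (r + 1))) e := by
  obtain ⟨G, hG⟩ := exists_minimal_res (σ := Fin (r + 1)) ℳ
  refine ⟨G, hG, fun i b => ?_⟩
  rw [reg_eq_iSup G hG, iSup_le_iff] at h
  have h1 := h i
  have h2 : ((G.deg i b : ℤ) : WithBot ℤ) ≤ G.maxGenDeg i :=
    Finset.le_sup (f := fun b => (G.deg i b : WithBot ℤ)) (Finset.mem_univ b)
  revert h1 h2
  cases G.maxGenDeg i with
  | bot => intro _ h2; exact absurd h2 (WithBot.not_coe_le_bot _)
  | coe t =>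
    intro h1 h2
    rw [WithBot.map_coe, WithBot.coe_le_coe, WithTop.coe_le_coe] at h1
    rw [WithBot.coe_le_coe] at h2
    omega

theorem exists_eventual_polynomial {e : ℤ} (h : GrSyz.IsRegLE (GrSyz.stdGr k (Fin (r + 1))) ℳ (mm k (Fin (r + 1))) e) :
    (∀ d, Module.Finite k ↥(ℳ d)) ∧
      ∃ P : Polynomial ℚ, ∀ d : ℤ, e < d → ((Module.finrank k ↥(ℳ d) : ℤ) : ℚ) = P.eval (d : ℚ) := by
  obtain ⟨G, hG, hlen⟩ := exists_res_hasLengthLE (ℳ := ℳ) (k := k) (σ := Fin (r + 1))
  have hgen := isGenLE_of_isRegLE G hG h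
  obtain ⟨P, hP⟩ := exists_hilbert_polynomial G _ hlen
  refine ⟨fun d => finite_piece G d, P, fun d hd => hP d fun i c => ?_⟩
  have h1 := hgen i c
  have h2 : i ≤ r + 1 := by
    by_contra h'
    have := hlen i (by simpa using not_le.1 h')
    exact absurd c.2 (by omega)
  omega

/-- torsion of a module of regularity at most `e` lives in degrees at most `e` -/
theorem torsion_eq_zero {e : ℤ} (h : GrSyz.IsRegLE (GrSyz.stdGr k (Fin (r + 1))) ℳ (mm k (Fin (r + 1))) e)
    (L : Submodule (MvPolynomial (Fin (r + 1)) k) M) (hL : IsHom ℳ L)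
    (hfl : IsFiniteLength (MvPolynomial (Fin (r + 1)) k) ↥L) :
    ∀ d, e < d → ∀ z ∈ L, z ∈ ℳ d → z = 0 := by
  letI := subDec ℳ hL
  letI := quotDec ℳ hL
  haveI : IsArtinian (MvPolynomial (Fin (r + 1)) k) ↥L := (isFiniteLength_iff_isNoetherian_isArtinian.1 hfl).2
  obtain ⟨b, hb⟩ := bddAbove_of_isArtinian (σ := Fin (r + 1)) (subGr ℳ L)
  by_contra hne
  push Not at hne
  obtain ⟨d1, hd1, z1, hz1, hz1', hz10⟩ := hne
  have hbz : ∀ d, (∃ z ∈ L, z ∈ ℳ d ∧ z ≠ 0) → d ≤ b := fun d ⟨z, hzL, hz, hz0⟩ => by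
    by_contra h'
    have hmem : (⟨z, hzL⟩ : L) ∈ subGr ℳ L d := hz
    rw [hb d (not_le.1 h'), Submodule.mem_bot] at hmem
    exact hz0 (congrArg Subtype.val hmem)
  obtain ⟨h0, ⟨z, hzL, hz, hz0⟩, hmax⟩ := Int.exists_greatest_of_bdd (P := fun d => ∃ z ∈ L, z ∈ ℳ d ∧ z ≠ 0)
    ⟨b, hbz⟩ ⟨d1, z1, hz1, hz1', hz10⟩
  have he0 : e < h0 := lt_of_lt_of_le hd1 (hmax d1 ⟨z1, hz1, hz1', hz10⟩)
  obtain ⟨ℓ, hℓ⟩ := ENat.ne_top_iff_exists.1 (Module.length_ne_top_iff.2 hfl)
  haveI : IsNoetherian (MvPolynomial (Fin (r + 1)) k) M := isNoetherian_of_isNoetherianRing_of_finite _ _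
  have hsub : GrSyz.IsRegLE (GrSyz.stdGr k (Fin (r + 1))) (subGr ℳ L) (mm k (Fin (r + 1))) h0 := by
    refine isRegLE_of_length ℓ ↥L (subGr ℳ L) hℓ.symm h0 fun d hd => eq_bot_iff.2 fun y hy => ?_
    by_contra hy0
    have := hmax d ⟨y.1, y.2, hy, fun h' => hy0 ((Submodule.mem_bot k).2 (Subtype.ext h'))⟩
    omega
  have hq : GrSyz.IsRegLE (GrSyz.stdGr k (Fin (r + 1))) (quotGrM ℳ L) (mm k (Fin (r + 1))) (h0 - 1) :=
    isRegLE_right (ℳ₁ := subGr ℳ L) (ℳ₃ := quotGrM ℳ L) L.subtype L.mkQ L.subtype_injective (Submodule.mkQ_surjective L)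
      (by rw [Submodule.range_subtype, Submodule.ker_mkQ]) (fun d x hx => hx) (fun d x hx => ⟨x, hx, rfl⟩)
      (by rwa [sub_add_cancel]) (isRegLE_mono ℳ (by omega) h)
  obtain ⟨hfinM, P, hP⟩ := exists_eventual_polynomial ℳ h
  obtain ⟨hfinQ, Q, hQ⟩ := exists_eventual_polynomial (quotGrM ℳ L) hq
  have hsplit : ∀ d, Module.finrank k ↥(ℳ d ⊓ L.restrictScalars k) + Module.finrank k ↥(quotGrM ℳ L d) =
      Module.finrank k ↥(ℳ d) := by
    intro d
    haveI := hfinM d
    let q : ↥(ℳ d) →ₗ[k] M ⧸ L := L.mkQ.restrictScalars k ∘ₗ (ℳ d).subtype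
    have hr : LinearMap.range q = quotGrM ℳ L d := by
      rw [quotGrM, LinearMap.range_comp, Submodule.range_subtype]
    let e' : ↥(LinearMap.ker q) ≃ₗ[k] ↥(ℳ d ⊓ L.restrictScalars k) :=
      { toFun := fun v => ⟨v.1.1, v.1.2, (Submodule.Quotient.mk_eq_zero L).1 v.2⟩
        invFun := fun v => ⟨⟨v.1, v.2.1⟩, (Submodule.Quotient.mk_eq_zero L).2 v.2.2⟩
        map_add' := fun _ _ => rfl
        map_smul' := fun _ _ => rfl }
    rw [← hr, ← e'.finrank_eq, add_comm, LinearMap.finrank_range_add_finrank_ker]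
  have hbotgt : ∀ d, h0 < d → ℳ d ⊓ L.restrictScalars k = ⊥ := fun d hd => eq_bot_iff.2 fun y hy => by
    by_contra hy0
    have := hmax d ⟨y, hy.2, hy.1, fun h' => hy0 ((Submodule.mem_bot k).2 h')⟩
    omega
  have hPQ : P = Q := by
    refine Polynomial.eq_of_infinite_eval_eq P Q (Set.Infinite.mono (s := (fun n : ℕ => ((h0 + 1 + n : ℤ) : ℚ)) '' Set.univ) ?_ ?_)
    · rintro _ ⟨n, -, rfl⟩
      have h1 := hP (h0 + 1 + n) (by omega)
      have h2 := hQ (h0 + 1 + n) (by omega)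
      have h3 := hsplit (h0 + 1 + n)
      rw [hbotgt _ (by omega), finrank_bot, zero_add] at h3
      change P.eval _ = Q.eval _
      rw [← h1, ← h2, h3]
    · exact Set.infinite_univ.image fun a _ c _ hac => by
        have : (h0 + 1 + (a : ℤ)) = h0 + 1 + (c : ℤ) := Int.cast_injective hac
        omega
  have h1 := hP h0 he0
  have h2 := hQ h0 (by omega)
  rw [← hPQ, ← h1] at h2
  have h3 := hsplit h0
  have h4 : Module.finrank k ↥(quotGrM ℳ L h0) = Module.finrank k ↥(ℳ h0) := by exact_mod_cast h2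
  haveI := hfinM h0
  haveI : Module.Finite k ↥(ℳ h0 ⊓ L.restrictScalars k) :=
    Module.Finite.of_injective (Submodule.inclusion inf_le_left) (Submodule.inclusion_injective _)
  have hzero : ℳ h0 ⊓ L.restrictScalars k = ⊥ := Submodule.finrank_eq_zero.1 (by omega)
  exact hz0 ((Submodule.mem_bot k).1 (hzero ▸ Submodule.mem_inf.2 ⟨hz, hzL⟩))

theorem isRegLE_iff_of_quasiRegular (x : MvPolynomial (Fin (r + 1)) k) (hx : x ∈ GrSyz.stdGr k (Fin (r + 1)) 1)
    (hq : IsFiniteLength (MvPolynomial (Fin (r + 1)) k) ↥(Submodule.torsionBy (MvPolynomial (Fin (r + 1)) k) M x))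
    {N : Type u} [AddCommGroup N] [Module (MvPolynomial (Fin (r + 1)) k) N] [Module k N]
    [IsScalarTower k (MvPolynomial (Fin (r + 1)) k) N] [Module.Finite (MvPolynomial (Fin (r + 1)) k) N]
    (𝒩 : ℤ → Submodule k N) [DirectSum.Decomposition 𝒩] [SetLike.GradedSMul (GrSyz.stdGr k (Fin (r + 1))) 𝒩]
    (π : M →ₗ[MvPolynomial (Fin (r + 1)) k] N) (hπ : Function.Surjective π) (hπg : GrLC.IsGrHom ℳ 𝒩 π)
    (hker : LinearMap.ker π = LinearMap.range (x • (LinearMap.id : M →ₗ[MvPolynomial (Fin (r + 1)) k] M))) (e : ℤ) :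
    GrSyz.IsRegLE (GrSyz.stdGr k (Fin (r + 1))) ℳ (mm k (Fin (r + 1))) e ↔
      (∀ d, e < d → ∀ z ∈ GrLC.gam (mm k (Fin (r + 1))) M, z ∈ ℳ d → z = 0) ∧
        GrSyz.IsRegLE (GrSyz.stdGr k (Fin (r + 1))) 𝒩 (mm k (Fin (r + 1))) e := by
  haveI : IsNoetherian (MvPolynomial (Fin (r + 1)) k) M := isNoetherian_of_isNoetherianRing_of_finite _ _
  haveI : IsNoetherian (MvPolynomial (Fin (r + 1)) k) N := isNoetherian_of_isNoetherianRing_of_finite _ _
  have hxm : x ∈ mm k (Fin (r + 1)) := mem_mm_iff.2 (constantCoeff_of_mem one_ne_zero hx)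
  set H := GrLC.gam (mm k (Fin (r + 1))) M with hHdef
  have hH : IsHom ℳ H := gam_isHom ℳ
  have htor : IsHom ℳ (Submodule.torsionBy (MvPolynomial (Fin (r + 1)) k) M x) := fun d y hy => by
    rw [Submodule.mem_torsionBy_iff] at hy ⊢
    rw [← prj_smul ℳ (GrSyz.stdGr k (Fin (r + 1))) hx, hy, map_zero]
  have hsub : Submodule.torsionBy (MvPolynomial (Fin (r + 1)) k) M x ≤ H :=
    le_gam_of_isFiniteLength ℳ _ htor hq
  obtain ⟨n, hn⟩ : ∃ n : ℕ, ∀ z ∈ H, x ^ n • z = 0 := by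
    obtain ⟨t, ht⟩ := (IsNoetherian.noetherian H : H.FG)
    have : ∀ z ∈ t, ∃ n : ℕ, x ^ n • z = 0 := fun z hz => by
      obtain ⟨n, hn⟩ := (ht ▸ Submodule.subset_span hz : z ∈ H)
      exact ⟨n, hn _ (Ideal.pow_mem_pow hxm n)⟩
    choose! nf hnf using this
    refine ⟨t.sup nf, fun z hz => ?_⟩
    rw [← ht] at hz
    refine Submodule.span_induction (fun w hw => ?_) (smul_zero _) (fun a b _ _ ha hb => by rw [smul_add, ha, hb, add_zero])
      (fun c w _ hw => by rw [smul_comm, hw, smul_zero]) hz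
    rw [← Nat.sub_add_cancel (Finset.le_sup (f := nf) hw), pow_add, mul_smul, hnf w hw, smul_zero]
  have hHfl : IsFiniteLength (MvPolynomial (Fin (r + 1)) k) ↥H := by
    have hK : ∀ j : ℕ, Module.length (MvPolynomial (Fin (r + 1)) k)
        ↥(Submodule.torsionBy (MvPolynomial (Fin (r + 1)) k) M (x ^ j)) ≠ ⊤ := by
      intro j
      induction j with
      | zero =>
        haveI : Subsingleton ↥(Submodule.torsionBy (MvPolynomial (Fin (r + 1)) k) M (x ^ 0)) :=
          subsingleton_of_forall_eq 0 fun ⟨y, hy⟩ => Subtype.ext (by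
            rw [Submodule.mem_torsionBy_iff, pow_zero, one_smul] at hy; exact hy)
        rw [Module.length_eq_zero]; exact ENat.zero_ne_top
      | succ j ih =>
        have hle : Submodule.torsionBy (MvPolynomial (Fin (r + 1)) k) M (x ^ j) ≤
            Submodule.torsionBy (MvPolynomial (Fin (r + 1)) k) M (x ^ (j + 1)) := fun y hy => by
          rw [Submodule.mem_torsionBy_iff] at hy ⊢
          rw [pow_succ', mul_smul, hy, smul_zero]
        let g : ↥(Submodule.torsionBy (MvPolynomial (Fin (r + 1)) k) M (x ^ (j + 1))) →ₗ[MvPolynomial (Fin (r + 1)) k]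
            ↥(Submodule.torsionBy (MvPolynomial (Fin (r + 1)) k) M x) :=
          LinearMap.codRestrict _ ((x ^ j) • (Submodule.subtype _)) fun y => by
            rw [LinearMap.smul_apply, Submodule.subtype_apply, Submodule.mem_torsionBy_iff, smul_smul, ← pow_succ']
            exact y.2
        have hk : LinearMap.ker g ≤ LinearMap.range (Submodule.inclusion hle) := fun y hy =>
          ⟨⟨y.1, by rw [Submodule.mem_torsionBy_iff]; exact congrArg Subtype.val hy⟩, rfl⟩
        have h1 : Module.length (MvPolynomial (Fin (r + 1)) k) ↥(LinearMap.ker g) ≠ ⊤ := by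
          have hi : Module.length (MvPolynomial (Fin (r + 1)) k) ↥(LinearMap.ker g) ≤
              Module.length (MvPolynomial (Fin (r + 1)) k) ↥(LinearMap.range (Submodule.inclusion hle)) :=
            Module.length_le_of_injective (Submodule.inclusion hk) (Submodule.inclusion_injective hk)
          have hs : Module.length (MvPolynomial (Fin (r + 1)) k) ↥(LinearMap.range (Submodule.inclusion hle)) ≤
              Module.length (MvPolynomial (Fin (r + 1)) k) ↥(Submodule.torsionBy (MvPolynomial (Fin (r + 1)) k) M (x ^ j)) :=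
            Module.length_le_of_surjective (Submodule.inclusion hle).rangeRestrict (LinearMap.surjective_rangeRestrict _)
          exact ne_top_of_le_ne_top ih (hi.trans hs)
        have hex : Function.Exact (LinearMap.ker g).subtype g.rangeRestrict := by
          rw [LinearMap.exact_iff, LinearMap.ker_rangeRestrict, Submodule.range_subtype]
        have hlr : Module.length (MvPolynomial (Fin (r + 1)) k) ↥(LinearMap.range g) ≤
            Module.length (MvPolynomial (Fin (r + 1)) k) ↥(Submodule.torsionBy (MvPolynomial (Fin (r + 1)) k) M x) :=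
          Module.length_le_of_injective (LinearMap.range g).subtype (Submodule.subtype_injective _)
        have hsum : Module.length (MvPolynomial (Fin (r + 1)) k) ↥(Submodule.torsionBy (MvPolynomial (Fin (r + 1)) k) M (x ^ (j + 1))) =
            Module.length (MvPolynomial (Fin (r + 1)) k) ↥(LinearMap.ker g) + Module.length (MvPolynomial (Fin (r + 1)) k) ↥(LinearMap.range g) :=
          Module.length_eq_add_of_exact (LinearMap.ker g).subtype g.rangeRestrict (Submodule.subtype_injective _)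
            g.surjective_rangeRestrict hex
        rw [hsum]
        exact WithTop.add_ne_top.2 ⟨h1, ne_top_of_le_ne_top (Module.length_ne_top_iff.2 hq) hlr⟩
    refine Module.length_ne_top_iff.1 (ne_top_of_le_ne_top (hK n) ?_)
    have hHn : H ≤ Submodule.torsionBy (MvPolynomial (Fin (r + 1)) k) M (x ^ n) := fun z hz => by
      rw [Submodule.mem_torsionBy_iff]; exact hn z hz
    exact Module.length_le_of_injective (Submodule.inclusion hHn) (Submodule.inclusion_injective hHn)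
  letI := subDec ℳ hH
  letI := quotDec ℳ hH
  have hregx : IsSMulRegular (M ⧸ H) x := by
    refine (isSMulRegular_quotient_iff_mem_of_smul_mem H x).2 fun m hm => ?_
    obtain ⟨n1, hn1⟩ := hm
    obtain ⟨t, ht⟩ : ∃ t : ℕ, ∀ z ∈ Submodule.torsionBy (MvPolynomial (Fin (r + 1)) k) M x,
        ∀ c ∈ mm k (Fin (r + 1)) ^ t, c • z = 0 := by
      obtain ⟨s, hs⟩ := (IsNoetherian.noetherian (Submodule.torsionBy (MvPolynomial (Fin (r + 1)) k) M x))
      have : ∀ z ∈ s, ∃ t : ℕ, ∀ c ∈ mm k (Fin (r + 1)) ^ t, c • z = 0 := fun z hz =>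
        hsub (hs ▸ Submodule.subset_span hz)
      choose! tf htf using this
      refine ⟨s.sup tf, fun z hz c hc => ?_⟩
      rw [← hs] at hz
      refine Submodule.span_induction (fun w hw => ?_) (smul_zero _) (fun a b _ _ ha hb => by rw [smul_add, ha, hb, add_zero])
        (fun a w _ hw => by rw [smul_comm, hw, smul_zero]) hz
      exact htf w hw c (Ideal.pow_le_pow_right (Finset.le_sup (f := tf) hw) hc)
    refine ⟨t + n1, fun c hc => ?_⟩
    rw [pow_add] at hc
    induction hc using Submodule.mul_induction_on' with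
    | add p _ q _ hp hq => rw [add_smul, hp, hq, add_zero]
    | mem_mul_mem p hp q hq =>
      rw [mul_smul]
      refine ht _ ?_ p hp
      rw [Submodule.mem_torsionBy_iff, smul_comm]
      exact hn1 q hq
  set K := Submodule.map π H with hKdef
  have hK : IsHom 𝒩 K := by
    rintro d _ ⟨z, hz, rfl⟩
    exact ⟨prj ℳ d z, hH d z hz, (prj_map ℳ 𝒩 π.toAddMonoidHom hπg d z).symm⟩
  letI := subDec 𝒩 hK
  letI := quotDec 𝒩 hK
  obtain ⟨ℓH, hℓH⟩ := ENat.ne_top_iff_exists.1 (Module.length_ne_top_iff.2 hHfl)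
  have hKlen : Module.length (MvPolynomial (Fin (r + 1)) k) ↥K ≠ ⊤ :=
    ne_top_of_le_ne_top (Module.length_ne_top_iff.2 hHfl)
      (Module.length_le_of_surjective (LinearMap.submoduleMap π H) (LinearMap.submoduleMap_surjective π H))
  obtain ⟨ℓK, hℓK⟩ := ENat.ne_top_iff_exists.1 hKlen
  let π' : (M ⧸ H) →ₗ[MvPolynomial (Fin (r + 1)) k] (N ⧸ K) := Submodule.mapQ H K π (Submodule.le_comap_map π H)
  have hiff : ∀ s, (GrSyz.IsRegLE (GrSyz.stdGr k (Fin (r + 1))) (quotGrM ℳ H) (mm k (Fin (r + 1))) s ↔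
      GrSyz.IsRegLE (GrSyz.stdGr k (Fin (r + 1))) (quotGrM 𝒩 K) (mm k (Fin (r + 1))) s) := by
    refine isRegLE_quot_iff [x] (M ⧸ H) (quotGrM ℳ H) (by simpa using hx) ?_ (N ⧸ K) (quotGrM 𝒩 K) π' ?_ ?_ ?_
    · rw [RingTheory.Sequence.isWeaklyRegular_cons_iff]
      exact ⟨hregx, RingTheory.Sequence.IsWeaklyRegular.nil _ _⟩
    · intro y
      obtain ⟨z, rfl⟩ := Submodule.Quotient.mk_surjective K y
      obtain ⟨w, rfl⟩ := hπ z
      exact ⟨Submodule.Quotient.mk w, rfl⟩
    · rintro d _ ⟨y, hy, rfl⟩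
      exact ⟨π y, hπg d y hy, rfl⟩
    · rw [Ideal.ofList_singleton, Submodule.ideal_span_singleton_smul]
      refine le_antisymm (fun y hy => ?_) ?_
      · obtain ⟨z, rfl⟩ := Submodule.Quotient.mk_surjective H y
        obtain ⟨h', hh', hπh⟩ := (Submodule.Quotient.mk_eq_zero K).1 hy
        have : z - h' ∈ LinearMap.ker π := by rw [LinearMap.mem_ker, map_sub, hπh, sub_self]
        rw [hker] at this
        obtain ⟨w, hw⟩ := this
        rw [Submodule.mem_smul_pointwise_iff_exists]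
        refine ⟨Submodule.Quotient.mk w, trivial, ((Submodule.Quotient.eq H).2 ?_)⟩
        change x • w - z ∈ H
        rw [show x • w = z - h' from hw, sub_sub_cancel_left]
        exact neg_mem hh'
      · intro y hy
        obtain ⟨z, -, rfl⟩ := (Submodule.mem_smul_pointwise_iff_exists _ _ _).1 hy
        obtain ⟨w, rfl⟩ := Submodule.Quotient.mk_surjective H z
        rw [LinearMap.mem_ker, ← Submodule.Quotient.mk_smul]
        refine (Submodule.Quotient.mk_eq_zero K).2 ?_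
        rw [show π (x • w) = 0 from LinearMap.mem_ker.1 (hker ▸ ⟨w, rfl⟩)]
        exact zero_mem _
  have hHK : (∀ d, e < d → ∀ z ∈ H, z ∈ ℳ d → z = 0) →
      GrSyz.IsRegLE (GrSyz.stdGr k (Fin (r + 1))) (subGr ℳ H) (mm k (Fin (r + 1))) e ∧
        GrSyz.IsRegLE (GrSyz.stdGr k (Fin (r + 1))) (subGr 𝒩 K) (mm k (Fin (r + 1))) e := fun h => by
    refine ⟨isRegLE_of_length ℓH ↥H (subGr ℳ H) hℓH.symm e fun d hd => eq_bot_iff.2 fun y hy =>
      (Submodule.mem_bot k).2 (Subtype.ext (h d hd y.1 y.2 hy)),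
      isRegLE_of_length ℓK ↥K (subGr 𝒩 K) hℓK.symm e fun d hd => eq_bot_iff.2 ?_⟩
    rintro ⟨_, ⟨z, hz, rfl⟩⟩ hy
    refine (Submodule.mem_bot k).2 (Subtype.ext ?_)
    have h1 : π (prj ℳ d z) = π z := (prj_map ℳ 𝒩 π.toAddMonoidHom hπg d z).symm.trans (prj_same 𝒩 hy)
    change π z = 0
    rw [← h1, h d hd _ (hH d z hz) (prj_mem ℳ d z), map_zero]
  constructor
  · intro h
    have h0 := torsion_eq_zero ℳ h H hH hHfl
    refine ⟨h0, ?_⟩
    have h1 := isRegLE_right (ℳ₁ := subGr ℳ H) (ℳ₃ := quotGrM ℳ H) H.subtype H.mkQ H.subtype_injective (Submodule.mkQ_surjective H)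
      (by rw [Submodule.range_subtype, Submodule.ker_mkQ]) (fun d x hx => hx) (fun d x hx => ⟨x, hx, rfl⟩)
      (isRegLE_mono _ (by omega) (hHK h0).1) h
    exact isRegLE_mid (ℳ₁ := subGr 𝒩 K) (ℳ₃ := quotGrM 𝒩 K) K.subtype K.mkQ K.subtype_injective
      (Submodule.mkQ_surjective K) (by rw [Submodule.range_subtype, Submodule.ker_mkQ]) (fun d x hx => hx)
      (fun d x hx => ⟨x, hx, rfl⟩) (hHK h0).2 ((hiff e).1 h1)
  · rintro ⟨h0, h⟩
    have h1 := isRegLE_right (ℳ₁ := subGr 𝒩 K) (ℳ₃ := quotGrM 𝒩 K) K.subtype K.mkQ K.subtype_injective (Submodule.mkQ_surjective K)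
      (by rw [Submodule.range_subtype, Submodule.ker_mkQ]) (fun d x hx => hx) (fun d x hx => ⟨x, hx, rfl⟩)
      (isRegLE_mono _ (by omega) (hHK h0).2) h
    exact isRegLE_mid (ℳ₁ := subGr ℳ H) (ℳ₃ := quotGrM ℳ H) H.subtype H.mkQ H.subtype_injective
      (Submodule.mkQ_surjective H) (by rw [Submodule.range_subtype, Submodule.ker_mkQ]) (fun d x hx => hx)
      (fun d x hx => ⟨x, hx, rfl⟩) (hHK h0).1 ((hiff e).2 h1)

end Gamma

end Groth.L12.GrSyzLib
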