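import Groth.Agent.L12.GrAB
import Groth.Agent.L12.GrTors
import Mathlib.RingTheory.KrullDimension.Regular
import Mathlib.RingTheory.HopkinsLevitzki

/-!
# Sharpness of the Hilbert function bound for Cohen–Macaulay modules
-/

set_option autoImplicit false

universe u

open DirectSum Pointwise

namespace Groth.L12.GrSyzLib

variable {k : Type u} [Field k] {n : ℕ}

lemma isFiniteLength_of_supportDim_le_zero {A : Type u} [CommRing A] [IsNoetherianRing A] {M : Type u}
    [AddCommGroup M] [Module A M] [Module.Finite A M] (h : Module.supportDim A M ≤ 0) : IsFiniteLength A M := by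
  rw [Module.supportDim_eq_ringKrullDim_quotient_annihilator] at h
  haveI : IsArtinianRing (A ⧸ Module.annihilator A M) :=
    isArtinianRing_iff_krullDimLE_zero.2 (Ring.krullDimLE_iff.2 (by simpa using h))
  letI : Module (A ⧸ Module.annihilator A M) M := Module.IsTorsionBySet.module (fun x a => Module.mem_annihilator.1 a.2 x)
  haveI : IsScalarTower A (A ⧸ Module.annihilator A M) M := Module.IsTorsionBySet.isScalarTower _
  haveI : Module.Finite (A ⧸ Module.annihilator A M) M := Module.Finite.of_restrictScalars_finite A _ M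
  haveI : IsArtinian (A ⧸ Module.annihilator A M) M := inferInstance
  have hsm : ∀ (a : A) (x : M), (Ideal.Quotient.mk (Module.annihilator A M) a) • x = a • x := fun a x => rfl
  refine isFiniteLength_iff_isNoetherian_isArtinian.2 ⟨isNoetherian_of_isNoetherianRing_of_finite A M, ?_⟩
  let f : Submodule A M → Submodule (A ⧸ Module.annihilator A M) M := fun N =>
    { carrier := N
      add_mem' := N.add_mem
      zero_mem' := N.zero_mem
      smul_mem' := fun c x hx => by
        obtain ⟨a, rfl⟩ := Ideal.Quotient.mk_surjective c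
        rw [hsm]
        exact N.smul_mem a hx }
  exact StrictMono.wellFoundedLT (f := f) fun N N' hlt => lt_of_le_of_ne (fun x hx => hlt.le hx) fun heq =>
    hlt.ne (SetLike.ext fun x => Iff.of_eq (congrArg (fun S : Submodule (A ⧸ Module.annihilator A M) M => x ∈ S) heq))

lemma finrank_quot_piece {M : Type u} [AddCommGroup M] [Module (MvPolynomial (Fin (n + 1)) k) M] [Module k M]
    [IsScalarTower k (MvPolynomial (Fin (n + 1)) k) M] (ℳ : ℤ → Submodule k M) [DirectSum.Decomposition ℳ]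
    [SetLike.GradedSMul (GrSyz.stdGr k (Fin (n + 1))) ℳ] (hfin : ∀ d, Module.Finite k ↥(ℳ d))
    {y : MvPolynomial (Fin (n + 1)) k} (hy : y ∈ GrSyz.stdGr k (Fin (n + 1)) 1) (hreg : IsSMulRegular M y) (d : ℤ) :
    Module.finrank k ↥(quotGrM ℳ (y • (⊤ : Submodule (MvPolynomial (Fin (n + 1)) k) M)) d) +
      Module.finrank k ↥(ℳ (d - 1)) = Module.finrank k ↥(ℳ d) := by
  haveI := hfin d
  set N : Submodule (MvPolynomial (Fin (n + 1)) k) M := y • ⊤
  let q : ↥(ℳ d) →ₗ[k] M ⧸ N := N.mkQ.restrictScalars k ∘ₗ (ℳ d).subtype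
  have hr : LinearMap.range q = quotGrM ℳ N d := by rw [quotGrM, LinearMap.range_comp, Submodule.range_subtype]
  have hmem : ∀ z : ↥(ℳ (d - 1)), y • (z : M) ∈ ℳ d := fun z => by
    have := smul_mem_add ℳ (GrSyz.stdGr k (Fin (n + 1))) hy z.2
    rwa [add_sub_cancel] at this
  let m : ↥(ℳ (d - 1)) →ₗ[k] ↥(LinearMap.ker q) :=
    { toFun := fun z => ⟨⟨y • (z : M), hmem z⟩,
        (Submodule.Quotient.mk_eq_zero N).2 (Submodule.smul_mem_pointwise_smul (z : M) y _ trivial)⟩
      map_add' := fun a b => Subtype.ext (Subtype.ext (smul_add y (a : M) b))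
      map_smul' := fun c a => Subtype.ext (Subtype.ext (smul_comm y c (a : M))) }
  have hbij : Function.Bijective m := by
    refine ⟨fun a b hab => Subtype.ext (hreg (congrArg (fun w : ↥(LinearMap.ker q) => (w.1 : M)) hab)), ?_⟩
    rintro ⟨⟨x, hx⟩, hx0⟩
    obtain ⟨z, -, hz⟩ := (Submodule.mem_smul_pointwise_iff_exists _ _ _).1 ((Submodule.Quotient.mk_eq_zero N).1 hx0)
    refine ⟨⟨prj ℳ (d - 1) z, prj_mem _ _ _⟩, Subtype.ext (Subtype.ext ?_)⟩
    change y • prj ℳ (d - 1) z = x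
    rw [← prj_smul' ℳ (GrSyz.stdGr k (Fin (n + 1))) hy, hz]
    exact prj_same ℳ hx
  rw [← hr, (LinearEquiv.ofBijective m hbij).finrank_eq, LinearMap.finrank_range_add_finrank_ker]

theorem hilb_sharp [Infinite k] : ∀ (δ : ℕ) (M : Type u) [AddCommGroup M]
    [Module (MvPolynomial (Fin (n + 1)) k) M] [Module k M] [IsScalarTower k (MvPolynomial (Fin (n + 1)) k) M]
    [Module.Finite (MvPolynomial (Fin (n + 1)) k) M] (ℳ : ℤ → Submodule k M) [DirectSum.Decomposition ℳ]
    [SetLike.GradedSMul (GrSyz.stdGr k (Fin (n + 1))) ℳ] (ρ : ℤ) (P : Polynomial ℚ),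
    Module.supportDim (MvPolynomial (Fin (n + 1)) k) M ≤ ((δ : ℕ∞) : WithBot ℕ∞) →
    (δ : ℕ∞) ≤ LocCoh.idealDepth (mm k (Fin (n + 1))) M →
    GrSyz.IsRegLE (GrSyz.stdGr k (Fin (n + 1))) ℳ (mm k (Fin (n + 1))) ρ →
    ¬ GrSyz.IsRegLE (GrSyz.stdGr k (Fin (n + 1))) ℳ (mm k (Fin (n + 1))) (ρ - 1) →
    (∃ d₁ : ℤ, ∀ d : ℤ, d₁ ≤ d → ((Module.finrank k ↥(ℳ d) : ℤ) : ℚ) = P.eval (d : ℚ)) →
    (∀ e : ℤ, ρ - δ < e → ((Module.finrank k ↥(ℳ e) : ℤ) : ℚ) = P.eval (e : ℚ)) ∧
      ((Module.finrank k ↥(ℳ (ρ - δ)) : ℤ) : ℚ) ≠ P.eval ((ρ - δ : ℤ) : ℚ) := by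
  intro δ
  induction δ with
  | zero =>
    intro M _ _ _ _ _ ℳ _ _ ρ P hdim _ hρ hρ' hP
    have hfl := isFiniteLength_of_supportDim_le_zero (A := MvPolynomial (Fin (n + 1)) k) (M := M) (by simpa using hdim)
    obtain ⟨hfin, -⟩ := exists_eventual_polynomial ℳ hρ
    have hzero : ∀ d, ρ < d → ℳ d = ⊥ := fun d hd => eq_bot_iff.2 fun z hz => (Submodule.mem_bot k).2 <|
      torsion_eq_zero ℳ hρ ⊤ (fun _ _ _ => trivial)
        (Submodule.topEquiv.symm.isFiniteLength hfl) d hd z trivial hz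
    obtain ⟨d₁, hd₁⟩ := hP
    have hP0 : P = 0 := by
      refine Polynomial.eq_zero_of_infinite_isRoot P (Set.Infinite.mono
        (s := (fun j : ℕ => ((max d₁ (ρ + 1) + j : ℤ) : ℚ)) '' Set.univ) ?_ ?_)
      · rintro _ ⟨j, -, rfl⟩
        have h := hd₁ (max d₁ (ρ + 1) + j) (by omega)
        rw [hzero _ (by omega), finrank_bot, Nat.cast_zero, Int.cast_zero] at h
        exact h.symm
      · exact Set.infinite_univ.image fun a _ c _ hac => by
          have : (max d₁ (ρ + 1) + (a : ℤ)) = max d₁ (ρ + 1) + (c : ℤ) := Int.cast_injective hac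
          omega
    subst hP0
    simp only [Nat.cast_zero, sub_zero, Polynomial.eval_zero]
    refine ⟨fun e he => by rw [hzero e (by simpa using he), finrank_bot, Nat.cast_zero, Int.cast_zero], fun h => hρ' ?_⟩
    obtain ⟨l, hl⟩ := ENat.ne_top_iff_exists.1 (Module.length_ne_top_iff.2 hfl)
    refine isRegLE_of_length l M ℳ hl.symm _ fun d hd => ?_
    rcases eq_or_lt_of_le (show ρ ≤ d by omega) with rfl | hlt
    · haveI := hfin ρ
      exact Submodule.finrank_eq_zero.1 (by simpa using h)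
    · exact hzero d hlt
  | succ δ ih =>
    intro M _ _ _ _ _ ℳ _ _ ρ P hdim hdep hρ hρ' hP
    obtain ⟨y, hy, hreg⟩ := exists_linear_regular (k := k) (M := M)
      (le_trans (by exact_mod_cast (show (1 : ℕ) ≤ δ + 1 by omega)) hdep)
    have hymm : y ∈ mm k (Fin (n + 1)) := mem_mm_iff.2 (constantCoeff_of_mem one_ne_zero hy)
    obtain ⟨hfin, -⟩ := exists_eventual_polynomial ℳ hρ
    set N : Submodule (MvPolynomial (Fin (n + 1)) k) M := y • ⊤ with hN
    letI := quotDec ℳ (smul_top_isHom ℳ hy)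
    have hiff := isRegLE_regular_iff ℳ y hy hreg
    have hdimq : Module.supportDim (MvPolynomial (Fin (n + 1)) k) (M ⧸ N) ≤ ((δ : ℕ∞) : WithBot ℕ∞) := by
      have h := (Module.supportDim_quotSMulTop_succ_le_of_notMem_minimalPrimes
        (R := MvPolynomial (Fin (n + 1)) k) (M := M) (fun _ => hreg.notMem_of_mem_minimalPrimes)).trans hdim
      change Module.supportDim (MvPolynomial (Fin (n + 1)) k) (M ⧸ N) + 1 ≤ _ at h
      revert h
      cases Module.supportDim (MvPolynomial (Fin (n + 1)) k) (M ⧸ N) with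
      | bot => intro; exact bot_le
      | coe s =>
        intro h
        rw [← WithBot.coe_one, ← WithBot.coe_add, WithBot.coe_le_coe, Nat.cast_add, Nat.cast_one] at h
        exact WithBot.coe_le_coe.2 ((WithTop.add_le_add_iff_right ENat.one_ne_top).1 h)
    obtain ⟨d₁, hd₁⟩ := hP
    have hsplit : ∀ d : ℤ, ((Module.finrank k ↥(quotGrM ℳ N d) : ℤ) : ℚ) =
        ((Module.finrank k ↥(ℳ d) : ℤ) : ℚ) - ((Module.finrank k ↥(ℳ (d - 1)) : ℤ) : ℚ) := fun d => by
      rw [← finrank_quot_piece ℳ hfin hy hreg d]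
      push_cast; ring
    have hev : ∀ d : ℤ, (P - P.comp (Polynomial.X - 1)).eval (d : ℚ) = P.eval (d : ℚ) - P.eval ((d - 1 : ℤ) : ℚ) := by
      intro d; simp
    obtain ⟨hA, hB⟩ := ih (M ⧸ N) (quotGrM ℳ N) ρ (P - P.comp (Polynomial.X - 1)) hdimq
      ((Groth.L04.le_idealDepth_quotSMulTop_iff hymm hreg δ).2 hdep) ((hiff ρ).1 hρ)
      (fun h => hρ' ((hiff _).2 h))
      ⟨d₁ + 1, fun d hd => by rw [hsplit, hev, hd₁ d (by omega), hd₁ (d - 1) (by omega)]⟩
    have hA' : ∀ (j : ℕ) (e : ℤ), ρ - (δ + 1 : ℕ) < e → d₁ ≤ e + j →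
        ((Module.finrank k ↥(ℳ e) : ℤ) : ℚ) = P.eval (e : ℚ) := by
      intro j
      induction j with
      | zero => intro e _ h; exact hd₁ e (by simpa using h)
      | succ j ihj =>
        intro e he h
        have h1 := ihj (e + 1) (by omega) (by push_cast at h ⊢; omega)
        have h2 := hA (e + 1) (by push_cast at he ⊢; omega)
        rw [hsplit, hev, add_sub_cancel_right, h1] at h2
        linarith
    have hA'' : ∀ e : ℤ, ρ - (δ + 1 : ℕ) < e → ((Module.finrank k ↥(ℳ e) : ℤ) : ℚ) = P.eval (e : ℚ) :=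
      fun e he => hA' (d₁ - e).toNat e he (by omega)
    refine ⟨hA'', fun h => hB ?_⟩
    rw [hsplit, hev, hA'' (ρ - δ) (by push_cast; omega), show ρ - (δ : ℤ) - 1 = ρ - ((δ + 1 : ℕ) : ℤ) by push_cast; ring, h]

end Groth.L12.GrSyzLib
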