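import Groth.Agent.L12.GrLCKoszul
import Groth.Agent.L12.GrTors
import Groth.Agent.L12.GrHilbSharp
import Mathlib.RingTheory.Ideal.AssociatedPrime.Finiteness

/-!
# Regularity is computed by local cohomology
-/

set_option autoImplicit false

universe u

open DirectSum Pointwise

namespace Groth.L12.GrLCLib

open Groth.L12.GrSyzLib

variable {k : Type u} [Field k] {r : ℕ}


section Torsion

variable {M : Type u} [AddCommGroup M] [Module (MvPolynomial (Fin (r + 1)) k) M] [Module k M] [IsScalarTower k (MvPolynomial (Fin (r + 1)) k) M] [Module.Finite (MvPolynomial (Fin (r + 1)) k) M]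
  (ℳ : ℤ → Submodule k M) [DirectSum.Decomposition ℳ] [SetLike.GradedSMul (GrSyz.stdGr k (Fin (r + 1))) ℳ]

omit [Module k M] [IsScalarTower k (MvPolynomial (Fin (r + 1)) k) M] in
variable (k r M) in
lemma exists_pow_gam : ∃ t : ℕ, ∀ z ∈ GrLC.gam (mm k (Fin (r + 1))) M, ∀ c ∈ mm k (Fin (r + 1)) ^ t, c • z = 0 := by
  obtain ⟨s, hs⟩ := (IsNoetherian.noetherian (GrLC.gam (mm k (Fin (r + 1))) M))
  have : ∀ z ∈ s, ∃ t : ℕ, ∀ c ∈ mm k (Fin (r + 1)) ^ t, c • z = 0 := fun z hz =>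
    (hs ▸ Submodule.subset_span hz : z ∈ GrLC.gam (mm k (Fin (r + 1))) M)
  choose! tf htf using this
  refine ⟨s.sup tf, fun z hz c hc => ?_⟩
  rw [← hs] at hz
  refine Submodule.span_induction (fun w hw => ?_) (smul_zero _) (fun a b _ _ ha hb => by rw [smul_add, ha, hb, add_zero])
    (fun a w _ hw => by rw [smul_comm, hw, smul_zero]) hz
  exact htf w hw c (Ideal.pow_le_pow_right (Finset.le_sup (f := tf) hw) hc)

omit [Module k M] [IsScalarTower k (MvPolynomial (Fin (r + 1)) k) M] in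
variable (k r M) in
lemma gam_isFiniteLength : IsFiniteLength (MvPolynomial (Fin (r + 1)) k) ↥(GrLC.gam (mm k (Fin (r + 1))) M) := by
  obtain ⟨t, ht⟩ := exists_pow_gam k r M
  refine isFiniteLength_of_supportDim_le_zero ?_
  rw [Module.supportDim]
  haveI : Subsingleton (Module.support (MvPolynomial (Fin (r + 1)) k) ↥(GrLC.gam (mm k (Fin (r + 1))) M)) := by
    have hp : ∀ p ∈ Module.support (MvPolynomial (Fin (r + 1)) k) ↥(GrLC.gam (mm k (Fin (r + 1))) M), p.asIdeal = mm k (Fin (r + 1)) := by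
      intro p hp
      rw [Module.support_eq_zeroLocus, PrimeSpectrum.mem_zeroLocus, SetLike.coe_subset_coe] at hp
      refine ((mm_isMaximal (k := k)).eq_of_le p.isPrime.ne_top (Ideal.IsPrime.le_of_pow_le (n := t) (le_trans (fun c hc => ?_) hp))).symm
      rw [Module.mem_annihilator]
      exact fun z => Subtype.ext (ht z.1 z.2 c hc)
    exact ⟨fun p q => Subtype.ext (PrimeSpectrum.ext ((hp p.1 p.2).trans (hp q.1 q.2).symm))⟩
  exact Order.krullDim_nonpos_of_subsingleton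

/-- regularity of a module of finite length -/
lemma isRegLE_iff_of_isFiniteLength (hfl : IsFiniteLength (MvPolynomial (Fin (r + 1)) k) M) (e : ℤ) :
    GrSyz.IsRegLE (GrSyz.stdGr k (Fin (r + 1))) ℳ (mm k (Fin (r + 1))) e ↔ ∀ d, e < d → ∀ z ∈ ℳ d, z = 0 := by
  refine ⟨fun h d hd z hz => torsion_eq_zero ℳ h ⊤ (fun _ _ _ => trivial) (Submodule.topEquiv.symm.isFiniteLength hfl)
    d hd z trivial hz, fun h => ?_⟩
  obtain ⟨l, hl⟩ := ENat.ne_top_iff_exists.1 (Module.length_ne_top_iff.2 hfl)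
  exact isRegLE_of_length l M ℳ hl.symm e fun d hd => eq_bot_iff.2 fun z hz => (Submodule.mem_bot k).2 (h d hd z hz)

omit [IsScalarTower k (MvPolynomial (Fin (r + 1)) k) M] in
/-- finite graded prime avoidance: a homogeneous nonzerodivisor of positive degree -/
theorem exists_homog_regular (h0 : GrLC.gam (mm k (Fin (r + 1))) M = ⊥) :
    ∃ (e : ℕ) (y : (MvPolynomial (Fin (r + 1)) k)), 0 < e ∧ y ∈ GrSyz.stdGr k (Fin (r + 1)) e ∧ IsSMulRegular M y := by
  classical
  let 𝒮 := GrSyz.stdGr k (Fin (r + 1))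
  let f : Ideal (MvPolynomial (Fin (r + 1)) k) → Set (ℕ × (MvPolynomial (Fin (r + 1)) k)) := fun p => {c | c.2 ∈ 𝒮 c.1 ∧ c.2 ∈ p}
  set A : Finset (Set (ℕ × (MvPolynomial (Fin (r + 1)) k))) := (associatedPrimes.finite (MvPolynomial (Fin (r + 1)) k) M).toFinset.image f with hA
  set T := A.filter fun a => ∀ b ∈ A, a ⊆ b → a = b with hT
  have hX : ∀ p ∈ associatedPrimes (MvPolynomial (Fin (r + 1)) k) M, ∃ v, (MvPolynomial.X v : (MvPolynomial (Fin (r + 1)) k)) ∉ p := by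
    intro p hp
    by_contra hcon
    push Not at hcon
    obtain ⟨hpp, x, hx⟩ := isAssociatedPrime_iff.1 hp
    have hxg : x ∈ GrLC.gam (mm k (Fin (r + 1))) M := ⟨1, fun c hc => by
      have hcp : c ∈ p := by
        rw [pow_one, mm_eq_span_X] at hc
        refine Ideal.span_le.2 ?_ hc
        rintro _ ⟨v, -, rfl⟩
        exact hcon v
      rwa [hx, Submodule.mem_colon_singleton, Submodule.mem_bot] at hcp⟩
    rw [h0, Submodule.mem_bot] at hxg
    refine hpp.ne_top ((Ideal.eq_top_iff_one p).2 ?_)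
    rw [hx, Submodule.mem_colon_singleton, hxg, smul_zero]
    exact zero_mem _
  have hz : ∀ a ∈ T, ∃ (D : ℕ) (z : (MvPolynomial (Fin (r + 1)) k)) (p : Ideal (MvPolynomial (Fin (r + 1)) k)), 0 < D ∧ p.IsPrime ∧ f p = a ∧ z ∈ 𝒮 D ∧
      (D, z) ∉ a ∧ ∀ b ∈ T, b ≠ a → (D, z) ∈ b := by
    intro a ha
    obtain ⟨haA, hamax⟩ := Finset.mem_filter.1 ha
    obtain ⟨p, hp, hpa⟩ := Finset.mem_image.1 haA
    rw [Set.Finite.mem_toFinset] at hp
    obtain ⟨v, hv⟩ := hX p hp
    have hb : ∀ b ∈ T.erase a, ∃ c : ℕ × (MvPolynomial (Fin (r + 1)) k), c ∈ b ∧ c ∉ a := fun b hb => by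
      obtain ⟨hne, hbT⟩ := Finset.mem_erase.1 hb
      obtain ⟨hbA, hbmax⟩ := Finset.mem_filter.1 hbT
      by_contra hcon
      push Not at hcon
      exact hne (hbmax a haA hcon)
    choose! c hcb hca using hb
    refine ⟨(∑ b ∈ T.erase a, (c b).1) + 1, (∏ b ∈ T.erase a, (c b).2) * MvPolynomial.X v, p, by omega,
      hp.isPrime, hpa, ?_, ?_, ?_⟩
    · rw [Nat.cast_add, Nat.cast_sum]
      refine SetLike.mul_mem_graded (SetLike.prod_mem_graded 𝒮 _ _ fun b hb => ?_)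
        (MvPolynomial.isWeightedHomogeneous_X k _ v)
      have := hcb b hb
      obtain ⟨q, -, rfl⟩ := Finset.mem_image.1 (Finset.mem_filter.1 (Finset.mem_of_mem_erase hb)).1
      exact this.1
    · intro h
      have h2 : (∏ b ∈ T.erase a, (c b).2) * MvPolynomial.X v ∈ p := (hpa.symm.subset h).2
      rcases hp.isPrime.mem_or_mem h2 with h' | h'
      · obtain ⟨b, hb, hb'⟩ := (Ideal.IsPrime.prod_mem_iff (hp := hp.isPrime)).1 h'
        refine hca b hb ?_
        have hcd : (c b).2 ∈ 𝒮 ((c b).1 : ℤ) := by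
          have := hcb b hb
          obtain ⟨q, -, rfl⟩ := Finset.mem_image.1 (Finset.mem_filter.1 (Finset.mem_of_mem_erase hb)).1
          exact this.1
        rw [← hpa]
        exact ⟨hcd, hb'⟩
      · exact hv h'
    · intro b hbT hne
      have hmem := hcb b (Finset.mem_erase.2 ⟨hne, hbT⟩)
      obtain ⟨q, -, rfl⟩ := Finset.mem_image.1 (Finset.mem_filter.1 hbT).1
      refine ⟨?_, Ideal.mul_mem_right _ _ ?_⟩
      · rw [Nat.cast_add, Nat.cast_sum]
        refine SetLike.mul_mem_graded (SetLike.prod_mem_graded 𝒮 _ _ fun b' hb' => ?_)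
          (MvPolynomial.isWeightedHomogeneous_X k _ v)
        have := hcb b' hb'
        obtain ⟨q', -, rfl⟩ := Finset.mem_image.1 (Finset.mem_filter.1 (Finset.mem_of_mem_erase hb')).1
        exact this.1
      · exact Ideal.mem_of_dvd _ (Finset.dvd_prod_of_mem (fun b => (c b).2) (Finset.mem_erase.2 ⟨hne, hbT⟩)) hmem.2
  choose! D z p hD hpp hpa hz1 hza hzb using hz
  set e := ∏ a ∈ T, D a with he
  have he0 : 0 < e := Finset.prod_pos hD
  set m := fun a => ∏ b ∈ T.erase a, D b with hm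
  refine ⟨e, ∑ a ∈ T, z a ^ m a, he0, Submodule.sum_mem _ fun a ha => ?_, ?_⟩
  · have := SetLike.pow_mem_graded (m a) (hz1 a ha)
    rwa [nsmul_eq_mul, ← Nat.cast_mul, hm, Finset.prod_erase_mul _ _ ha] at this
  · rw [isSMulRegular_iff_right_eq_zero_of_smul]
    intro x hx
    by_contra hx0
    have hmem : (∑ a ∈ T, z a ^ m a) ∈ {c : (MvPolynomial (Fin (r + 1)) k) | ∃ x : M, x ≠ 0 ∧ c • x = 0} := ⟨x, hx0, hx⟩
    rw [← biUnion_associatedPrimes_eq_zero_divisors (MvPolynomial (Fin (r + 1)) k) M] at hmem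
    obtain ⟨q, hq, hyq⟩ := Set.mem_iUnion₂.1 hmem
    have hqA : f q ∈ A := Finset.mem_image_of_mem f ((Set.Finite.mem_toFinset _).2 hq)
    obtain ⟨a, ha, hamax⟩ := (A.filter fun b => f q ⊆ b).exists_maximal ⟨f q, Finset.mem_filter.2 ⟨hqA, subset_rfl⟩⟩
    obtain ⟨haA, hqa⟩ := Finset.mem_filter.1 ha
    have haT : a ∈ T := Finset.mem_filter.2 ⟨haA, fun b hb hab =>
      le_antisymm hab (hamax (Finset.mem_filter.2 ⟨hb, hqa.trans hab⟩) hab)⟩
    have hye : ((e, ∑ a ∈ T, z a ^ m a) : ℕ × (MvPolynomial (Fin (r + 1)) k)) ∈ f q := ⟨Submodule.sum_mem _ fun b hb => by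
      have := SetLike.pow_mem_graded (m b) (hz1 b hb)
      rwa [nsmul_eq_mul, ← Nat.cast_mul, hm, Finset.prod_erase_mul _ _ hb] at this, hyq⟩
    have hyp := hqa hye
    rw [← hpa a haT] at hyp
    have hothers : ∀ b ∈ T.erase a, z b ^ m b ∈ p a := fun b hb => by
      obtain ⟨hne, hbT⟩ := Finset.mem_erase.1 hb
      have := hzb b hbT a haT (Ne.symm hne)
      rw [← hpa a haT] at this
      refine Ideal.pow_mem_of_mem _ this.2 _ (Finset.prod_pos fun c hc => hD c (Finset.mem_of_mem_erase hc))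
    have hself : z a ^ m a ∈ p a := by
      have := Ideal.sub_mem _ hyp.2 (Ideal.sum_mem _ hothers)
      rwa [← Finset.add_sum_erase T _ haT, add_sub_cancel_right] at this
    refine hza a haT ?_
    have hzp : (D a, z a) ∈ f (p a) := ⟨hz1 a haT, (hpp a haT).mem_of_pow_mem _ hself⟩
    rwa [hpa a haT] at hzp

end Torsion

section Shift

variable {M : Type u} [AddCommGroup M] [Module (MvPolynomial (Fin (r + 1)) k) M] [Module k M] [IsScalarTower k (MvPolynomial (Fin (r + 1)) k) M]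
  (ℳ : ℤ → Submodule k M) [DirectSum.Decomposition ℳ] [SetLike.GradedSMul (GrSyz.stdGr k (Fin (r + 1))) ℳ]

/-- pieces shifted by `e` -/
def shiftE (e : ℤ) (d : ℤ) : Submodule k M := ℳ (d - e)

/-- decomposition of the shifted pieces -/
@[instance_reducible]
noncomputable def shiftEDec (e : ℤ) : DirectSum.Decomposition (shiftE ℳ e) :=
  (decomposition_exists (shiftE ℳ e) (fun d => prj ℳ (d - e)) (fun _ _ hx => prj_same ℳ hx)
    (fun d d' h _ hx => prj_ne ℳ hx (by omega)) (fun x => by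
      obtain ⟨s, hs⟩ := exists_sum_prj ℳ x
      rw [← hs]
      exact Submodule.sum_mem _ fun d _ => Submodule.mem_iSup_of_mem (d + e)
        (show prj ℳ d x ∈ ℳ (d + e - e) by rw [add_sub_cancel_right]; exact prj_mem _ _ _))).chooseDecomposition

omit [IsScalarTower k (MvPolynomial (Fin (r + 1)) k) M] [DirectSum.Decomposition ℳ] in
lemma shiftE_smul (e : ℤ) : SetLike.GradedSMul (GrSyz.stdGr k (Fin (r + 1))) (shiftE ℳ e) :=
  ⟨fun {i j c} x hc hx => by
    have h := SetLike.GradedSMul.smul_mem (A := GrSyz.stdGr k (Fin (r + 1))) (B := ℳ) hc hx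
    rw [vadd_eq_add] at h ⊢
    change c • x ∈ ℳ (i + j - e)
    rwa [add_sub_assoc]⟩

theorem isRegLE_regular_iff' [Module.Finite (MvPolynomial (Fin (r + 1)) k) M] (e : ℕ) (he : 0 < e)
    (y : (MvPolynomial (Fin (r + 1)) k)) (hy : y ∈ GrSyz.stdGr k (Fin (r + 1)) e) (hreg : IsSMulRegular M y) (d : ℤ) :
    letI := quotDec ℳ (smul_top_isHom ℳ hy)
    GrSyz.IsRegLE (GrSyz.stdGr k (Fin (r + 1))) ℳ (mm k (Fin (r + 1))) d ↔
      GrSyz.IsRegLE (GrSyz.stdGr k (Fin (r + 1))) (quotGrM ℳ (y • (⊤ : Submodule (MvPolynomial (Fin (r + 1)) k) M))) (mm k (Fin (r + 1)))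
        (d + e - 1) := by
  letI := quotDec ℳ (smul_top_isHom ℳ hy)
  letI := shiftEDec ℳ (e : ℤ)
  haveI := shiftE_smul ℳ (r := r) (e : ℤ)
  let f : M →ₗ[(MvPolynomial (Fin (r + 1)) k)] M := y • LinearMap.id
  have hfg : LinearMap.range f = LinearMap.ker (Submodule.mkQ (y • (⊤ : Submodule (MvPolynomial (Fin (r + 1)) k) M))) := by
    rw [Submodule.ker_mkQ]
    ext x
    rw [Submodule.mem_smul_pointwise_iff_exists]
    exact ⟨fun ⟨z, hz⟩ => ⟨z, trivial, hz⟩, fun ⟨z, _, hz⟩ => ⟨z, hz⟩⟩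
  have hfgr : GrLC.IsGrHom (shiftE ℳ (e : ℤ)) ℳ f := fun g x hx => by
    have h : y • x ∈ ℳ ((e : ℤ) + (g - e)) := smul_mem_add ℳ (GrSyz.stdGr k (Fin (r + 1))) hy hx
    rwa [add_sub_cancel] at h
  have hggr : GrLC.IsGrHom ℳ (quotGrM ℳ (y • (⊤ : Submodule (MvPolynomial (Fin (r + 1)) k) M))) (Submodule.mkQ (y • (⊤ : Submodule (MvPolynomial (Fin (r + 1)) k) M))) :=
    fun g x hx => ⟨x, hx, rfl⟩
  have hup : ∀ s, GrSyz.IsRegLE (GrSyz.stdGr k (Fin (r + 1))) ℳ (mm k (Fin (r + 1))) s →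
      GrSyz.IsRegLE (GrSyz.stdGr k (Fin (r + 1))) (shiftE ℳ (e : ℤ)) (mm k (Fin (r + 1))) (s + e) := fun s hs =>
    isRegLE_transfer ℳ (shiftE ℳ (e : ℤ)) LinearMap.id Function.bijective_id (e : ℤ)
      (fun g x hx => show x ∈ ℳ (g + e - e) by rwa [add_sub_cancel_right]) hs
  refine ⟨fun h => isRegLE_right (ℳ₁ := shiftE ℳ (e : ℤ)) f (Submodule.mkQ (y • (⊤ : Submodule (MvPolynomial (Fin (r + 1)) k) M))) hreg
    (Submodule.mkQ_surjective _) hfg hfgr hggr (isRegLE_mono _ (by omega) (hup d h))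
    (isRegLE_mono _ (by omega) h), fun h => ?_⟩
  obtain ⟨G, hG, hlen⟩ := exists_res_hasLengthLE (ℳ := ℳ) (k := k) (σ := Fin (r + 1))
  let T : Finset ℤ := (Finset.range (Nat.card (Fin (r + 1)) + 1)).biUnion fun i =>
    Finset.univ.image fun b => G.deg i b - i
  obtain ⟨m, hm⟩ : ∃ m : ℕ, G.IsGenLE (d + m) := by
    refine ⟨(T.sup fun t => (t - d).toNat), fun i b => ?_⟩
    have hi : i ∈ Finset.range (Nat.card (Fin (r + 1)) + 1) := by
      rw [Finset.mem_range]
      by_contra h'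
      exact absurd b.2 (by have := hlen i (by omega); omega)
    have := Finset.le_sup (f := fun t => (t - d).toNat)
      (Finset.mem_biUnion.2 ⟨i, hi, Finset.mem_image.2 ⟨b, Finset.mem_univ _, rfl⟩⟩ : G.deg i b - i ∈ T)
    change _ ≤ T.sup (fun t => (t - d).toNat) at this
    omega
  have key : ∀ m : ℕ, GrSyz.IsRegLE (GrSyz.stdGr k (Fin (r + 1))) ℳ (mm k (Fin (r + 1))) (d + m) →
      GrSyz.IsRegLE (GrSyz.stdGr k (Fin (r + 1))) ℳ (mm k (Fin (r + 1))) d := by
    intro m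
    induction m using Nat.strong_induction_on with
    | _ m ih =>
      intro hm
      rcases Nat.eq_zero_or_pos m with rfl | hpos
      · simpa using hm
      refine ih (m - min m e) (by omega) ?_
      have h1 : GrSyz.IsRegLE (GrSyz.stdGr k (Fin (r + 1))) (shiftE ℳ (e : ℤ)) (mm k (Fin (r + 1))) (d + max m e) :=
        isRegLE_left (ℳ₁ := shiftE ℳ (e : ℤ)) f (Submodule.mkQ (y • (⊤ : Submodule (MvPolynomial (Fin (r + 1)) k) M))) hreg
          (Submodule.mkQ_surjective _) hfg hfgr hggr (isRegLE_mono _ (by omega) hm)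
          (isRegLE_mono (r := d + e - 1) _ (by omega) h)
      have h2 := isRegLE_transfer (shiftE ℳ (e : ℤ)) ℳ LinearMap.id Function.bijective_id (-(e : ℤ))
        (fun g x hx => show x ∈ ℳ (g + -(e : ℤ)) by rwa [← sub_eq_add_neg]) h1
      refine isRegLE_mono _ ?_ h2
      omega
  exact key m ⟨G, hG, hm⟩

end Shift

/-- Regularity is computed by local cohomology. -/
theorem isRegLE_iff_van {M : Type u} [AddCommGroup M] [Module (MvPolynomial (Fin (r + 1)) k) M] [Module k M] [IsScalarTower k (MvPolynomial (Fin (r + 1)) k) M]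
    [Module.Finite (MvPolynomial (Fin (r + 1)) k) M] (ℳ : ℤ → Submodule k M) [DirectSum.Decomposition ℳ]
    [SetLike.GradedSMul (GrSyz.stdGr k (Fin (r + 1))) ℳ] (d : ℤ) :
    GrSyz.IsRegLE (GrSyz.stdGr k (Fin (r + 1))) ℳ (mm k (Fin (r + 1))) d ↔
      ∀ (i : ℕ) (g : ℤ), d - i < g → Van (GrSyz.irrel (GrSyz.stdGr k (Fin (r + 1)))) ℳ i g := by
  classical
  suffices H : ∀ (δ : ℕ) (M : Type u) [AddCommGroup M] [Module (MvPolynomial (Fin (r + 1)) k) M] [Module k M] [IsScalarTower k (MvPolynomial (Fin (r + 1)) k) M]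
      [Module.Finite (MvPolynomial (Fin (r + 1)) k) M] (ℳ : ℤ → Submodule k M) [DirectSum.Decomposition ℳ]
      [SetLike.GradedSMul (GrSyz.stdGr k (Fin (r + 1))) ℳ] (d : ℤ),
      Module.supportDim (MvPolynomial (Fin (r + 1)) k) M ≤ ((δ : ℕ∞) : WithBot ℕ∞) →
      (GrSyz.IsRegLE (GrSyz.stdGr k (Fin (r + 1))) ℳ (mm k (Fin (r + 1))) d ↔
        ∀ (i : ℕ) (g : ℤ), d - i < g → Van (GrSyz.irrel (GrSyz.stdGr k (Fin (r + 1)))) ℳ i g) by
    refine H (r + 1) M ℳ d ((Module.supportDim_le_ringKrullDim (MvPolynomial (Fin (r + 1)) k) M).trans (le_of_eq ?_))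
    rw [MvPolynomial.ringKrullDim_of_isNoetherianRing, ringKrullDim_eq_zero_of_field]
    simp
  clear! ℳ d
  intro δ
  induction δ with
  | zero =>
    intro M _ _ _ _ _ ℳ _ _ d hdim
    have hfl := isFiniteLength_of_supportDim_le_zero (A := (MvPolynomial (Fin (r + 1)) k)) (M := M) (by simpa using hdim)
    have htop : GrLC.gam ((GrSyz.irrel (GrSyz.stdGr k (Fin (r + 1))))).toIdeal M = ⊤ := eq_top_iff.2
      (le_gam_of_isFiniteLength ℳ ⊤ (fun _ _ _ => trivial) (Submodule.topEquiv.symm.isFiniteLength hfl))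
    rw [isRegLE_iff_of_isFiniteLength ℳ hfl]
    refine ⟨fun h i g hg => ?_, fun h g hg z hz => ?_⟩
    · rcases Nat.eq_zero_or_pos i with rfl | hi
      · exact (van_zero_iff _).2 fun z _ hz => h g (by simpa using hg) z hz
      · exact van_of_torsion _ htop hi g
    · exact (van_zero_iff _).1 (h 0 g (by simpa using hg)) z (htop ▸ Submodule.mem_top) hz
  | succ δ ih =>
    intro M _ _ _ _ _ ℳ _ _ d hdim
    set T := GrLC.gam (mm k (Fin (r + 1))) M with hTdef
    have hT : IsHom ℳ T := gam_isHom ℳ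
    letI := subDec ℳ hT
    letI := quotDec ℳ hT
    have hTfl : IsFiniteLength (MvPolynomial (Fin (r + 1)) k) ↥T := gam_isFiniteLength k r M
    obtain ⟨t, ht⟩ := exists_pow_gam k r M
    have hQ0 : GrLC.gam (mm k (Fin (r + 1))) (M ⧸ T) = ⊥ := eq_bot_iff.2 fun q hq => by
      obtain ⟨x, rfl⟩ := Submodule.Quotient.mk_surjective T q
      obtain ⟨n, hn⟩ := hq
      refine (Submodule.mem_bot _).2 ((Submodule.Quotient.mk_eq_zero T).2 ⟨t + n, fun c hc => ?_⟩)
      rw [pow_add] at hc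
      induction hc using Submodule.mul_induction_on' with
      | add a _ b _ ha hb => rw [add_smul, ha, hb, add_zero]
      | mem_mul_mem a ha b hb =>
        rw [mul_smul]
        refine ht _ ?_ a ha
        have := hn b hb
        rwa [← Submodule.Quotient.mk_smul, Submodule.Quotient.mk_eq_zero] at this
    have hTtop : GrLC.gam ((GrSyz.irrel (GrSyz.stdGr k (Fin (r + 1))))).toIdeal ↥T = ⊤ := eq_top_iff.2 fun z _ => ⟨t, fun c hc => Subtype.ext (ht z.1 z.2 c hc)⟩
    have hTgr : GrLC.IsGrHom (subGr ℳ T) ℳ T.subtype := fun g x hx => hx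
    have hQgr : GrLC.IsGrHom ℳ (quotGrM ℳ T) T.mkQ := fun g x hx => ⟨x, hx, rfl⟩
    have hex : LinearMap.range T.subtype = LinearMap.ker T.mkQ := by rw [Submodule.range_subtype, Submodule.ker_mkQ]
    have hregM : GrSyz.IsRegLE (GrSyz.stdGr k (Fin (r + 1))) ℳ (mm k (Fin (r + 1))) d ↔
        (∀ g, d < g → ∀ z ∈ T, z ∈ ℳ g → z = 0) ∧
          GrSyz.IsRegLE (GrSyz.stdGr k (Fin (r + 1))) (quotGrM ℳ T) (mm k (Fin (r + 1))) d := by
      have hTreg : (∀ g, d < g → ∀ z ∈ T, z ∈ ℳ g → z = 0) →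
          GrSyz.IsRegLE (GrSyz.stdGr k (Fin (r + 1))) (subGr ℳ T) (mm k (Fin (r + 1))) d := fun h =>
        (isRegLE_iff_of_isFiniteLength (subGr ℳ T) hTfl d).2 fun g hg z hz => Subtype.ext (h g hg z.1 z.2 hz)
      refine ⟨fun h => ?_, fun h => isRegLE_mid (ℳ₁ := subGr ℳ T) (ℳ₃ := quotGrM ℳ T) T.subtype T.mkQ
        T.subtype_injective (Submodule.mkQ_surjective T) hex hTgr hQgr (hTreg h.1) h.2⟩
      have h0 := torsion_eq_zero ℳ h T hT hTfl
      exact ⟨h0, isRegLE_right (ℳ₁ := subGr ℳ T) (ℳ₃ := quotGrM ℳ T) T.subtype T.mkQ T.subtype_injective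
        (Submodule.mkQ_surjective T) hex hTgr hQgr (isRegLE_mono _ (by omega) (hTreg h0)) h⟩
    have hVanQ0 : ∀ g, Van (GrSyz.irrel (GrSyz.stdGr k (Fin (r + 1)))) (quotGrM ℳ T) 0 g := fun g => (van_zero_iff _).2 fun z hz _ => by
      have : z ∈ GrLC.gam (mm k (Fin (r + 1))) (M ⧸ T) := hz
      rwa [hQ0, Submodule.mem_bot] at this
    have hvanM : (∀ (i : ℕ) (g : ℤ), d - i < g → Van (GrSyz.irrel (GrSyz.stdGr k (Fin (r + 1)))) ℳ i g) ↔
        (∀ g, d < g → ∀ z ∈ T, z ∈ ℳ g → z = 0) ∧ ∀ (i : ℕ) (g : ℤ), d - i < g → Van (GrSyz.irrel (GrSyz.stdGr k (Fin (r + 1)))) (quotGrM ℳ T) i g := by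
      constructor
      · intro h
        refine ⟨fun g hg => (van_zero_iff _).1 (h 0 g (by simpa using hg)), fun i g hg => ?_⟩
        rcases Nat.eq_zero_or_pos i with rfl | hi
        · exact hVanQ0 g
        · exact van_right (ℳ₁ := subGr ℳ T) (ℳ₂ := ℳ) (ℳ₃ := quotGrM ℳ T) (GrSyz.irrel (GrSyz.stdGr k (Fin (r + 1)))) (f := T.subtype) (g := T.mkQ)
            T.subtype_injective (Submodule.mkQ_surjective T) hex hTgr hQgr (h i g hg)
            (van_of_torsion _ hTtop (by omega) g)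
      · rintro ⟨h0, h⟩ i g hg
        rcases Nat.eq_zero_or_pos i with rfl | hi
        · exact (van_zero_iff _).2 (h0 g (by simpa using hg))
        · exact van_mid (ℳ₁ := subGr ℳ T) (ℳ₂ := ℳ) (ℳ₃ := quotGrM ℳ T) (GrSyz.irrel (GrSyz.stdGr k (Fin (r + 1)))) (f := T.subtype) (g := T.mkQ)
            T.subtype_injective (Submodule.mkQ_surjective T) hex hTgr hQgr (van_of_torsion _ hTtop hi g) (h i g hg)
    rw [hregM, hvanM]
    refine and_congr_right fun _ => ?_
    obtain ⟨e, y, he, hy, hreg⟩ := exists_homog_regular (M := M ⧸ T) hQ0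
    let 𝒬 := quotGrM ℳ T
    change GrSyz.IsRegLE _ 𝒬 _ d ↔ ∀ (i : ℕ) (g : ℤ), d - i < g → Van _ 𝒬 i g
    set N : Submodule (MvPolynomial (Fin (r + 1)) k) (M ⧸ T) := y • ⊤ with hN
    letI := quotDec 𝒬 (smul_top_isHom 𝒬 hy)
    have hNdim : Module.supportDim (MvPolynomial (Fin (r + 1)) k) ((M ⧸ T) ⧸ N) ≤ ((δ : ℕ∞) : WithBot ℕ∞) := by
      have h := (Module.supportDim_quotSMulTop_succ_le_of_notMem_minimalPrimes
        (R := (MvPolynomial (Fin (r + 1)) k)) (M := M ⧸ T) (fun _ => hreg.notMem_of_mem_minimalPrimes)).trans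
        ((Module.supportDim_le_of_surjective T.mkQ (Submodule.mkQ_surjective T)).trans hdim)
      change Module.supportDim (MvPolynomial (Fin (r + 1)) k) ((M ⧸ T) ⧸ N) + 1 ≤ _ at h
      revert h
      cases Module.supportDim (MvPolynomial (Fin (r + 1)) k) ((M ⧸ T) ⧸ N) with
      | bot => intro; exact bot_le
      | coe s =>
        intro h
        rw [← WithBot.coe_one, ← WithBot.coe_add, WithBot.coe_le_coe, Nat.cast_add, Nat.cast_one] at h
        exact WithBot.coe_le_coe.2 ((WithTop.add_le_add_iff_right ENat.one_ne_top).1 h)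
    have hIH := ih ((M ⧸ T) ⧸ N) (quotGrM 𝒬 N) (d + e - 1) hNdim
    rw [isRegLE_regular_iff' 𝒬 e he y hy hreg d, hIH]
    let X := shG (GrSyz.stdGr k (Fin (r + 1))) 𝒬 (-(e : ℤ))
    let f : X.carrier →ₗ[(MvPolynomial (Fin (r + 1)) k)] (M ⧸ T) := (y • LinearMap.id : (M ⧸ T) →ₗ[(MvPolynomial (Fin (r + 1)) k)] (M ⧸ T))
    have hfi : Function.Injective f := hreg
    have hfg : LinearMap.range f = LinearMap.ker N.mkQ := by
      rw [Submodule.ker_mkQ]
      ext x
      rw [hN, Submodule.mem_smul_pointwise_iff_exists]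
      exact ⟨fun ⟨z, hz⟩ => ⟨z, trivial, hz⟩, fun ⟨z, _, hz⟩ => ⟨z, hz⟩⟩
    have hfgr : GrLC.IsGrHom X.gr 𝒬 f := fun g x hx => by
      change y • (x : M ⧸ T) ∈ 𝒬 g
      have h := smul_mem' (GrSyz.stdGr k (Fin (r + 1))) 𝒬 hy (show (x : M ⧸ T) ∈ 𝒬 (g + -(e : ℤ)) from hx)
      rwa [show (e : ℤ) + (g + -(e : ℤ)) = g from by ring] at h
    have hggr : GrLC.IsGrHom 𝒬 (quotGrM 𝒬 N) N.mkQ := fun g x hx => ⟨x, hx, rfl⟩
    constructor
    · intro hvN i g hg
      cases i with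
      | zero => exact hVanQ0 g
      | succ i =>
        intro E
        obtain ⟨E₃⟩ := nonempty_starInjRes (GrSyz.stdGr k (Fin (r + 1))) (quotGrM 𝒬 N)
        obtain ⟨ψ, hψ⟩ := exists_map E E₃ N.mkQ hggr
        have hφ := isMap_smul' E (y := y) (d := (e : ℤ)) hy
        obtain ⟨δ', hgr', -, -, hx3, -⟩ := exists_les (shiftRes E (-(e : ℤ))) E E₃ (GrSyz.irrel (GrSyz.stdGr k (Fin (r + 1)))) hfi (Submodule.mkQ_surjective N)
          hfg hfgr hggr hφ hψ
        have hinj : ∀ h, d - (i + 1 : ℕ) < h → ∀ x ∈ E.Hgr (GrSyz.irrel (GrSyz.stdGr k (Fin (r + 1)))) (i + 1) h, y • x = 0 → x = 0 := by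
          intro h hh x hx hyx
          set x' := (unshift E (-(e : ℤ)) (GrSyz.irrel (GrSyz.stdGr k (Fin (r + 1)))) (i + 1)).symm x with hx'
          have hxx : unshift E (-(e : ℤ)) (GrSyz.irrel (GrSyz.stdGr k (Fin (r + 1)))) (i + 1) x' = x := LinearEquiv.apply_symm_apply _ x
          have hmem : x' ∈ (shiftRes E (-(e : ℤ))).Hgr (GrSyz.irrel (GrSyz.stdGr k (Fin (r + 1)))) (i + 1) (h + e) := by
            rw [unshift_grHom, hxx, show h + (e : ℤ) + -(e : ℤ) = h from by ring]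
            exact hx
          have h0 : hφ.Hmap (GrSyz.irrel (GrSyz.stdGr k (Fin (r + 1)))) (i + 1) x' = 0 := by rw [Hmap_smul' E _ hy, hxx]; exact hyx
          obtain ⟨z, hz, hzx⟩ := exists_preimage (GrSyz.irrel (GrSyz.stdGr k (Fin (r + 1)))) _ (hgr' i) hmem ((hx3 i x').1 h0)
          have hz0 : z = 0 := (AddSubgroup.mem_bot).1 (hvN i (h + e) (by push_cast at hh ⊢; omega) E₃ ▸ hz)
          rw [hz0, map_zero] at hzx
          rw [← hxx, ← hzx, map_zero]
        refine (AddSubgroup.eq_bot_iff_forall _).2 fun x hx => ?_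
        have key : ∀ n : ℕ, ∀ h, d - (i + 1 : ℕ) < h → ∀ x ∈ E.Hgr (GrSyz.irrel (GrSyz.stdGr k (Fin (r + 1)))) (i + 1) h, y ^ n • x = 0 → x = 0 := by
          intro n
          induction n with
          | zero => intro h _ x _ hx; simpa using hx
          | succ n ihn =>
            intro h hh x hx hyx
            rw [pow_succ, mul_smul] at hyx
            exact hinj h hh x hx (ihn ((e : ℤ) + h) (by omega) _ (smul_mem_Hgr E (GrSyz.irrel (GrSyz.stdGr k (Fin (r + 1)))) (i + 1) hy hx) hyx)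
        obtain ⟨n, hn⟩ := isPowerTorsion_H (GrSyz.irrel (GrSyz.stdGr k (Fin (r + 1)))) E (i + 1) x
        exact key n g hg x hx (hn _ (Ideal.pow_mem_pow
          (mem_mm_iff.2 (constantCoeff_of_mem (by omega) hy) : y ∈ mm k (Fin (r + 1))) n))
    · intro hvQ i g hg
      refine van_right (ℳ₁ := X.gr) (ℳ₂ := 𝒬) (ℳ₃ := quotGrM 𝒬 N) (GrSyz.irrel (GrSyz.stdGr k (Fin (r + 1)))) (f := f) (g := N.mkQ) hfi
        (Submodule.mkQ_surjective N) hfg hfgr hggr (hvQ i g (by omega)) ((van_shift (GrSyz.irrel (GrSyz.stdGr k (Fin (r + 1)))) (-(e : ℤ))).2 (hvQ (i + 1) _ ?_))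
      push_cast
      omega

end Groth.L12.GrLCLib

namespace Groth.L12.GrLCLib

open Groth.L12.GrSyzLib

variable {k : Type u} [Field k] {r : ℕ}
variable {M : Type u} [AddCommGroup M] [Module (MvPolynomial (Fin (r + 1)) k) M]
  {τ : Type u} [SetLike τ M] [AddSubgroupClass τ M]
  {ℳ : ℤ → τ} [DirectSum.Decomposition ℳ] [SetLike.GradedSMul (GrSyz.stdGr k (Fin (r + 1))) ℳ]
  (E : GrLC.StarInjRes (GrSyz.stdGr k (Fin (r + 1))) ℳ) (i : ℕ)

lemma endDeg_le_iff_van (b : ℤ) :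
    GrLC.endDeg (E.Hgr (GrSyz.irrel (GrSyz.stdGr k (Fin (r + 1)))) i) ≤ ((b : WithTop ℤ) : WithBot (WithTop ℤ)) ↔
      ∀ g, b < g → Van (GrSyz.irrel (GrSyz.stdGr k (Fin (r + 1)))) ℳ i g := by
  rw [GrLC.endDeg, iSup₂_le_iff]
  refine forall_congr' fun g => ?_
  rw [WithBot.coe_le_coe, WithTop.coe_le_coe, van_iff _ E]
  exact ⟨fun h hg => by_contra fun hne => absurd (h hne) (not_le.2 hg),
    fun h hne => not_lt.1 fun hg => hne (h hg)⟩

lemma endDeg_add_le_iff_van (d : ℤ) :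
    GrLC.endDeg (E.Hgr (GrSyz.irrel (GrSyz.stdGr k (Fin (r + 1)))) i) + (((i : ℤ) : WithTop ℤ) : WithBot (WithTop ℤ)) ≤
        ((d : WithTop ℤ) : WithBot (WithTop ℤ)) ↔
      ∀ g, d - i < g → Van (GrSyz.irrel (GrSyz.stdGr k (Fin (r + 1)))) ℳ i g := by
  rw [← endDeg_le_iff_van E i (d - i)]
  cases GrLC.endDeg (E.Hgr (GrSyz.irrel (GrSyz.stdGr k (Fin (r + 1)))) i) with
  | bot => simp
  | coe t =>
    cases t with
    | top =>
      rw [← WithBot.coe_add, WithTop.top_add, WithBot.coe_le_coe, WithBot.coe_le_coe]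
      simp
    | coe t => norm_cast; omega

lemma hcomp_eq_bot_iff_van (g : ℤ) :
    E.Hcomp (GrSyz.irrel (GrSyz.stdGr k (Fin (r + 1)))) i g = ⊥ ↔
      Van (GrSyz.irrel (GrSyz.stdGr k (Fin (r + 1)))) ℳ i g := by
  rw [van_iff _ E, Submodule.eq_bot_iff, AddSubgroup.eq_bot_iff_forall]
  rfl

/-- `d`-regularity in the weak sense: the range of vanishing -/
lemma van_range_iff (d : ℤ) :
    (∀ (i : ℕ) (g : ℤ), d - i < g → Van (GrSyz.irrel (GrSyz.stdGr k (Fin (r + 1)))) ℳ i g) ↔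
      (∀ g, d < g → Van (GrSyz.irrel (GrSyz.stdGr k (Fin (r + 1)))) ℳ 0 g) ∧
        ∀ i : ℕ, 0 < i → Van (GrSyz.irrel (GrSyz.stdGr k (Fin (r + 1)))) ℳ i (d - i + 1) := by
  refine ⟨fun h => ⟨fun g hg => h 0 g (by simpa using hg), fun i _ => h i _ (by omega)⟩, fun h i g hg => ?_⟩
  rcases Nat.eq_zero_or_pos i with rfl | hi
  · exact h.1 g (by simpa using hg)
  · exact van_above h.2 i hi g (by omega)

end Groth.L12.GrLCLib

namespace Groth.L12.GrLCLib

lemma eq_of_forall_le_coe_iff {a b : WithBot (WithTop ℤ)}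
    (h : ∀ d : ℤ, a ≤ ((d : WithTop ℤ) : WithBot (WithTop ℤ)) ↔ b ≤ ((d : WithTop ℤ) : WithBot (WithTop ℤ))) :
    a = b := by
  have key : ∀ a b : WithBot (WithTop ℤ),
      (∀ d : ℤ, a ≤ ((d : WithTop ℤ) : WithBot (WithTop ℤ)) → b ≤ ((d : WithTop ℤ) : WithBot (WithTop ℤ))) → b ≤ a := by
    intro a b h
    induction a using WithBot.recBotCoe with
    | bot =>
      refine le_bot_iff.2 ?_
      induction b using WithBot.recBotCoe with
      | bot => rfl
      | coe t =>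
        induction t using WithTop.recTopCoe with
        | top =>
          have := h 0 bot_le
          rw [WithBot.coe_le_coe, top_le_iff] at this
          exact absurd this WithTop.coe_ne_top
        | coe t =>
          have := h (t - 1) bot_le
          rw [WithBot.coe_le_coe, WithTop.coe_le_coe] at this
          omega
    | coe s =>
      induction s using WithTop.recTopCoe with
      | top =>
        induction b using WithBot.recBotCoe with
        | bot => exact bot_le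
        | coe t => exact WithBot.coe_le_coe.2 le_top
      | coe s => exact h s le_rfl
  exact le_antisymm (key b a fun d => (h d).2) (key a b fun d => (h d).1)

end Groth.L12.GrLCLib
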