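import Groth.Agent.L12.GrLCDim
import Groth.Agent.L12.GrLCReg
import Groth.Agent.L04.CMBasic

/-!
# Ends of top local cohomology modulo regular elements
-/

set_option autoImplicit false

universe u

open DirectSum

namespace Groth.L12.GrLCLib

variable {R : Type u} [CommRing R] {𝒜 : ℤ → AddSubgroup R} [GradedRing 𝒜]

lemma endDeg_le_coe_iff {A : Type u} [AddCommGroup A] (P : ℤ → AddSubgroup A) (d : ℤ) :
    GrLC.endDeg P ≤ ((d : WithTop ℤ) : WithBot (WithTop ℤ)) ↔ ∀ g, d < g → P g = ⊥ := by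
  rw [GrLC.endDeg, iSup₂_le_iff]
  refine forall_congr' fun g => ?_
  rw [WithBot.coe_le_coe, WithTop.coe_le_coe]
  exact ⟨fun h hg => by_contra fun hne => absurd (h hne) (not_le.2 hg),
    fun h hne => not_lt.1 fun hg => hne (h hg)⟩

lemma endDeg_add_coe_le_coe_iff {A : Type u} [AddCommGroup A] (P : ℤ → AddSubgroup A) (k d : ℤ) :
    GrLC.endDeg P + ((k : WithTop ℤ) : WithBot (WithTop ℤ)) ≤ ((d : WithTop ℤ) : WithBot (WithTop ℤ)) ↔
      ∀ g, d - k < g → P g = ⊥ := by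
  rw [← endDeg_le_coe_iff P (d - k)]
  cases GrLC.endDeg P with
  | bot => simp
  | coe t =>
    cases t with
    | top =>
      rw [← WithBot.coe_add, WithTop.top_add, WithBot.coe_le_coe, WithBot.coe_le_coe]
      simp
    | coe t => norm_cast; omega

variable {M : Type u} [AddCommGroup M] [Module R M] {ℳ : ℤ → AddSubgroup M} [DirectSum.Decomposition ℳ]
  [SetLike.GradedSMul 𝒜 ℳ]

/-- The end of the first nonvanishing local cohomology grows by the degree modulo a regular element. -/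
theorem endDeg_quot_eq (a : HomogeneousIdeal 𝒜) {x : R} {k : ℤ} (hk : 0 ≤ k) (hxk : x ∈ 𝒜 k) (hxa : x ∈ a.toIdeal)
    {N : Type u} [AddCommGroup N] [Module R N] {𝒩 : ℤ → AddSubgroup N} [DirectSum.Decomposition 𝒩]
    [SetLike.GradedSMul 𝒜 𝒩] (hx : IsSMulRegular M x) (π : M →ₗ[R] N) (hπ : GrLC.IsGrHom ℳ 𝒩 π)
    (hπs : Function.Surjective π) (hker : LinearMap.ker π = LinearMap.range (x • LinearMap.id : M →ₗ[R] M))
    (i : ℕ) (hvan : ∀ g, Van a ℳ i g) (E : GrLC.StarInjRes 𝒜 ℳ) (F : GrLC.StarInjRes 𝒜 𝒩) :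
    GrLC.endDeg (F.Hgr a i) = GrLC.endDeg (E.Hgr a (i + 1)) + ((k : WithTop ℤ) : WithBot (WithTop ℤ)) := by
  let f : (shG 𝒜 ℳ (-k)).carrier →ₗ[R] M := (x • LinearMap.id : M →ₗ[R] M)
  have hfgr : GrLC.IsGrHom (shG 𝒜 ℳ (-k)).gr ℳ f := fun g y hy => by
    change x • (y : M) ∈ ℳ g
    have h := smul_mem' 𝒜 ℳ hxk (show (y : M) ∈ ℳ (g + -k) from hy)
    rwa [show k + (g + -k) = g from by ring] at h
  obtain ⟨ψ, hψ⟩ := exists_map E F π hπ
  have hφ := isMap_smul' E (y := x) (d := k) hxk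
  obtain ⟨δ, hδ, -, hx2, hx3, -⟩ := exists_les (shiftRes E (-k)) E F a (f := f) hx hπs hker.symm hfgr hπ hφ hψ
  refine eq_of_forall_le_coe_iff fun d => ?_
  rw [endDeg_le_coe_iff, endDeg_add_coe_le_coe_iff]
  constructor
  · intro h g hg
    refine (AddSubgroup.eq_bot_iff_forall _).2 fun z hz => ?_
    have key : ∀ n : ℕ, ∀ g, d - k < g → ∀ z ∈ E.Hgr a (i + 1) g, x ^ n • z = 0 → z = 0 := by
      intro n
      induction n with
      | zero => intro g _ z _ hz; simpa using hz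
      | succ n ihn =>
        intro g hg z hz hxz
        rw [pow_succ, mul_smul] at hxz
        have hxz0 : x • z = 0 := ihn (k + g) (by omega) _ (smul_mem_Hgr E a (i + 1) hxk hz) hxz
        set z' := (unshift E (-k) a (i + 1)).symm z with hz'
        have hzz : unshift E (-k) a (i + 1) z' = z := LinearEquiv.apply_symm_apply _ z
        have hmem : z' ∈ (shiftRes E (-k)).Hgr a (i + 1) (g + k) := by
          rw [unshift_grHom, hzz, show g + k + -k = g from by ring]; exact hz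
        have h0 : hφ.Hmap a (i + 1) z' = 0 := by rw [Hmap_smul' E _ hxk, hzz]; exact hxz0
        obtain ⟨w, hw, hwz⟩ := exists_preimage a _ (hδ i) hmem ((hx3 i z').1 h0)
        rw [← hzz, ← hwz, show w = 0 from (AddSubgroup.mem_bot).1 (h (g + k) (by omega) ▸ hw), map_zero, map_zero]
    obtain ⟨n, hn⟩ := isPowerTorsion_H a E (i + 1) z
    exact key n g hg z hz (hn _ (Ideal.pow_mem_pow hxa n))
  · intro h g hg
    refine (AddSubgroup.eq_bot_iff_forall _).2 fun w hw => ?_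
    have h1 : δ i w = 0 := by
      refine (unshift E (-k) a (i + 1)).injective ?_
      rw [map_zero]
      exact (AddSubgroup.mem_bot).1 (h (g + -k) (by omega) ▸ (unshift_grHom E (-k) a (i + 1) g _).1 (hδ i g w hw))
    obtain ⟨v, hv, rfl⟩ := exists_preimage a _ (hψ.Hmap_grHom a i) hw ((hx2 i w).1 h1)
    rw [show v = 0 from (AddSubgroup.mem_bot).1 (hvan g E ▸ hv), map_zero]

omit [GradedRing 𝒜] in
lemma deg_nonneg_of_regular [Nontrivial R] (hpos : ∀ n : ℤ, n < 0 → 𝒜 n = ⊥) {x : R} {k : ℤ} (hxk : x ∈ 𝒜 k)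
    (hx : IsSMulRegular R x) : 0 ≤ k := by
  by_contra h
  rw [hpos k (not_le.1 h), AddSubgroup.mem_bot] at hxk
  subst hxk
  exact one_ne_zero (α := R) (hx (show (0 : R) • (1 : R) = (0 : R) • (0 : R) by simp))

/-- below the dimension the local cohomology of a Cohen–Macaulay *local ring vanishes -/
theorem van_below_dim [LocCoh.IsCohenMacaulayRing R] (hpos : ∀ n : ℤ, n < 0 → 𝒜 n = ⊥) {m : HomogeneousIdeal 𝒜}
    (hm : GrLC.IsStarLocal 𝒜 m) {n : ℕ} (hn : ringKrullDim R = n) {i : ℕ} (hi : i < n) (g : ℤ) : Van m 𝒜 i g := by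
  obtain ⟨E⟩ := nonempty_starInjRes 𝒜 𝒜
  obtain ⟨e⟩ := nonempty_H_equiv E m i
  have hh : m.toIdeal.height = n := by
    have := ringKrullDim_eq_height_starLocal hpos hm
    rw [hn] at this
    exact_mod_cast this.symm
  have hd : LocCoh.idealDepth m.toIdeal R = n :=
    (Groth.L04.isCohenMacaulayRing_iff_height.1 ‹_› m.toIdeal (starLocal_ne_top hm)).trans hh
  haveI := (Groth.L04.LC.le_idealDepth_iff_H m.toIdeal R n).1 hd.ge i hi
  exact van_of_subsingleton_H m E e.toEquiv.subsingleton g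

end Groth.L12.GrLCLib

namespace Groth.L12.GrLCLib

open Pointwise

variable {R : Type u} [CommRing R] {𝒜 : ℤ → AddSubgroup R} [GradedRing 𝒜]
variable {M : Type u} [AddCommGroup M] [Module R M] {ℳ : ℤ → AddSubgroup M} [DirectSum.Decomposition ℳ]
  [SetLike.GradedSMul 𝒜 ℳ]

/-- vanishing depends only on the torsion functor -/
theorem van_congr (a b : HomogeneousIdeal 𝒜)
    (h : ∀ (X : Type u) [AddCommGroup X] [Module R X], GrLC.gam a.toIdeal X = GrLC.gam b.toIdeal X)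
    {i : ℕ} {g : ℤ} (hv : Van a ℳ i g) : Van b ℳ i g := by
  intro E
  refine (AddSubgroup.eq_bot_iff_forall _).2 fun x hx => ?_
  obtain ⟨z, hz, rfl⟩ := hx
  have hmem : (z : (E.X i).carrier) ∈ E.cocyc a i := ⟨by rw [h]; exact z.2.1, z.2.2⟩
  have h0 : E.toH a i ⟨z, hmem⟩ = 0 := (AddSubgroup.mem_bot).1 (hv E ▸ ⟨⟨z, hmem⟩, hz, rfl⟩)
  refine (Submodule.Quotient.mk_eq_zero _).2 ?_
  have h1 := (Submodule.Quotient.mk_eq_zero _).1 h0
  cases i with
  | zero => exact h1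
  | succ n =>
    obtain ⟨y, hy, hy'⟩ := h1
    exact ⟨y, by rw [SetLike.mem_coe] at hy ⊢; rwa [← h], hy'⟩

/-- above the dimension local cohomology vanishes -/
theorem van_above_dim [IsNoetherianRing R] (a : HomogeneousIdeal 𝒜) {n : ℕ} (hn : ringKrullDim R ≤ n) {i : ℕ}
    (hi : n < i) (g : ℤ) : Van a ℳ i g := by
  obtain ⟨E⟩ := nonempty_starInjRes 𝒜 ℳ
  obtain ⟨e⟩ := nonempty_H_equiv E a i
  haveI := Groth.L04.LC.cdLE_of_ringKrullDim_le a.toIdeal n hn M i hi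
  exact van_of_subsingleton_H a E e.toEquiv.subsingleton g

/-- ends along a regular sequence -/
theorem endDeg_regSeq_eq (a : HomogeneousIdeal 𝒜) : ∀ (t : ℕ) (M : Type u) [AddCommGroup M] [Module R M]
    (ℳ : ℤ → AddSubgroup M) [DirectSum.Decomposition ℳ] [SetLike.GradedSMul 𝒜 ℳ] (f : Fin t → R) (deg : Fin t → ℤ),
    (∀ j, f j ∈ 𝒜 (deg j)) → (∀ j, f j ∈ a.toIdeal) → (∀ j, 0 ≤ deg j) →
    RingTheory.Sequence.IsWeaklyRegular M (List.ofFn f) → ∀ (n : ℕ), t ≤ n → (∀ i < n, ∀ g, Van a ℳ i g) →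
    ∀ (N : Type u) [AddCommGroup N] [Module R N] (𝒩 : ℤ → AddSubgroup N) [DirectSum.Decomposition 𝒩]
      [SetLike.GradedSMul 𝒜 𝒩] (π : M →ₗ[R] N), GrLC.IsGrHom ℳ 𝒩 π → Function.Surjective π →
      LinearMap.ker π = Ideal.span (Set.range f) • (⊤ : Submodule R M) →
      ∀ (E : GrLC.StarInjRes 𝒜 ℳ) (F : GrLC.StarInjRes 𝒜 𝒩),
      GrLC.endDeg (F.Hgr a (n - t)) =
        GrLC.endDeg (E.Hgr a n) + (((∑ j, deg j : ℤ) : WithTop ℤ) : WithBot (WithTop ℤ)) := by
  intro t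
  induction t with
  | zero =>
    intro M _ _ ℳ _ _ f deg _ _ _ _ n _ _ N _ _ 𝒩 _ _ π hπ hπs hker E F
    rw [Set.range_eq_empty f, Ideal.span_empty, Submodule.bot_smul] at hker
    have hinj : Function.Injective π := LinearMap.ker_eq_bot.1 hker
    let e : M ≃ₗ[R] N := LinearEquiv.ofBijective π ⟨hinj, hπs⟩
    have he : GrLC.IsGrHom 𝒩 ℳ e.symm.toLinearMap := fun g x hx => by
      have hx' : π (cp ℳ g (e.symm x)) = π (e.symm x) := by
        have := (cp_map ℳ 𝒩 π.toAddMonoidHom hπ g (e.symm x)).symm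
        change π (cp ℳ g (e.symm x)) = cp 𝒩 g (e (e.symm x)) at this
        rw [e.apply_symm_apply, cp_same 𝒩 hx] at this
        exact this.trans (e.apply_symm_apply x).symm
      exact (mem_iff_cp ℳ).2 (hinj hx')
    refine eq_of_forall_le_coe_iff fun d => ?_
    rw [endDeg_le_coe_iff, endDeg_add_coe_le_coe_iff]
    simp only [Finset.univ_eq_empty, Finset.sum_empty, sub_zero, Nat.sub_zero]
    exact forall₂_congr fun g _ =>
      ⟨fun h => van_of_iso a π e.symm.toLinearMap hπ he (fun x => e.symm_apply_apply x) (van_of_res a F h) E,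
       fun h => van_of_iso a e.symm.toLinearMap π he hπ (fun x => e.apply_symm_apply x) (van_of_res a E h) F⟩
  | succ t ih =>
    intro M _ _ ℳ _ _ f deg hfd hfa hd0 hreg n htn hvan N _ _ 𝒩 _ _ π hπ hπs hker E F
    rw [List.ofFn_succ, RingTheory.Sequence.isWeaklyRegular_cons_iff] at hreg
    set x := f 0 with hx0
    let φ : (shG 𝒜 ℳ (-deg 0)).carrier →ₗ[R] M := (x • LinearMap.id : M →ₗ[R] M)
    have hφgr : GrLC.IsGrHom (shG 𝒜 ℳ (-deg 0)).gr ℳ φ := fun g y hy => by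
      change x • (y : M) ∈ ℳ g
      have h := smul_mem' 𝒜 ℳ (hfd 0) (show (y : M) ∈ ℳ (g + -deg 0) from hy)
      rwa [show deg 0 + (g + -deg 0) = g from by ring] at h
    have hP : (x • (⊤ : Submodule R M)).IsHomogeneous ℳ := by
      intro g y hy
      obtain ⟨z, -, rfl⟩ := (Submodule.mem_smul_pointwise_iff_exists _ _ _).1 hy
      change cp ℳ g (x • z) ∈ _
      rw [cp_smul_hom' 𝒜 ℳ (hfd 0)]
      exact Submodule.smul_mem_pointwise_smul _ _ _ trivial
    let Q := quoG 𝒜 ℳ (x • (⊤ : Submodule R M)) hP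
    let q : M →ₗ[R] Q.carrier := (x • (⊤ : Submodule R M)).mkQ
    have hq : GrLC.IsGrHom ℳ Q.gr q := fun g y hy => ⟨y, hy, rfl⟩
    have hkerq : LinearMap.ker q = LinearMap.range (x • LinearMap.id : M →ₗ[R] M) := by
      refine (Submodule.ker_mkQ _).trans ?_
      ext y
      rw [Submodule.mem_smul_pointwise_iff_exists]
      exact ⟨fun ⟨z, _, hz⟩ => ⟨z, hz⟩, fun ⟨z, hz⟩ => ⟨z, trivial, hz⟩⟩
    obtain ⟨EQ⟩ := nonempty_starInjRes 𝒜 Q.gr
    have hvanQ : ∀ i < n - 1, ∀ g, Van a Q.gr i g := fun i hi g =>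
      van_right (ℳ₁ := (shG 𝒜 ℳ (-deg 0)).gr) (ℳ₂ := ℳ) (ℳ₃ := Q.gr) a (f := φ) (g := q) hreg.1
        (Submodule.mkQ_surjective _) hkerq.symm hφgr hq (hvan i (by omega) g)
        ((van_shift a (-deg 0)).2 (hvan (i + 1) (by omega) _))
    have hxle : x • (⊤ : Submodule R M) ≤ LinearMap.ker π := by
      rw [hker]
      rintro y hy
      obtain ⟨z, -, rfl⟩ := (Submodule.mem_smul_pointwise_iff_exists _ _ _).1 hy
      exact Submodule.smul_mem_smul (Ideal.subset_span ⟨0, rfl⟩) trivial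
    let π' : Q.carrier →ₗ[R] N := (x • (⊤ : Submodule R M)).liftQ π hxle
    have hπ' : GrLC.IsGrHom Q.gr 𝒩 π' := by
      rintro g _ ⟨y, hy, rfl⟩
      exact hπ g y hy
    have hπ's : Function.Surjective π' := fun y => by
      obtain ⟨z, rfl⟩ := hπs y
      exact ⟨q z, rfl⟩
    have hker' : LinearMap.ker π' = Ideal.span (Set.range fun j : Fin t => f j.succ) • (⊤ : Submodule R Q.carrier) := by
      refine (Submodule.ker_liftQ _ _ _).trans ?_
      rw [hker]
      have hr : Set.range f = insert x (Set.range fun j : Fin t => f j.succ) := by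
        conv_lhs => rw [← Fin.cons_self_tail f]
        rw [Fin.range_cons]
        rfl
      rw [hr, Ideal.span_insert, Submodule.sup_smul, Submodule.map_sup, Submodule.map_smul'', Submodule.map_smul'',
        Submodule.map_top, Submodule.range_mkQ]
      have hz : Ideal.span {x} • (⊤ : Submodule R (M ⧸ x • (⊤ : Submodule R M))) = ⊥ := eq_bot_iff.2 fun y hy => by
        refine Submodule.smul_induction_on hy (fun c hc w _ => ?_) fun _ _ => add_mem
        obtain ⟨d, rfl⟩ := Ideal.mem_span_singleton'.1 hc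
        obtain ⟨v, rfl⟩ := Submodule.Quotient.mk_surjective _ w
        rw [Submodule.mem_bot, mul_smul, ← Submodule.Quotient.mk_smul,
          (Submodule.Quotient.mk_eq_zero _).2 (Submodule.smul_mem_pointwise_smul v x ⊤ trivial), smul_zero]
      rw [hz]
      exact bot_sup_eq _
    have h1 := @ih Q.carrier Q.instAddCommGroupCarrier Q.instModuleCarrier Q.gr Q.dec Q.gsmul (fun j : Fin t => f j.succ) (fun j => deg j.succ) (fun j => hfd j.succ)
      (fun j => hfa j.succ) (fun j => hd0 j.succ) hreg.2 (n - 1) (by omega) hvanQ N _ _ 𝒩 _ _ π' hπ' hπ's hker' EQ F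
    have h2 := endDeg_quot_eq (N := Q.carrier) (𝒩 := Q.gr) a (hd0 0) (hfd 0) (hfa 0) hreg.1 q hq (Submodule.mkQ_surjective _) hkerq (n - 1)
      (hvan (n - 1) (by omega)) E EQ
    rw [show n - (t + 1) = n - 1 - t from by omega, h1, h2, show n - 1 + 1 = n from by omega, add_assoc,
      ← WithBot.coe_add, ← WithTop.coe_add, Fin.sum_univ_succ]

end Groth.L12.GrLCLib

namespace Groth.L12.GrLCLib

variable {R : Type u} [CommRing R] {𝒜 : ℤ → AddSubgroup R} [GradedRing 𝒜]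

variable (𝒜) in
/-- the ideal generated by the positive degrees -/
def posIdeal : HomogeneousIdeal 𝒜 :=
  ⟨Ideal.span (⋃ n ∈ Set.Ioi (0 : ℤ), (𝒜 n : Set R)), Ideal.homogeneous_span 𝒜 _ fun x hx => by
    obtain ⟨n, -, hn⟩ := Set.mem_iUnion₂.1 hx; exact ⟨n, hn⟩⟩

variable [IsNoetherianRing R] {m : HomogeneousIdeal 𝒜}

lemma mem_starLocal_of_pos (hpos : ∀ n : ℤ, n < 0 → 𝒜 n = ⊥) (hm : GrLC.IsStarLocal 𝒜 m) {n : ℤ} (hn : 0 < n)
    {v : R} (hv : v ∈ 𝒜 n) : v ∈ m.toIdeal :=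
  mem_starLocal_of_not_unit hm hv fun w hw h1 => by
    rw [hpos (-n) (by omega), AddSubgroup.mem_bot] at hw
    rw [hw, zero_mul] at h1
    exact starLocal_ne_top hm ((Ideal.eq_top_iff_one _).2 (h1 ▸ zero_mem _))

lemma posIdeal_le (hpos : ∀ n : ℤ, n < 0 → 𝒜 n = ⊥) (hm : GrLC.IsStarLocal 𝒜 m) :
    (posIdeal 𝒜).toIdeal ≤ m.toIdeal :=
  Ideal.span_le.2 fun x hx => by
    obtain ⟨n, hn, hxn⟩ := Set.mem_iUnion₂.1 hx
    exact mem_starLocal_of_pos hpos hm hn hxn

/-- components of an element outside degree zero lie in the ideal of positive degrees -/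
lemma sub_cp_zero_mem_posIdeal (hpos : ∀ n : ℤ, n < 0 → 𝒜 n = ⊥) (x : R) :
    x - cp 𝒜 0 x ∈ (posIdeal 𝒜).toIdeal := by
  obtain ⟨s, hs, hs'⟩ := exists_sum_cp 𝒜 x
  have hne : ∀ n : ℤ, n ≠ 0 → cp 𝒜 n x ∈ (posIdeal 𝒜).toIdeal := fun n hn => by
    rcases lt_or_gt_of_ne hn with h | h
    · have := cp_mem 𝒜 n x
      rw [hpos n h, AddSubgroup.mem_bot] at this
      rw [this]; exact zero_mem _
    · exact Ideal.subset_span (Set.mem_biUnion (Set.mem_Ioi.2 h) (cp_mem 𝒜 n x))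
  by_cases h0 : (0 : ℤ) ∈ s
  · rw [show x - cp 𝒜 0 x = ∑ n ∈ s.erase 0, cp 𝒜 n x from sub_eq_iff_eq_add'.2
      ((Finset.add_sum_erase _ _ h0).trans hs).symm]
    exact Ideal.sum_mem _ fun n hn => hne n (Finset.ne_of_mem_erase hn)
  · rw [show cp 𝒜 0 x = 0 from not_not.1 fun h => h0 (hs' 0 h), sub_zero, ← hs]
    exact Ideal.sum_mem _ fun n hn => hne n fun h => h0 (h ▸ hn)

/-- with Artinian degree zero part the positive degrees span the *maximal ideal up to radical -/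
theorem starLocal_pow_le_posIdeal (hpos : ∀ n : ℤ, n < 0 → 𝒜 n = ⊥) [IsArtinianRing (GrLC.deg0 𝒜)]
    (hm : GrLC.IsStarLocal 𝒜 m) : ∃ N : ℕ, m.toIdeal ^ N ≤ (posIdeal 𝒜).toIdeal := by
  refine Ideal.exists_pow_le_of_le_radical_of_fg ?_ (IsNoetherian.noetherian _)
  intro x hx
  rw [Ideal.radical_eq_sInf, Submodule.mem_sInf]
  rintro p ⟨hp, hprime⟩
  have hhom : p.IsHomogeneous 𝒜 := fun g y hy => by
    change cp 𝒜 g y ∈ p
    rcases lt_trichotomy g 0 with h | rfl | h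
    · have := cp_mem 𝒜 g y
      rw [hpos g h, AddSubgroup.mem_bot] at this
      rw [this]; exact zero_mem _
    · have := p.sub_mem hy (hp (sub_cp_zero_mem_posIdeal hpos y))
      rwa [sub_sub_cancel] at this
    · exact hp (Ideal.subset_span (Set.mem_biUnion (Set.mem_Ioi.2 h) (cp_mem 𝒜 g y)))
  have h0 : cp 𝒜 0 x ∈ p := by
    by_contra hxp
    haveI : (Ideal.comap (GrLC.deg0 𝒜).subtype p).IsPrime := Ideal.IsPrime.comap _
    haveI : (Ideal.comap (GrLC.deg0 𝒜).subtype p).IsMaximal := IsArtinianRing.isMaximal_of_isPrime _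
    obtain ⟨y, i, hi, hyi⟩ := Ideal.IsMaximal.exists_inv ‹(Ideal.comap (GrLC.deg0 𝒜).subtype p).IsMaximal›
      (show (⟨cp 𝒜 0 x, cp_mem 𝒜 0 x⟩ : GrLC.deg0 𝒜) ∉ Ideal.comap (GrLC.deg0 𝒜).subtype p from hxp)
    refine starLocal_ne_top hm ((Ideal.eq_top_iff_one _).2 ?_)
    have h1 : (y : R) * cp 𝒜 0 x + (i : R) = 1 := congrArg Subtype.val hyi
    rw [← h1]
    exact add_mem (m.toIdeal.mul_mem_left _ (m.isHomogeneous 0 hx)) (le_starLocal hm hhom hprime.ne_top hi)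
  have := p.add_mem (hp (sub_cp_zero_mem_posIdeal hpos x)) h0
  rwa [sub_add_cancel] at this

omit [IsNoetherianRing R] in
lemma gam_congr {I J : Ideal R} (hJI : J ≤ I) {N : ℕ} (hIJ : I ^ N ≤ J) (X : Type u) [AddCommGroup X] [Module R X] :
    GrLC.gam I X = GrLC.gam J X := by
  refine le_antisymm (fun x ⟨n, hn⟩ => ⟨n, fun c hc => hn c (Ideal.pow_right_mono hJI n hc)⟩)
    fun x ⟨n, hn⟩ => ⟨N * n, fun c hc => hn c ?_⟩
  rw [pow_mul] at hc
  exact Ideal.pow_right_mono hIJ n hc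

omit [IsNoetherianRing R] in
/-- `a(R) ≥ -dim R` for standard graded Cohen–Macaulay rings over an Artinian ring -/
theorem exists_top_ne_bot [LocCoh.IsCohenMacaulayRing R] (hpos : ∀ n : ℤ, n < 0 → 𝒜 n = ⊥)
    (hstd : Ideal.span (⋃ n ∈ Set.Ioi (0 : ℤ), (𝒜 n : Set R)) = Ideal.span ((𝒜 1 : AddSubgroup R) : Set R))
    [IsArtinianRing (GrLC.deg0 𝒜)] (hm : GrLC.IsStarLocal 𝒜 m) {d : ℕ} (hd : ringKrullDim R = d) :
    ∃ g : ℤ, -(d : ℤ) ≤ g ∧ ¬ Van m 𝒜 d g := by
  by_contra hcon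
  push Not at hcon
  obtain ⟨N, hN⟩ := starLocal_pow_le_posIdeal hpos hm
  have hvan : ∀ (i : ℕ) (g : ℤ), -(i : ℤ) ≤ g → Van (posIdeal 𝒜) 𝒜 i g := fun i g hg => by
    refine van_congr m (posIdeal 𝒜) (fun X _ _ => gam_congr (posIdeal_le hpos hm) hN X) ?_
    rcases lt_trichotomy i d with h | rfl | h
    · exact van_below_dim hpos hm hd h g
    · exact hcon g hg
    · exact van_above_dim m hd.le h g
  have h1 := (koszul_chase (ℳ := 𝒜) (posIdeal 𝒜) hstd 0).2 (hvan 0 0 (by simp))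
    (fun p => hvan _ _ (by push_cast; omega)) 1 (SetLike.one_mem_graded 𝒜)
  rw [smul_eq_mul, Ideal.mul_top] at h1
  exact starLocal_ne_top hm ((Ideal.eq_top_iff_one _).2 (posIdeal_le hpos hm h1))

end Groth.L12.GrLCLib
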