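import Groth.Agent.L12.GrLCInj
import Mathlib.Tactic
import Mathlib.RingTheory.GradedAlgebra.Radical
import Mathlib.Order.PiLex
import Mathlib.Algebra.Order.Group.PiLex

/-!
# Properties of *injective envelopes of graded primes
-/

set_option autoImplicit false

universe u

open DirectSum

namespace Groth.L12.GrLCLib

variable {ι : Type} [AddCommGroup ι] [DecidableEq ι]
variable {R : Type u} [CommRing R] {𝒜 : ι → AddSubgroup R} [GradedRing 𝒜]

/-- graded primality over a free grading group -/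
lemma isPrime_of_homog [Module.Free ℤ ι] [Module.Finite ℤ ι] {I : Ideal R} (hI : I.IsHomogeneous 𝒜) (hne : I ≠ ⊤)
    (h : ∀ {x y : R}, SetLike.IsHomogeneousElem 𝒜 x → SetLike.IsHomogeneousElem 𝒜 y → x * y ∈ I → x ∈ I ∨ y ∈ I) :
    I.IsPrime := by
  classical
  let bas := Module.Free.chooseBasis ℤ ι
  letI : Fintype (Module.Free.ChooseBasisIndex ℤ ι) := inferInstance
  let N := Fintype.card (Module.Free.ChooseBasisIndex ℤ ι)
  let g : ι → Lex (Fin N → ℤ) := fun x => toLex fun i => bas.repr x ((Fintype.equivFin _).symm i)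
  have hg : Function.Injective g := fun x y h => bas.repr.injective (Finsupp.ext fun l => by
    have := congrFun (toLex.injective h) (Fintype.equivFin _ l)
    simpa using this)
  have hgadd : ∀ x y, g (x + y) = g x + g y := fun x y => by
    simp only [g]
    rw [← toLex_add]
    congr 1
    funext i
    simp
  obtain ⟨L, hL⟩ : ∃ L : LinearOrder ι, ∀ x y c : ι, L.le x y → L.le (x + c) (y + c) := by
    refine ⟨LinearOrder.lift' g hg, fun x y c h => ?_⟩
    change g (x + c) ≤ g (y + c)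
    rw [hgadd, hgadd]
    exact add_le_add (show g x ≤ g y from h) le_rfl
  obtain rfl : ‹DecidableEq ι› = L.toDecidableEq := Subsingleton.elim _ _
  letI := L
  haveI : IsOrderedAddMonoid ι := { add_le_add_left := fun x y h c => hL x y c h }
  haveI : IsOrderedCancelAddMonoid ι := inferInstance
  exact Ideal.IsHomogeneous.isPrime_of_homogeneous_mem_or_mem hI hne h

variable {E : Type u} [AddCommGroup E] [Module R E] {τ : Type u} [SetLike τ E] [AddSubgroupClass τ E] {𝓔 : ι → τ}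
  [DirectSum.Decomposition 𝓔] [SetLike.GradedSMul 𝒜 𝓔]

include 𝒜 in
lemma span_singleton_isHomogeneous {g : ι} {x : E} (hx : x ∈ 𝓔 g) : (R ∙ x).IsHomogeneous 𝓔 :=
  span_isHomogeneous 𝒜 𝓔 fun y hy => ⟨g, by rw [Set.mem_singleton_iff] at hy; exact hy ▸ hx⟩

section Prime

variable {p : HomogeneousIdeal 𝒜} {e : (R ⧸ p.toIdeal) →ₗ[R] E}

lemma smul_e_eq_zero_iff (hinj : Function.Injective e) (r x : R) :
    r • e (Ideal.Quotient.mk p.toIdeal x) = 0 ↔ r * x ∈ p.toIdeal := by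
  rw [← map_smul, ← Ideal.Quotient.eq_zero_iff_mem]
  exact ⟨fun h => hinj (h.trans (map_zero e).symm), fun h => by
    rw [show r • Ideal.Quotient.mk p.toIdeal x = Ideal.Quotient.mk p.toIdeal (r * x) from rfl, h, map_zero]⟩

/-- every nonzero homogeneous element has a nonzero multiple in the image -/
lemma exists_smul_eq (he : GrLC.IsStarInjHull 𝒜 (GrLC.quotGr 𝒜 p) 𝓔 e) {g : ι} {z : E} (hz : z ∈ 𝓔 g) (hz0 : z ≠ 0) :
    ∃ (c x : R), c • z = e (Ideal.Quotient.mk p.toIdeal x) ∧ c • z ≠ 0 := by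
  obtain ⟨y, ⟨hy, q, hq⟩, hy0⟩ := (Submodule.ne_bot_iff _).1
    (he.essential (R ∙ z) (span_singleton_isHomogeneous (𝒜 := 𝒜) hz) (by rwa [ne_eq, Submodule.span_singleton_eq_bot]))
  obtain ⟨c, rfl⟩ := Submodule.mem_span_singleton.1 hy
  obtain ⟨x, rfl⟩ := Ideal.Quotient.mk_surjective q
  exact ⟨c, x, hq.symm, hy0⟩

theorem isStarIndec_hull [hp : p.toIdeal.IsPrime] (he : GrLC.IsStarInjHull 𝒜 (GrLC.quotGr 𝒜 p) 𝓔 e) :
    GrLC.IsStarIndec R 𝓔 := by
  refine ⟨⟨e (Ideal.Quotient.mk _ 1), 0, fun h => hp.ne_top ((Ideal.eq_top_iff_one _).2 (Ideal.Quotient.eq_zero_iff_mem.1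
    (he.injective (h.trans (map_zero e).symm))))⟩, fun P Q hP hQ hc => ?_⟩
  by_contra hcon
  push Not at hcon
  obtain ⟨a, ⟨haP, qa, hqa⟩, ha0⟩ := (Submodule.ne_bot_iff _).1 (he.essential P hP hcon.1)
  obtain ⟨b, ⟨hbQ, qb, hqb⟩, hb0⟩ := (Submodule.ne_bot_iff _).1 (he.essential Q hQ hcon.2)
  obtain ⟨x, rfl⟩ := Ideal.Quotient.mk_surjective qa
  obtain ⟨y, rfl⟩ := Ideal.Quotient.mk_surjective qb
  have hPQ : y • a ∈ P ⊓ Q := by
    refine ⟨P.smul_mem y haP, ?_⟩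
    have : y • a = x • b := by
      rw [← hqa, ← hqb, ← e.map_smul, ← e.map_smul,
        show y • Ideal.Quotient.mk p.toIdeal x = x • Ideal.Quotient.mk p.toIdeal y from
          congrArg (Ideal.Quotient.mk p.toIdeal) (mul_comm y x)]
    rw [this]
    exact Q.smul_mem x hbQ
  rw [hc.inf_eq_bot, Submodule.mem_bot, ← hqa, smul_e_eq_zero_iff he.injective] at hPQ
  rcases hp.mem_or_mem hPQ with h | h
  · exact hb0 (by rw [← hqb, Ideal.Quotient.eq_zero_iff_mem.2 h, map_zero])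
  · exact ha0 (by rw [← hqa, Ideal.Quotient.eq_zero_iff_mem.2 h, map_zero])

theorem smul_bijective_hull [hp : p.toIdeal.IsPrime] (he : GrLC.IsStarInjHull 𝒜 (GrLC.quotGr 𝒜 p) 𝓔 e) {g : ι} {r : R}
    (hr : r ∈ 𝒜 g) (hrp : r ∉ p.toIdeal) : Function.Bijective (fun x : E => r • x) := by
  let X := shG 𝒜 𝓔 (-g)
  let f : X.carrier →ₗ[R] E := (r • LinearMap.id : E →ₗ[R] E)
  have hfgr : GrLC.IsGrHom X.gr 𝓔 f := fun d z hz => by
    change r • (z : E) ∈ 𝓔 d
    have h := smul_mem' 𝒜 𝓔 hr (show (z : E) ∈ 𝓔 (d + -g) from hz)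
    rwa [show g + (d + -g) = d from by abel] at h
  have hinj : Function.Injective f := by
    rw [← LinearMap.ker_eq_bot]
    by_contra hne
    obtain ⟨y, ⟨hy, q, hq⟩, hy0⟩ := (Submodule.ne_bot_iff _).1 (he.essential (LinearMap.ker (r • LinearMap.id : E →ₗ[R] E))
      (fun d z hz => by
        change r • cp 𝓔 d z = 0
        rw [← cp_smul_hom 𝒜 𝓔 hr, show r • z = 0 from LinearMap.mem_ker.1 hz, map_zero]) hne)
    obtain ⟨x, rfl⟩ := Ideal.Quotient.mk_surjective q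
    have h0 : r • e (Ideal.Quotient.mk p.toIdeal x) = 0 := by rw [hq]; exact LinearMap.mem_ker.1 hy
    rw [smul_e_eq_zero_iff he.injective] at h0
    refine hy0 ?_
    rw [← hq, Ideal.Quotient.eq_zero_iff_mem.2 ((hp.mem_or_mem h0).resolve_left hrp), map_zero]
  obtain ⟨h, -, hh⟩ := exists_extend (starInj_shift he.starInj (-g)) f hfgr LinearMap.id (fun _ _ hz => hz)
    (by rw [LinearMap.ker_eq_bot.2 hinj]; exact bot_le)
  refine ⟨hinj, fun x => ⟨(h x : E), ?_⟩⟩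
  have h1 : h (r • x) = x := LinearMap.congr_fun hh x
  rw [map_smul] at h1
  exact h1

theorem gam_eq_top_hull [IsNoetherianRing R] (he : GrLC.IsStarInjHull 𝒜 (GrLC.quotGr 𝒜 p) 𝓔 e) :
    GrLC.gam p.toIdeal E = ⊤ := by
  refine eq_top_iff.2 ?_
  rintro z -
  induction z using induction_on_hom 𝓔 with
  | h0 => exact zero_mem _
  | ha a b ha hb => exact add_mem ha hb
  | hh d z hz =>
    have hnil : p.toIdeal ≤ (Submodule.annihilator (R ∙ z)).radical := fun c hc => by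
      obtain ⟨s, hs, -⟩ := exists_sum_cp 𝒜 c
      rw [← hs]
      refine Ideal.sum_mem _ fun b _ => ?_
      have hrp : cp 𝒜 b c ∈ p.toIdeal := p.isHomogeneous b hc
      generalize hgr : cp 𝒜 b c = r at hrp
      have hr : r ∈ 𝒜 b := hgr ▸ cp_mem 𝒜 b c
      let A : ℕ →o Ideal R := ⟨fun n => Submodule.annihilator (R ∙ (r ^ n • z)), fun n m hnm => by
        intro a ha
        rw [Submodule.mem_annihilator_span_singleton] at ha ⊢
        obtain ⟨j, rfl⟩ := Nat.exists_eq_add_of_le hnm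
        rw [pow_add, mul_comm, mul_smul, smul_comm, ha, smul_zero]⟩
      obtain ⟨n, hn⟩ := monotone_stabilizes_iff_noetherian.2 inferInstance A
      refine ⟨n, ?_⟩
      rw [Submodule.mem_annihilator_span_singleton]
      by_contra hw
      obtain ⟨a, x, hax, ha0⟩ := exists_smul_eq he (smul_mem' 𝒜 𝓔 (SetLike.pow_mem_graded n hr) hz) hw
      have h1 : r • (a • (r ^ n • z)) = 0 := by
        rw [hax, smul_e_eq_zero_iff he.injective]
        exact Ideal.mul_mem_right _ _ hrp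
      have h2 : a ∈ A (n + 1) := by
        change a ∈ Submodule.annihilator (R ∙ (r ^ (n + 1) • z))
        rw [Submodule.mem_annihilator_span_singleton, pow_succ', mul_smul, smul_comm, h1]
      rw [← hn (n + 1) n.le_succ] at h2
      exact ha0 ((Submodule.mem_annihilator_span_singleton _ _).1 h2)
    obtain ⟨N, hN⟩ := Ideal.exists_pow_le_of_le_radical_of_fg hnil (IsNoetherian.noetherian _)
    exact ⟨N, fun c hc => (Submodule.mem_annihilator_span_singleton _ _).1 (hN hc)⟩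

theorem eq_of_hull_equiv [hp : p.toIdeal.IsPrime] {q : HomogeneousIdeal 𝒜} [hq : q.toIdeal.IsPrime] {F : Type u}
    [AddCommGroup F] [Module R F] {τ' : Type u} [SetLike τ' F] [AddSubgroupClass τ' F] {𝓕 : ι → τ'}
    [DirectSum.Decomposition 𝓕] [SetLike.GradedSMul 𝒜 𝓕] {f : (R ⧸ q.toIdeal) →ₗ[R] F}
    (he : GrLC.IsStarInjHull 𝒜 (GrLC.quotGr 𝒜 p) 𝓔 e)
    (hf : GrLC.IsStarInjHull 𝒜 (GrLC.quotGr 𝒜 q) 𝓕 f) {g : ι} (φ : E ≃ₗ[R] F)
    (hφ : GrLC.IsGrHomDeg 𝓔 𝓕 φ.toLinearMap g) : p = q := by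
  have h1 : e (Ideal.Quotient.mk _ 1) ∈ 𝓔 0 := he.grHom 0 _ ⟨1, SetLike.one_mem_graded 𝒜, rfl⟩
  have hz0 : φ (e (Ideal.Quotient.mk _ 1)) ≠ 0 := fun h => hp.ne_top ((Ideal.eq_top_iff_one _).2
    (Ideal.Quotient.eq_zero_iff_mem.1 (he.injective ((φ.map_eq_zero_iff.1 h).trans (map_zero e).symm))))
  obtain ⟨c, x, hcx, hc0⟩ := exists_smul_eq hf (hφ 0 _ h1) hz0
  have hxq : x ∉ q.toIdeal := fun h => hc0 (by rw [hcx, Ideal.Quotient.eq_zero_iff_mem.2 h, map_zero])
  have hcp : c ∉ p.toIdeal := fun h => hc0 (by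
    change c • φ (e _) = 0
    rw [← map_smul, (smul_e_eq_zero_iff he.injective c 1).2 (by rwa [mul_one]), map_zero])
  refine HomogeneousIdeal.ext (Ideal.ext fun d => ?_)
  have key : d * c ∈ p.toIdeal ↔ d * x ∈ q.toIdeal := by
    rw [← smul_e_eq_zero_iff hf.injective, ← hcx]
    change _ ↔ d • c • φ (e _) = 0
    rw [← map_smul, ← map_smul, φ.map_eq_zero_iff, ← mul_smul, smul_e_eq_zero_iff he.injective, mul_one]
  exact ⟨fun h => (hq.mem_or_mem (key.1 (Ideal.mul_mem_right _ _ h))).resolve_right hxq,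
    fun h => (hp.mem_or_mem (key.2 (Ideal.mul_mem_right _ _ h))).resolve_right hcp⟩

end Prime

section Summand

variable {I : Type u} [AddCommGroup I] [Module R I] {τI : Type u} [SetLike τI I] [AddSubgroupClass τI I] {ℐ : ι → τI}
  [DirectSum.Decomposition ℐ] [SetLike.GradedSMul 𝒜 ℐ]

theorem exists_summand (hI : GrLC.IsStarInj 𝒜 ℐ) (q : HomogeneousIdeal 𝒜) {g₀ : ι} {m : I} (hm : m ∈ ℐ g₀)
    (hann : (R ∙ m).annihilator = q.toIdeal) :
    ∃ (X : GrLC.GMod.{u} 𝒜) (f : (R ⧸ q.toIdeal) →ₗ[R] X.carrier) (ψ : X.carrier →ₗ[R] I) (Q : Submodule R I),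
      GrLC.IsStarInjHull 𝒜 (fun j : ι => GrLC.quotGr 𝒜 q (j - g₀)) X.gr f ∧ Function.Injective ψ ∧
      GrLC.IsGrHom X.gr ℐ ψ ∧ ψ (f 1) = m ∧ Q.IsHomogeneous ℐ ∧ IsCompl (LinearMap.range ψ) Q := by
  let G := quoG 𝒜 𝒜 q.toIdeal q.isHomogeneous
  let W := shG 𝒜 G.gr (-g₀)
  obtain ⟨X, f, hf⟩ := exists_hull 𝒜 W.gr
  have hgr : ∀ j, (W.gr j : Set W.carrier) = (GrLC.quotGr 𝒜 q (j - g₀) : Set (R ⧸ q.toIdeal)) := fun j => by
    rw [sub_eq_add_neg]; rfl
  have hf' : GrLC.IsStarInjHull 𝒜 (fun j : ι => GrLC.quotGr 𝒜 q (j - g₀)) X.gr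
      (f : (R ⧸ q.toIdeal) →ₗ[R] X.carrier) :=
    { injective := hf.injective
      grHom := fun j y hy => hf.grHom j y ((hgr j).symm.subset hy)
      essential := hf.essential
      starInj := hf.starInj }
  let μ : W.carrier →ₗ[R] I := Submodule.liftQ q.toIdeal (LinearMap.toSpanSingleton R I m) fun c hc => by
    rw [LinearMap.mem_ker]
    exact (Submodule.mem_annihilator_span_singleton _ _).1 (hann.ge hc)
  have hμ : GrLC.IsGrHom W.gr ℐ μ := fun j y hy => by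
    obtain ⟨r, hr, rfl⟩ := (hgr j).subset hy
    change r • m ∈ ℐ j
    have := smul_mem' 𝒜 ℐ hr hm
    rwa [sub_add_cancel] at this
  have hμinj : Function.Injective μ := by
    refine LinearMap.ker_eq_bot.1 ((Submodule.ker_liftQ _ _ _).trans (eq_bot_iff.2 ?_))
    rintro _ ⟨c, hc, rfl⟩
    exact (Submodule.mem_bot R).2 ((Submodule.Quotient.mk_eq_zero _).2
      (hann.le ((Submodule.mem_annihilator_span_singleton _ _).2 (LinearMap.mem_ker.1 hc))))
  obtain ⟨ψ, hψ, hψc⟩ := exists_extend hI f hf.grHom μ hμ (by rw [LinearMap.ker_eq_bot.2 hf.injective]; exact bot_le)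
  have hψinj : Function.Injective ψ := by
    rw [← LinearMap.ker_eq_bot]
    by_contra hne
    refine hf.essential _ (ker_isHomogeneous X.gr ℐ hψ) hne ((Submodule.eq_bot_iff _).2 ?_)
    rintro x ⟨hx, y, rfl⟩
    have h0 : μ y = 0 := by rw [← hψc]; exact LinearMap.mem_ker.1 hx
    rw [hμinj (h0.trans (map_zero μ).symm), map_zero]
  obtain ⟨h, hh, hhc⟩ := exists_extend hf.starInj ψ hψ LinearMap.id (fun _ _ hz => hz)
    (by rw [LinearMap.ker_eq_bot.2 hψinj]; exact bot_le)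
  have hleft : ∀ x, h (ψ x) = x := LinearMap.congr_fun hhc
  refine ⟨X, f, ψ, LinearMap.ker h, hf', hψinj, hψ, ?_, ker_isHomogeneous ℐ X.gr hh, ?_, ?_⟩
  · refine (LinearMap.congr_fun hψc _).trans ?_
    exact one_smul R m
  · rw [disjoint_iff, Submodule.eq_bot_iff]
    rintro _ ⟨⟨x, rfl⟩, hx⟩
    rw [← hleft x, LinearMap.mem_ker.1 hx, map_zero]
  · rw [codisjoint_iff, eq_top_iff]
    intro y _
    refine Submodule.mem_sup.2 ⟨ψ (h y), ⟨_, rfl⟩, y - ψ (h y), ?_, add_sub_cancel _ _⟩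
    rw [LinearMap.mem_ker, map_sub, hleft, sub_self]

theorem exists_hull_of_indec [IsNoetherianRing R] [Module.Free ℤ ι] [Module.Finite ℤ ι] (hI : GrLC.IsStarInj 𝒜 ℐ)
    (hind : GrLC.IsStarIndec R ℐ) :
    ∃ (q : HomogeneousIdeal 𝒜) (g₀ : ι) (f : (R ⧸ q.toIdeal) →ₗ[R] I),
      q.toIdeal.IsPrime ∧ GrLC.IsStarInjHull 𝒜 (fun j : ι => GrLC.quotGr 𝒜 q (j - g₀)) ℐ f := by
  classical
  haveI := hind.1
  obtain ⟨z, hz⟩ := exists_ne (0 : I)
  obtain ⟨g, hg⟩ : ∃ g, cp ℐ g z ≠ 0 := by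
    by_contra hcon
    push Not at hcon
    exact hz (eq_zero_of_cp ℐ hcon)
  let S : Set (Ideal R) := {a | ∃ (d : ι) (w : I), w ∈ ℐ d ∧ w ≠ 0 ∧ (R ∙ w).annihilator = a}
  obtain ⟨q₀, ⟨g₀, m, hm, hm0, hann⟩, hmax⟩ :=
    set_has_maximal_iff_noetherian.2 (inferInstance : IsNoetherian R R) S ⟨_, g, _, cp_mem ℐ g z, hg, rfl⟩
  have hhom : q₀.IsHomogeneous 𝒜 := fun b c hc => by
    rw [← hann, Submodule.mem_annihilator_span_singleton] at hc ⊢
    change cp 𝒜 b c • m = 0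
    have := cp_smul_mem 𝒜 ℐ c hm (b + g₀)
    rw [hc, map_zero, add_sub_cancel_right] at this
    exact this.symm
  have hprime : Ideal.IsPrime q₀ := by
    refine isPrime_of_homog hhom ?_ fun {x y} hx hy hxy => ?_
    · rintro rfl
      exact hm0 (by simpa using (Submodule.mem_annihilator_span_singleton m (1 : R)).1 (hann.ge Submodule.mem_top))
    · by_contra hcon
      push Not at hcon
      obtain ⟨d, hd⟩ := hy
      have hym : y • m ≠ 0 := fun h => hcon.2 (hann ▸ (Submodule.mem_annihilator_span_singleton _ _).2 h)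
      refine hmax _ ⟨d + g₀, y • m, smul_mem' 𝒜 ℐ hd hm, hym, rfl⟩ (lt_of_le_of_ne (fun c hc => ?_) fun heq => hcon.1 ?_)
      · rw [← hann, Submodule.mem_annihilator_span_singleton] at hc
        rw [Submodule.mem_annihilator_span_singleton, smul_comm, hc, smul_zero]
      · rw [heq, Submodule.mem_annihilator_span_singleton, ← mul_smul]
        rw [← hann, Submodule.mem_annihilator_span_singleton] at hxy
        exact hxy
  let q : HomogeneousIdeal 𝒜 := ⟨q₀, hhom⟩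
  obtain ⟨X, f, ψ, Q, hf, hψinj, hψ, hψm, hQ, hc⟩ := exists_summand hI q hm hann
  have hQ0 : Q = ⊥ := by
    refine (hind.2 _ Q (range_isHomogeneous X.gr ℐ hψ) hQ hc).resolve_left fun h => hm0 ?_
    have : m ∈ LinearMap.range ψ := hψm ▸ LinearMap.mem_range_self _ _
    rwa [h, Submodule.mem_bot] at this
  have hψs : Function.Surjective ψ := by
    rw [← LinearMap.range_eq_top]
    simpa [hQ0] using hc.sup_eq_top
  refine ⟨q, g₀, ψ ∘ₗ f, hprime, ⟨⟨hψinj.comp hf.injective, fun j y hy => hψ j _ (hf.grHom j y hy),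
    fun P hP hne h => ?_⟩, hI⟩⟩
  refine hf.essential (P.comap ψ) (fun j x hx => ?_) (fun h0 => hne ?_) ((Submodule.eq_bot_iff _).2 ?_)
  · change ψ (cp X.gr j x) ∈ P
    rw [show ψ (cp X.gr j x) = cp ℐ j (ψ x) from (cp_map X.gr ℐ ψ.toAddMonoidHom hψ j x).symm]
    exact hP j hx
  · rw [Submodule.eq_bot_iff]
    intro y hy
    obtain ⟨x, rfl⟩ := hψs y
    have hx : x ∈ P.comap ψ := hy
    rw [h0, Submodule.mem_bot] at hx
    rw [hx, map_zero]
  · rintro x ⟨hx, y, rfl⟩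
    refine hψinj ?_
    rw [map_zero]
    exact (Submodule.mem_bot R).1 (h ▸ ⟨hx, ⟨y, rfl⟩⟩)

end Summand

end Groth.L12.GrLCLib
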