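import Groth.Agent.L12.GrLCInj
import Groth.Agent.L12.GrLCAinv
import Groth.Agent.L12.GrLCHullProps

/-!
# Graded duality over a positively graded ring with a field in degree zero
-/

set_option autoImplicit false

universe u

open DirectSum

namespace Groth.L12.GrLCLib

variable {R : Type u} [CommRing R] {𝒜 : ℤ → AddSubgroup R} [GradedRing 𝒜]
variable {X : Type u} [AddCommGroup X] [Module R X] {𝒳 : ℤ → AddSubgroup X} [DirectSum.Decomposition 𝒳]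
  [SetLike.GradedSMul 𝒜 𝒳]

variable (𝒜 𝒳) in
/-- `X` is the graded dual of `R`: `X_g` is dual to `R_{-g}` with values in the line `X_0` -/
structure IsDual : Prop where
  uniq : ∀ (g : ℤ) (x : X), x ∈ 𝒳 g → (∀ c ∈ 𝒜 (-g), c • x = 0) → x = 0
  line : ∃ u ∈ 𝒳 0, u ≠ 0 ∧ ∀ y ∈ 𝒳 0, ∃ r ∈ 𝒜 0, r • u = y
  exist : ∀ (g : ℤ) (lam : R → X), (∀ c ∈ 𝒜 (-g), lam c ∈ 𝒳 0) →
    (∀ a ∈ 𝒜 (-g), ∀ b ∈ 𝒜 (-g), lam (a + b) = lam a + lam b) →
    (∀ r ∈ 𝒜 0, ∀ c ∈ 𝒜 (-g), lam (r * c) = r • lam c) →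
    ∃ x ∈ 𝒳 g, ∀ c ∈ 𝒜 (-g), c • x = lam c

/-- homogeneity of the truncation ideal -/
lemma cp_mul_trunc (hpos : ∀ n : ℤ, n < 0 → 𝒜 n = ⊥) {g : ℤ} {u : R}
    (hu : ∀ d, d < g → cp 𝒜 d u = 0) (r : R) :
    cp 𝒜 g (r * u) = cp 𝒜 0 r * cp 𝒜 g u ∧ ∀ d, d < g → cp 𝒜 d (r * u) = 0 := by
  induction r using induction_on_hom 𝒜 with
  | h0 => simp
  | ha a b ha hb =>
    refine ⟨by rw [add_mul, map_add, ha.1, hb.1, map_add, add_mul], fun d hd => ?_⟩
    rw [add_mul, map_add, ha.2 d hd, hb.2 d hd, add_zero]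
  | hh e z hz =>
    have hmul : ∀ d, cp 𝒜 d (z * u) = z * cp 𝒜 (d - e) u := fun d => cp_smul_hom' 𝒜 𝒜 hz d u
    rcases lt_trichotomy e 0 with he | he | he
    · rw [hpos e he, AddSubgroup.mem_bot] at hz
      simp [hz]
    · subst he
      exact ⟨by rw [hmul, sub_zero, cp_same 𝒜 hz], fun d hd => by rw [hmul, sub_zero, hu d hd, mul_zero]⟩
    · exact ⟨by rw [hmul, hu _ (by omega), mul_zero, cp_ne 𝒜 hz he.ne', zero_mul], fun d hd => by rw [hmul, hu _ (by omega), mul_zero]⟩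

section Line

variable {m : HomogeneousIdeal 𝒜} {e : (R ⧸ m.toIdeal) →ₗ[R] X}

theorem isDual_of_hull [IsNoetherianRing R] (hpos : ∀ n : ℤ, n < 0 → 𝒜 n = ⊥) (h0 : IsField (GrLC.deg0 𝒜))
    (hm : GrLC.IsStarLocal 𝒜 m) (he : GrLC.IsStarInjHull 𝒜 (GrLC.quotGr 𝒜 m) 𝒳 e) : IsDual 𝒜 𝒳 := by
  have hmpos : ∀ n : ℤ, n ≠ 0 → ∀ v ∈ 𝒜 n, v ∈ m.toIdeal := fun n hn v hv => by
    rcases lt_or_gt_of_ne hn with h | h
    · rw [hpos n h, AddSubgroup.mem_bot] at hv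
      rw [hv]; exact zero_mem _
    · exact mem_starLocal_of_pos hpos hm h hv
  have hres : ∀ (x : R), e (Ideal.Quotient.mk _ x) = e (Ideal.Quotient.mk _ (cp 𝒜 0 x)) := fun x => by
    refine congrArg e (Ideal.Quotient.eq.2 ?_)
    obtain ⟨s, hs, hs'⟩ := exists_sum_cp 𝒜 x
    have : x - cp 𝒜 0 x = ∑ n ∈ s, (cp 𝒜 n x - cp 𝒜 0 (cp 𝒜 n x)) := by
      rw [Finset.sum_sub_distrib, hs, ← map_sum, hs]
    rw [this]
    refine Ideal.sum_mem _ fun n _ => ?_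
    by_cases hn : n = 0
    · subst hn; rw [cp_same 𝒜 (cp_mem 𝒜 0 x), sub_self]; exact zero_mem _
    · rw [cp_ne 𝒜 (cp_mem 𝒜 n x) hn, sub_zero]; exact hmpos n hn _ (cp_mem 𝒜 n x)
  set u := e (Ideal.Quotient.mk _ 1) with hu
  have hu0 : u ∈ 𝒳 0 := he.grHom 0 _ ⟨1, SetLike.one_mem_graded 𝒜, rfl⟩
  have hune : u ≠ 0 := fun h => starLocal_ne_top hm ((Ideal.eq_top_iff_one _).2
    (Ideal.Quotient.eq_zero_iff_mem.1 (he.injective (h.trans (map_zero e).symm))))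
  have hsoc : ∀ c ∈ m.toIdeal, c • u = 0 := fun c hc => by
    rw [hu, ← map_smul, show c • Ideal.Quotient.mk m.toIdeal 1 = Ideal.Quotient.mk m.toIdeal (c * 1) from rfl,
      mul_one, Ideal.Quotient.eq_zero_iff_mem.2 hc, map_zero]
  -- nonzero homogeneous elements reach degree zero
  have hreach : ∀ (g : ℤ) (x : X), x ∈ 𝒳 g → x ≠ 0 →
      ∃ c ∈ 𝒜 (-g), c • x ≠ 0 ∧ ∃ r ∈ 𝒜 0, c • x = r • u := by
    intro g x hx hx0
    obtain ⟨c, y, hc, hc0⟩ := exists_smul_eq he hx hx0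
    have hdeg : c • x ∈ 𝒳 0 := by
      rw [hc, hres]
      exact he.grHom 0 _ ⟨cp 𝒜 0 y, cp_mem 𝒜 0 y, rfl⟩
    have h1 := cp_smul_mem 𝒜 𝒳 c hx 0
    rw [zero_sub, cp_same _ hdeg] at h1
    refine ⟨cp 𝒜 (-g) c, cp_mem 𝒜 _ _, h1 ▸ hc0, cp 𝒜 0 y, cp_mem 𝒜 0 y, ?_⟩
    rw [← h1, hc, hres, hu, ← map_smul]
    exact congrArg e (congrArg (Ideal.Quotient.mk _) (mul_one _).symm)
  refine ⟨fun g x hx h => ?_, ⟨u, hu0, hune, fun y hy => ?_⟩, fun g lam hl hadd hsm => ?_⟩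
  · by_contra hx0
    obtain ⟨c, hc, hne, -⟩ := hreach g x hx hx0
    exact hne (h c hc)
  · by_cases hy0 : y = 0
    · exact ⟨0, zero_mem _, by rw [zero_smul, hy0]⟩
    obtain ⟨c, hc, hne, r, hr, hcr⟩ := hreach 0 y hy hy0
    rw [neg_zero] at hc
    have hc0 : (⟨c, hc⟩ : GrLC.deg0 𝒜) ≠ 0 := fun h => hne (by rw [show c = 0 from congrArg Subtype.val h, zero_smul])
    obtain ⟨b, hb⟩ := h0.mul_inv_cancel hc0
    refine ⟨(b : R) * r, by
      have := SetLike.mul_mem_graded (A := 𝒜) (show (b : R) ∈ 𝒜 0 from b.2) hr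
      rwa [add_zero] at this, ?_⟩
    rw [mul_smul, ← hcr, ← mul_smul, mul_comm, show (c : R) * (b : R) = 1 from congrArg Subtype.val hb, one_smul]
  · let J : Ideal R :=
      { carrier := {v | ∀ d, d < -g → cp 𝒜 d v = 0}
        add_mem' := fun {a b} ha hb d hd => by rw [map_add, ha d hd, hb d hd, add_zero]
        zero_mem' := fun d _ => map_zero _
        smul_mem' := fun r v hv d hd => (cp_mul_trunc hpos hv r).2 d hd }
    have hJ : J.IsHomogeneous 𝒜 := fun i v hv d hd => by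
      change cp 𝒜 d (cp 𝒜 i v) = 0
      by_cases hdi : i = d
      · subst hdi; rw [hv i hd, map_zero]
      · exact cp_ne 𝒜 (cp_mem 𝒜 i v) hdi
    have hlam0 : lam 0 = 0 := by
      have h1 := hadd 0 (zero_mem _) 0 (zero_mem _)
      rw [add_zero] at h1
      exact left_eq_add.1 h1
    have hposkill : ∀ r : R, ∀ y ∈ 𝒳 0, (∃ t ∈ 𝒜 0, t • u = y) → r • y = cp 𝒜 0 r • y := by
      rintro r _ - ⟨t, -, rfl⟩
      rw [smul_comm r t, smul_comm _ t]
      congr 1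
      rw [hu, ← e.map_smul, ← e.map_smul, show r • Ideal.Quotient.mk m.toIdeal 1 = Ideal.Quotient.mk m.toIdeal (r * 1) from rfl,
        show cp 𝒜 0 r • Ideal.Quotient.mk m.toIdeal 1 = Ideal.Quotient.mk m.toIdeal (cp 𝒜 0 r * 1) from rfl, mul_one, mul_one]
      exact hres r
    have hline : ∀ y ∈ 𝒳 0, ∃ t ∈ 𝒜 0, t • u = y := fun y hy => by
      by_cases hy0 : y = 0
      · exact ⟨0, zero_mem _, by rw [zero_smul, hy0]⟩
      obtain ⟨c, hc, hne, r, hr, hcr⟩ := hreach 0 y hy hy0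
      rw [neg_zero] at hc
      obtain ⟨b, hb⟩ := h0.mul_inv_cancel (a := (⟨c, hc⟩ : GrLC.deg0 𝒜))
        (fun h => hne (by rw [show c = 0 from congrArg Subtype.val h, zero_smul]))
      refine ⟨(b : R) * r, by
      have := SetLike.mul_mem_graded (A := 𝒜) (show (b : R) ∈ 𝒜 0 from b.2) hr
      rwa [add_zero] at this, ?_⟩
      rw [mul_smul, ← hcr, ← mul_smul, mul_comm, show (c : R) * (b : R) = 1 from congrArg Subtype.val hb, one_smul]
    let X' : GrLC.GMod.{u} 𝒜 := shG 𝒜 𝒳 g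
    let JG : GrLC.GMod.{u} 𝒜 := subG 𝒜 𝒜 J hJ
    let μ : J →ₗ[R] X :=
      { toFun := fun v => lam (cp 𝒜 (-g) (v : R))
        map_add' := fun v w => by
          change lam (cp 𝒜 (-g) ((v : R) + w)) = _
          rw [map_add, hadd _ (cp_mem 𝒜 _ _) _ (cp_mem 𝒜 _ _)]
        map_smul' := fun r v => by
          change lam (cp 𝒜 (-g) (r * (v : R))) = r • lam (cp 𝒜 (-g) (v : R))
          rw [(cp_mul_trunc hpos v.2 r).1, hsm _ (cp_mem 𝒜 0 r) _ (cp_mem 𝒜 _ _)]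
          exact (hposkill r _ (hl _ (cp_mem 𝒜 _ _)) (hline _ (hl _ (cp_mem 𝒜 _ _)))).symm }
    let μ' : JG.carrier →ₗ[R] X'.carrier := μ
    let incl : JG.carrier →ₗ[R] R := J.subtype
    have hincl : Function.Injective incl := Submodule.injective_subtype J
    have hμ : GrLC.IsGrHom JG.gr X'.gr μ' := fun d v hv => by
      change lam (cp 𝒜 (-g) (Subtype.val (p := fun y => y ∈ J) v)) ∈ 𝒳 (d + g)
      by_cases hd : d = -g
      · subst hd; rw [neg_add_cancel]; exact hl _ (cp_mem 𝒜 _ _)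
      · rw [cp_ne 𝒜 (show Subtype.val (p := fun y => y ∈ J) v ∈ 𝒜 d from hv) hd, hlam0]; exact zero_mem _
    have hincl' : GrLC.IsGrHom JG.gr 𝒜 incl := fun d v hv => hv
    obtain ⟨η, hη, hηc⟩ := exists_extend (starInj_shift he.starInj g) incl hincl' μ' hμ
      (by rw [LinearMap.ker_eq_bot.2 hincl]; exact bot_le)
    let η' : R →ₗ[R] X := η
    refine ⟨η' 1, ?_, fun c hc => ?_⟩
    · have h1 : η' 1 ∈ 𝒳 (0 + g) := hη 0 1 (SetLike.one_mem_graded 𝒜)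
      rwa [zero_add] at h1
    · have hcJ : c ∈ J := fun d hd => cp_ne 𝒜 hc hd.ne'
      rw [← η'.map_smul, smul_eq_mul, mul_one]
      have h1 : η' c = lam (cp 𝒜 (-g) c) := LinearMap.congr_fun hηc (⟨c, hcJ⟩ : J)
      rw [h1, cp_same 𝒜 hc]

end Line

section Inj

variable (h : IsDual 𝒜 𝒳)

include h in
/-- homogeneous maps into a dual are determined in degree zero -/
theorem IsDual.hom_ext {N : Type u} [AddCommGroup N] [Module R N] {𝒩 : ℤ → AddSubgroup N}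
    [DirectSum.Decomposition 𝒩] [SetLike.GradedSMul 𝒜 𝒩] (f f' : N →ₗ[R] X) (hf : GrLC.IsGrHom 𝒩 𝒳 f)
    (hf' : GrLC.IsGrHom 𝒩 𝒳 f') (h0 : ∀ n ∈ 𝒩 0, f n = f' n) : f = f' := by
  refine LinearMap.ext fun n => ?_
  induction n using induction_on_hom 𝒩 with
  | h0 => simp
  | ha a b ha hb => rw [map_add, map_add, ha, hb]
  | hh g n hn =>
    rw [← sub_eq_zero]
    refine h.uniq g _ (sub_mem (hf g n hn) (hf' g n hn)) fun c hc => ?_
    have := smul_mem' 𝒜 𝒩 hc hn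
    rw [neg_add_cancel] at this
    rw [smul_sub, ← map_smul, ← map_smul, h0 _ this, sub_self]

include h in
/-- maps into a dual extend from degree zero -/
theorem IsDual.exists_hom {N : Type u} [AddCommGroup N] [Module R N] {𝒩 : ℤ → AddSubgroup N}
    [DirectSum.Decomposition 𝒩] [SetLike.GradedSMul 𝒜 𝒩] (μ : N → X) (hμ : ∀ n ∈ 𝒩 0, μ n ∈ 𝒳 0)
    (hadd : ∀ a ∈ 𝒩 0, ∀ b ∈ 𝒩 0, μ (a + b) = μ a + μ b) (hsm : ∀ r ∈ 𝒜 0, ∀ n ∈ 𝒩 0, μ (r • n) = r • μ n) :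
    ∃ f : N →ₗ[R] X, GrLC.IsGrHom 𝒩 𝒳 f ∧ ∀ n ∈ 𝒩 0, f n = μ n := by
  classical
  have hdeg : ∀ (g : ℤ) (n : N), n ∈ 𝒩 g → ∀ c ∈ 𝒜 (-g), c • n ∈ 𝒩 0 := fun g n hn c hc => by
    have := smul_mem' 𝒜 𝒩 hc hn; rwa [neg_add_cancel] at this
  have hex : ∀ (g : ℤ) (n : N), n ∈ 𝒩 g → ∃ x ∈ 𝒳 g, ∀ c ∈ 𝒜 (-g), c • x = μ (c • n) := fun g n hn => by
    refine h.exist g _ (fun c hc => hμ _ (hdeg g n hn c hc)) (fun a ha b hb => ?_) fun r hr c hc => ?_
    · rw [add_smul, hadd _ (hdeg g n hn a ha) _ (hdeg g n hn b hb)]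
    · rw [mul_smul, hsm r hr _ (hdeg g n hn c hc)]
  choose v hv hv' using hex
  let φg : ∀ g, 𝒩 g →+ X := fun g => AddMonoidHom.mk' (fun n => v g n.1 n.2) fun a b => by
    rw [← sub_eq_zero]
    refine h.uniq g _ (sub_mem (hv g _ _) (add_mem (hv g _ _) (hv g _ _))) fun c hc => ?_
    rw [smul_sub, smul_add, hv' g _ _ c hc, hv' g _ _ c hc, hv' g _ _ c hc, sub_eq_zero, AddSubgroup.coe_add, smul_add,
      hadd _ (hdeg g a.1 a.2 c hc) _ (hdeg g b.1 b.2 c hc)]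
  let F : N →+ X := (DirectSum.toAddMonoid φg).comp (decomposeAddEquiv 𝒩).toAddMonoidHom
  have hF : ∀ g (n : N) (hn : n ∈ 𝒩 g), F n = v g n hn := fun g n hn => by
    change DirectSum.toAddMonoid φg (decompose 𝒩 n) = _
    rw [decompose_of_mem 𝒩 hn, DirectSum.toAddMonoid_of]
    rfl
  let f : N →ₗ[R] X :=
    { toFun := F
      map_add' := F.map_add
      map_smul' := fun r n => by
        change F (r • n) = r • F n
        induction r using induction_on_hom 𝒜 with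
        | h0 => simp
        | ha a b ha hb => rw [add_smul, add_smul, map_add, ha, hb]
        | hh e z hz =>
          induction n using induction_on_hom 𝒩 with
          | h0 => simp
          | ha a b ha hb => rw [smul_add, map_add, map_add, smul_add, ha, hb]
          | hh g w hw =>
            rw [hF _ _ (smul_mem' 𝒜 𝒩 hz hw), hF g w hw, ← sub_eq_zero]
            refine h.uniq (e + g) _ (sub_mem (hv _ _ _) (smul_mem' 𝒜 𝒳 hz (hv g w hw))) fun c hc => ?_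
            have hcz : c * z ∈ 𝒜 (-g) := by
              have := SetLike.mul_mem_graded hc hz
              rwa [show -(e + g) + e = -g by ring] at this
            rw [smul_sub, hv' _ _ _ c hc, ← mul_smul c z (v g w hw), hv' g w hw _ hcz, mul_smul, sub_self] }
  refine ⟨f, fun g n hn => ?_, fun n hn => ?_⟩
  · change F n ∈ 𝒳 g
    rw [hF g n hn]; exact hv g n hn
  · change F n = μ n
    rw [hF 0 n hn]
    have h1 := hv' 0 n hn 1 (by rw [neg_zero]; exact SetLike.one_mem_graded 𝒜)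
    rwa [one_smul, one_smul] at h1

include h in
/-- a dual is *injective -/
theorem IsDual.starInj (h0 : IsField (GrLC.deg0 𝒜)) : GrLC.IsStarInj 𝒜 𝒳 := by
  classical
  intro A B f hf hinj φ hφ
  letI : Field (GrLC.deg0 𝒜) := h0.toField
  let A0 : Submodule (GrLC.deg0 𝒜) A.carrier := GrLC.comp 𝒜 A.gr 0
  let B0 : Submodule (GrLC.deg0 𝒜) B.carrier := GrLC.comp 𝒜 B.gr 0
  let X0 : Submodule (GrLC.deg0 𝒜) X := GrLC.comp 𝒜 𝒳 0
  let f0 : A0 →ₗ[GrLC.deg0 𝒜] B0 :=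
    { toFun := fun a => ⟨f a, hf 0 a a.2⟩
      map_add' := fun a b => Subtype.ext (map_add f _ _)
      map_smul' := fun r a => Subtype.ext (map_smul f (r : R) (a : A.carrier)) }
  obtain ⟨π, hπ⟩ := LinearMap.exists_leftInverse_of_injective f0 (LinearMap.ker_eq_bot.2 fun a b e =>
    Subtype.ext (hinj (congrArg Subtype.val e)))
  let φ0 : A0 →ₗ[GrLC.deg0 𝒜] X0 :=
    { toFun := fun a => ⟨φ a, hφ 0 a a.2⟩
      map_add' := fun a b => Subtype.ext (map_add φ _ _)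
      map_smul' := fun r a => Subtype.ext (map_smul φ (r : R) (a : A.carrier)) }
  let μ : B.carrier → X := fun b => if hb : b ∈ B.gr 0 then (φ0 (π ⟨b, hb⟩) : X) else 0
  have hμ : ∀ (b : B.carrier) (hb : b ∈ B.gr 0), μ b = (φ0 (π ⟨b, hb⟩) : X) := fun b hb => dif_pos hb
  obtain ⟨ψ, hψ, hψ0⟩ := h.exists_hom (𝒩 := B.gr) μ (fun b hb => by rw [hμ b hb]; exact (φ0 _).2)
    (fun a ha b hb => by
      rw [hμ a ha, hμ b hb, hμ _ (add_mem ha hb), ← Submodule.coe_add, ← map_add, ← map_add]; rfl)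
    (fun r hr b hb => by
      have hrb : r • b ∈ B.gr 0 := by have := smul_mem' 𝒜 B.gr hr hb; rwa [add_zero] at this
      rw [hμ b hb, hμ _ hrb, show (⟨r • b, hrb⟩ : B0) = (⟨r, hr⟩ : GrLC.deg0 𝒜) • (⟨b, hb⟩ : B0) from rfl, map_smul, map_smul]
      rfl)
  refine ⟨ψ, hψ, h.hom_ext (𝒩 := A.gr) _ _ (fun g a ha => hψ g _ (hf g a ha)) hφ fun a ha => ?_⟩
  change ψ (f a) = φ a
  rw [hψ0 _ (hf 0 a ha), hμ _ (hf 0 a ha)]
  exact congrArg Subtype.val (congrArg φ0 (LinearMap.congr_fun hπ (⟨a, ha⟩ : A0)))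

end Inj

end Groth.L12.GrLCLib
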