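import Groth.Agent.L12.GrLCExt

/-!
# Graded local cohomology: functoriality, long exact sequence, comparison with local cohomology
-/

set_option autoImplicit false

universe u

open DirectSum

namespace Groth.L12.GrLCLib

variable {ι : Type} [AddCommGroup ι] [DecidableEq ι]
variable {R : Type u} [CommRing R] {σ : Type u} [SetLike σ R] [AddSubgroupClass σ R]
variable {𝒜 : ι → σ} [GradedRing 𝒜]

section Maps

variable {M : Type u} [AddCommGroup M] [Module R M] {τ : Type u} [SetLike τ M] [AddSubgroupClass τ M]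
  {ℳ : ι → τ} [DirectSum.Decomposition ℳ] [SetLike.GradedSMul 𝒜 ℳ]
variable {N : Type u} [AddCommGroup N] [Module R N] {τ' : Type u} [SetLike τ' N] [AddSubgroupClass τ' N]
  {𝒩 : ι → τ'} [DirectSum.Decomposition 𝒩] [SetLike.GradedSMul 𝒜 𝒩]
variable {P : Type u} [AddCommGroup P] [Module R P] {τ'' : Type u} [SetLike τ'' P] [AddSubgroupClass τ'' P]
  {𝒬 : ι → τ''} [DirectSum.Decomposition 𝒬] [SetLike.GradedSMul 𝒜 𝒬]

/-- a map of resolutions over `f` -/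
structure IsMap (E : GrLC.StarInjRes 𝒜 ℳ) (E' : GrLC.StarInjRes 𝒜 𝒩) (f : M →ₗ[R] N)
    (φ : ∀ n, (E.X n).carrier →ₗ[R] (E'.X n).carrier) : Prop where
  gr : ∀ n, GrLC.IsGrHom (E.X n).gr (E'.X n).gr (φ n)
  aug : φ 0 ∘ₗ E.ε = E'.ε ∘ₗ f
  comm : ∀ n, E'.d n ∘ₗ φ n = φ (n + 1) ∘ₗ E.d n

lemma d_d (E : GrLC.StarInjRes 𝒜 ℳ) (n : ℕ) (x : (E.X n).carrier) : E.d (n + 1) (E.d n x) = 0 :=
  LinearMap.mem_ker.1 ((E.exact_succ n).symm ▸ LinearMap.mem_range_self _ x)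

lemma d_ε (E : GrLC.StarInjRes 𝒜 ℳ) (m : M) : E.d 0 (E.ε m) = 0 :=
  LinearMap.mem_ker.1 (E.exact_zero.symm ▸ LinearMap.mem_range_self _ m)

/-- Maps of resolutions exist. -/
theorem exists_map (E : GrLC.StarInjRes 𝒜 ℳ) (E' : GrLC.StarInjRes 𝒜 𝒩) (f : M →ₗ[R] N) (hf : GrLC.IsGrHom ℳ 𝒩 f) :
    ∃ φ, IsMap E E' f φ := by
  obtain ⟨φ0, hφ0, hc0⟩ := exists_extend (E'.starInj 0) E.ε E.ε_grHom (E'.ε ∘ₗ f)
    (fun g m hm => E'.ε_grHom g _ (hf g m hm)) (by rw [LinearMap.ker_eq_bot.2 E.ε_injective]; exact bot_le)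
  let Q : ∀ n, ((E.X n).carrier →ₗ[R] (E'.X n).carrier) → Prop := fun n φ =>
    GrLC.IsGrHom (E.X n).gr (E'.X n).gr φ ∧ ∀ x, E.d n x = 0 → E'.d n (φ x) = 0
  have h0 : Q 0 φ0 := ⟨hφ0, fun x hx => by
    obtain ⟨m, rfl⟩ : x ∈ LinearMap.range E.ε := E.exact_zero ▸ hx
    rw [← LinearMap.comp_apply φ0, hc0]; exact d_ε E' (f m)⟩
  have hstep : ∀ n, ∀ φ : {φ // Q n φ}, ∃ φ' : {φ' // Q (n + 1) φ'}, φ'.1 ∘ₗ E.d n = E'.d n ∘ₗ φ.1 := by
    rintro n ⟨φ, hφ, hk⟩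
    obtain ⟨φ', hφ', hc⟩ := exists_extend (E'.starInj (n + 1)) (E.d n) (E.d_grHom n) (E'.d n ∘ₗ φ)
      (fun g x hx => E'.d_grHom n g _ (hφ g x hx)) (fun x hx => hk x hx)
    refine ⟨⟨φ', hφ', fun x hx => ?_⟩, hc⟩
    obtain ⟨y, rfl⟩ : x ∈ LinearMap.range (E.d n) := E.exact_succ n ▸ hx
    rw [← LinearMap.comp_apply φ', hc]; exact d_d E' n (φ y)
  choose next hnext using hstep
  let ψ : ∀ n, {φ // Q n φ} := fun n => Nat.rec ⟨φ0, h0⟩ (fun j φ => next j φ) n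
  exact ⟨fun n => (ψ n).1, fun n => (ψ n).2.1, hc0, fun n => (hnext n (ψ n)).symm⟩

variable {E : GrLC.StarInjRes 𝒜 ℳ} {E' : GrLC.StarInjRes 𝒜 𝒩} {E'' : GrLC.StarInjRes 𝒜 𝒬}

lemma IsMap.comp {f : M →ₗ[R] N} {g : N →ₗ[R] P} {φ : ∀ n, (E.X n).carrier →ₗ[R] (E'.X n).carrier}
    {ψ : ∀ n, (E'.X n).carrier →ₗ[R] (E''.X n).carrier} (hφ : IsMap E E' f φ) (hψ : IsMap E' E'' g ψ) :
    IsMap E E'' (g ∘ₗ f) fun n => ψ n ∘ₗ φ n where
  gr n d x hx := hψ.gr n d _ (hφ.gr n d x hx)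
  aug := by rw [LinearMap.comp_assoc, hφ.aug, ← LinearMap.comp_assoc, hψ.aug, LinearMap.comp_assoc]
  comm n := by rw [← LinearMap.comp_assoc, hψ.comm, LinearMap.comp_assoc, hφ.comm, LinearMap.comp_assoc]

lemma IsMap.id (E : GrLC.StarInjRes 𝒜 ℳ) : IsMap E E LinearMap.id fun _ => LinearMap.id where
  gr _ _ _ hx := hx
  aug := rfl
  comm _ := rfl

lemma IsMap.sub {f f' : M →ₗ[R] N} {φ φ' : ∀ n, (E.X n).carrier →ₗ[R] (E'.X n).carrier} (hφ : IsMap E E' f φ)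
    (hφ' : IsMap E E' f' φ') : IsMap E E' (f - f') fun n => φ n - φ' n where
  gr n d x hx := sub_mem (hφ.gr n d x hx) (hφ'.gr n d x hx)
  aug := by rw [LinearMap.sub_comp, hφ.aug, hφ'.aug, LinearMap.comp_sub]
  comm n := by rw [LinearMap.comp_sub, hφ.comm, hφ'.comm, LinearMap.sub_comp]

variable (a : HomogeneousIdeal 𝒜)

lemma IsMap.mem_cocyc {f : M →ₗ[R] N} {φ : ∀ n, (E.X n).carrier →ₗ[R] (E'.X n).carrier} (hφ : IsMap E E' f φ)
    {i : ℕ} {x : (E.X i).carrier} (hx : x ∈ E.cocyc a i) : φ i x ∈ E'.cocyc a i := by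
  refine ⟨gam_mono (φ i) hx.1, ?_⟩
  change E'.d i (φ i x) = 0
  rw [← LinearMap.comp_apply (E'.d i), hφ.comm, LinearMap.comp_apply, LinearMap.mem_ker.1 hx.2, map_zero]

lemma IsMap.mem_cobdy {f : M →ₗ[R] N} {φ : ∀ n, (E.X n).carrier →ₗ[R] (E'.X n).carrier} (hφ : IsMap E E' f φ)
    {i : ℕ} {x : (E.X i).carrier} (hx : x ∈ E.cobdy a i) : φ i x ∈ E'.cobdy a i := by
  cases i with
  | zero =>
    rw [show x = 0 from (Submodule.mem_bot R).1 hx, map_zero]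
    exact zero_mem _
  | succ n =>
    obtain ⟨y, hy, rfl⟩ := hx
    exact ⟨φ n y, gam_mono (φ n) hy, LinearMap.congr_fun (hφ.comm n) y⟩

/-- the induced map on graded local cohomology -/
noncomputable def IsMap.Hmap {f : M →ₗ[R] N} {φ : ∀ n, (E.X n).carrier →ₗ[R] (E'.X n).carrier} (hφ : IsMap E E' f φ)
    (i : ℕ) : E.H a i →ₗ[R] E'.H a i :=
  Submodule.mapQ _ _ ((φ i).restrict fun _ hx => hφ.mem_cocyc a hx) fun _ hx => hφ.mem_cobdy a hx

lemma IsMap.Hmap_toH {f : M →ₗ[R] N} {φ : ∀ n, (E.X n).carrier →ₗ[R] (E'.X n).carrier} (hφ : IsMap E E' f φ)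
    (i : ℕ) (z : E.cocyc a i) : hφ.Hmap a i (E.toH a i z) = E'.toH a i ⟨φ i z, hφ.mem_cocyc a z.2⟩ := rfl

lemma IsMap.Hmap_comp {f : M →ₗ[R] N} {g : N →ₗ[R] P} {φ : ∀ n, (E.X n).carrier →ₗ[R] (E'.X n).carrier}
    {ψ : ∀ n, (E'.X n).carrier →ₗ[R] (E''.X n).carrier} (hφ : IsMap E E' f φ) (hψ : IsMap E' E'' g ψ) (i : ℕ) :
    (hφ.comp hψ).Hmap a i = hψ.Hmap a i ∘ₗ hφ.Hmap a i :=
  Submodule.linearMap_qext _ (LinearMap.ext fun _ => rfl)

lemma IsMap.Hmap_grHom {f : M →ₗ[R] N} {φ : ∀ n, (E.X n).carrier →ₗ[R] (E'.X n).carrier} (hφ : IsMap E E' f φ)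
    (i : ℕ) : GrLC.IsGrHom (E.Hgr a i) (E'.Hgr a i) (hφ.Hmap a i) := by
  rintro g _ ⟨z, hz, rfl⟩
  exact ⟨⟨φ i z, hφ.mem_cocyc a z.2⟩, hφ.gr i g _ hz, rfl⟩

lemma IsMap.Hmap_eq_zero {φ : ∀ n, (E.X n).carrier →ₗ[R] (E'.X n).carrier} (hφ : IsMap E E' 0 φ) (i : ℕ) :
    hφ.Hmap a i = 0 := by
  let Q : ∀ n, ((E.X (n + 1)).carrier →ₗ[R] (E'.X n).carrier) → Prop := fun n h =>
    GrLC.IsGrHom (E.X (n + 1)).gr (E'.X n).gr h ∧ ∀ x, E.d (n + 1) x = 0 → φ (n + 1) x = E'.d n (h x)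
  obtain ⟨h0, hh0, hc0⟩ := exists_extend (E'.starInj 0) (E.d 0) (E.d_grHom 0) (φ 0) (hφ.gr 0) (fun x hx => by
    obtain ⟨m, rfl⟩ : x ∈ LinearMap.range E.ε := E.exact_zero ▸ hx
    rw [LinearMap.mem_ker, ← LinearMap.comp_apply (φ 0), hφ.aug, LinearMap.comp_zero, LinearMap.zero_apply])
  have hQ0 : Q 0 h0 := ⟨hh0, fun x hx => by
    obtain ⟨y, rfl⟩ : x ∈ LinearMap.range (E.d 0) := E.exact_succ 0 ▸ hx
    rw [← LinearMap.comp_apply h0, hc0, ← LinearMap.comp_apply (φ 1), ← hφ.comm, LinearMap.comp_apply]⟩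
  have hstep : ∀ n, ∀ h : {h // Q n h}, ∃ h' : {h' // Q (n + 1) h'},
      h'.1 ∘ₗ E.d (n + 1) = φ (n + 1) - E'.d n ∘ₗ h.1 := by
    rintro n ⟨h, hh, hk⟩
    obtain ⟨h', hh', hc⟩ := exists_extend (E'.starInj (n + 1)) (E.d (n + 1)) (E.d_grHom _) (φ (n + 1) - E'.d n ∘ₗ h)
      (fun g x hx => sub_mem (hφ.gr _ g x hx) (E'.d_grHom n g _ (hh g x hx))) (fun x hx => by
        rw [LinearMap.mem_ker, LinearMap.sub_apply, LinearMap.comp_apply, hk x hx, sub_self])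
    refine ⟨⟨h', hh', fun x hx => ?_⟩, hc⟩
    obtain ⟨y, rfl⟩ : x ∈ LinearMap.range (E.d (n + 1)) := E.exact_succ (n + 1) ▸ hx
    rw [← LinearMap.comp_apply h', hc, LinearMap.sub_apply, map_sub, LinearMap.comp_apply, d_d, sub_zero,
      ← LinearMap.comp_apply (φ (n + 1 + 1)), ← hφ.comm, LinearMap.comp_apply]
  choose next hnext using hstep
  let ψ : ∀ n, {h // Q n h} := fun n => Nat.rec ⟨h0, hQ0⟩ (fun j h => next j h) n
  refine Submodule.linearMap_qext _ (LinearMap.ext fun z => ?_)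
  change E'.toH a i ⟨φ i z, _⟩ = 0
  refine (Submodule.Quotient.mk_eq_zero _).2 ?_
  change φ i z ∈ E'.cobdy a i
  cases i with
  | zero =>
    rw [← hc0, LinearMap.comp_apply, LinearMap.mem_ker.1 z.2.2, map_zero]
    exact zero_mem _
  | succ n => exact ⟨(ψ n).1 z.1, gam_mono _ z.2.1, ((ψ n).2.2 z.1 (LinearMap.mem_ker.1 z.2.2)).symm⟩

/-- The induced map depends only on the map of modules. -/
lemma IsMap.Hmap_congr {f : M →ₗ[R] N} {φ φ' : ∀ n, (E.X n).carrier →ₗ[R] (E'.X n).carrier} (hφ : IsMap E E' f φ)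
    (hφ' : IsMap E E' f φ') (i : ℕ) : hφ.Hmap a i = hφ'.Hmap a i := by
  have h : IsMap E E' (0 : M →ₗ[R] N) fun n => φ n - φ' n := by
    have := hφ.sub hφ'
    rwa [sub_self] at this
  have h0 := h.Hmap_eq_zero a i
  refine Submodule.linearMap_qext _ (LinearMap.ext fun z => ?_)
  rw [← sub_eq_zero]
  refine Eq.trans ?_ (LinearMap.congr_fun h0 (E.toH a i z))
  change E'.toH a i _ - E'.toH a i _ = E'.toH a i _
  rw [← map_sub]
  rfl

lemma IsMap.Hmap_id (E : GrLC.StarInjRes 𝒜 ℳ) (i : ℕ) : (IsMap.id E).Hmap a i = LinearMap.id :=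
  Submodule.linearMap_qext _ (LinearMap.ext fun _ => rfl)

/-- Two resolutions give the same answer. -/
theorem exists_Hequiv (E E₂ : GrLC.StarInjRes 𝒜 ℳ) (i : ℕ) :
    ∃ e : E.H a i ≃ₗ[R] E₂.H a i, GrLC.IsGrHom (E.Hgr a i) (E₂.Hgr a i) e.toLinearMap ∧
      GrLC.IsGrHom (E₂.Hgr a i) (E.Hgr a i) e.symm.toLinearMap := by
  obtain ⟨φ, hφ⟩ := exists_map E E₂ LinearMap.id (fun _ _ h => h)
  obtain ⟨ψ, hψ⟩ := exists_map E₂ E LinearMap.id (fun _ _ h => h)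
  have h1 : hψ.Hmap a i ∘ₗ hφ.Hmap a i = LinearMap.id := by
    rw [← hφ.Hmap_comp, IsMap.Hmap_congr a (hφ.comp hψ) (IsMap.id E), IsMap.Hmap_id]
  have h2 : hφ.Hmap a i ∘ₗ hψ.Hmap a i = LinearMap.id := by
    rw [← hψ.Hmap_comp, IsMap.Hmap_congr a (hψ.comp hφ) (IsMap.id E₂), IsMap.Hmap_id]
  exact ⟨LinearEquiv.ofLinear (hφ.Hmap a i) (hψ.Hmap a i) h2 h1, hφ.Hmap_grHom a i, hψ.Hmap_grHom a i⟩

/-! ### the grading of `H` -/

lemma cp_cobdy (E : GrLC.StarInjRes 𝒜 ℳ) (i : ℕ) (g : ι) {x : (E.X i).carrier} (hx : x ∈ E.cobdy a i) :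
    cp (E.X i).gr g x ∈ E.cobdy a i := by
  cases i with
  | zero =>
    rw [show x = 0 from (Submodule.mem_bot R).1 hx, map_zero]
    exact zero_mem _
  | succ n =>
    obtain ⟨y, hy, rfl⟩ := hx
    exact ⟨cp (E.X n).gr g y, gam_isHomogeneous 𝒜 (E.X n).gr a g hy,
      (cp_map (E.X n).gr (E.X (n + 1)).gr (E.d n).toAddMonoidHom (E.d_grHom n) g y).symm⟩

lemma cp_cocyc (E : GrLC.StarInjRes 𝒜 ℳ) (i : ℕ) (g : ι) {x : (E.X i).carrier} (hx : x ∈ E.cocyc a i) :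
    cp (E.X i).gr g x ∈ E.cocyc a i :=
  ⟨gam_isHomogeneous 𝒜 (E.X i).gr a g hx.1, ker_isHomogeneous (E.X i).gr (E.X (i + 1)).gr (E.d_grHom i) g hx.2⟩

theorem Hgr_isInternal (E : GrLC.StarInjRes 𝒜 ℳ) (i : ℕ) : DirectSum.IsInternal (E.Hgr a i) := by
  let c : ι → (E.cocyc a i →+ E.cocyc a i) := fun g =>
    AddMonoidHom.mk' (fun z => ⟨cp (E.X i).gr g z, cp_cocyc a E i g z.2⟩) fun x y => Subtype.ext (by simp)
  refine isInternal_of_pr _ (fun g => QuotientAddGroup.lift _ ((E.toH a i).toAddMonoidHom.comp (c g))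
    fun z hz => (Submodule.Quotient.mk_eq_zero _).2 (cp_cobdy a E i g hz)) ?_ ?_ fun x => ?_
  · rintro g _ ⟨z, hz, rfl⟩
    exact congrArg (E.toH a i) (Subtype.ext (cp_same (E.X i).gr hz))
  · rintro g h hgh _ ⟨z, hz, rfl⟩
    refine (congrArg (E.toH a i) (Subtype.ext (cp_ne (E.X i).gr hz hgh) : c h z = 0)).trans (map_zero _)
  · obtain ⟨z, rfl⟩ := Submodule.Quotient.mk_surjective _ x
    obtain ⟨s, hs, -⟩ := exists_sum_cp (E.X i).gr (z : (E.X i).carrier)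
    have hz : z = ∑ g ∈ s, c g z := Subtype.ext (by
      rw [Submodule.coe_sum]
      exact hs.symm)
    change E.toH a i z ∈ _
    rw [hz, map_sum]
    exact sum_mem fun g _ => AddSubgroup.mem_iSup_of_mem g ⟨c g z, cp_mem _ g _, rfl⟩

/-- Cohomology classes are torsion. -/
lemma isPowerTorsion_H (E : GrLC.StarInjRes 𝒜 ℳ) (i : ℕ) (x : E.H a i) :
    ∃ n : ℕ, ∀ c ∈ a.toIdeal ^ n, c • x = 0 := by
  obtain ⟨z, rfl⟩ := Submodule.Quotient.mk_surjective _ x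
  obtain ⟨n, hn⟩ := z.2.1
  exact ⟨n, fun c hc => by rw [← Submodule.Quotient.mk_smul, show c • z = 0 from Subtype.ext (hn c hc), Submodule.Quotient.mk_zero]⟩

/-- `H⁰` is the torsion submodule. -/
theorem exists_H0_equiv (E : GrLC.StarInjRes 𝒜 ℳ) :
    ∃ e : GrLC.gam a.toIdeal M ≃ₗ[R] E.H a 0, ∀ (g : ι) (m : GrLC.gam a.toIdeal M), (m : M) ∈ ℳ g ↔ e m ∈ E.Hgr a 0 g := by
  have hmem : ∀ m : GrLC.gam a.toIdeal M, E.ε m ∈ E.cocyc a 0 := fun m => ⟨gam_mono E.ε m.2, d_ε E m⟩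
  let L : GrLC.gam a.toIdeal M →ₗ[R] E.cocyc a 0 :=
    LinearMap.codRestrict _ (E.ε ∘ₗ (GrLC.gam a.toIdeal M).subtype) hmem
  have hb : Function.Bijective (E.toH a 0 ∘ₗ L) := by
    refine ⟨fun x y hxy => Subtype.ext (E.ε_injective ?_), fun x => ?_⟩
    · have := (Submodule.Quotient.eq _).1 hxy
      exact sub_eq_zero.1 ((Submodule.mem_bot R).1 this)
    · obtain ⟨z, rfl⟩ := Submodule.Quotient.mk_surjective _ x
      obtain ⟨m, hm⟩ : (z : (E.X 0).carrier) ∈ LinearMap.range E.ε := E.exact_zero ▸ z.2.2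
      obtain ⟨n, hn⟩ := z.2.1
      refine ⟨⟨m, n, fun c hc => E.ε_injective (by rw [map_smul, hm, hn c hc, map_zero])⟩, ?_⟩
      exact congrArg (E.toH a 0) (Subtype.ext hm)
  refine ⟨LinearEquiv.ofBijective _ hb, fun g m => ⟨fun hm => ⟨L m, E.ε_grHom g m hm, rfl⟩, ?_⟩⟩
  rintro ⟨z, hz, hzm⟩
  have h0 : (z : (E.X 0).carrier) - (L m : (E.X 0).carrier) ∈ E.cobdy a 0 := (Submodule.Quotient.eq ((E.cobdy a 0).comap (E.cocyc a 0).subtype)).1 hzm
  have h1 : (z : (E.X 0).carrier) = E.ε m := sub_eq_zero.1 ((Submodule.mem_bot R).1 h0)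
  have h2 : cp ℳ g (m : M) = m := E.ε_injective (by
    rw [show E.ε (cp ℳ g (m : M)) = cp (E.X 0).gr g (E.ε m) from (cp_map ℳ (E.X 0).gr E.ε.toAddMonoidHom E.ε_grHom g m).symm,
      ← h1, cp_same _ hz])
  exact (mem_iff_cp ℳ).2 h2

end Maps

/-! ### the long exact sequence -/

section LES

variable {M₁ : Type u} [AddCommGroup M₁] [Module R M₁] {τ₁ : Type u} [SetLike τ₁ M₁] [AddSubgroupClass τ₁ M₁]
  {ℳ₁ : ι → τ₁} [DirectSum.Decomposition ℳ₁] [SetLike.GradedSMul 𝒜 ℳ₁]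
variable {M₂ : Type u} [AddCommGroup M₂] [Module R M₂] {τ₂ : Type u} [SetLike τ₂ M₂] [AddSubgroupClass τ₂ M₂]
  {ℳ₂ : ι → τ₂} [DirectSum.Decomposition ℳ₂] [SetLike.GradedSMul 𝒜 ℳ₂]
variable {M₃ : Type u} [AddCommGroup M₃] [Module R M₃] {τ₃ : Type u} [SetLike τ₃ M₃] [AddSubgroupClass τ₃ M₃]
  {ℳ₃ : ι → τ₃} [DirectSum.Decomposition ℳ₃] [SetLike.GradedSMul 𝒜 ℳ₃]
variable (E₁ : GrLC.StarInjRes 𝒜 ℳ₁) (E₂ : GrLC.StarInjRes 𝒜 ℳ₂) (E₃ : GrLC.StarInjRes 𝒜 ℳ₃) (a : HomogeneousIdeal 𝒜)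

variable (t : ∀ n, (E₃.X n).carrier →ₗ[R] (E₁.X (n + 1)).carrier)

/-- the terms of the horseshoe -/
noncomputable def hsX (n : ℕ) : GrLC.GMod.{u} 𝒜 := prodG 𝒜 (E₁.X n).gr (E₃.X n).gr

/-- the differential of the horseshoe -/
noncomputable def hsd (n : ℕ) : (hsX E₁ E₃ n).carrier →ₗ[R] (hsX E₁ E₃ (n + 1)).carrier :=
  LinearMap.prod ((E₁.d n).coprod (t n)) ((E₃.d n) ∘ₗ LinearMap.snd R _ _)

variable {f : M₁ →ₗ[R] M₂} {g : M₂ →ₗ[R] M₃} (hf : Function.Injective f) (hg : Function.Surjective g)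
  (hfg : LinearMap.range f = LinearMap.ker g) (hfgr : GrLC.IsGrHom ℳ₁ ℳ₂ f) (hggr : GrLC.IsGrHom ℳ₂ ℳ₃ g)
  {e : M₂ →ₗ[R] (E₁.X 0).carrier}

/-- the augmentation of the horseshoe -/
noncomputable def hsε (e : M₂ →ₗ[R] (E₁.X 0).carrier) (g : M₂ →ₗ[R] M₃) : M₂ →ₗ[R] (hsX E₁ E₃ 0).carrier :=
  LinearMap.prod e (E₃.ε ∘ₗ g)

include hf hg hfg hfgr hggr in
/-- The horseshoe. -/
theorem exists_horseshoe :
    ∃ (t : ∀ n, (E₃.X n).carrier →ₗ[R] (E₁.X (n + 1)).carrier) (E : GrLC.StarInjRes 𝒜 ℳ₂)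
      (ι₁ : ∀ n, (E₁.X n).carrier →ₗ[R] (E.X n).carrier) (π₃ : ∀ n, (E.X n).carrier →ₗ[R] (E₃.X n).carrier)
      (sec : ∀ n, (E₃.X n).carrier →ₗ[R] (E.X n).carrier),
      IsMap E₁ E f ι₁ ∧ IsMap E E₃ g π₃ ∧ (∀ n, GrLC.IsGrHom (E₃.X n).gr (E₁.X (n + 1)).gr (t n)) ∧
      (∀ n, Function.Injective (ι₁ n)) ∧ (∀ n x, π₃ n (sec n x) = x) ∧
      (∀ n x, π₃ n x = 0 → x ∈ LinearMap.range (ι₁ n)) ∧ (∀ n x, π₃ n (ι₁ n x) = 0) ∧
      ∀ n x, E.d n (sec n x) = ι₁ (n + 1) (t n x) + sec (n + 1) (E₃.d n x) := by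
  obtain ⟨e, he, hec⟩ := exists_extend (E₁.starInj 0) f hfgr E₁.ε E₁.ε_grHom
    (by rw [LinearMap.ker_eq_bot.2 hf]; exact bot_le)
  obtain ⟨s0, hs0, hs0c⟩ := exists_extend (E₁.starInj 1) g hggr (-(E₁.d 0 ∘ₗ e))
    (fun d x hx => neg_mem (E₁.d_grHom 0 d _ (he d x hx))) (fun x hx => by
      obtain ⟨m, rfl⟩ : x ∈ LinearMap.range f := hfg ▸ hx
      rw [LinearMap.mem_ker, LinearMap.neg_apply, LinearMap.comp_apply, ← LinearMap.comp_apply e, hec, d_ε, neg_zero])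
  obtain ⟨t0, ht0, ht0c⟩ := exists_extend (E₁.starInj 1) E₃.ε E₃.ε_grHom s0 hs0
    (by rw [LinearMap.ker_eq_bot.2 E₃.ε_injective]; exact bot_le)
  let Q : ∀ n, ((E₃.X n).carrier →ₗ[R] (E₁.X (n + 1)).carrier) → Prop := fun n t =>
    GrLC.IsGrHom (E₃.X n).gr (E₁.X (n + 1)).gr t ∧ ∀ x, E₃.d n x = 0 → E₁.d (n + 1) (t x) = 0
  have hQ0 : Q 0 t0 := ⟨ht0, fun x hx => by
    obtain ⟨m, rfl⟩ : x ∈ LinearMap.range E₃.ε := E₃.exact_zero ▸ hx
    obtain ⟨m, rfl⟩ := hg m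
    rw [← LinearMap.comp_apply t0, ht0c, ← LinearMap.comp_apply s0, hs0c, LinearMap.neg_apply, map_neg,
      LinearMap.comp_apply, d_d, neg_zero]⟩
  have hstep : ∀ n, ∀ t : {t // Q n t}, ∃ t' : {t' // Q (n + 1) t'}, t'.1 ∘ₗ E₃.d n = -(E₁.d (n + 1) ∘ₗ t.1) := by
    rintro n ⟨t, ht, hk⟩
    obtain ⟨t', ht', hc⟩ := exists_extend (E₁.starInj (n + 1 + 1)) (E₃.d n) (E₃.d_grHom n) (-(E₁.d (n + 1) ∘ₗ t))
      (fun d x hx => neg_mem (E₁.d_grHom _ d _ (ht d x hx))) (fun x hx => by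
        rw [LinearMap.mem_ker, LinearMap.neg_apply, LinearMap.comp_apply, hk x hx, neg_zero])
    refine ⟨⟨t', ht', fun x hx => ?_⟩, hc⟩
    obtain ⟨y, rfl⟩ : x ∈ LinearMap.range (E₃.d n) := E₃.exact_succ n ▸ hx
    rw [← LinearMap.comp_apply t', hc, LinearMap.neg_apply, map_neg, LinearMap.comp_apply, d_d, neg_zero]
  choose next hnext using hstep
  let ψ : ∀ n, {t // Q n t} := fun n => Nat.rec ⟨t0, hQ0⟩ (fun j t => next j t) n
  let t : ∀ n, (E₃.X n).carrier →ₗ[R] (E₁.X (n + 1)).carrier := fun n => (ψ n).1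
  have ht : ∀ n x, t (n + 1) (E₃.d n x) = -E₁.d (n + 1) (t n x) := fun n x => LinearMap.congr_fun (hnext n (ψ n)) x
  have hte : ∀ m, t 0 (E₃.ε (g m)) = -E₁.d 0 (e m) := fun m => by
    rw [← LinearMap.comp_apply (t 0), show t 0 ∘ₗ E₃.ε = s0 from ht0c, ← LinearMap.comp_apply s0, hs0c]
    rfl
  let i₁ : ∀ n, (E₁.X n).carrier →ₗ[R] (hsX E₁ E₃ n).carrier := fun n => LinearMap.inl R _ _
  let p₃ : ∀ n, (hsX E₁ E₃ n).carrier →ₗ[R] (E₃.X n).carrier := fun n => LinearMap.snd R _ _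
  let s₃ : ∀ n, (E₃.X n).carrier →ₗ[R] (hsX E₁ E₃ n).carrier := fun n => LinearMap.inr R _ _
  have hd : ∀ n, GrLC.IsGrHom (hsX E₁ E₃ n).gr (hsX E₁ E₃ (n + 1)).gr (hsd E₁ E₃ t n) := fun n d x hx =>
    AddSubgroup.mem_prod.2 ⟨add_mem (E₁.d_grHom n d _ (AddSubgroup.mem_prod.1 hx).1) ((ψ n).2.1 d _ (AddSubgroup.mem_prod.1 hx).2),
      E₃.d_grHom n d _ (AddSubgroup.mem_prod.1 hx).2⟩
  let E : GrLC.StarInjRes 𝒜 ℳ₂ :=
    { X := hsX E₁ E₃
      d := hsd E₁ E₃ t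
      ε := hsε E₁ E₃ e g
      d_grHom := hd
      ε_grHom := fun d m hm => AddSubgroup.mem_prod.2 ⟨he d m hm, E₃.ε_grHom d _ (hggr d m hm)⟩
      ε_injective := by
        rw [← LinearMap.ker_eq_bot, Submodule.eq_bot_iff]
        intro m hm
        have h1 : e m = 0 := congrArg Prod.fst hm
        have h2 : E₃.ε (g m) = 0 := congrArg Prod.snd hm
        obtain ⟨m', rfl⟩ : m ∈ LinearMap.range f := hfg ▸ E₃.ε_injective (h2.trans (map_zero E₃.ε).symm)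
        rw [← LinearMap.comp_apply e, hec] at h1
        rw [E₁.ε_injective (h1.trans (map_zero E₁.ε).symm), map_zero]
      exact_zero := by
        refine le_antisymm (fun x hx => ?_) ?_
        · have h1 : E₁.d 0 x.1 + t 0 x.2 = 0 := congrArg Prod.fst hx
          have h2 : E₃.d 0 x.2 = 0 := congrArg Prod.snd hx
          obtain ⟨m₃, hm₃⟩ : x.2 ∈ LinearMap.range E₃.ε := E₃.exact_zero ▸ h2
          obtain ⟨m, rfl⟩ := hg m₃
          have h3 : x.1 - e m ∈ LinearMap.ker (E₁.d 0) := by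
            rw [← hm₃, hte, ← sub_eq_add_neg] at h1
            rw [LinearMap.mem_ker, map_sub]
            exact h1
          rw [E₁.exact_zero] at h3
          obtain ⟨m', hm'⟩ := h3
          refine ⟨m + f m', Prod.ext ?_ ?_⟩
          · change e (m + f m') = x.1
            rw [map_add, ← LinearMap.comp_apply e f, hec, hm', add_sub_cancel]
          · change E₃.ε (g (m + f m')) = x.2
            rw [map_add, show g (f m') = 0 from LinearMap.mem_ker.1 (hfg ▸ LinearMap.mem_range_self f m'), add_zero, hm₃]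
        · rintro _ ⟨m, rfl⟩
          refine Prod.ext ?_ ?_
          · change E₁.d 0 (e m) + t 0 (E₃.ε (g m)) = 0
            rw [hte, add_neg_cancel]
          · exact d_ε E₃ (g m)
      exact_succ := fun n => by
        refine le_antisymm (fun x hx => ?_) ?_
        · have h1 : E₁.d (n + 1) x.1 + t (n + 1) x.2 = 0 := congrArg Prod.fst hx
          have h2 : E₃.d (n + 1) x.2 = 0 := congrArg Prod.snd hx
          obtain ⟨y, hy⟩ : x.2 ∈ LinearMap.range (E₃.d n) := E₃.exact_succ n ▸ h2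
          have h3 : x.1 - t n y ∈ LinearMap.ker (E₁.d (n + 1)) := by
            rw [← hy, ht, ← sub_eq_add_neg] at h1
            rw [LinearMap.mem_ker, map_sub]
            exact h1
          rw [E₁.exact_succ n] at h3
          obtain ⟨z, hz⟩ := h3
          refine ⟨(z, y), Prod.ext ?_ hy⟩
          change E₁.d n z + t n y = x.1
          rw [hz, sub_add_cancel]
        · rintro _ ⟨y, rfl⟩
          refine Prod.ext ?_ (d_d E₃ n y.2)
          change E₁.d (n + 1) (E₁.d n y.1 + t n y.2) + t (n + 1) (E₃.d n y.2) = 0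
          rw [map_add, d_d, zero_add, ht, add_neg_cancel]
      starInj := fun n => starInj_prod (E₁.starInj n) (E₃.starInj n) }
  refine ⟨t, E, i₁, p₃, s₃, ?_, ?_, fun n => (ψ n).2.1, fun n => LinearMap.inl_injective, fun n x => rfl,
    fun n x hx => ⟨x.1, Prod.ext rfl (Eq.symm hx)⟩, fun n x => rfl, fun n x => ?_⟩
  · refine ⟨fun n d x hx => AddSubgroup.mem_prod.2 ⟨hx, zero_mem _⟩, LinearMap.ext fun m => Prod.ext ?_ ?_, fun n => LinearMap.ext fun x => Prod.ext ?_ ?_⟩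
    · change E₁.ε m = e (f m)
      rw [← LinearMap.comp_apply e f, hec]
    · change (0 : (E₃.X 0).carrier) = E₃.ε (g (f m))
      rw [show g (f m) = 0 from LinearMap.mem_ker.1 (hfg ▸ LinearMap.mem_range_self f m), map_zero]
    · change E₁.d n x + t n 0 = E₁.d n x
      rw [map_zero, add_zero]
    · change E₃.d n 0 = 0
      exact map_zero _
  · exact ⟨fun n d x hx => (AddSubgroup.mem_prod.1 hx).2, rfl, fun n => rfl⟩
  · refine Prod.ext ?_ ?_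
    · change E₁.d n 0 + t n x = t n x + 0
      rw [map_zero, zero_add, add_zero]
    · change E₃.d n x = 0 + E₃.d n x
      rw [zero_add]

variable {φ : ∀ n, (E₁.X n).carrier →ₗ[R] (E₂.X n).carrier} {ψ : ∀ n, (E₂.X n).carrier →ₗ[R] (E₃.X n).carrier}

include hf hg hfg hfgr hggr in
/-- The long exact sequence of graded local cohomology. -/
theorem exists_les (hφ : IsMap E₁ E₂ f φ) (hψ : IsMap E₂ E₃ g ψ) :
    ∃ δ : ∀ i, E₃.H a i →ₗ[R] E₁.H a (i + 1),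
      (∀ i, GrLC.IsGrHom (E₃.Hgr a i) (E₁.Hgr a (i + 1)) (δ i)) ∧
      (∀ i, Function.Exact (hφ.Hmap a i) (hψ.Hmap a i)) ∧
      (∀ i, Function.Exact (hψ.Hmap a i) (δ i)) ∧
      (∀ i, Function.Exact (δ i) (hφ.Hmap a (i + 1))) ∧
      Function.Injective (hφ.Hmap a 0) := by
  obtain ⟨t, E, ι₁, π₃, sec, hι, hπ, htgr, hinj, hsec, hker, hπι, hds⟩ := exists_horseshoe E₁ E₃ hf hg hfg hfgr hggr
  have hsΓ : ∀ n {x}, x ∈ GrLC.gam a.toIdeal (E₃.X n).carrier → sec n x ∈ GrLC.gam a.toIdeal (E.X n).carrier :=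
    fun n {x} hx => gam_mono (sec n) hx
  have hΓ : ∀ n {x}, ι₁ n x ∈ GrLC.gam a.toIdeal (E.X n).carrier → x ∈ GrLC.gam a.toIdeal (E₁.X n).carrier :=
    fun n {x} ⟨m, hm⟩ => ⟨m, fun c hc => hinj n (by rw [map_smul, hm c hc, map_zero])⟩
  have hdι : ∀ n x, E.d n (ι₁ n x) = ι₁ (n + 1) (E₁.d n x) := fun n x => LinearMap.congr_fun (hι.comm n) x
  have hdπ : ∀ n x, E₃.d n (π₃ n x) = π₃ (n + 1) (E.d n x) := fun n x => LinearMap.congr_fun (hπ.comm n) x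
  have htd : ∀ n x, E₁.d (n + 1) (t n x) + t (n + 1) (E₃.d n x) = 0 := fun n x => by
    have h := d_d E n (sec n x)
    rw [hds, map_add, hdι, hds, d_d E₃, map_zero, add_zero, ← map_add] at h
    exact hinj _ (h.trans (map_zero (ι₁ (n + 1 + 1))).symm)
  have hmem : ∀ i (z : E₃.cocyc a i), t i z ∈ E₁.cocyc a (i + 1) := fun i z => by
    refine ⟨gam_mono (t i) z.2.1, ?_⟩
    change E₁.d (i + 1) (t i z) = 0
    have := htd i z
    rwa [LinearMap.mem_ker.1 z.2.2, map_zero, add_zero] at this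
  let tL : ∀ i, E₃.cocyc a i →ₗ[R] E₁.cocyc a (i + 1) := fun i =>
    LinearMap.codRestrict _ (t i ∘ₗ (E₃.cocyc a i).subtype) (hmem i)
  have hbd : ∀ i, (E₃.cobdy a i).comap (E₃.cocyc a i).subtype ≤
      ((E₁.cobdy a (i + 1)).comap (E₁.cocyc a (i + 1)).subtype).comap (tL i) := by
    intro i z hz
    change t i z ∈ E₁.cobdy a (i + 1)
    cases i with
    | zero =>
      rw [show (z : (E₃.X 0).carrier) = 0 from (Submodule.mem_bot R).1 hz, map_zero]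
      exact zero_mem _
    | succ n =>
      obtain ⟨y, hy, hyz⟩ := hz
      refine ⟨-(t n y), gam_mono (-t n) hy, ?_⟩
      rw [map_neg, neg_eq_iff_add_eq_zero]
      rw [show (z : (E₃.X (n + 1)).carrier) = E₃.d n y from hyz.symm]
      exact htd n y
  let δ : ∀ i, E₃.H a i →ₗ[R] E₁.H a (i + 1) := fun i => Submodule.mapQ _ _ (tL i) (hbd i)
  have hδgr : ∀ i, GrLC.IsGrHom (E₃.Hgr a i) (E₁.Hgr a (i + 1)) (δ i) := by
    rintro i d _ ⟨z, hz, rfl⟩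
    exact ⟨tL i z, htgr i d _ hz, rfl⟩
  -- exactness for the horseshoe
  have hx1 : ∀ i, Function.Exact (hι.Hmap a i) (hπ.Hmap a i) := by
    intro i x
    obtain ⟨z, rfl⟩ := Submodule.Quotient.mk_surjective _ x
    constructor
    · intro hz
      have hz' : π₃ i z ∈ E₃.cobdy a i := (Submodule.Quotient.mk_eq_zero ((E₃.cobdy a i).comap (E₃.cocyc a i).subtype)).1 hz
      obtain ⟨w, hw, hwπ⟩ : ∃ w ∈ E.cobdy a i, π₃ i w = π₃ i z := by
        cases i with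
        | zero => exact ⟨0, zero_mem _, by rw [map_zero, show π₃ 0 z = 0 from (Submodule.mem_bot R).1 hz']⟩
        | succ n =>
          obtain ⟨y, hy, hyz⟩ := hz'
          exact ⟨E.d n (sec n y), ⟨_, hsΓ n hy, rfl⟩, by rw [← hdπ, hsec, hyz]⟩
      have hwc : w ∈ E.cocyc a i := by
        cases i with
        | zero => rw [show w = 0 from (Submodule.mem_bot R).1 hw]; exact zero_mem _
        | succ n =>
          obtain ⟨y, hy, rfl⟩ := hw
          exact ⟨gam_mono _ hy, d_d E n y⟩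
      obtain ⟨u, hu⟩ := hker i ((z : (E.X i).carrier) - w) (by rw [map_sub, hwπ, sub_self])
      have hzw : ι₁ i u ∈ E.cocyc a i := hu ▸ sub_mem z.2 hwc
      have huc : u ∈ E₁.cocyc a i := ⟨hΓ i hzw.1, hinj (i + 1) (by
        rw [← hdι, show E.d i (ι₁ i u) = 0 from hzw.2, map_zero])⟩
      refine ⟨E₁.toH a i ⟨u, huc⟩, (Submodule.Quotient.eq _).2 ?_⟩
      change ι₁ i u - z ∈ E.cobdy a i
      rw [hu, sub_sub_cancel_left]
      exact neg_mem hw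
    · rintro ⟨y, hy⟩
      obtain ⟨y, rfl⟩ := Submodule.Quotient.mk_surjective _ y
      rw [← hy]
      exact (Submodule.Quotient.mk_eq_zero _).2 (show π₃ i (ι₁ i y) ∈ E₃.cobdy a i by rw [hπι]; exact zero_mem _)
  have hx2 : ∀ i, Function.Exact (hπ.Hmap a i) (δ i) := by
    intro i x
    obtain ⟨z, rfl⟩ := Submodule.Quotient.mk_surjective _ x
    constructor
    · intro hz
      obtain ⟨y, hy, hyz⟩ : t i z ∈ E₁.cobdy a (i + 1) :=
        (Submodule.Quotient.mk_eq_zero ((E₁.cobdy a (i + 1)).comap (E₁.cocyc a (i + 1)).subtype)).1 hz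
      have hc : sec i z - ι₁ i y ∈ E.cocyc a i := by
        refine ⟨sub_mem (hsΓ i z.2.1) (gam_mono _ hy), ?_⟩
        change E.d i (sec i z - ι₁ i y) = 0
        rw [map_sub, hds, LinearMap.mem_ker.1 z.2.2, map_zero, add_zero, hdι, hyz, sub_self]
      refine ⟨E.toH a i ⟨_, hc⟩, congrArg (E₃.toH a i) (Subtype.ext ?_)⟩
      change π₃ i (sec i z - ι₁ i y) = z
      rw [map_sub, hsec, hπι, sub_zero]
    · rintro ⟨y, hy⟩
      obtain ⟨y, rfl⟩ := Submodule.Quotient.mk_surjective _ y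
      rw [← hy]
      obtain ⟨u, hu⟩ := hker i ((y : (E.X i).carrier) - sec i (π₃ i y)) (by rw [map_sub, hsec, sub_self])
      refine (Submodule.Quotient.mk_eq_zero _).2 ⟨-u, neg_mem (hΓ i ?_), ?_⟩
      · rw [hu]
        exact sub_mem y.2.1 (hsΓ i (gam_mono _ y.2.1))
      · refine hinj (i + 1) ?_
        change ι₁ (i + 1) (E₁.d i (-u)) = ι₁ (i + 1) (t i (π₃ i y))
        rw [← hdι, map_neg, map_neg, hu, map_sub, hds, show E.d i y = 0 from y.2.2, hdπ,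
          show E.d i y = 0 from y.2.2, map_zero, map_zero, add_zero, zero_sub, neg_neg]
  have hx3 : ∀ i, Function.Exact (δ i) (hι.Hmap a (i + 1)) := by
    intro i x
    obtain ⟨z, rfl⟩ := Submodule.Quotient.mk_surjective _ x
    constructor
    · intro hz
      obtain ⟨y, hy, hyz⟩ : ι₁ (i + 1) z ∈ E.cobdy a (i + 1) :=
        (Submodule.Quotient.mk_eq_zero ((E.cobdy a (i + 1)).comap (E.cocyc a (i + 1)).subtype)).1 hz
      obtain ⟨u, hu⟩ := hker i (y - sec i (π₃ i y)) (by rw [map_sub, hsec, sub_self])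
      have hc : π₃ i y ∈ E₃.cocyc a i := ⟨gam_mono _ hy, by
        change E₃.d i (π₃ i y) = 0
        rw [hdπ, hyz, hπι]⟩
      refine ⟨E₃.toH a i ⟨_, hc⟩, (Submodule.Quotient.eq _).2 ⟨-u, neg_mem (hΓ i ?_), ?_⟩⟩
      · rw [hu]
        exact sub_mem hy (hsΓ i (gam_mono _ hy))
      · refine hinj (i + 1) ?_
        change ι₁ (i + 1) (E₁.d i (-u)) = ι₁ (i + 1) (t i (π₃ i y) - z)
        rw [← hdι, map_neg, map_neg, hu, map_sub, hds, LinearMap.mem_ker.1 hc.2, map_zero, add_zero, hyz, map_sub,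
          neg_sub]
    · rintro ⟨y, hy⟩
      obtain ⟨y, rfl⟩ := Submodule.Quotient.mk_surjective _ y
      rw [← hy]
      refine (Submodule.Quotient.mk_eq_zero _).2 ⟨sec i y, hsΓ i y.2.1, ?_⟩
      change E.d i (sec i y) = ι₁ (i + 1) (t i y)
      rw [hds, LinearMap.mem_ker.1 y.2.2, map_zero, add_zero]
  have hx0 : Function.Injective (hι.Hmap a 0) := by
    rw [← LinearMap.ker_eq_bot, Submodule.eq_bot_iff]
    intro x hx
    obtain ⟨z, rfl⟩ := Submodule.Quotient.mk_surjective _ x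
    have h' : ι₁ 0 z ∈ E.cobdy a 0 := (Submodule.Quotient.mk_eq_zero ((E.cobdy a 0).comap (E.cocyc a 0).subtype)).1 hx
    have h : ι₁ 0 z = 0 := (Submodule.mem_bot R).1 h'
    rw [show z = 0 from Subtype.ext (hinj 0 (h.trans (map_zero _).symm)), Submodule.Quotient.mk_zero]
  -- transfer to the given resolution
  obtain ⟨α, hα⟩ := exists_map E E₂ LinearMap.id (fun _ _ h => h)
  obtain ⟨β, hβ⟩ := exists_map E₂ E LinearMap.id (fun _ _ h => h)
  have hαβ : ∀ i, hα.Hmap a i ∘ₗ hβ.Hmap a i = LinearMap.id := fun i => by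
    rw [← hβ.Hmap_comp, IsMap.Hmap_congr a (hβ.comp hα) (IsMap.id E₂), IsMap.Hmap_id]
  have hβα : ∀ i, hβ.Hmap a i ∘ₗ hα.Hmap a i = LinearMap.id := fun i => by
    rw [← hα.Hmap_comp, IsMap.Hmap_congr a (hα.comp hβ) (IsMap.id E), IsMap.Hmap_id]
  have hια : IsMap E₁ E₂ f fun n => α n ∘ₗ ι₁ n := hι.comp hα
  have hβπ : IsMap E₂ E₃ g fun n => π₃ n ∘ₗ β n := hβ.comp hπ
  have hφeq : ∀ i x, hφ.Hmap a i x = hα.Hmap a i (hι.Hmap a i x) := fun i x =>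
    (LinearMap.congr_fun (IsMap.Hmap_congr a hφ hια i) x).trans (LinearMap.congr_fun (hι.Hmap_comp a hα i) x)
  have hψeq : ∀ i x, hψ.Hmap a i x = hπ.Hmap a i (hβ.Hmap a i x) := fun i x =>
    (LinearMap.congr_fun (IsMap.Hmap_congr a hψ hβπ i) x).trans (LinearMap.congr_fun (hβ.Hmap_comp a hπ i) x)
  have hab : ∀ i x, hα.Hmap a i (hβ.Hmap a i x) = x := fun i x => LinearMap.congr_fun (hαβ i) x
  have hba : ∀ i x, hβ.Hmap a i (hα.Hmap a i x) = x := fun i x => LinearMap.congr_fun (hβα i) x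
  refine ⟨δ, hδgr, fun i x => ?_, fun i x => ?_, fun i x => ?_, fun x y h => ?_⟩
  · rw [hψeq, hx1 i (hβ.Hmap a i x)]
    exact ⟨fun ⟨y, hy⟩ => ⟨y, by rw [hφeq, hy, hab]⟩, fun ⟨y, hy⟩ => ⟨y, by rw [← hy, hφeq, hba]⟩⟩
  · rw [hx2 i x]
    exact ⟨fun ⟨y, hy⟩ => ⟨hα.Hmap a i y, by rw [hψeq, hba, hy]⟩, fun ⟨y, hy⟩ => ⟨hβ.Hmap a i y, by rw [← hψeq, hy]⟩⟩
  · rw [← hx3 i x, hφeq]
    exact ⟨fun h => by rw [← hba (i + 1) (hι.Hmap a (i + 1) x), h, map_zero], fun h => by rw [h, map_zero]⟩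
  · refine hx0 ?_
    rw [← hba 0 (hι.Hmap a 0 x), ← hφeq, h, hφeq, hba]

end LES

/-! ### comparison with local cohomology -/

section Compare

open CategoryTheory Groth.L04.LC

variable {M : Type u} [AddCommGroup M] [Module R M] {τ : Type u} [SetLike τ M] [AddSubgroupClass τ M]
  {ℳ : ι → τ} [DirectSum.Decomposition ℳ] [SetLike.GradedSMul 𝒜 ℳ]
variable (E : GrLC.StarInjRes 𝒜 ℳ) (a : HomogeneousIdeal 𝒜)

/-- the map to the next cocycles -/
noncomputable def toZ (i : ℕ) : (E.X i).carrier →ₗ[R] LinearMap.ker (E.d (i + 1)) :=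
  LinearMap.codRestrict _ (E.d i) fun x => LinearMap.mem_ker.2 (d_d E i x)

lemma ses_Z (i : ℕ) :
    (ses (LinearMap.ker (E.d i)).subtype (toZ E i)
      (LinearMap.ext fun x => Subtype.ext (LinearMap.mem_ker.1 x.2))).ShortExact := by
  refine ses_shortExact _ _ (Submodule.injective_subtype _) ?_ ?_
  · rintro ⟨y, hy⟩
    obtain ⟨x, rfl⟩ : y ∈ LinearMap.range (E.d i) := E.exact_succ i ▸ hy
    exact ⟨x, rfl⟩
  · rw [LinearMap.exact_iff, toZ, LinearMap.ker_codRestrict, Submodule.range_subtype]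

variable [IsNoetherianRing R]

lemma nonempty_H_shift (i j : ℕ) :
    Nonempty (LocCoh.H a.toIdeal (j + 1) (LinearMap.ker (E.d (i + 1))) ≃ₗ[R] LocCoh.H a.toIdeal (j + 1 + 1) (LinearMap.ker (E.d i))) :=
  ⟨LinearEquiv.ofBijective _ (Hδ_bijective a.toIdeal (ses_Z E i) (j + 1)
    (subsingleton_H_of_starInj (E.starInj i) a j) (subsingleton_H_of_starInj (E.starInj i) a (j + 1)))⟩

lemma nonempty_H_succ (i : ℕ) :
    Nonempty (E.H a (i + 1) ≃ₗ[R] LocCoh.H a.toIdeal 1 (LinearMap.ker (E.d i))) := by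
  let Z := LinearMap.ker (E.d (i + 1))
  let c : E.cocyc a (i + 1) →ₗ[R] DRing.torsionSub a.toIdeal Z :=
    LinearMap.codRestrict _ (LinearMap.codRestrict Z (E.cocyc a (i + 1)).subtype fun z => z.2.2) fun z => by
      obtain ⟨n, hn⟩ := z.2.1
      exact ⟨n, fun r hr => Subtype.ext (hn r hr)⟩
  let e := H0Equiv a.toIdeal (ModuleCat.of R Z)
  let L : E.cocyc a (i + 1) →ₗ[R] LocCoh.H a.toIdeal 1 (LinearMap.ker (E.d i)) :=
    Hδ a.toIdeal (ses_Z E i) 0 ∘ₗ e.symm.toLinearMap ∘ₗ c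
  have hsurj : Function.Surjective L := by
    intro x
    obtain ⟨y, rfl⟩ := Hδ_surjective a.toIdeal (ses_Z E i) 0 (subsingleton_H_of_starInj (E.starInj i) a 0) x
    obtain ⟨⟨⟨z, hz⟩, hzt⟩, rfl⟩ := e.symm.surjective y
    refine ⟨⟨z, ?_, hz⟩, rfl⟩
    obtain ⟨n, hn⟩ := hzt
    exact ⟨n, fun r hr => congrArg Subtype.val (hn r hr)⟩
  have hker : LinearMap.ker L = (E.cobdy a (i + 1)).comap (E.cocyc a (i + 1)).subtype := by
    ext z
    rw [LinearMap.mem_ker]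
    refine (H_exact₃ a.toIdeal (ses_Z E i) 0 (e.symm (c z))).trans ⟨?_, ?_⟩
    · rintro ⟨y, hy⟩
      have hy' := congrArg (evalZero a.toIdeal (ModuleCat.of R Z)) hy
      rw [evalZero_natural, ← H0Equiv_apply, ← H0Equiv_apply, LinearEquiv.apply_symm_apply] at hy'
      obtain ⟨n, hn⟩ := (H0Equiv a.toIdeal (ModuleCat.of R (E.X i).carrier) y).2
      exact ⟨_, ⟨n, hn⟩, congrArg Subtype.val hy'⟩
    · rintro ⟨x, ⟨n, hn⟩, hx⟩
      refine ⟨(H0Equiv a.toIdeal (ModuleCat.of R (E.X i).carrier)).symm ⟨x, n, hn⟩, evalZero_injective a.toIdeal (ModuleCat.of R Z) ?_⟩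
      rw [evalZero_natural, ← H0Equiv_apply, LinearEquiv.apply_symm_apply, ← H0Equiv_apply, LinearEquiv.apply_symm_apply]
      exact Subtype.ext hx
  exact ⟨(Submodule.quotEquivOfEq _ _ hker.symm).trans (L.quotKerEquivOfSurjective hsurj)⟩

/-- Graded local cohomology is local cohomology. -/
theorem nonempty_H_equiv (i : ℕ) : Nonempty (E.H a i ≃ₗ[R] LocCoh.H a.toIdeal i M) := by
  cases i with
  | zero =>
    obtain ⟨e, -⟩ := exists_H0_equiv a E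
    exact ⟨e.symm.trans (((H0Equiv a.toIdeal (ModuleCat.of R M))).trans (LinearEquiv.ofEq _ _ rfl)).symm⟩
  | succ n =>
    obtain ⟨e₁⟩ := nonempty_H_succ E a n
    have hdown : ∀ m j, Nonempty (LocCoh.H a.toIdeal (j + 1) (LinearMap.ker (E.d m)) ≃ₗ[R]
        LocCoh.H a.toIdeal (j + m + 1) (LinearMap.ker (E.d 0))) := by
      intro m
      induction m with
      | zero => intro j; exact ⟨LinearEquiv.refl R _⟩
      | succ m ih =>
        intro j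
        obtain ⟨e₂⟩ := nonempty_H_shift E a m j
        obtain ⟨e₃⟩ := ih (j + 1)
        rw [show j + (m + 1) = j + 1 + m by omega]
        exact ⟨e₂.trans e₃⟩
    obtain ⟨e₂⟩ : Nonempty (LocCoh.H a.toIdeal 1 (LinearMap.ker (E.d n)) ≃ₗ[R]
        LocCoh.H a.toIdeal (n + 1) (LinearMap.ker (E.d 0))) :=
      Eq.mp (congrArg (fun j : ℕ => Nonempty (LocCoh.H a.toIdeal 1 (LinearMap.ker (E.d n)) ≃ₗ[R]
        LocCoh.H a.toIdeal (j + 1) (LinearMap.ker (E.d 0)))) (Nat.zero_add n)) (hdown n 0)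
    let eM : M ≃ₗ[R] LinearMap.ker (E.d 0) :=
      (LinearEquiv.ofInjective E.ε E.ε_injective).trans (LinearEquiv.ofEq _ _ E.exact_zero.symm)
    let e₃ := ((localCohomology a.toIdeal (n + 1)).mapIso eM.toModuleIso).toLinearEquiv
    exact ⟨e₁.trans (e₂.trans e₃.symm)⟩

include E in
/-- Torsion modules have no higher graded local cohomology. -/
theorem subsingleton_H_of_torsion (hM : GrLC.gam a.toIdeal M = ⊤) (i : ℕ) (hi : 0 < i) : Subsingleton (E.H a i) := by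
  obtain ⟨e⟩ := nonempty_H_equiv E a i
  haveI := subsingleton_H_pos_of_isPowerTorsion a.toIdeal hi M fun x => by
    obtain ⟨n, hn⟩ : x ∈ GrLC.gam a.toIdeal M := hM ▸ Submodule.mem_top
    exact ⟨n, hn⟩
  exact e.toEquiv.subsingleton

end Compare

end Groth.L12.GrLCLib
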