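import Groth.Agent.L12.GrSegProd
import Groth.Agent.L12.GrLCH
import Groth.Agent.L12.GrLCPos
import Groth.Agent.L12.GrLCAsub

/-!
# Pieces over the degree-zero field as vector spaces
-/

set_option autoImplicit false

universe u

open DirectSum

namespace Groth.L12.GrSegLib

open Groth.L12.GrLCLib
open scoped KMod Groth.L12.GrLCLib.Asub

section Transfer

variable {k : Type u} [Field k] {A : Type u} [CommRing A] (j : k →+* A) (hj : Function.Bijective j)
  {V W : Type u} [AddCommGroup V] [Module A V] [AddCommGroup W] [Module k W] (e : W ≃+ V)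
  (he : ∀ c w, e (c • w) = j c • e w)

include hj he

theorem finrank_transfer : Module.finrank A V = Module.finrank k W := by
  rw [Module.finrank, Module.finrank, rank_eq_of_equiv_equiv (R := k) (R' := A) j e hj he]

theorem finite_transfer [Module.Finite A V] : Module.Finite k W := by
  obtain ⟨s, hs⟩ := (Module.Finite.fg_top : (⊤ : Submodule A V).FG)
  classical
  refine ⟨⟨s.image e.symm, eq_top_iff.2 fun w _ => ?_⟩⟩
  have hw : e w ∈ Submodule.span A (s : Set V) := hs ▸ trivial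
  suffices h : ∀ v ∈ Submodule.span A (s : Set V), e.symm v ∈ Submodule.span k (s.image e.symm : Set W) by
    have := h _ hw
    rwa [e.symm_apply_apply] at this
  intro v hv
  induction hv using Submodule.span_induction with
  | mem v hv => exact Submodule.subset_span (Finset.mem_coe.2 (Finset.mem_image_of_mem _ hv))
  | zero => rw [map_zero]; exact zero_mem _
  | add a b _ _ ha hb => rw [map_add]; exact add_mem ha hb
  | smul c v _ hv =>
    obtain ⟨c, rfl⟩ := hj.2 c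
    rw [show j c • v = e (c • e.symm v) by rw [he, e.apply_symm_apply], e.symm_apply_apply]
    exact Submodule.smul_mem _ c hv

end Transfer

section Homog

variable {R : Type u} [CommRing R] {σ : Type u} [SetLike σ R] [AddSubgroupClass σ R] {𝒜 : ℤ → σ} [GradedRing 𝒜]

/-- homogeneous preimages -/
theorem exists_homog_preimage {X : Type u} [AddCommGroup X] [Module R X] (𝒳 : ℤ → AddSubgroup X)
    [DirectSum.Decomposition 𝒳] {H : Type u} [AddCommGroup H] [Module R H] (ℋ : ℤ → AddSubgroup H)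
    (hℋ : DirectSum.IsInternal ℋ) (W : Submodule R X) (hW : W.IsHomogeneous 𝒳) (f : W →ₗ[R] H)
    (hf : ∀ (g : ℤ) (x : W), x.1 ∈ 𝒳 g → f x ∈ ℋ g) (hs : Function.Surjective f) {g : ℤ} {y : H} (hy : y ∈ ℋ g) :
    ∃ x : W, x.1 ∈ 𝒳 g ∧ f x = y := by
  letI := hℋ.chooseDecomposition
  obtain ⟨x, rfl⟩ := hs y
  refine ⟨⟨cp 𝒳 g x.1, hW g x.2⟩, cp_mem _ _ _, ?_⟩
  obtain ⟨s, hs', hs2⟩ := exists_sum_cp 𝒳 x.1
  have hx : x = ∑ i ∈ s, (⟨cp 𝒳 i x.1, hW i x.2⟩ : W) := Subtype.ext (by rw [Submodule.coe_sum]; exact hs'.symm)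
  conv_rhs => rw [← cp_same ℋ hy, hx, map_sum, map_sum]
  rw [Finset.sum_eq_single g (fun i _ hi => cp_ne ℋ (hf i _ (cp_mem _ _ _)) hi) (fun hg => ?_),
    cp_same ℋ (hf g _ (cp_mem _ _ _))]
  rw [show (⟨cp 𝒳 g x.1, hW g x.2⟩ : W) = 0 from Subtype.ext (not_imp_comm.1 (hs2 g) hg), map_zero, map_zero]

end Homog

variable {k : Type u} [Field k] {R : Type u} [CommRing R] [Algebra k R] (𝒜 : ℤ → Submodule k R) [GradedAlgebra 𝒜]

/-- the ground field maps to the degree-zero part -/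
noncomputable def toDeg0 : k →+* GrLC.deg0 𝒜 :=
  (algebraMap k R).codRestrict _ fun c => SetLike.algebraMap_mem_graded 𝒜 c

variable {𝒜}

lemma toDeg0_bijective [Nontrivial R] (h0 : 𝒜 0 = Submodule.span k {(1 : R)}) : Function.Bijective (toDeg0 𝒜) := by
  refine ⟨fun a b h => (algebraMap k R).injective (congrArg Subtype.val h), fun r => ?_⟩
  obtain ⟨c, hc⟩ := Submodule.mem_span_singleton.1 (h0.le r.2)
  exact ⟨c, Subtype.ext ((Algebra.algebraMap_eq_smul_one c).trans hc)⟩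

section Module

variable {M : Type u} [AddCommGroup M] [Module R M] [Module k M] [IsScalarTower k R M]
  {τ : Type u} [SetLike τ M] [AddSubgroupClass τ M] (ℳ : ℤ → τ) [DirectSum.Decomposition ℳ] [SetLike.GradedSMul 𝒜 ℳ]

variable (𝒜) in
/-- a piece as a vector space -/
noncomputable def pieceK (d : ℤ) : Submodule k M := LinearMap.range (cpk 𝒜 ℳ d)

lemma mem_pieceK {d : ℤ} {x : M} : x ∈ pieceK 𝒜 ℳ d ↔ x ∈ ℳ d :=
  ⟨fun ⟨y, hy⟩ => hy ▸ cp_mem ℳ d y, fun h => ⟨x, cp_same ℳ h⟩⟩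

/-- a piece over the degree-zero part and over the field -/
noncomputable def compEquiv (d : ℤ) : pieceK 𝒜 ℳ d ≃+ GrLC.comp 𝒜 ℳ d where
  toFun x := ⟨x.1, (mem_pieceK ℳ).1 x.2⟩
  invFun x := ⟨x.1, (mem_pieceK ℳ).2 x.2⟩
  map_add' _ _ := rfl

theorem finrank_comp [Nontrivial R] (h0 : 𝒜 0 = Submodule.span k {(1 : R)}) (d : ℤ) :
    Module.finrank (GrLC.deg0 𝒜) (GrLC.comp 𝒜 ℳ d) = Module.finrank k (pieceK 𝒜 ℳ d) :=
  finrank_transfer (toDeg0 𝒜) (toDeg0_bijective h0) (compEquiv ℳ d) fun c w =>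
    Subtype.ext (IsScalarTower.algebraMap_smul R c (w : M)).symm

theorem finite_pieceK [Algebra.FiniteType k R] [Module.Finite R M] (h0 : 𝒜 0 = Submodule.span k {(1 : R)}) (d : ℤ) :
    Module.Finite k (pieceK 𝒜 ℳ d) := by
  rcases subsingleton_or_nontrivial R with hR | hR
  · haveI := Module.subsingleton R M
    exact inferInstance
  haveI : IsNoetherianRing R := Algebra.FiniteType.isNoetherianRing k R
  haveI := isNoetherian_comp (asub 𝒜) (asub ℳ) d
  let j : k →+* GrLC.deg0 (asub 𝒜) := (algebraMap k R).codRestrict _ fun c => SetLike.algebraMap_mem_graded 𝒜 c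
  let e : pieceK 𝒜 ℳ d ≃+ GrLC.comp (asub 𝒜) (asub ℳ) d :=
    { toFun := fun x => ⟨x.1, (mem_pieceK ℳ).1 x.2⟩
      invFun := fun x => ⟨x.1, (mem_pieceK ℳ).2 x.2⟩
      map_add' := fun _ _ => rfl }
  exact finite_transfer j (toDeg0_bijective h0 : _) e fun c w =>
    Subtype.ext (IsScalarTower.algebraMap_smul R c (w : M)).symm

end Module

section LC

variable {M : Type u} [AddCommGroup M] [Module R M]
  {τ : Type u} [SetLike τ M] [AddSubgroupClass τ M] {ℳ : ℤ → τ} [DirectSum.Decomposition ℳ] [SetLike.GradedSMul 𝒜 ℳ]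
  (E : GrLC.StarInjRes 𝒜 ℳ) (a : HomogeneousIdeal 𝒜)

/-- a piece of local cohomology as a vector space -/
noncomputable def Hk (i : ℕ) (d : ℤ) : Submodule k (E.H a i) where
  carrier := (E.Hgr a i d : Set (E.H a i))
  add_mem' := (E.Hgr a i d).add_mem
  zero_mem' := (E.Hgr a i d).zero_mem
  smul_mem' c x hx := by
    obtain ⟨z, hz, rfl⟩ := hx
    exact ⟨c • z, smul_k_mem 𝒜 (E.X i).gr d c hz, LinearMap.map_smul_of_tower _ c z⟩

lemma mem_Hk {i : ℕ} {d : ℤ} {x : E.H a i} : x ∈ Hk E a i d ↔ x ∈ E.Hgr a i d := Iff.rfl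

lemma Hk_eq_bot_iff {i : ℕ} {d : ℤ} : Hk E a i d = ⊥ ↔ E.Hcomp a i d = ⊥ := by
  rw [Submodule.eq_bot_iff, Submodule.eq_bot_iff]
  rfl

theorem finrank_Hcomp [Nontrivial R] (h0 : 𝒜 0 = Submodule.span k {(1 : R)}) (i : ℕ) (d : ℤ) :
    Module.finrank (GrLC.deg0 𝒜) (E.Hcomp a i d) = Module.finrank k (Hk E a i d) := by
  refine finrank_transfer (toDeg0 𝒜) (toDeg0_bijective h0)
    ({ toFun := fun x => ⟨x.1, x.2⟩, invFun := fun x => ⟨x.1, x.2⟩, map_add' := fun _ _ => rfl } :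
      Hk E a i d ≃+ E.Hcomp a i d) fun c w => Subtype.ext ?_
  exact (IsScalarTower.algebraMap_smul R c (w : E.H a i)).symm

theorem finite_Hk [Algebra.FiniteType k R] [Module.Finite R M] (h0 : 𝒜 0 = Submodule.span k {(1 : R)})
    (ha : a.toIdeal = Ideal.span (⋃ n ∈ Set.Ioi (0 : ℤ), (𝒜 n : Set R))) (i : ℕ) (d : ℤ) :
    Module.Finite k (Hk E a i d) := by
  rcases subsingleton_or_nontrivial R with hR | hR
  · haveI := Module.subsingleton R (E.H a i)
    exact inferInstance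
  haveI : IsNoetherianRing R := Algebra.FiniteType.isNoetherianRing k R
  haveI := (bound_and_finite (Asub.hid a) ha i M (asub ℳ) inferInstance).2 (Asub.res E) d
  let j : k →+* GrLC.deg0 (asub 𝒜) := (algebraMap k R).codRestrict _ fun c => SetLike.algebraMap_mem_graded 𝒜 c
  let e : Hk E a i d ≃+ (Asub.res E).Hcomp (Asub.hid a) i d :=
    { toFun := fun x => ⟨x.1, x.2⟩
      invFun := fun x => ⟨x.1, x.2⟩
      map_add' := fun _ _ => rfl }
  exact finite_transfer j (toDeg0_bijective h0 : _) e fun c w =>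
    Subtype.ext (IsScalarTower.algebraMap_smul R c (w : E.H a i)).symm

theorem exists_Hk_zero [Module k M] [IsScalarTower k R M] (d : ℤ) :
    Nonempty ((pieceK 𝒜 ℳ d ⊓ (GrLC.gam a.toIdeal M).restrictScalars k : Submodule k M) ≃ₗ[k] Hk E a 0 d) := by
  obtain ⟨e, he⟩ := exists_H0_equiv a E
  let L : (pieceK 𝒜 ℳ d ⊓ (GrLC.gam a.toIdeal M).restrictScalars k : Submodule k M) →ₗ[k] Hk E a 0 d :=
    { toFun := fun x => ⟨e ⟨x.1, x.2.2⟩, (he d ⟨x.1, x.2.2⟩).1 ((mem_pieceK ℳ).1 x.2.1)⟩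
      map_add' := fun x y => Subtype.ext (map_add e ⟨x.1, x.2.2⟩ ⟨y.1, y.2.2⟩)
      map_smul' := fun c x => Subtype.ext ((e.toLinearMap.restrictScalars k).map_smul c ⟨x.1, x.2.2⟩) }
  refine ⟨LinearEquiv.ofBijective L ⟨fun x y h => Subtype.ext ?_, fun y => ?_⟩⟩
  · exact congrArg (fun v : GrLC.gam a.toIdeal M => v.1) (e.injective (congrArg Subtype.val h))
  · obtain ⟨m, hm⟩ := e.surjective y.1
    exact ⟨⟨m.1, (mem_pieceK ℳ).2 ((he d m).2 (hm.symm ▸ y.2)), m.2⟩, Subtype.ext hm⟩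

end LC

end Groth.L12.GrSegLib
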