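import Groth.Agent.L12.GrLCH

/-!
# Shifts of resolutions; multiplication by a homogeneous element on graded local cohomology
-/

set_option autoImplicit false

universe u

open DirectSum

namespace Groth.L12.GrLCLib

variable {ι : Type} [AddCommGroup ι] [DecidableEq ι]
variable {R : Type u} [CommRing R] {σ : Type u} [SetLike σ R] [AddSubgroupClass σ R]
variable {𝒜 : ι → σ} [GradedRing 𝒜]
variable {M : Type u} [AddCommGroup M] [Module R M] {τ : Type u} [SetLike τ M] [AddSubgroupClass τ M]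
  {ℳ : ι → τ} [DirectSum.Decomposition ℳ] [SetLike.GradedSMul 𝒜 ℳ]

/-- the shifted resolution -/
noncomputable def shiftRes (E : GrLC.StarInjRes 𝒜 ℳ) (d : ι) : GrLC.StarInjRes 𝒜 (shG 𝒜 ℳ d).gr where
  X n := shG 𝒜 (E.X n).gr d
  d n := E.d n
  ε := E.ε
  d_grHom n g x hx := E.d_grHom n (g + d) x hx
  ε_grHom g x hx := E.ε_grHom (g + d) x hx
  ε_injective := E.ε_injective
  exact_zero := E.exact_zero
  exact_succ := E.exact_succ
  starInj n := starInj_shift (E.starInj n) d

/-- forgetting the shift on cohomology -/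
noncomputable def unshift (E : GrLC.StarInjRes 𝒜 ℳ) (d : ι) (a : HomogeneousIdeal 𝒜) (i : ℕ) :
    (shiftRes E d).H a i ≃ₗ[R] E.H a i := by
  refine LinearEquiv.ofLinear
    (Submodule.mapQ _ _
      (LinearMap.codRestrict (E.cocyc a i) ((shiftRes E d).cocyc a i).subtype fun x => x.2) fun x hx => ?_)
    (Submodule.mapQ _ _
      (LinearMap.codRestrict ((shiftRes E d).cocyc a i) (E.cocyc a i).subtype fun x => x.2) fun x hx => ?_) ?_ ?_
  · cases i with
    | zero => exact hx
    | succ n => exact hx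
  · cases i with
    | zero => exact hx
    | succ n => exact hx
  · exact Submodule.linearMap_qext _ (LinearMap.ext fun _ => rfl)
  · exact Submodule.linearMap_qext _ (LinearMap.ext fun _ => rfl)

lemma unshift_grHom (E : GrLC.StarInjRes 𝒜 ℳ) (d : ι) (a : HomogeneousIdeal 𝒜) (i : ℕ) (g : ι)
    (x : (shiftRes E d).H a i) :
    x ∈ (shiftRes E d).Hgr a i g ↔ unshift E d a i x ∈ E.Hgr a i (g + d) := by
  constructor
  · rintro ⟨z, hz, rfl⟩
    exact ⟨⟨z.1, z.2⟩, hz, rfl⟩
  · rintro ⟨z, hz, hzx⟩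
    refine ⟨⟨z.1, z.2⟩, hz, (unshift E d a i).injective ?_⟩
    rw [← hzx]
    rfl

/-- multiplication by a homogeneous element, as a map of resolutions -/
lemma isMap_smul (E : GrLC.StarInjRes 𝒜 ℳ) {d : ι} {y : R} (hy : y ∈ 𝒜 d) :
    IsMap E (shiftRes E d) (y • LinearMap.id : M →ₗ[R] M) fun n => (y • LinearMap.id : (E.X n).carrier →ₗ[R] (E.X n).carrier) where
  gr n g x hx := by
    change y • x ∈ (E.X n).gr (g + d)
    rw [add_comm g d]
    exact smul_mem' 𝒜 (E.X n).gr hy hx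
  aug := LinearMap.ext fun m => (map_smul E.ε y m).symm
  comm n := LinearMap.ext fun x => map_smul (E.d n) y x

/-- multiplication by a homogeneous element, as a map of resolutions to the original one -/
lemma isMap_smul' (E : GrLC.StarInjRes 𝒜 ℳ) {d : ι} {y : R} (hy : y ∈ 𝒜 d) :
    IsMap (shiftRes E (-d)) E (y • LinearMap.id : M →ₗ[R] M) fun n => (y • LinearMap.id : (E.X n).carrier →ₗ[R] (E.X n).carrier) where
  gr n g x hx := by
    change y • x ∈ (E.X n).gr g
    have h := smul_mem' 𝒜 (E.X n).gr hy (show x ∈ (E.X n).gr (g + -d) from hx)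
    rwa [add_comm g (-d), add_neg_cancel_left] at h
  aug := LinearMap.ext fun m => (map_smul E.ε y m).symm
  comm n := LinearMap.ext fun x => map_smul (E.d n) y x

lemma smul_mem_Hgr (E : GrLC.StarInjRes 𝒜 ℳ) (a : HomogeneousIdeal 𝒜) (i : ℕ) {d g : ι} {y : R} (hy : y ∈ 𝒜 d)
    {x : E.H a i} (hx : x ∈ E.Hgr a i g) : y • x ∈ E.Hgr a i (d + g) := by
  obtain ⟨z, hz, rfl⟩ := hx
  exact ⟨y • z, smul_mem' 𝒜 (E.X i).gr hy hz, map_smul _ _ _⟩

lemma Hmap_smul (E : GrLC.StarInjRes 𝒜 ℳ) (a : HomogeneousIdeal 𝒜) {d : ι} {y : R} (hy : y ∈ 𝒜 d) (i : ℕ)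
    (x : E.H a i) : unshift E d a i ((isMap_smul E hy).Hmap a i x) = y • x := by
  obtain ⟨z, rfl⟩ := Submodule.Quotient.mk_surjective _ x
  rfl

lemma Hmap_smul' (E : GrLC.StarInjRes 𝒜 ℳ) (a : HomogeneousIdeal 𝒜) {d : ι} {y : R} (hy : y ∈ 𝒜 d) (i : ℕ)
    (x : (shiftRes E (-d)).H a i) : (isMap_smul' E hy).Hmap a i x = y • unshift E (-d) a i x := by
  obtain ⟨z, rfl⟩ := Submodule.Quotient.mk_surjective _ x
  rfl

/-- A module on which a homogeneous element of `a` acts bijectively has no graded local cohomology. -/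
theorem subsingleton_H_of_bijective (E : GrLC.StarInjRes 𝒜 ℳ) (a : HomogeneousIdeal 𝒜) {d : ι} {y : R}
    (hy : y ∈ 𝒜 d) (hya : y ∈ a.toIdeal) (hbij : Function.Bijective fun x : M => y • x) (i : ℕ) :
    Subsingleton (E.H a i) := by
  let e : M ≃ₗ[R] M := LinearEquiv.ofBijective (y • LinearMap.id : M →ₗ[R] M) hbij
  let g : (shG 𝒜 ℳ d).carrier →ₗ[R] M := e.symm.toLinearMap
  have hg : GrLC.IsGrHom (shG 𝒜 ℳ d).gr ℳ g := fun h x hx => by
    have key : ∀ x' : M, x' ∈ ℳ (h + d) → e.symm x' ∈ ℳ h := fun x' hx' => by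
      refine (mem_iff_cp ℳ).2 (e.injective ?_)
      change y • cp ℳ h (e.symm x') = y • e.symm x'
      rw [← cp_smul_hom 𝒜 ℳ hy, show y • e.symm x' = x' from e.apply_symm_apply x',
        cp_same ℳ (show x' ∈ ℳ (d + h) by rw [add_comm]; exact hx')]
    exact key x hx
  obtain ⟨ψ, hψ⟩ := exists_map (shiftRes E d) E g hg
  have hcomp : IsMap E E LinearMap.id fun n => ψ n ∘ₗ (y • LinearMap.id : (E.X n).carrier →ₗ[R] (E.X n).carrier) := by
    have h := (isMap_smul E hy).comp hψ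
    have h2 : g ∘ₗ (y • LinearMap.id : M →ₗ[R] M) = LinearMap.id := LinearMap.ext fun m => e.symm_apply_apply m
    rwa [h2] at h
  have hleft : ∀ x : E.H a i, hψ.Hmap a i ((isMap_smul E hy).Hmap a i x) = x := fun x => by
    have h1 := LinearMap.congr_fun ((isMap_smul E hy).Hmap_comp a hψ i) x
    have h2 := LinearMap.congr_fun (IsMap.Hmap_congr a hcomp (IsMap.id E) i) x
    rw [IsMap.Hmap_id] at h2
    exact h1.symm.trans h2
  refine subsingleton_of_forall_eq 0 fun x => ?_
  obtain ⟨n, hn⟩ := isPowerTorsion_H a E i x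
  have key : ∀ m : ℕ, ∀ z : E.H a i, y ^ m • z = 0 → z = 0 := by
    intro m
    induction m with
    | zero => intro z hz; simpa using hz
    | succ m ih =>
      intro z hz
      refine ih z ?_
      have h0 : unshift E d a i ((isMap_smul E hy).Hmap a i (y ^ m • z)) = 0 := by
        rw [Hmap_smul E a hy, smul_smul, ← pow_succ', hz]
      rw [LinearEquiv.map_eq_zero_iff] at h0
      rw [← hleft (y ^ m • z), h0, map_zero]
  exact key n x (hn _ (Ideal.pow_mem_pow hya n))

end Groth.L12.GrLCLib
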