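import Groth.Agent.L01.SqZeroFlat
import Mathlib.RingTheory.Flat.Basic
import Mathlib.Tactic

/-!
The affine computation of the difference of two flat lifts of a quotient along a square-zero ideal.
-/

universe u
open TensorProduct

namespace Groth.L12.AffTorsor

variable (A' : Type u) [CommRing A'] (J : Ideal A') (B' : Type u) [CommRing B'] [Algebra A' B']

/-- The image of `J` in `B'`. -/
abbrev S : Ideal B' := J.map (algebraMap A' B')

/-- multiplication `B' ⊗ J → B'` -/
noncomputable def μ : B' ⊗[A'] ↥J →ₗ[A'] B' :=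
  (TensorProduct.rid A' B').toLinearMap ∘ₗ LinearMap.lTensor B' (Submodule.subtype J)

variable {A' J B'}

lemma μ_tmul (b : B') (j : ↥J) : μ A' J B' (b ⊗ₜ j) = algebraMap A' B' (j : A') * b := by
  simp [μ, Algebra.smul_def]

lemma μ_apply (z : B' ⊗[A'] ↥J) :
    μ A' J B' z = TensorProduct.rid A' B' (LinearMap.lTensor B' (Submodule.subtype J) z) := rfl

lemma μ_smul (b : B') (z : B' ⊗[A'] ↥J) : μ A' J B' (b • z) = b * μ A' J B' z := by
  induction z using TensorProduct.induction_on with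
  | zero => simp
  | tmul x j => rw [TensorProduct.smul_tmul', μ_tmul, μ_tmul, smul_eq_mul]; ring
  | add x y hx hy => rw [smul_add, map_add, hx, hy, map_add, mul_add]

lemma μ_mem (z : B' ⊗[A'] ↥J) : μ A' J B' z ∈ S A' J B' := by
  induction z using TensorProduct.induction_on with
  | zero => simp
  | tmul x j => rw [μ_tmul]; exact Ideal.mul_mem_right _ _ (Ideal.mem_map_of_mem _ j.2)
  | add x y hx hy => rw [map_add]; exact add_mem hx hy

lemma exists_μ {x : B'} (hx : x ∈ S A' J B') : ∃ z, μ A' J B' z = x := by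
  rw [S, Ideal.map] at hx
  induction hx using Submodule.span_induction with
  | mem x hx =>
    obtain ⟨j, hj, rfl⟩ := hx
    exact ⟨1 ⊗ₜ ⟨j, hj⟩, by rw [μ_tmul, mul_one]⟩
  | zero => exact ⟨0, map_zero _⟩
  | add x y _ _ hx hy =>
    obtain ⟨z, rfl⟩ := hx; obtain ⟨w, rfl⟩ := hy
    exact ⟨z + w, map_add _ _ _⟩
  | smul b x _ hx =>
    obtain ⟨z, rfl⟩ := hx
    exact ⟨b • z, μ_smul b z⟩

variable (I : Ideal (B' ⧸ J.map (algebraMap A' B')))

/-- reduction `B' ⊗ J → Q ⊗ J` -/
noncomputable def π : B' ⊗[A'] ↥J →ₗ[A'] (((B' ⧸ J.map (algebraMap A' B')) ⧸ I) ⊗[A'] ↥J) :=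
  LinearMap.rTensor ↥J (IsScalarTower.toAlgHom A' B' ((B' ⧸ J.map (algebraMap A' B')) ⧸ I)).toLinearMap

lemma p_surjective :
    Function.Surjective (IsScalarTower.toAlgHom A' B' ((B' ⧸ J.map (algebraMap A' B')) ⧸ I)) := by
  intro x
  obtain ⟨y, rfl⟩ := Ideal.Quotient.mk_surjective x
  obtain ⟨z, rfl⟩ := Ideal.Quotient.mk_surjective y
  exact ⟨z, rfl⟩

lemma π_surjective : Function.Surjective (π (A' := A') (J := J) I) :=
  LinearMap.rTensor_surjective _ (p_surjective I)

lemma π_smul (b : B') (z : B' ⊗[A'] ↥J) : π I (b • z) = b • π I z := by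
  induction z using TensorProduct.induction_on with
  | zero => simp
  | tmul x j =>
    simp only [π, TensorProduct.smul_tmul', LinearMap.rTensor_tmul, AlgHom.toLinearMap_apply,
      IsScalarTower.coe_toAlgHom', smul_eq_mul, map_mul]
    rfl
  | add x y hx hy => simp only [smul_add, map_add, hx, hy]

/-- `I'` reduces to `I`. -/
lemma mem_sup {I' : Ideal B'} (hI' : I'.map (Ideal.Quotient.mk (J.map (algebraMap A' B'))) = I) (b : B')
    (hb : Ideal.Quotient.mk (J.map (algebraMap A' B')) b ∈ I) : ∃ i ∈ I', ∃ s ∈ S A' J B', b = i + s := by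
  subst hI'
  rw [Ideal.mem_map_iff_of_surjective _ Ideal.Quotient.mk_surjective] at hb
  obtain ⟨i, hi, h⟩ := hb
  rw [Ideal.Quotient.eq] at h
  exact ⟨i, hi, b - i, by simpa using neg_mem h, by ring⟩

lemma mem_I {I' : Ideal B'} (hI' : I'.map (Ideal.Quotient.mk (J.map (algebraMap A' B'))) = I) {b : B'}
    (hb : b ∈ I') : Ideal.Quotient.mk (J.map (algebraMap A' B')) b ∈ I := hI' ▸ Ideal.mem_map_of_mem _ hb

variable {I}

lemma μ_mem_of_π_eq_zero (hJ : J * J = ⊥) {I' : Ideal B'}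
    (hI' : I'.map (Ideal.Quotient.mk (J.map (algebraMap A' B'))) = I)
    {z : B' ⊗[A'] ↥J} (hz : π I z = 0) : μ A' J B' z ∈ I' := by
  set p := (IsScalarTower.toAlgHom A' B' ((B' ⧸ J.map (algebraMap A' B')) ⧸ I)).toLinearMap with hp
  obtain ⟨w, rfl⟩ := ((rTensor_exact ↥J (LinearMap.exact_subtype_ker_map p) (p_surjective I)) z).mp hz
  clear hz
  induction w using TensorProduct.induction_on with
  | zero => simp
  | add x y hx hy => rw [map_add, map_add]; exact add_mem hx hy
  | tmul k j =>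
    have hk : Ideal.Quotient.mk (J.map (algebraMap A' B')) (k : B') ∈ I := by
      exact Ideal.Quotient.eq_zero_iff_mem.mp (LinearMap.mem_ker.mp k.2)
    obtain ⟨i, hi, s, hs, hk'⟩ := mem_sup I hI' _ hk
    rw [LinearMap.rTensor_tmul, Submodule.subtype_apply, μ_tmul, hk', mul_add]
    refine add_mem (Ideal.mul_mem_left _ _ hi) ?_
    have : algebraMap A' B' (j : A') * s ∈ S A' J B' * S A' J B' :=
      Ideal.mul_mem_mul (Ideal.mem_map_of_mem _ j.2) hs
    rw [S, ← Ideal.map_mul, hJ, Ideal.map_bot, Ideal.mem_bot] at this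
    rw [this]; exact zero_mem _

lemma μ'_injective (I' : Ideal B') [Module.Flat A' (B' ⧸ I')] :
    Function.Injective (LinearMap.lTensor (B' ⧸ I') (Submodule.subtype J)) :=
  Module.Flat.lTensor_preserves_injective_linearMap _ Subtype.val_injective

lemma π_eq_zero_of_μ_mem {I' : Ideal B'} [Module.Flat A' (B' ⧸ I')]
    (hI' : I'.map (Ideal.Quotient.mk (J.map (algebraMap A' B'))) = I)
    {z : B' ⊗[A'] ↥J} (hz : μ A' J B' z ∈ I') : π I z = 0 := by
  let r : B' →ₗ[A'] B' ⧸ I' := (Ideal.Quotient.mkₐ A' I').toLinearMap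
  have h1 : LinearMap.lTensor (B' ⧸ I') (Submodule.subtype J) (r.rTensor ↥J z) = 0 := by
    apply (TensorProduct.rid A' (B' ⧸ I')).injective
    rw [map_zero, ← Ideal.Quotient.eq_zero_iff_mem.mpr hz]
    clear hz
    induction z using TensorProduct.induction_on with
    | zero => simp
    | tmul x j => simp [μ_tmul, r, Algebra.smul_def]
    | add x y hx hy => rw [map_add, map_add, map_add, hx, hy, map_add, map_add]
  have h2 : r.rTensor ↥J z = 0 := μ'_injective I' (by rw [h1, map_zero])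
  have hle : I' ≤ RingHom.ker ((Ideal.Quotient.mk I).comp (Ideal.Quotient.mk (J.map (algebraMap A' B')))) := by
    intro b hb
    exact Ideal.Quotient.eq_zero_iff_mem.mpr (mem_I I hI' hb)
  let g : (B' ⧸ I') →ₐ[A'] ((B' ⧸ J.map (algebraMap A' B')) ⧸ I) :=
    Ideal.Quotient.liftₐ I' (IsScalarTower.toAlgHom A' B' ((B' ⧸ J.map (algebraMap A' B')) ⧸ I))
      (fun b hb => hle hb)
  have h3 : (IsScalarTower.toAlgHom A' B' ((B' ⧸ J.map (algebraMap A' B')) ⧸ I)).toLinearMap =
      g.toLinearMap ∘ₗ r := LinearMap.ext fun b => rfl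
  rw [π, h3, LinearMap.rTensor_comp_apply, h2, map_zero]

/-- any flat lift satisfies: `π` of the difference is well defined -/
theorem existsUnique_hom (hJ : J * J = ⊥) (I' I'' : Ideal B')
    [Module.Flat A' (B' ⧸ I')] [Module.Flat A' (B' ⧸ I'')]
    (hI' : I'.map (Ideal.Quotient.mk (J.map (algebraMap A' B'))) = I)
    (hI'' : I''.map (Ideal.Quotient.mk (J.map (algebraMap A' B'))) = I) :
    ∃! φ : ↥I →ₗ[B'] (((B' ⧸ J.map (algebraMap A' B')) ⧸ I) ⊗[A'] ↥J),
      (∀ (x : (B' ⧸ J.map (algebraMap A' B'))) (hx : x ∈ I) (x' x'' : B'), x' ∈ I' → x'' ∈ I'' →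
          Ideal.Quotient.mk (J.map (algebraMap A' B')) x' = x → Ideal.Quotient.mk (J.map (algebraMap A' B')) x'' = x →
          ∀ z : B' ⊗[A'] ↥J, TensorProduct.rid A' B' (LinearMap.lTensor B' (Submodule.subtype J) z) = x'' - x' →
            LinearMap.rTensor ↥J (IsScalarTower.toAlgHom A' B' ((B' ⧸ J.map (algebraMap A' B')) ⧸ I)).toLinearMap z = φ ⟨x, hx⟩) := by
  set q := Ideal.Quotient.mk (J.map (algebraMap A' B')) with hq
  have hlift : ∀ x : ↥I, ∃ (x' x'' : B') (z : B' ⊗[A'] ↥J), x' ∈ I' ∧ x'' ∈ I'' ∧ q x' = x ∧ q x'' = x ∧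
      μ A' J B' z = x'' - x' := by
    rintro ⟨x, hx⟩
    obtain ⟨b, rfl⟩ := Ideal.Quotient.mk_surjective x
    obtain ⟨i, hi, s, hs, h⟩ := mem_sup I hI' b hx
    obtain ⟨i2, hi2, s2, hs2, h2⟩ := mem_sup I hI'' b hx
    have e1 : q i = q b := by rw [hq, Ideal.Quotient.eq, h]; simpa using neg_mem hs
    have e2 : q i2 = q b := by rw [hq, Ideal.Quotient.eq, h2]; simpa using neg_mem hs2
    obtain ⟨z, hz⟩ := exists_μ (A' := A') (J := J) (x := i2 - i) (Ideal.Quotient.eq.mp (e2.trans e1.symm))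
    exact ⟨i, i2, z, hi, hi2, e1, e2, hz⟩
  choose x' x'' z hx' hx'' hqx' hqx'' hz using hlift
  have key : ∀ (x : ↥I) (a b : B') (w : B' ⊗[A'] ↥J), a ∈ I' → b ∈ I'' → q a = x → q b = x →
      μ A' J B' w = b - a → π I w = π I (z x) := by
    intro x a b w ha hb hqa hqb hw
    obtain ⟨w1, hw1⟩ := exists_μ (A' := A') (J := J) (x := a - x' x) (Ideal.Quotient.eq.mp (hqa.trans (hqx' x).symm))
    have h1 : π I w1 = 0 := π_eq_zero_of_μ_mem hI' (by rw [hw1]; exact sub_mem ha (hx' x))
    have h2 : μ A' J B' (w - z x + w1) = b - x'' x := by rw [map_add, map_sub, hw, hz, hw1]; ring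
    have h3 : π I (w - z x + w1) = 0 := π_eq_zero_of_μ_mem hI'' (by rw [h2]; exact sub_mem hb (hx'' x))
    rw [map_add, map_sub, h1, add_zero, sub_eq_zero] at h3
    exact h3
  refine ⟨
    { toFun := fun x => π I (z x)
      map_add' := fun x y => ?_
      map_smul' := fun c x => ?_ }, ?_, ?_⟩
  · rw [← map_add]
    refine (key _ (x' x + x' y) (x'' x + x'' y) _ (add_mem (hx' x) (hx' y)) (add_mem (hx'' x) (hx'' y)) ?_ ?_ ?_).symm
    · rw [map_add, hqx', hqx']; rfl
    · rw [map_add, hqx'', hqx'']; rfl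
    · rw [map_add, hz, hz]; ring
  · rw [RingHom.id_apply, ← π_smul]
    refine (key _ (c * x' x) (c * x'' x) _ (Ideal.mul_mem_left _ _ (hx' x)) (Ideal.mul_mem_left _ _ (hx'' x)) ?_ ?_ ?_).symm
    · rw [map_mul, hqx', Submodule.coe_smul_of_tower, Algebra.smul_def]; rfl
    · rw [map_mul, hqx'', Submodule.coe_smul_of_tower, Algebra.smul_def]; rfl
    · rw [μ_smul, hz]; ring
  · intro x hx a b ha hb hqa hqb w hw
    exact key ⟨x, hx⟩ a b w ha hb hqa hqb hw
  · intro ψ hψ
    ext ⟨x, hx⟩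
    exact (hψ x hx _ _ (hx' _) (hx'' _) (hqx' ⟨x, hx⟩) (hqx'' ⟨x, hx⟩) (z ⟨x, hx⟩) (hz _)).symm

theorem existsUnique_ideal (hJ : J * J = ⊥)
    [Module.Flat (A' ⧸ J) ((B' ⧸ J.map (algebraMap A' B')) ⧸ I)]
    (I' : Ideal B') [Module.Flat A' (B' ⧸ I')]
    (hI' : I'.map (Ideal.Quotient.mk (J.map (algebraMap A' B'))) = I)
    (φ : ↥I →ₗ[B'] (((B' ⧸ J.map (algebraMap A' B')) ⧸ I) ⊗[A'] ↥J)) :
    ∃! I'' : Ideal B', Module.Flat A' (B' ⧸ I'') ∧
      I''.map (Ideal.Quotient.mk (J.map (algebraMap A' B'))) = I ∧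
      (∀ (x : (B' ⧸ J.map (algebraMap A' B'))) (hx : x ∈ I) (x' x'' : B'), x' ∈ I' → x'' ∈ I'' →
          Ideal.Quotient.mk (J.map (algebraMap A' B')) x' = x → Ideal.Quotient.mk (J.map (algebraMap A' B')) x'' = x →
          ∀ z : B' ⊗[A'] ↥J, TensorProduct.rid A' B' (LinearMap.lTensor B' (Submodule.subtype J) z) = x'' - x' →
            LinearMap.rTensor ↥J (IsScalarTower.toAlgHom A' B' ((B' ⧸ J.map (algebraMap A' B')) ⧸ I)).toLinearMap z = φ ⟨x, hx⟩) := by
  set q := Ideal.Quotient.mk (J.map (algebraMap A' B')) with hq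
  let T : Ideal B' :=
    { carrier := {y | ∃ (a : B') (ha : a ∈ I') (z : B' ⊗[A'] ↥J), y = a + μ A' J B' z ∧
        π I z = φ ⟨q a, mem_I I hI' ha⟩}
      zero_mem' := ⟨0, zero_mem _, 0, by simp, by
        rw [map_zero, show (⟨q 0, mem_I I hI' (zero_mem _)⟩ : ↥I) = 0 from Subtype.ext (map_zero q), map_zero]⟩
      add_mem' := by
        rintro y y2 ⟨a, ha, z, rfl, h⟩ ⟨a2, ha2, z2, rfl, h2⟩
        refine ⟨a + a2, add_mem ha ha2, z + z2, by rw [map_add]; ring, ?_⟩
        rw [map_add, h, h2, ← map_add]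
        exact congrArg φ (Subtype.ext (map_add q a a2).symm)
      smul_mem' := by
        rintro c y ⟨a, ha, z, rfl, h⟩
        refine ⟨c * a, Ideal.mul_mem_left _ _ ha, c • z, by rw [smul_eq_mul, μ_smul, mul_add], ?_⟩
        rw [π_smul, h, ← map_smul]
        refine congrArg φ (Subtype.ext ?_)
        rw [Submodule.coe_smul_of_tower, Algebra.smul_def]; exact (map_mul q c a).symm }
  have hT : ∀ y ∈ T, ∃ (a : B') (ha : a ∈ I') (z : B' ⊗[A'] ↥J), y = a + μ A' J B' z ∧
      π I z = φ ⟨q a, mem_I I hI' ha⟩ := fun y hy => hy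
  have hqμ : ∀ z, q (μ A' J B' z) = 0 := fun z => Ideal.Quotient.eq_zero_iff_mem.mpr (μ_mem z)
  have hmap : T.map q = I := by
    refine le_antisymm ?_ ?_
    · rw [Ideal.map_le_iff_le_comap]
      rintro y ⟨a, ha, z, rfl, -⟩
      rw [Ideal.mem_comap, map_add, hqμ, add_zero]
      exact mem_I I hI' ha
    · intro x hx
      obtain ⟨a, ha, rfl⟩ := (Ideal.mem_map_iff_of_surjective _ Ideal.Quotient.mk_surjective).mp (hI'.symm ▸ hx)
      obtain ⟨z, hz⟩ := π_surjective I (φ ⟨q a, mem_I I hI' ha⟩)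
      have : q (a + μ A' J B' z) = q a := by rw [map_add, hqμ, add_zero]
      exact this ▸ Ideal.mem_map_of_mem q ⟨a, ha, z, rfl, hz⟩
  have hker : ∀ z, μ A' J B' z ∈ T → π I z = 0 := by
    intro z hz
    obtain ⟨a, ha, z1, h, h1⟩ := hT _ hz
    have hqa : q a = 0 := by
      have := congrArg q h
      rw [map_add, hqμ, hqμ, add_zero] at this
      exact this.symm
    rw [show (⟨q a, mem_I I hI' ha⟩ : ↥I) = 0 from Subtype.ext hqa, map_zero] at h1
    have : π I (z - z1) = 0 := π_eq_zero_of_μ_mem hI' (by rw [map_sub, h, add_sub_cancel_right]; exact ha)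
    rwa [map_sub, h1, sub_zero] at this
  have hflat : Module.Flat A' (B' ⧸ T) := by
    haveI : Module.Flat (A' ⧸ J) ((A' ⧸ J) ⊗[A'] (B' ⧸ T)) := by
      let g : (B' ⧸ T) →ₐ[A'] ((B' ⧸ J.map (algebraMap A' B')) ⧸ I) :=
        Ideal.Quotient.liftₐ T (IsScalarTower.toAlgHom A' B' ((B' ⧸ J.map (algebraMap A' B')) ⧸ I))
          (fun b hb => Ideal.Quotient.eq_zero_iff_mem.mpr (mem_I I hmap hb))
      let Ψ : (A' ⧸ J) ⊗[A'] (B' ⧸ T) →ₗ[A' ⧸ J] ((B' ⧸ J.map (algebraMap A' B')) ⧸ I) :=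
        g.toLinearMap.liftBaseChange (A' ⧸ J)
      have hgen : ∀ w : (A' ⧸ J) ⊗[A'] (B' ⧸ T), ∃ b : B', w = 1 ⊗ₜ Ideal.Quotient.mk T b := by
        intro w
        induction w using TensorProduct.induction_on with
        | zero => exact ⟨0, by simp⟩
        | tmul a n =>
          obtain ⟨a, rfl⟩ := Ideal.Quotient.mk_surjective a
          obtain ⟨b, rfl⟩ := Ideal.Quotient.mk_surjective n
          refine ⟨algebraMap A' B' a * b, ?_⟩
          rw [map_mul, ← Ideal.Quotient.algebraMap_eq, ← mul_one (algebraMap A' (A' ⧸ J) a),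
            ← Algebra.smul_def, TensorProduct.smul_tmul, Algebra.smul_def]
          rfl
        | add x y hx hy =>
          obtain ⟨b, rfl⟩ := hx; obtain ⟨c, rfl⟩ := hy
          exact ⟨b + c, by rw [map_add, TensorProduct.tmul_add]⟩
      have hΨ : ∀ b : B', Ψ (1 ⊗ₜ Ideal.Quotient.mk T b) =
          IsScalarTower.toAlgHom A' B' ((B' ⧸ J.map (algebraMap A' B')) ⧸ I) b := by
        intro b; simp [Ψ, g]
      have hbij : Function.Bijective Ψ := by
        constructor
        · rw [injective_iff_map_eq_zero]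
          intro w hw
          obtain ⟨b, rfl⟩ := hgen w
          rw [hΨ] at hw
          obtain ⟨i, hi, s, hs, rfl⟩ := mem_sup I hmap b (Ideal.Quotient.eq_zero_iff_mem.mp hw)
          rw [map_add, Ideal.Quotient.eq_zero_iff_mem.mpr hi, zero_add]
          obtain ⟨z, rfl⟩ := exists_μ hs
          clear hw hs
          induction z using TensorProduct.induction_on with
          | zero => simp
          | tmul x j =>
            rw [μ_tmul, map_mul, show Ideal.Quotient.mk T (algebraMap A' B' (j : A')) * Ideal.Quotient.mk T x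
              = (j : A') • Ideal.Quotient.mk T x from by rw [Algebra.smul_def]; rfl,
              ← TensorProduct.smul_tmul, Algebra.smul_def, mul_one,
              Ideal.Quotient.algebraMap_eq, Ideal.Quotient.eq_zero_iff_mem.mpr j.2, TensorProduct.zero_tmul]
          | add x y hx hy => rw [map_add, map_add, TensorProduct.tmul_add, hx, hy, add_zero]
        · intro y
          obtain ⟨b, rfl⟩ := p_surjective I y
          exact ⟨_, hΨ b⟩
      exact Module.Flat.of_linearEquiv (LinearEquiv.ofBijective Ψ hbij)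
    refine Groth.L01.SqZeroFlat.flat J hJ ?_
    rw [injective_iff_map_eq_zero]
    intro w hw
    let r : B' →ₗ[A'] B' ⧸ T := (Ideal.Quotient.mkₐ A' T).toLinearMap
    obtain ⟨w', rfl⟩ := (TensorProduct.comm A' (B' ⧸ T) ↥J).surjective w
    obtain ⟨z, rfl⟩ := LinearMap.rTensor_surjective ↥J (g := r) (Ideal.Quotient.mkₐ_surjective A' T) w'
    have h1 : Ideal.Quotient.mk T (μ A' J B' z) = 0 := by
      have := congrArg (TensorProduct.lid A' (B' ⧸ T)) hw
      rw [map_zero] at this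
      rw [← this]
      clear hw this
      induction z using TensorProduct.induction_on with
      | zero => simp
      | tmul x j => simp [μ_tmul, r, Algebra.smul_def]
      | add x y hx hy => simp only [map_add, hx, hy]
    have h2 : π I z = 0 := hker z (Ideal.Quotient.eq_zero_iff_mem.mp h1)
    set p := (IsScalarTower.toAlgHom A' B' ((B' ⧸ J.map (algebraMap A' B')) ⧸ I)).toLinearMap with hp
    obtain ⟨v, rfl⟩ := ((rTensor_exact ↥J (LinearMap.exact_subtype_ker_map p) (p_surjective I)) z).mp h2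
    rw [← map_zero (TensorProduct.comm A' (B' ⧸ T) ↥J)]
    refine congrArg (TensorProduct.comm A' (B' ⧸ T) ↥J) ?_
    clear hw h1 h2
    induction v using TensorProduct.induction_on with
    | zero => simp
    | add x y hx hy => rw [map_add, map_add, hx, hy, add_zero]
    | tmul k j =>
      have hk : q (k : B') ∈ I := by
        exact Ideal.Quotient.eq_zero_iff_mem.mp (LinearMap.mem_ker.mp k.2)
      obtain ⟨i, hi, s, hs, hk'⟩ := mem_sup I hmap _ hk
      obtain ⟨z, rfl⟩ := exists_μ hs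
      rw [LinearMap.rTensor_tmul, LinearMap.rTensor_tmul, Submodule.subtype_apply, hk', map_add,
        show r i = 0 from Ideal.Quotient.eq_zero_iff_mem.mpr hi, zero_add]
      clear hs hk'
      induction z using TensorProduct.induction_on with
      | zero => simp
      | add x y hx hy => rw [map_add, map_add, TensorProduct.add_tmul, hx, hy, add_zero]
      | tmul x j2 =>
        rw [μ_tmul, show r (algebraMap A' B' (j2 : A') * x) = (j2 : A') • r x from by
            rw [← Algebra.smul_def, map_smul], TensorProduct.smul_tmul,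
          show (j2 : A') • j = 0 from Subtype.ext ?_, TensorProduct.tmul_zero]
        have : (j2 : A') * j ∈ J * J := Ideal.mul_mem_mul j2.2 j.2
        rw [hJ, Ideal.mem_bot] at this
        exact this
  refine ⟨T, ⟨hflat, hmap, ?_⟩, ?_⟩
  · intro x hx a b ha hb hqa hqb w hw
    obtain ⟨a1, ha1, z1, rfl, h1⟩ := hT b hb
    have hx1 : q a1 = x := by rw [← hqb, map_add, hqμ, add_zero]
    have h2 : π I (w - z1) = 0 := π_eq_zero_of_μ_mem hI' (by
      rw [map_sub, μ_apply w, hw, show a1 + μ A' J B' z1 - a - μ A' J B' z1 = a1 - a by ring]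
      exact sub_mem ha1 ha)
    rw [map_sub, sub_eq_zero, h1] at h2
    exact h2.trans (congrArg φ (Subtype.ext hx1))
  · rintro T2 ⟨-, hT2, hdiff⟩
    refine le_antisymm ?_ ?_
    · intro y hy
      obtain ⟨a, ha, hay⟩ := (Ideal.mem_map_iff_of_surjective _ Ideal.Quotient.mk_surjective).mp
        (hI'.symm ▸ mem_I I hT2 hy : q y ∈ I'.map q)
      obtain ⟨z, hz⟩ := exists_μ (A' := A') (J := J) (x := y - a) (Ideal.Quotient.eq.mp hay.symm)
      exact ⟨a, ha, z, by rw [hz]; ring, hdiff (q a) (mem_I I hI' ha) a y ha hy rfl hay.symm z hz⟩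
    · rintro y ⟨a, ha, z, rfl, h⟩
      obtain ⟨b, hb, hba⟩ := (Ideal.mem_map_iff_of_surjective _ Ideal.Quotient.mk_surjective).mp
        (hT2.symm ▸ mem_I I hI' ha : q a ∈ T2.map q)
      obtain ⟨w, hw⟩ := exists_μ (A' := A') (J := J) (x := b - a) (Ideal.Quotient.eq.mp hba)
      have hw' : π I w = φ ⟨q a, mem_I I hI' ha⟩ := hdiff (q a) (mem_I I hI' ha) a b ha hb rfl hba w hw
      have h0 : π I (z - w) = 0 := by rw [map_sub, h, hw', sub_self]
      have := μ_mem_of_π_eq_zero hJ hT2 h0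
      have h5 : a + μ A' J B' z = b + μ A' J B' (z - w) := by rw [map_sub, hw]; ring
      rw [h5]; exact add_mem hb this

lemma mul_self_of_maximalIdeal [IsLocalRing A'] (hJ : IsLocalRing.maximalIdeal A' * J = ⊥) (hJne : J ≠ ⊤) :
    J * J = ⊥ :=
  le_bot_iff.mp (hJ ▸ Ideal.mul_mono_left (IsLocalRing.le_maximalIdeal hJne))

end Groth.L12.AffTorsor
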