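import Groth.Agent.L12.RegLift
import Groth.Agent.L12.AffTorsor

/-!
Flat deformations of complete intersections over Artinian local rings.
-/

universe u

open RingTheory.Sequence Ideal IsLocalRing TensorProduct
open scoped Pointwise

namespace Groth.L12.RegLift

/-- For `A/I` flat over `C`, `mA ⊓ I ≤ mA * I`. -/
theorem inf_le_mul {C A : Type u} [CommRing C] [CommRing A] [Algebra C A] (m : Ideal C) (I : Ideal A)
    [Module.Flat C (A ⧸ I)] : m.map (algebraMap C A) ⊓ I ≤ m.map (algebraMap C A) * I := by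
  rintro x ⟨hx1, hx2⟩
  obtain ⟨z, rfl⟩ := Groth.L12.AffTorsor.exists_μ hx1
  let r : A →ₗ[C] A ⧸ I := (Ideal.Quotient.mkₐ C I).toLinearMap
  have h1 : LinearMap.lTensor (A ⧸ I) (Submodule.subtype m) (r.rTensor ↥m z) = 0 := by
    apply (TensorProduct.rid C (A ⧸ I)).injective
    rw [map_zero, ← Ideal.Quotient.eq_zero_iff_mem.mpr hx2]
    clear hx1 hx2
    induction z using TensorProduct.induction_on with
    | zero => simp
    | tmul x j => simp [Groth.L12.AffTorsor.μ_tmul, r, Algebra.smul_def]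
    | add x y hx hy => rw [map_add, map_add, map_add, hx, hy, map_add, map_add]
  have h2 : r.rTensor ↥m z = 0 :=
    Module.Flat.lTensor_preserves_injective_linearMap (M := A ⧸ I) (Submodule.subtype m) Subtype.val_injective
      (h1.trans (map_zero _).symm)
  obtain ⟨w, rfl⟩ := ((rTensor_exact ↥m (LinearMap.exact_subtype_ker_map r) (Ideal.Quotient.mkₐ_surjective C I)) z).mp h2
  clear hx1 hx2 h1 h2
  induction w using TensorProduct.induction_on with
  | zero => simp
  | add x y hx hy => rw [map_add, map_add]; exact add_mem hx hy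
  | tmul k j =>
    rw [LinearMap.rTensor_tmul, Submodule.subtype_apply, Groth.L12.AffTorsor.μ_tmul]
    exact Ideal.mul_mem_mul (Ideal.mem_map_of_mem _ j.2) (Ideal.Quotient.eq_zero_iff_mem.mp (LinearMap.mem_ker.mp k.2))

lemma ofList_ofFn {A : Type u} [CommRing A] {r : ℕ} (a : Fin r → A) :
    Ideal.ofList (List.ofFn a) = Ideal.span (Set.range a) := by
  rw [Ideal.ofList]; congr 1; ext x; simp [List.mem_ofFn]

lemma ofFn_mem {A : Type u} [CommRing A] [IsLocalRing A] {r : ℕ} {a : Fin r → A}
    (h : IsRegular A (List.ofFn a)) : ∀ x ∈ List.ofFn a, x ∈ maximalIdeal A := by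
  intro x hx
  have h1 : Ideal.ofList (List.ofFn a) ≠ ⊤ := fun e => h.top_ne_smul (by rw [e, smul_eq_mul, Ideal.mul_top])
  exact le_maximalIdeal h1 (Ideal.subset_span hx)

lemma ringKrullDim_sup_nilpotent {A : Type u} [CommRing A] (K I : Ideal A) (hK : IsNilpotent K) :
    ringKrullDim (A ⧸ (K ⊔ I)) = ringKrullDim (A ⧸ I) := by
  have hn : IsNilpotent (K.map (Ideal.Quotient.mk I)) := by
    obtain ⟨n, hn⟩ := hK
    exact ⟨n, by rw [← Ideal.map_pow, hn]; exact Ideal.map_bot⟩
  rw [sup_comm, ← ringKrullDim_quotient_nilpotent _ hn]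
  exact (ringKrullDim_eq_of_ringEquiv (DoubleQuot.quotQuotEquivQuotSup I K)).symm

lemma le_of_le_sup_mul {A : Type u} [CommRing A] (K P I : Ideal A) (hK : IsNilpotent K) (h : I ≤ P ⊔ K * I) :
    I ≤ P := by
  obtain ⟨n, hn⟩ := hK
  have : ∀ i, I ≤ P ⊔ K ^ i * I := by
    intro i
    induction i with
    | zero => simp
    | succ i ih =>
      refine h.trans (sup_le le_sup_left ?_)
      calc K * I ≤ K * (P ⊔ K ^ i * I) := Ideal.mul_mono_right ih
        _ ≤ P ⊔ K ^ (i + 1) * I := by
          rw [Ideal.mul_sup, pow_succ', mul_assoc]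
          exact sup_le_sup_right Ideal.mul_le_right _
  simpa [hn] using this n

variable {C : Type u} [CommRing C] [IsLocalRing C] [IsArtinianRing C] {A : Type u} [CommRing A] [Algebra C A]

lemma isNilpotent_map : IsNilpotent ((maximalIdeal C).map (algebraMap C A)) := by
  obtain ⟨n, hn⟩ := (isArtinianRing_iff_isNilpotent_maximalIdeal C).mp ‹_›
  exact ⟨n, by rw [← Ideal.map_pow, hn]; exact Ideal.map_bot⟩

variable [LocCoh.IsCohenMacaulayLocalRing (A ⧸ (maximalIdeal C).map (algebraMap C A))]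

include C in
lemma isNoetherian_total : IsNoetherianRing A :=
  isNoetherianRing_of_nilpotent _ (Ideal.FG.map (IsNoetherian.noetherian _) _) (isNilpotent_map (C := C) (A := A))

include C in
lemma isLocalRing_total : IsLocalRing A := by
  haveI : IsLocalHom (Ideal.Quotient.mk ((maximalIdeal C).map (algebraMap C A))) := by
    refine ⟨fun a ha => ?_⟩
    obtain ⟨u, hu⟩ := ha.exists_left_inv
    obtain ⟨b, rfl⟩ := Ideal.Quotient.mk_surjective u
    have h1 : IsNilpotent (b * a - 1) := by
      obtain ⟨n, hn⟩ := isNilpotent_map (C := C) (A := A)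
      have hm : b * a - 1 ∈ (maximalIdeal C).map (algebraMap C A) := Ideal.Quotient.eq.mp (by rw [map_mul, hu, map_one])
      exact ⟨n, by simpa [hn] using Ideal.pow_mem_pow hm n⟩
    have h2 : IsUnit (b * a) := by simpa using h1.isUnit_add_one
    exact isUnit_of_mul_isUnit_right h2
  exact (Ideal.Quotient.mk ((maximalIdeal C).map (algebraMap C A))).domain_isLocalRing

lemma isLocalHom_total : IsLocalHom (algebraMap C A) := by
  haveI := isLocalRing_total (C := C) (A := A)
  refine ⟨fun c hc => ?_⟩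
  by_contra h
  have hK : (maximalIdeal C).map (algebraMap C A) ≠ ⊤ := by
    intro e
    obtain ⟨n, hn⟩ := isNilpotent_map (C := C) (A := A)
    rw [e, Ideal.top_pow] at hn
    exact top_ne_bot hn
  exact hK (Ideal.eq_top_of_isUnit_mem _ (Ideal.mem_map_of_mem _ h) hc)

/-- regular and flat from regular on the fibre -/
theorem regular_flat_of_fibre [Module.Flat C A] {r : ℕ} (a : Fin r → A)
    (h : IsRegular (A ⧸ (maximalIdeal C).map (algebraMap C A))
      (List.ofFn fun i => Ideal.Quotient.mk ((maximalIdeal C).map (algebraMap C A)) (a i))) :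
    IsRegular A (List.ofFn a) ∧ Module.Flat C (A ⧸ Ideal.span (Set.range a)) := by
  haveI := isNoetherian_total (C := C) (A := A)
  haveI := isLocalRing_total (C := C) (A := A)
  haveI := isLocalHom_total (C := C) (A := A)
  set K := (maximalIdeal C).map (algebraMap C A)
  have hm : ∀ x ∈ List.ofFn a, x ∈ maximalIdeal A := by
    intro x hx
    obtain ⟨i, rfl⟩ := List.mem_ofFn.mp hx
    have h0 := ofFn_mem h _ (List.mem_ofFn.mpr ⟨i, rfl⟩)
    rw [mem_maximalIdeal, mem_nonunits_iff] at h0 ⊢
    exact fun hu => h0 (hu.map _)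
  have hw : IsWeaklyRegular (A ⧸ K) (List.ofFn a) := by
    rw [← isWeaklyRegular_map_algebraMap_iff (S := A ⧸ K) (M := A ⧸ K), List.map_ofFn]
    exact h.toIsWeaklyRegular
  have h1 := Groth.L04.isWeaklyRegular_of_fibre (R := C) hm hw
  have h2 := flat_of_fibre (R := C) hm hw
  refine ⟨⟨h1, fun e => ?_⟩, by rwa [ofList_ofFn] at h2⟩
  rw [smul_eq_mul, Ideal.mul_top] at e
  exact (maximalIdeal.isMaximal A).ne_top (top_le_iff.mp (e.le.trans (Ideal.span_le.2 hm)))

theorem isRegular_lift {J : Ideal C} (hJne : J ≠ ⊤) [Module.Flat C A] {r : ℕ} (a : Fin r → A)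
    (hreg : IsRegular (A ⧸ J.map (algebraMap C A))
      (List.ofFn fun i => Ideal.Quotient.mk (J.map (algebraMap C A)) (a i))) :
    IsRegular A (List.ofFn a) ∧ Module.Flat C (A ⧸ Ideal.span (Set.range a)) := by
  haveI := isNoetherian_total (C := C) (A := A)
  haveI := isLocalRing_total (C := C) (A := A)
  haveI := isLocalHom_total (C := C) (A := A)
  refine regular_flat_of_fibre a ?_
  set K := (maximalIdeal C).map (algebraMap C A)
  set T := J.map (algebraMap C A)
  have hK : IsNilpotent K := isNilpotent_map (C := C) (A := A)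
  have hT : IsNilpotent T := by
    obtain ⟨n, hn⟩ := hK
    exact ⟨n, le_bot_iff.mp ((Ideal.pow_right_mono (Ideal.map_mono (le_maximalIdeal hJne)) n).trans hn.le)⟩
  haveI : Nontrivial (A ⧸ T) := Ideal.Quotient.nontrivial_iff.2 fun e => by
    obtain ⟨n, hn⟩ := hT
    rw [e, Ideal.top_pow] at hn
    exact top_ne_bot hn
  haveI : IsLocalRing (A ⧸ T) := IsLocalRing.of_surjective' _ Ideal.Quotient.mk_surjective
  have hmT := ofFn_mem hreg
  have e1 : ringKrullDim (A ⧸ T) = ringKrullDim (A ⧸ K) := by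
    rw [ringKrullDim_quotient_nilpotent T hT, ringKrullDim_quotient_nilpotent K hK]
  have hsup : ∀ (U : Ideal A), Ideal.span (Set.range fun i => Ideal.Quotient.mk U (a i)) =
      (Ideal.span (Set.range a)).map (Ideal.Quotient.mk U) := fun U => by
    rw [Ideal.map_span, ← Set.range_comp]; rfl
  have e2 : ∀ (U : Ideal A), IsNilpotent U →
      ringKrullDim ((A ⧸ U) ⧸ Ideal.ofList (List.ofFn fun i => Ideal.Quotient.mk U (a i))) =
        ringKrullDim (A ⧸ Ideal.span (Set.range a)) := fun U hU => by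
    rw [← ringKrullDim_sup_nilpotent U _ hU, ← ringKrullDim_eq_of_ringEquiv (DoubleQuot.quotQuotEquivQuotSup U _)]
    exact ringKrullDim_eq_of_ringEquiv (Ideal.quotEquivOfEq (by rw [ofList_ofFn, hsup]))
  have hd := Groth.L04.supportDim_quotient_ofList_add (M := A ⧸ T) hreg.toIsWeaklyRegular hmT
  rw [Module.supportDim_self_eq_ringKrullDim, smul_eq_mul, Ideal.mul_top,
    Module.supportDim_quotient_eq_ringKrullDim, e2 T hT, e1, List.length_ofFn] at hd
  have hm : ∀ x ∈ List.ofFn (fun i => Ideal.Quotient.mk K (a i)), x ∈ maximalIdeal (A ⧸ K) := by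
    intro x hx
    obtain ⟨i, rfl⟩ := List.mem_ofFn.mp hx
    have h0 := hmT _ (List.mem_ofFn.mpr ⟨i, rfl⟩)
    rw [mem_maximalIdeal, mem_nonunits_iff] at h0 ⊢
    intro hu
    haveI : IsLocalHom (Ideal.Quotient.mk K) := IsLocalHom.of_surjective _ Ideal.Quotient.mk_surjective
    exact h0 ((isUnit_of_map_unit _ _ hu).map _)
  refine ⟨isWeaklyRegular_of_dim _ hm ?_, fun e => ?_⟩
  · rw [e2 K hK, List.length_ofFn]; exact hd
  · rw [smul_eq_mul, Ideal.mul_top] at e
    exact (maximalIdeal.isMaximal (A ⧸ K)).ne_top (top_le_iff.mp (e.le.trans (Ideal.span_le.2 hm)))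

theorem exists_regular_generators [Module.Flat C A] (I : Ideal A) [Module.Flat C (A ⧸ I)] (r : ℕ)
    (b : Fin r → A ⧸ (maximalIdeal C).map (algebraMap C A))
    (hb : IsRegular (A ⧸ (maximalIdeal C).map (algebraMap C A)) (List.ofFn b))
    (hI : I.map (Ideal.Quotient.mk ((maximalIdeal C).map (algebraMap C A))) = Ideal.span (Set.range b)) :
    ∃ a : Fin r → A, IsRegular A (List.ofFn a) ∧ I = Ideal.span (Set.range a) := by
  have hlift : ∀ i, ∃ x ∈ I, Ideal.Quotient.mk ((maximalIdeal C).map (algebraMap C A)) x = b i := fun i =>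
    (Ideal.mem_map_iff_of_surjective _ Ideal.Quotient.mk_surjective).mp
      (hI ▸ Ideal.subset_span (Set.mem_range_self i))
  choose a ha hab using hlift
  refine ⟨a, (regular_flat_of_fibre (C := C) a (by simpa only [hab] using hb)).1, le_antisymm ?_ ?_⟩
  · refine le_of_le_sup_mul ((maximalIdeal C).map (algebraMap C A)) _ _ (isNilpotent_map (C := C) (A := A)) fun x hx => ?_
    have h1 : Ideal.Quotient.mk _ x ∈ (Ideal.span (Set.range a)).map (Ideal.Quotient.mk ((maximalIdeal C).map (algebraMap C A))) := by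
      rw [Ideal.map_span, ← Set.range_comp]
      have e : (Ideal.Quotient.mk ((maximalIdeal C).map (algebraMap C A))) ∘ a = b := funext hab
      rw [e, ← hI]
      exact Ideal.mem_map_of_mem _ hx
    obtain ⟨y, hy, hyx⟩ := (Ideal.mem_map_iff_of_surjective _ Ideal.Quotient.mk_surjective).mp h1
    have hyI : y ∈ I := Ideal.span_le.2 (Set.range_subset_iff.2 ha) hy
    have := inf_le_mul (maximalIdeal C) I ⟨Ideal.Quotient.eq.mp hyx.symm, sub_mem hx hyI⟩
    exact Submodule.mem_sup.mpr ⟨y, hy, _, this, add_sub_cancel y x⟩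
  · exact Ideal.span_le.2 (Set.range_subset_iff.2 ha)

theorem exists_generators_lift {C A : Type u} [CommRing C] [CommRing A] [Algebra C A] {J : Ideal C}
    (hJ : J * J = ⊥) (r : ℕ) (a : Fin r → A ⧸ J.map (algebraMap C A)) (I' : Ideal A) [Module.Flat C (A ⧸ I')]
    (hI' : I'.map (Ideal.Quotient.mk (J.map (algebraMap C A))) = Ideal.span (Set.range a)) :
    ∃ a' : Fin r → A, (∀ i, Ideal.Quotient.mk (J.map (algebraMap C A)) (a' i) = a i) ∧
      I' = Ideal.span (Set.range a') := by
  have hlift : ∀ i, ∃ x ∈ I', Ideal.Quotient.mk (J.map (algebraMap C A)) x = a i := fun i =>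
    (Ideal.mem_map_iff_of_surjective _ Ideal.Quotient.mk_surjective).mp
      (hI' ▸ Ideal.subset_span (Set.mem_range_self i))
  choose a' ha hab using hlift
  refine ⟨a', hab, le_antisymm ?_ (Ideal.span_le.2 (Set.range_subset_iff.2 ha))⟩
  have hnil : IsNilpotent (J.map (algebraMap C A)) := ⟨2, by rw [pow_two, ← Ideal.map_mul, hJ]; exact Ideal.map_bot⟩
  refine le_of_le_sup_mul _ _ _ hnil fun x hx => ?_
  have h1 : Ideal.Quotient.mk _ x ∈ (Ideal.span (Set.range a')).map (Ideal.Quotient.mk (J.map (algebraMap C A))) := by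
    rw [Ideal.map_span, ← Set.range_comp]
    have e : (Ideal.Quotient.mk (J.map (algebraMap C A))) ∘ a' = a := funext hab
    rw [e, ← hI']
    exact Ideal.mem_map_of_mem _ hx
  obtain ⟨y, hy, hyx⟩ := (Ideal.mem_map_iff_of_surjective _ Ideal.Quotient.mk_surjective).mp h1
  have hyI : y ∈ I' := Ideal.span_le.2 (Set.range_subset_iff.2 ha) hy
  have := inf_le_mul J I' ⟨Ideal.Quotient.eq.mp hyx.symm, sub_mem hx hyI⟩
  exact Submodule.mem_sup.mpr ⟨y, hy, _, this, add_sub_cancel y x⟩

end Groth.L12.RegLift
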