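import Groth.Agent.L12.PSRing

/-!
# Smooth maps of coefficient rings are power series extensions
-/

universe u v

open CategoryTheory ArtFun ArtFun.Art IsLocalRing

namespace Groth.L12

/-- a minimal generating set modulo `J` -/
lemma exists_minimal_gens {S : Type u} [CommRing S] [IsLocalRing S] [IsNoetherianRing S] (J : Ideal S) :
    ∃ (n : ℕ) (s : Fin n → S), (∀ i, s i ∈ maximalIdeal S) ∧
      maximalIdeal S ≤ Ideal.span (Set.range s) ⊔ J ∧
      ∀ c : Fin n → S, ∑ i, c i * s i ∈ J → ∀ i, c i ∈ maximalIdeal S := by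
  classical
  have hex : ∃ n, ∃ s : Fin n → S, (∀ i, s i ∈ maximalIdeal S) ∧
      maximalIdeal S ≤ Ideal.span (Set.range s) ⊔ J := by
    obtain ⟨n, s, hs⟩ := Submodule.fg_iff_exists_fin_generating_family.1
      (IsNoetherian.noetherian (maximalIdeal S))
    exact ⟨n, s, fun i => hs ▸ Submodule.subset_span ⟨i, rfl⟩, hs.ge.trans le_sup_left⟩
  obtain ⟨s, hs, hle⟩ := Nat.find_spec hex
  refine ⟨Nat.find hex, s, hs, hle, fun c hc i => ?_⟩
  by_contra hu
  rw [mem_maximalIdeal, mem_nonunits_iff, not_not] at hu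
  obtain ⟨m, hm⟩ := Nat.exists_eq_succ_of_ne_zero (Fin.pos i).ne'
  refine Nat.find_min hex (show m < Nat.find hex by omega)
    ⟨fun j => s (Fin.cast hm.symm (Fin.succAbove (Fin.cast hm i) j)), fun j => hs _, ?_⟩
  set T := Ideal.span (Set.range fun j => s (Fin.cast hm.symm (Fin.succAbove (Fin.cast hm i) j))) ⊔ J with hT
  have hne : ∀ l, l ≠ i → s l ∈ T := fun l hl => by
    obtain ⟨j, hj⟩ := Fin.exists_succAbove_eq (x := Fin.cast hm l) (y := Fin.cast hm i) (by simpa using hl)
    exact Ideal.mem_sup_left (Ideal.subset_span ⟨j, by simp [hj]⟩)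
  refine hle.trans (sup_le (Ideal.span_le.2 ?_) le_sup_right)
  rintro - ⟨l, rfl⟩
  rcases eq_or_ne l i with rfl | hl
  swap
  · exact hne l hl
  have h1 : c l * s l ∈ T := by
    have h2 : c l * s l = ∑ j, c j * s j - ∑ j ∈ Finset.univ.erase l, c j * s j := by
      rw [← Finset.add_sum_erase _ _ (Finset.mem_univ l), add_sub_cancel_right]
    rw [h2]
    exact sub_mem (Ideal.mem_sup_right hc)
      (Ideal.sum_mem _ fun j hj => Ideal.mul_mem_left _ _ (hne j (Finset.ne_of_mem_erase hj)))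
  exact (Ideal.unit_mul_mem_iff_mem _ hu).1 h1

variable {Λ : Type u} {k : Type u} [CommRing Λ] [Field k] [Algebra Λ k]

/-- a smooth map of coefficient rings is a power series extension -/
theorem exists_psEquiv_of_versal (R S : CRing Λ k) (g : R.carrier →ₐ[Λ] S.carrier) (hg : S.res.comp g = R.res)
    (hv : IsVersal ((Family.self R.carrier R.res).along g hg)) :
    ∃ (n : ℕ) (e : (psRing R (Fin n)).carrier ≃ₐ[Λ] S.carrier),
      S.res.comp e.toAlgHom = (psRing R (Fin n)).res ∧ e.toAlgHom.comp (psC R (Fin n)) = g := by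
  obtain ⟨n, s, hs, hgen, hind⟩ :=
    exists_minimal_gens ((maximalIdeal R.carrier).map g ⊔ maximalIdeal S.carrier ^ 2)
  set P := psRing R (Fin n) with hP
  obtain ⟨φ, hφC, hφX⟩ := exists_psLift R g s hs
  have hφres : S.res.comp φ = P.res := by
    haveI : IsAdicComplete (maximalIdeal k) k := (artCRing (Art.base Λ k)).isAdicComplete
    refine psHom_ext R (S := k) (fun i => ?_) ?_ fun i => ?_
    · change S.res (φ _) ∈ _
      rw [hφX, (CRing.mem_maximalIdeal_iff S _).1 (hs i)]
      exact zero_mem _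
    · rw [AlgHom.comp_assoc, hφC, psC_res, hg]
    · change S.res (φ _) = P.res _
      rw [hφX, (CRing.mem_maximalIdeal_iff S _).1 (hs i)]
      exact (psX_res R (Fin n) i).symm
  have hφs : Function.Surjective φ := by
    refine surjective_of_cotangent φ P.res_surjective (fun x => (CRing.mem_maximalIdeal_iff S x).symm) hφres
      (hgen.trans (sup_le ?_ (sup_le ?_ le_sup_right)))
    · refine le_sup_of_le_left (Ideal.span_le.2 ?_)
      rintro - ⟨i, rfl⟩
      rw [← hφX i]
      exact Ideal.mem_map_of_mem _ (X_mem_maximalIdeal i)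
    · refine le_sup_of_le_left (Ideal.map_le_iff_le_comap.2 fun r hr => ?_)
      rw [Ideal.mem_comap, ← hφC, AlgHom.comp_apply]
      exact Ideal.mem_map_of_mem _ (C_mem_maximalIdeal hr)
  let φ₁ : P.trunc 1 ⟶ S.trunc 1 := CRing.truncMapOfHom φ hφres 1
  have hφ₁s : Function.Surjective φ₁ := fun z => by
    obtain ⟨a, rfl⟩ := truncHom_surjective S 1 z
    obtain ⟨b, rfl⟩ := hφs a
    exact ⟨(P.truncHom 1).1 b, rfl⟩
  let yC : ∀ m, HomSet R.carrier R.res (P.trunc m) := fun m =>
    ⟨(P.truncHom m).1.comp (psC R (Fin n)), by rw [← AlgHom.comp_assoc, (P.truncHom m).2]; exact psC_res R _⟩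
  let Q : ∀ m, HomSet S.carrier S.res (P.trunc m) → Prop := fun m ψ =>
    ψ.1.comp g = (yC m).1 ∧ ∀ h : m = 1, ∀ a, φ₁ ((h ▸ ψ : HomSet S.carrier S.res (P.trunc 1)).1 a) = (S.truncHom 1).1 a
  have h00 : ∃ ψ, Q 0 ψ := by
    haveI := isIso_of_bijective (toBase (P.trunc 0)) (trunc_zero_bijective P)
    refine ⟨HomSet.map (inv (toBase (P.trunc 0))) (basePt S.carrier S.res), ?_, fun h => absurd h zero_ne_one⟩
    refine AlgHom.ext fun r => (trunc_zero_bijective P).1 ?_
    refine (DFunLike.congr_fun (HomSet.map (inv (toBase (P.trunc 0))) (basePt S.carrier S.res)).2 (g r)).trans ?_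
    exact (DFunLike.congr_fun hg r).trans (DFunLike.congr_fun (yC 0).2 r).symm
  have hstep : ∀ m ψ, Q m ψ → ∃ ψ', Q (m + 1) ψ' ∧ HomSet.map (P.truncMap m) ψ' = ψ := by
    rintro (_ | m) ψ ⟨hψ, -⟩
    · obtain ⟨ψ', h₁, h₂⟩ := hv φ₁ hφ₁s (S.truncHom 1) (yC 1) (Subtype.ext (AlgHom.ext fun r => by
        change (S.truncHom 1).1 (φ (psC R (Fin n) r)) = (S.truncHom 1).1 (g r)
        rw [← hφC]
        rfl))
      refine ⟨ψ', ⟨congrArg Subtype.val h₂, fun _ a => DFunLike.congr_fun (congrArg Subtype.val h₁) a⟩,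
        Subtype.ext (AlgHom.ext fun a => (trunc_zero_bijective P).1 ?_)⟩
      exact (DFunLike.congr_fun (HomSet.map (P.truncMap 0) ψ').2 a).trans (DFunLike.congr_fun ψ.2 a).symm
    · obtain ⟨ψ', h₁, h₂⟩ := hv (P.truncMap (m + 1)) (truncMap_surjective P (m + 1)) ψ (yC (m + 1 + 1))
        (Subtype.ext (AlgHom.ext fun r => (show (P.truncHom (m + 1)).1 (psC R (Fin n) r) = ψ.1 (g r) from
          (DFunLike.congr_fun hψ r).symm)))
      exact ⟨ψ', ⟨congrArg Subtype.val h₂, fun h => absurd h (by omega)⟩, h₁⟩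
  obtain ⟨ψ, hψ, hQ⟩ := exists_hom_of_step Q h00 hstep
  have hψg : ψ.comp g = psC R (Fin n) := cring_hom_ext fun m r => DFunLike.congr_fun (hQ m).1 r
  have hψ1 : ∀ a, φ (ψ a) - a ∈ maximalIdeal S.carrier ^ 2 := fun a => Ideal.Quotient.eq.1 ((hQ 1).2 rfl a)
  have hψm : (maximalIdeal S.carrier).map ψ ≤ maximalIdeal P.carrier := cringHom_map_max hψ
  have hψs : Function.Surjective ψ := by
    refine surjective_of_cotangent ψ S.res_surjective (fun x => (CRing.mem_maximalIdeal_iff P x).symm) hψ ?_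
    set N := (maximalIdeal S.carrier).map ψ ⊔ maximalIdeal P.carrier ^ 2 with hN
    have hC' : ∀ r ∈ maximalIdeal R.carrier, psC R (Fin n) r ∈ N := fun r hr => by
      rw [← hψg]
      exact Ideal.mem_sup_left (Ideal.mem_map_of_mem _ (cringHom_map_max hg (Ideal.mem_map_of_mem _ hr)))
    let X' : Fin n → P.carrier := fun i => (MvPowerSeries.X i : MvPowerSeries (Fin n) R.carrier)
    have hX' : ∀ i, φ (X' i) = s i := hφX
    have hXm : ∀ i, X' i ∈ maximalIdeal P.carrier := X_mem_maximalIdeal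
    let cc : P.carrier → R.carrier := fun p => MvPowerSeries.constantCoeff (p : MvPowerSeries (Fin n) R.carrier)
    have hcc : ∀ p ∈ maximalIdeal P.carrier, cc p ∈ maximalIdeal R.carrier := fun p hp => (ps_mem_maximalIdeal_iff _).1 hp
    have hdec : ∀ p : P.carrier, ∃ q : Fin n → P.carrier, p = psC R (Fin n) (cc p) + ∑ j, q j * X' j := fun p => by
      obtain ⟨q, hq⟩ := Ideal.mem_span_range_iff_exists_fun.1 (sub_C_mem_span_X (p : MvPowerSeries (Fin n) R.carrier))
      exact ⟨q, eq_add_of_sub_eq' hq.symm⟩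
    have hXN : ∀ i, X' i ∈ N := fun i => by
      set w : P.carrier := ψ (s i) - X' i with hw
      suffices hwN : w ∈ N by
        have h2 := sub_mem (Ideal.mem_sup_left (Ideal.mem_map_of_mem ψ (hs i)) : ψ (s i) ∈ N) hwN
        rwa [hw, sub_sub_cancel] at h2
      have hwM : w ∈ maximalIdeal P.carrier := sub_mem (hψm (Ideal.mem_map_of_mem _ (hs i))) (hXm i)
      have hφw : φ w ∈ (maximalIdeal R.carrier).map g ⊔ maximalIdeal S.carrier ^ 2 := by
        rw [hw, map_sub, hX']
        exact Ideal.mem_sup_right (hψ1 (s i))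
      obtain ⟨q, hq⟩ := hdec w
      have ha := hcc w hwM
      have hsum : ∑ j, φ (q j) * s j ∈ (maximalIdeal R.carrier).map g ⊔ maximalIdeal S.carrier ^ 2 := by
        have hga : φ (psC R (Fin n) (cc w)) ∈
            (maximalIdeal R.carrier).map g ⊔ maximalIdeal S.carrier ^ 2 := by
          rw [← AlgHom.comp_apply, hφC]
          exact Ideal.mem_sup_left (Ideal.mem_map_of_mem _ ha)
        have h2 := sub_mem hφw hga
        rw [← map_sub, sub_eq_of_eq_add' hq, map_sum] at h2
        simpa only [map_mul, hX'] using h2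
      rw [hq]
      refine add_mem (hC' _ ha) (Ideal.sum_mem _ fun j _ => Ideal.mem_sup_right ?_)
      rw [pow_two]
      refine Ideal.mul_mem_mul ((CRing.mem_maximalIdeal_iff P _).2 ?_) (hXm j)
      rw [← hφres, AlgHom.comp_apply]
      exact (CRing.mem_maximalIdeal_iff S _).1 (hind _ hsum j)
    intro p hp
    obtain ⟨q, hq⟩ := hdec p
    rw [hq]
    exact add_mem (hC' _ (hcc p hp)) (Ideal.sum_mem _ fun j _ => Ideal.mul_mem_left _ _ (hXN j))
  have hi : Function.Injective φ := fun a b e => by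
    have hcomp := injective_of_surjective_endo (φ.comp ψ).toRingHom (hφs.comp hψs)
    obtain ⟨a', rfl⟩ := hψs a
    obtain ⟨b', rfl⟩ := hψs b
    rw [hcomp (a₁ := a') (a₂ := b') e]
  exact ⟨n, AlgEquiv.ofBijective φ ⟨hi, hφs⟩, hφres, hφC⟩

/-- power series extensions are smooth -/
theorem versal_of_psEquiv {R S : CRing Λ k} {g : R.carrier →ₐ[Λ] S.carrier} (hg : S.res.comp g = R.res)
    {σ : Type} [Finite σ] (e : (psRing R σ).carrier ≃ₐ[Λ] S.carrier) (he : e.toAlgHom.comp (psC R σ) = g) :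
    IsVersal ((Family.self R.carrier R.res).along g hg) := by
  have her : S.res.comp e.toAlgHom = (psRing R σ).res := by
    haveI : IsAdicComplete (maximalIdeal k) k := (artCRing (Art.base Λ k)).isAdicComplete
    have hX : ∀ i, S.res (e (MvPowerSeries.X i : MvPowerSeries σ R.carrier)) = 0 := fun i => by
      rw [← CRing.mem_maximalIdeal_iff, mem_maximalIdeal, mem_nonunits_iff]
      refine fun hu => (mem_maximalIdeal _).1 (X_mem_maximalIdeal (R := R.carrier) i) ?_
      have h := hu.map e.symm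
      exact (e.symm_apply_apply (MvPowerSeries.X i : MvPowerSeries σ R.carrier)) ▸ h
    refine psHom_ext R (S := k) (fun i => ?_) ?_ fun i => ?_
    · change S.res (e _) ∈ _
      rw [hX]
      exact zero_mem _
    · rw [AlgHom.comp_assoc, he, psC_res, hg]
    · exact (hX i).trans (psX_res R σ i).symm
  intro B A μ hμ φ y hy
  obtain ⟨ψ, h₁, h₂⟩ := psRing_versal R σ μ hμ ⟨φ.1.comp e.toAlgHom, by rw [← AlgHom.comp_assoc, φ.2, her]⟩ y
    (hy.trans (Subtype.ext (AlgHom.ext fun r => congrArg φ.1 (DFunLike.congr_fun he r).symm)))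
  refine ⟨⟨ψ.1.comp e.symm.toAlgHom, AlgHom.ext fun a => ?_⟩, Subtype.ext (AlgHom.ext fun a => ?_),
    (Subtype.ext (AlgHom.ext fun r => ?_)).trans h₂⟩
  · obtain ⟨b, rfl⟩ := e.surjective a
    change B.res (ψ.1 (e.symm (e b))) = S.res (e b)
    rw [e.symm_apply_apply]
    exact (DFunLike.congr_fun ψ.2 b).trans (DFunLike.congr_fun her b).symm
  · obtain ⟨b, rfl⟩ := e.surjective a
    change μ (ψ.1 (e.symm (e b))) = φ.1 (e b)
    rw [e.symm_apply_apply]
    exact DFunLike.congr_fun (congrArg Subtype.val h₁) b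
  · change ψ.1 (e.symm (g r)) = ψ.1 (psC R σ r)
    rw [← he]
    exact congrArg ψ.1 (e.symm_apply_apply _)

end Groth.L12
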