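import Groth.Agent.L04.CMLoc
import Groth.Agent.L04.CMBasic
import Mathlib.RingTheory.Localization.BaseChange
import Mathlib.RingTheory.Localization.LocalizationLocalization

/-!
# Cohen–Macaulay modules localise: global form
-/

set_option autoImplicit false

universe u

open RingTheory.Sequence IsLocalRing

namespace Groth.L12.CMTransfer

section Semi

variable {A B : Type u} [CommRing A] [IsLocalRing A] [IsNoetherianRing A] [CommRing B] [IsLocalRing B] [IsNoetherianRing B]
  {L N : Type u} [AddCommGroup L] [Module A L] [Module.Finite A L] [AddCommGroup N] [Module B N] [Module.Finite B N]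
  (σ : A ≃+* B) (e : L ≃+ N) (he : ∀ a x, e (a • x) = σ a • e x)

include he

/-- a semilinear equivalence preserves being Cohen–Macaulay -/
theorem isCM_of_semilinear (h : LocCoh.IsCohenMacaulayModule A L) : LocCoh.IsCohenMacaulayModule B N := by
  haveI := Groth.L04.nontrivial_of_isCohenMacaulayModule h
  haveI : Nontrivial N := e.injective.nontrivial
  rw [Groth.L04.isCohenMacaulayModule_iff_supportDim_le]
  have hann : Module.annihilator B N = (Module.annihilator A L).map (σ : A →+* B) := by
    ext b
    obtain ⟨a, rfl⟩ := σ.surjective b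
    rw [← RingEquiv.coe_toRingHom, Ideal.mem_map_iff_of_surjective (σ : A →+* B) σ.surjective, Module.mem_annihilator]
    refine ⟨fun ha => ⟨a, Module.mem_annihilator.2 fun x => e.injective (by rw [he, map_zero]; exact ha (e x)), rfl⟩, ?_⟩
    rintro ⟨a', ha', he'⟩ y
    obtain rfl := σ.injective he'
    obtain ⟨x, rfl⟩ := e.surjective y
    change σ a' • e x = 0
    rw [← he, Module.mem_annihilator.1 ha' x, map_zero]
  have hdim : Module.supportDim B N = Module.supportDim A L := by
    rw [Module.supportDim_eq_ringKrullDim_quotient_annihilator, Module.supportDim_eq_ringKrullDim_quotient_annihilator]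
    exact (ringKrullDim_eq_of_ringEquiv (Ideal.quotientEquiv _ _ σ hann)).symm
  rw [hdim, h]
  refine WithBot.coe_le_coe.2 (ENat.forall_natCast_le_iff_le.1 fun n hn => ?_)
  obtain ⟨rs, rfl, hrs, hmem⟩ := Groth.L04.exists_of_le_idealDepth
    (Groth.L04.smul_top_ne_top_of_nontrivial (maximalIdeal.isMaximal A).ne_top) hn
  refine le_trans (le_of_eq (by rw [List.length_map]))
    (Groth.L04.length_le_idealDepth (rs := rs.map σ)
      ((e.isWeaklyRegular_congr (List.forall₂_map_right_iff.2 (List.forall₂_same.2 fun r _ x => he r x))).1 hrs) ?_)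
  intro b hb
  obtain ⟨r, hr, rfl⟩ := List.mem_map.1 hb
  rw [mem_maximalIdeal, mem_nonunits_iff, isUnit_map_iff]
  exact hmem r hr

end Semi

/-- a module Cohen–Macaulay at `p` is Cohen–Macaulay at every smaller prime of its support -/
theorem isCM_of_le {R : Type u} [CommRing R] [IsNoetherianRing R] {M : Type u} [AddCommGroup M] [Module R M]
    [Module.Finite R M] {q p : Ideal R} [q.IsPrime] [p.IsPrime] (hqp : q ≤ p)
    (hq : (⟨q, inferInstance⟩ : PrimeSpectrum R) ∈ Module.support R M)
    (h : LocCoh.IsCohenMacaulayModule (Localization.AtPrime p) (LocalizedModule p.primeCompl M)) :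
    LocCoh.IsCohenMacaulayModule (Localization.AtPrime q) (LocalizedModule q.primeCompl M) := by
  let A := Localization.AtPrime p
  let Mp := LocalizedModule p.primeCompl M
  haveI : IsNoetherianRing A := IsLocalization.isNoetherianRing p.primeCompl A inferInstance
  haveI : Module.Finite A Mp := Module.Finite.of_isLocalizedModule p.primeCompl (LocalizedModule.mkLinearMap p.primeCompl M)
  obtain ⟨⟨Q, hQ⟩, hQq⟩ : ∃ Q : {P : Ideal A // P.IsPrime}, Q.1.comap (algebraMap R A) = q :=
    ⟨(IsLocalization.AtPrime.orderIsoOfPrime A p).symm ⟨q, inferInstance, hqp⟩,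
      congrArg Subtype.val ((IsLocalization.AtPrime.orderIsoOfPrime A p).apply_symm_apply ⟨q, inferInstance, hqp⟩)⟩
  haveI := hQ
  have hQs : (⟨Q, hQ⟩ : PrimeSpectrum A) ∈ Module.support A Mp :=
    (Groth.L04.support_localization p _).2 (by
      rwa [show PrimeSpectrum.comap (algebraMap R A) ⟨Q, hQ⟩ = ⟨q, inferInstance⟩ from PrimeSpectrum.ext hQq])
  have hCM := Groth.L04.isCohenMacaulayModule_localized h Q hQs
  let B := Localization.AtPrime Q
  let L := LocalizedModule Q.primeCompl Mp
  haveI : IsNoetherianRing B := IsLocalization.isNoetherianRing Q.primeCompl B inferInstance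
  haveI : IsNoetherianRing (Localization.AtPrime q) := IsLocalization.isNoetherianRing q.primeCompl _ inferInstance
  haveI : Module.Finite B L := Module.Finite.of_isLocalizedModule Q.primeCompl (LocalizedModule.mkLinearMap Q.primeCompl Mp)
  haveI : Module.Finite (Localization.AtPrime q) (LocalizedModule q.primeCompl M) :=
    Module.Finite.of_isLocalizedModule q.primeCompl (LocalizedModule.mkLinearMap q.primeCompl M)
  haveI hloc : IsLocalization.AtPrime B q := by
    subst hQq
    exact IsLocalization.isLocalization_isLocalization_atPrime_isLocalization p.primeCompl B Q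
  have h1 : IsBaseChange A (LocalizedModule.mkLinearMap p.primeCompl M) :=
    (isLocalizedModule_iff_isBaseChange p.primeCompl A _).1 inferInstance
  have h2 : IsBaseChange B (LocalizedModule.mkLinearMap Q.primeCompl Mp) :=
    (isLocalizedModule_iff_isBaseChange Q.primeCompl B _).1 inferInstance
  let f := ((LocalizedModule.mkLinearMap Q.primeCompl Mp).restrictScalars R).comp (LocalizedModule.mkLinearMap p.primeCompl M)
  haveI : IsLocalizedModule q.primeCompl f :=
    (isLocalizedModule_iff_isBaseChange q.primeCompl B f).2 (h1.comp h2)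
  let e := IsLocalizedModule.linearEquiv q.primeCompl f (LocalizedModule.mkLinearMap q.primeCompl M)
  let σ := IsLocalization.algEquiv q.primeCompl B (Localization.AtPrime q)
  refine isCM_of_semilinear σ.toRingEquiv e.toAddEquiv (fun b x => ?_) hCM
  obtain ⟨⟨r, s⟩, hrs⟩ := IsLocalization.surj q.primeCompl b
  have hu := (Module.End.isUnit_iff _).1 (IsLocalizedModule.map_units (LocalizedModule.mkLinearMap q.primeCompl M) s)
  refine hu.1 ?_
  change (s : R) • e (b • x) = (s : R) • σ b • e x
  rw [← map_smul, ← algebraMap_smul B (s : R) (b • x), smul_smul, mul_comm, hrs, algebraMap_smul, map_smul,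
    ← algebraMap_smul (Localization.AtPrime q) (s : R) (σ b • e x), smul_smul, mul_comm,
    ← σ.commutes, ← map_mul, hrs, σ.commutes, algebraMap_smul]

end Groth.L12.CMTransfer
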