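import Groth.Agent.L12.GrLCPos
import Mathlib.RingTheory.GradedAlgebra.Radical
import Mathlib.RingTheory.Ideal.Height
import Mathlib.RingTheory.Ideal.KrullsHeightTheorem

/-!
# Heights in `ℤ`-graded Noetherian rings
-/

set_option autoImplicit false

universe u

open DirectSum

namespace Groth.L12.GrLCLib

variable {R : Type u} [CommRing R] {𝒜 : ℤ → AddSubgroup R} [GradedRing 𝒜]

section Width

lemma cp_mul_of_extreme (q : Ideal R) (hqh : q.IsHomogeneous 𝒜) (a b : ℤ) (x y : R)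
    (ha : ∀ g, g < a → cp 𝒜 g x ∈ q) (hb : ∀ g, g < b → cp 𝒜 g y ∈ q) :
    cp 𝒜 (a + b) (x * y) - cp 𝒜 a x * cp 𝒜 b y ∈ q ∧ ∀ g, g < a + b → cp 𝒜 g (x * y) ∈ q := by
  classical
  obtain ⟨s, hs, hs'⟩ := exists_sum_cp 𝒜 x
  have hexp : ∀ g, cp 𝒜 g (x * y) = ∑ e ∈ s, cp 𝒜 e x * cp 𝒜 (g - e) y := fun g => by
    conv_lhs => rw [← hs, Finset.sum_mul, map_sum]
    exact Finset.sum_congr rfl fun e _ => cp_smul_hom' 𝒜 𝒜 (cp_mem 𝒜 e x) g y
  constructor
  · rw [hexp]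
    by_cases has : a ∈ s
    · rw [← Finset.add_sum_erase _ _ has, add_sub_cancel_left a b, add_sub_cancel_left]
      refine Ideal.sum_mem _ fun e he => ?_
      rcases lt_or_gt_of_ne (Finset.ne_of_mem_erase he) with h | h
      · exact q.mul_mem_right _ (ha e h)
      · exact q.mul_mem_left _ (hb _ (by omega))
    · have h0 : cp 𝒜 a x = 0 := by by_contra h; exact has (hs' a h)
      rw [h0, zero_mul, sub_zero]
      refine Ideal.sum_mem _ fun e he => ?_
      rcases lt_or_gt_of_ne (show e ≠ a from fun h => has (h ▸ he)) with h | h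
      · exact q.mul_mem_right _ (ha e h)
      · exact q.mul_mem_left _ (hb _ (by omega))
  · intro g hg
    rw [hexp]
    refine Ideal.sum_mem _ fun e _ => ?_
    rcases lt_or_ge e a with h | h
    · exact q.mul_mem_right _ (ha e h)
    · exact q.mul_mem_left _ (hb _ (by omega))

lemma cp_mul_of_extreme' (q : Ideal R) (hqh : q.IsHomogeneous 𝒜) (a b : ℤ) (x y : R)
    (ha : ∀ g, a < g → cp 𝒜 g x ∈ q) (hb : ∀ g, b < g → cp 𝒜 g y ∈ q) :
    cp 𝒜 (a + b) (x * y) - cp 𝒜 a x * cp 𝒜 b y ∈ q ∧ ∀ g, a + b < g → cp 𝒜 g (x * y) ∈ q := by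
  classical
  obtain ⟨s, hs, hs'⟩ := exists_sum_cp 𝒜 x
  have hexp : ∀ g, cp 𝒜 g (x * y) = ∑ e ∈ s, cp 𝒜 e x * cp 𝒜 (g - e) y := fun g => by
    conv_lhs => rw [← hs, Finset.sum_mul, map_sum]
    exact Finset.sum_congr rfl fun e _ => cp_smul_hom' 𝒜 𝒜 (cp_mem 𝒜 e x) g y
  constructor
  · rw [hexp]
    by_cases has : a ∈ s
    · rw [← Finset.add_sum_erase _ _ has, add_sub_cancel_left a b, add_sub_cancel_left]
      refine Ideal.sum_mem _ fun e he => ?_
      rcases lt_or_gt_of_ne (Finset.ne_of_mem_erase he) with h | h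
      · exact q.mul_mem_left _ (hb _ (by omega))
      · exact q.mul_mem_right _ (ha e h)
    · have h0 : cp 𝒜 a x = 0 := by by_contra h; exact has (hs' a h)
      rw [h0, zero_mul, sub_zero]
      refine Ideal.sum_mem _ fun e he => ?_
      rcases lt_or_gt_of_ne (show e ≠ a from fun h => has (h ▸ he)) with h | h
      · exact q.mul_mem_left _ (hb _ (by omega))
      · exact q.mul_mem_right _ (ha e h)
  · intro g hg
    rw [hexp]
    refine Ideal.sum_mem _ fun e _ => ?_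
    rcases lt_or_ge a e with h | h
    · exact q.mul_mem_right _ (ha e h)
    · exact q.mul_mem_left _ (hb _ (by omega))

/-- the range of degrees of an element modulo a homogeneous ideal -/
lemma exists_extremes (q : Ideal R) (hqh : q.IsHomogeneous 𝒜) {x : R} (hx : x ∉ q) :
    ∃ a b : ℤ, a ≤ b ∧ cp 𝒜 a x ∉ q ∧ cp 𝒜 b x ∉ q ∧ (∀ g, g < a → cp 𝒜 g x ∈ q) ∧ ∀ g, b < g → cp 𝒜 g x ∈ q := by
  classical
  obtain ⟨s, hs, hs'⟩ := exists_sum_cp 𝒜 x
  set t := s.filter fun g => cp 𝒜 g x ∉ q with ht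
  have hne : t.Nonempty := by
    by_contra h
    rw [Finset.not_nonempty_iff_eq_empty, ht, Finset.filter_eq_empty_iff] at h
    exact hx (hs ▸ Ideal.sum_mem _ fun g hg => not_not.1 (h hg))
  have hout : ∀ g, g ∉ t → cp 𝒜 g x ∈ q := fun g hg => by
    by_contra h
    exact hg (Finset.mem_filter.2 ⟨hs' g fun h0 => h (h0 ▸ q.zero_mem), h⟩)
  exact ⟨t.min' hne, t.max' hne, t.min'_le_max' hne, (Finset.mem_filter.1 (t.min'_mem hne)).2,
    (Finset.mem_filter.1 (t.max'_mem hne)).2, fun g hg => hout g fun h => absurd (t.min'_le g h) (by omega),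
    fun g hg => hout g fun h => absurd (t.le_max' g h) (by omega)⟩

end Width

/-- Between a prime and the largest homogeneous ideal in it there is no further prime. -/
theorem no_prime_between {q p₁ p : Ideal R} [hq : q.IsPrime] [hp₁ : p₁.IsPrime] [hp : p.IsPrime]
    (hqh : q.IsHomogeneous 𝒜) (hcore : ∀ g, ∀ x ∈ 𝒜 g, x ∈ p → x ∈ q) (h1 : q < p₁) (h2 : p₁ < p) : False := by
  classical
  -- width of an element outside `q`
  let W : R → ℕ → Prop := fun x w => ∃ a b : ℤ, cp 𝒜 a x ∉ q ∧ cp 𝒜 b x ∉ q ∧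
    (∀ g, g < a → cp 𝒜 g x ∈ q) ∧ (∀ g, b < g → cp 𝒜 g x ∈ q) ∧ b = a + w
  have hW : ∀ x, x ∉ q → ∃ w, W x w := fun x hx => by
    obtain ⟨a, b, hab, ha, hb, ha', hb'⟩ := exists_extremes q hqh hx
    exact ⟨(b - a).toNat, a, b, ha, hb, ha', hb', by omega⟩
  have huniq : ∀ x w w', W x w → W x w' → w = w' := by
    rintro x w w' ⟨a, b, ha, hb, ha', hb', hab⟩ ⟨c, d, hc, hd, hc', hd', hcd⟩
    have : a = c := le_antisymm (not_lt.1 fun h => hc (ha' c h)) (not_lt.1 fun h => ha (hc' a h))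
    have : b = d := le_antisymm (not_lt.1 fun h => hb (hd' b h)) (not_lt.1 fun h => hd (hb' d h))
    omega
  have hmul : ∀ x y w w', W x w → W y w' → W (x * y) (w + w') := by
    rintro x y w w' ⟨a, b, ha, hb, ha', hb', hab⟩ ⟨c, d, hc, hd, hc', hd', hcd⟩
    obtain ⟨l1, l2⟩ := cp_mul_of_extreme q hqh a c x y ha' hc'
    obtain ⟨u1, u2⟩ := cp_mul_of_extreme' q hqh b d x y hb' hd'
    refine ⟨a + c, b + d, fun h => ?_, fun h => ?_, l2, u2, by push_cast; omega⟩
    · rcases hq.mem_or_mem (show cp 𝒜 a x * cp 𝒜 c y ∈ q by have := q.sub_mem h l1; rwa [sub_sub_cancel] at this) with h' | h'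
      · exact ha h'
      · exact hc h'
    · rcases hq.mem_or_mem (show cp 𝒜 b x * cp 𝒜 d y ∈ q by have := q.sub_mem h u1; rwa [sub_sub_cancel] at this) with h' | h'
      · exact hb h'
      · exact hd h'
  -- an element of least width in `p`
  have hex : ∀ P : Ideal R, q < P → ∃ w, ∃ x ∈ P, x ∉ q ∧ W x w := fun P hP => by
    obtain ⟨x, hxP, hxq⟩ := SetLike.exists_of_lt hP
    obtain ⟨w, hw⟩ := hW x hxq
    exact ⟨w, x, hxP, hxq, hw⟩
  obtain ⟨g, hgp, hgq, hgW⟩ := Nat.find_spec (hex p (h1.trans h2))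
  set wg := Nat.find (hex p (h1.trans h2)) with hwg
  obtain ⟨f, hfp, hfq, hfW⟩ := Nat.find_spec (hex p₁ h1)
  set wf := Nat.find (hex p₁ h1) with hwf
  -- division by `g`
  have hdiv : ∀ (w : ℕ) (x : R), x ∈ p → (x ∈ q ∨ ∃ w' ≤ w, W x w') →
      ∃ (e : ℤ) (s : R) (h : R), s ∈ 𝒜 e ∧ s ∉ q ∧ s * x - g * h ∈ q := by
    intro w
    induction w using Nat.strong_induction_on with
    | _ w ih =>
      intro x hxp hx
      by_cases hxq : x ∈ q
      · exact ⟨0, 1, 0, SetLike.one_mem_graded 𝒜, fun h => hq.ne_top ((Ideal.eq_top_iff_one q).2 h), by simpa using hxq⟩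
      obtain ⟨w', hw', hxW⟩ := hx.resolve_left hxq
      have hle : wg ≤ w' := Nat.find_min' _ ⟨x, hxp, hxq, hxW⟩
      obtain ⟨c, d, hc, hd, hc', hd', hcd⟩ := hxW
      obtain ⟨a, b, ha, hb, ha', hb', hab⟩ := hgW
      -- cancel the top component
      set x' := cp 𝒜 b g * x - g * cp 𝒜 d x with hx'
      have hx'p : x' ∈ p := p.sub_mem (p.mul_mem_left _ hxp) (p.mul_mem_right _ hgp)
      have hcp : ∀ n, cp 𝒜 n x' = cp 𝒜 b g * cp 𝒜 (n - b) x - cp 𝒜 d x * cp 𝒜 (n - d) g := fun n => by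
        rw [hx', map_sub, mul_comm g (cp 𝒜 d x)]
        exact congrArg₂ (· - ·) (cp_smul_hom' 𝒜 𝒜 (cp_mem 𝒜 b g) n x) (cp_smul_hom' 𝒜 𝒜 (cp_mem 𝒜 d x) n g)
      have hhigh : ∀ n, b + d ≤ n → cp 𝒜 n x' ∈ q := by
        intro n hn
        rw [hcp]
        rcases eq_or_lt_of_le hn with rfl | hlt
        · rw [add_sub_cancel_left, add_sub_cancel_right, mul_comm, sub_self]
          exact q.zero_mem
        · exact q.sub_mem (q.mul_mem_left _ (hd' _ (by omega))) (q.mul_mem_left _ (hb' _ (by omega)))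
      have hlow : ∀ n, n < b + c → cp 𝒜 n x' ∈ q := by
        intro n hn
        rw [hcp]
        exact q.sub_mem (q.mul_mem_left _ (hc' _ (by omega))) (q.mul_mem_left _ (ha' _ (by omega)))
      obtain ⟨e, s, h, hs, hsq, hmem⟩ : ∃ (e : ℤ) (s : R) (h : R), s ∈ 𝒜 e ∧ s ∉ q ∧ s * x' - g * h ∈ q := by
        by_cases hx'q : x' ∈ q
        · exact ⟨0, 1, 0, SetLike.one_mem_graded 𝒜, fun h => hq.ne_top ((Ideal.eq_top_iff_one q).2 h),
            by simpa using hx'q⟩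
        obtain ⟨w'', hW''⟩ := hW x' hx'q
        obtain ⟨a', b', ha1, hb1, -, -, hab'⟩ := id hW''
        have h3 : b + c ≤ a' := not_lt.1 fun h => ha1 (hlow a' h)
        have h4 : b' < b + d := not_le.1 fun h => hb1 (hhigh b' h)
        exact ih w'' (by omega) x' hx'p (Or.inr ⟨w'', le_rfl, hW''⟩)
      refine ⟨e + b, s * cp 𝒜 b g, h + s * cp 𝒜 d x, SetLike.mul_mem_graded hs (cp_mem 𝒜 b g), fun h' => ?_, ?_⟩
      · rcases hq.mem_or_mem h' with h'' | h''
        · exact hsq h''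
        · exact hb h''
      · convert hmem using 1
        rw [hx']
        ring
  obtain ⟨e, s, h, hs, hsq, hsf⟩ := hdiv wf f (h2.le hfp) (Or.inr ⟨wf, le_rfl, hfW⟩)
  have hgp₁ : g ∉ p₁ := fun hg1 => by
    obtain ⟨x, hxp, hx1⟩ := SetLike.exists_of_lt h2
    have hxq : x ∉ q := fun h => hx1 (h1.le h)
    obtain ⟨w, hw⟩ := hW x hxq
    obtain ⟨e', s', h', hs', hsq', hsx⟩ := hdiv w x hxp (Or.inr ⟨w, le_rfl, hw⟩)
    have : s' * x ∈ p₁ := by
      have := p₁.add_mem (h1.le hsx) (p₁.mul_mem_right h' hg1)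
      rwa [sub_add_cancel] at this
    rcases hp₁.mem_or_mem this with h'' | h''
    · exact hsq' (hcore e' s' hs' (h2.le h''))
    · exact hx1 h''
  have hgh : g * h ∈ p₁ := by
    have := p₁.sub_mem (p₁.mul_mem_left s hfp) (h1.le hsf)
    rwa [sub_sub_cancel] at this
  have hh1 : h ∈ p₁ := (hp₁.mem_or_mem hgh).resolve_left hgp₁
  have hhq : h ∉ q := fun hh => by
    have h5 : s * f ∈ q := by
      have := q.add_mem hsf (q.mul_mem_left g hh)
      rwa [sub_add_cancel] at this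
    exact (hq.mem_or_mem h5).elim hsq hfq
  obtain ⟨wh, hWh⟩ := hW h hhq
  have hge : wf ≤ wh := Nat.find_min' _ ⟨h, hh1, hhq, hWh⟩
  have hWs : W s 0 := ⟨e, e, by rwa [cp_same 𝒜 hs], by rwa [cp_same 𝒜 hs],
    fun n hn => by rw [cp_ne 𝒜 hs (by omega)]; exact q.zero_mem,
    fun n hn => by rw [cp_ne 𝒜 hs (by omega)]; exact q.zero_mem, by simp⟩
  obtain ⟨a, b, ha, hb, ha', hb', hab⟩ := hmul g h wg wh hgW hWh
  have hcpq : ∀ n, cp 𝒜 n (s * f) - cp 𝒜 n (g * h) ∈ q := fun n => by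
    rw [← map_sub]; exact hqh n hsf
  have hsfW : W (s * f) (wg + wh) := by
    refine ⟨a, b, fun h' => ha ?_, fun h' => hb ?_, fun n hn => ?_, fun n hn => ?_, hab⟩
    · have := q.sub_mem h' (hcpq a); rwa [sub_sub_cancel] at this
    · have := q.sub_mem h' (hcpq b); rwa [sub_sub_cancel] at this
    · have := q.add_mem (hcpq n) (ha' n hn); rwa [sub_add_cancel] at this
    · have := q.add_mem (hcpq n) (hb' n hn); rwa [sub_add_cancel] at this
  have h6 := huniq _ _ _ hsfW (hmul s f 0 wf hWs hfW)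
  have hwg0 : wg = 0 := by omega
  -- `g` of width zero is homogeneous modulo `q`
  obtain ⟨a₀, b₀, hga, -, hga', hgb', hab₀⟩ := hgW
  rw [hwg0] at hab₀
  refine hga (hcore a₀ _ (cp_mem 𝒜 a₀ g) ?_)
  obtain ⟨t, ht, ht'⟩ := exists_sum_cp 𝒜 g
  have hmem : g - cp 𝒜 a₀ g ∈ q := by
    by_cases hat : a₀ ∈ t
    · rw [show g - cp 𝒜 a₀ g = ∑ n ∈ t.erase a₀, cp 𝒜 n g from sub_eq_iff_eq_add'.2
        ((Finset.add_sum_erase _ _ hat).trans ht).symm]
      refine Ideal.sum_mem _ fun n hn => ?_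
      rcases lt_or_gt_of_ne (Finset.ne_of_mem_erase hn) with h' | h'
      · exact hga' n h'
      · exact hgb' n (by omega)
    · exact absurd q.zero_mem ((not_not.1 fun h' => hat (ht' a₀ h')) ▸ hga)
  have := p.sub_mem hgp ((h1.trans h2).le hmem)
  rwa [sub_sub_cancel] at this

variable [IsNoetherianRing R]

variable (𝒜) in
/-- `ht P ≤ ht P* + 1` -/
theorem height_le_height_core_add_one (P : Ideal R) [hP : P.IsPrime] :
    P.height ≤ (Ideal.homogeneousCore 𝒜 P).toIdeal.height + 1 := by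
  suffices H : ∀ (n : ℕ) (P : Ideal R) [P.IsPrime], P.height ≤ n →
      P.height ≤ (Ideal.homogeneousCore 𝒜 P).toIdeal.height + 1 by
    obtain ⟨n, hn⟩ := ENat.ne_top_iff_exists.1 (Ideal.height_ne_top hP.ne_top)
    exact H n P hn.ge
  intro n
  induction n with
  | zero => intro P _ h; exact le_trans h (by simp)
  | succ n ih =>
    intro P hP hn
    haveI hcp : (Ideal.homogeneousCore 𝒜 P).toIdeal.IsPrime := Ideal.IsPrime.homogeneousCore hP
    refine le_of_not_gt fun hgt => ?_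
    obtain ⟨m, hm⟩ := ENat.ne_top_iff_exists.1
      (Ideal.height_ne_top (Ideal.IsPrime.ne_top hcp))
    rw [← hm] at hgt
    obtain ⟨q, hqP, hq⟩ : ∃ q : PrimeSpectrum R, q.asIdeal < P ∧ (m : ℕ∞) < q.asIdeal.height := by
      by_contra hcon
      push Not at hcon
      refine absurd hgt (not_lt.2 ?_)
      change (⟨P, hP⟩ : PrimeSpectrum R).asIdeal.height ≤ _
      rw [PrimeSpectrum.height_eq_orderHeight, ← Nat.cast_one, ← Nat.cast_add, Order.height_le_coe_iff]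
      intro y hy
      rw [← PrimeSpectrum.height_eq_orderHeight]
      exact lt_of_le_of_lt (hcon y hy) (by exact_mod_cast Nat.lt_succ_self m)
    haveI := q.isPrime
    have hqn : q.asIdeal.height ≤ n := by
      have h1 : q.asIdeal.height < ((n + 1 : ℕ) : ℕ∞) := lt_of_lt_of_le (Ideal.height_strict_mono_of_isPrime hqP) hn
      exact Order.le_of_lt_add_one (by exact_mod_cast h1)
    have hih := ih q.asIdeal hqn
    set c := (Ideal.homogeneousCore 𝒜 q.asIdeal).toIdeal with hc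
    haveI hcq : c.IsPrime := Ideal.IsPrime.homogeneousCore q.isPrime
    have hcle : c ≤ (Ideal.homogeneousCore 𝒜 P).toIdeal := Ideal.homogeneousCore_mono 𝒜 hqP.le
    rcases eq_or_lt_of_le hcle with heq | hlt
    · have hne : (Ideal.homogeneousCore 𝒜 P).toIdeal ≠ q.asIdeal := fun h => by
        rw [← h, ← hm] at hq; exact lt_irrefl _ hq
      refine no_prime_between (𝒜 := 𝒜) (q := (Ideal.homogeneousCore 𝒜 P).toIdeal) (p₁ := q.asIdeal) (p := P)
        (Ideal.homogeneousCore 𝒜 P).isHomogeneous ?_ (lt_of_le_of_ne (heq ▸ Ideal.toIdeal_homogeneousCore_le 𝒜 _) hne) hqP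
      intro g x hx hxP
      exact Ideal.subset_span ⟨⟨x, ⟨g, hx⟩⟩, hxP, rfl⟩
    · have h1 := Ideal.height_strict_mono_of_isPrime hlt
      rw [← hm] at h1
      exact absurd (hih.trans (Order.add_one_le_of_lt h1)) (not_le.2 hq)

end Groth.L12.GrLCLib

namespace Groth.L12.GrLCLib

variable {R : Type u} [CommRing R] {𝒜 : ℤ → AddSubgroup R} [GradedRing 𝒜] [IsNoetherianRing R]
variable {m : HomogeneousIdeal 𝒜}

/-- proper homogeneous ideals lie in the *maximal one -/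
lemma le_starLocal (hm : GrLC.IsStarLocal 𝒜 m) {J : Ideal R} (hJ : J.IsHomogeneous 𝒜) (hne : J ≠ ⊤) :
    J ≤ m.toIdeal := by
  obtain ⟨K, ⟨hJK, hKh, hKne⟩, hKmax⟩ := set_has_maximal_iff_noetherian.2 ‹IsNoetherianRing R›
    {K : Ideal R | J ≤ K ∧ K.IsHomogeneous 𝒜 ∧ K ≠ ⊤} ⟨J, le_rfl, hJ, hne⟩
  have hco : IsCoatom (⟨K, hKh⟩ : HomogeneousIdeal 𝒜) := by
    refine ⟨fun h => hKne (congrArg HomogeneousIdeal.toIdeal h), fun (N : HomogeneousIdeal 𝒜) hN => ?_⟩
    by_contra hNtop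
    exact hKmax N.toIdeal ⟨hJK.trans hN.le, N.isHomogeneous, fun h => hNtop (HomogeneousIdeal.ext h)⟩
      (lt_of_le_of_ne hN.le fun h => hN.ne (HomogeneousIdeal.ext h))
  exact hJK.trans (hm.2 _ hco ▸ le_rfl)

omit [IsNoetherianRing R] in
lemma starLocal_ne_top (hm : GrLC.IsStarLocal 𝒜 m) : m.toIdeal ≠ ⊤ := fun h =>
  hm.1.1 (HomogeneousIdeal.ext h)

lemma mem_starLocal_of_not_unit (hm : GrLC.IsStarLocal 𝒜 m) {n : ℤ} {v : R} (hv : v ∈ 𝒜 n)
    (hu : ∀ w ∈ 𝒜 (-n), w * v ≠ 1) : v ∈ m.toIdeal := by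
  refine le_starLocal hm (Ideal.homogeneous_span 𝒜 {v} fun x hx => ⟨n, by rw [Set.mem_singleton_iff.1 hx]; exact hv⟩)
    (fun h => ?_) (Ideal.subset_span rfl)
  obtain ⟨r, hr⟩ := Ideal.mem_span_singleton'.1 ((Ideal.eq_top_iff_one _).1 h)
  refine hu (cp 𝒜 (-n) r) (cp_mem 𝒜 _ _) ?_
  have h1 := congrArg (cp 𝒜 0) hr
  rw [cp_same 𝒜 (SetLike.one_mem_graded 𝒜)] at h1
  rw [← h1]
  have := cp_smul_mem 𝒜 𝒜 r hv 0
  rw [zero_sub] at this
  exact this.symm

/-- In a positively graded *local ring the *maximal ideal is maximal. -/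
theorem starLocal_isMaximal (hpos : ∀ n : ℤ, n < 0 → 𝒜 n = ⊥) (hm : GrLC.IsStarLocal 𝒜 m) :
    m.toIdeal.IsMaximal := by
  refine Ideal.isMaximal_iff.2 ⟨fun h => starLocal_ne_top hm ((Ideal.eq_top_iff_one _).2 h), fun J x hJ hx hxJ => ?_⟩
  obtain ⟨s, hs, hs'⟩ := exists_sum_cp 𝒜 x
  have hne : ∀ n : ℤ, n ≠ 0 → cp 𝒜 n x ∈ m.toIdeal := fun n hn => by
    rcases lt_or_gt_of_ne hn with h | h
    · have := cp_mem 𝒜 n x
      rw [hpos n h, AddSubgroup.mem_bot] at this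
      rw [this]; exact zero_mem _
    · refine mem_starLocal_of_not_unit hm (cp_mem 𝒜 n x) fun w hw h1 => ?_
      rw [hpos (-n) (by omega), AddSubgroup.mem_bot] at hw
      rw [hw, zero_mul] at h1
      exact starLocal_ne_top hm ((Ideal.eq_top_iff_one _).2 (h1 ▸ zero_mem _))
  have hdiff : x - cp 𝒜 0 x ∈ m.toIdeal := by
    by_cases h0 : (0 : ℤ) ∈ s
    · rw [show x - cp 𝒜 0 x = ∑ n ∈ s.erase 0, cp 𝒜 n x from sub_eq_iff_eq_add'.2
        ((Finset.add_sum_erase _ _ h0).trans hs).symm]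
      exact Ideal.sum_mem _ fun n hn => hne n (Finset.ne_of_mem_erase hn)
    · rw [show cp 𝒜 0 x = 0 from not_not.1 fun h => h0 (hs' 0 h), sub_zero, ← hs]
      exact Ideal.sum_mem _ fun n hn => hne n fun h => h0 (h ▸ hn)
  have h0J : cp 𝒜 0 x ∈ J := by
    have := J.sub_mem hxJ (hJ hdiff)
    rwa [sub_sub_cancel] at this
  by_contra h1
  have h0m : cp 𝒜 0 x ∈ m.toIdeal := mem_starLocal_of_not_unit hm (cp_mem 𝒜 0 x) fun w _ hw =>
    h1 (hw ▸ J.mul_mem_left w h0J)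
  exact hx (by have := m.toIdeal.add_mem hdiff h0m; rwa [sub_add_cancel] at this)

/-- The dimension of a positively graded *local ring is the height of the *maximal ideal. -/
theorem ringKrullDim_eq_height_starLocal (hpos : ∀ n : ℤ, n < 0 → 𝒜 n = ⊥) (hm : GrLC.IsStarLocal 𝒜 m) :
    ringKrullDim R = (m.toIdeal.height : WithBot ℕ∞) := by
  haveI := starLocal_isMaximal hpos hm
  refine le_antisymm ?_ (Ideal.height_le_ringKrullDim_of_ne_top (starLocal_ne_top hm))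
  rw [ringKrullDim, Order.krullDim_eq_iSup_height]
  refine iSup_le fun P => WithBot.coe_le_coe.2 ?_
  rw [← PrimeSpectrum.height_eq_orderHeight]
  haveI := P.isPrime
  have hcore : (Ideal.homogeneousCore 𝒜 P.asIdeal).toIdeal.IsPrime := Ideal.IsPrime.homogeneousCore P.isPrime
  have hle : (Ideal.homogeneousCore 𝒜 P.asIdeal).toIdeal ≤ m.toIdeal :=
    le_starLocal hm (Ideal.homogeneousCore 𝒜 P.asIdeal).isHomogeneous (Ideal.IsPrime.ne_top hcore)
  by_cases hP : P.asIdeal ≤ m.toIdeal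
  · exact Ideal.height_mono hP
  have hlt : (Ideal.homogeneousCore 𝒜 P.asIdeal).toIdeal < m.toIdeal := by
    refine lt_of_le_of_ne hle fun h => hP ?_
    rw [Ideal.IsMaximal.eq_of_le ‹m.toIdeal.IsMaximal› P.isPrime.ne_top
      (h ▸ Ideal.toIdeal_homogeneousCore_le 𝒜 P.asIdeal)]
  exact (height_le_height_core_add_one 𝒜 P.asIdeal).trans
    (Order.add_one_le_of_lt (Ideal.height_strict_mono_of_isPrime hlt))

end Groth.L12.GrLCLib
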