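import Groth.Agent.L12.GrLCNonHom3
import Groth.Agent.L12.GrLCHullProps
import Groth.Agent.L06.ExtDim
import Groth.Prelude.Def_Wider

/-!
# *injective modules over `ℤ`-graded rings as ordinary modules
-/

set_option autoImplicit false

universe u

open DirectSum CategoryTheory CategoryTheory.Abelian

namespace Groth.L12.GrLCLib

variable {R : Type u} [CommRing R] [IsNoetherianRing R] {𝒜 : ℤ → AddSubgroup R} [GradedRing 𝒜]
variable {M : Type u} [AddCommGroup M] [Module R M] {ℳ : ℤ → AddSubgroup M} [DirectSum.Decomposition ℳ]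
  [SetLike.GradedSMul 𝒜 ℳ]

include ℳ in
theorem bassNum_nonHom (P : Ideal R) [P.IsPrime] (hP : ¬ Ideal.IsHomogeneous 𝒜 P)
    [(Ideal.homogeneousCore 𝒜 P).toIdeal.IsPrime] :
    GrLC.bassNum P M 0 = 0 ∧ ∀ i, GrLC.bassNum P M (i + 1) = GrLC.bassNum (Ideal.homogeneousCore 𝒜 P).toIdeal M i := by
  let q := Ideal.homogeneousCore 𝒜 P
  have hle : q.toIdeal ≤ P := Ideal.toIdeal_homogeneousCore_le 𝒜 P
  have hqP : ∀ (d : ℤ), ∀ c ∈ 𝒜 d, c ∈ P → c ∈ q.toIdeal := fun d c hc hcP =>
    Ideal.mem_homogeneousCore_of_homogeneous_of_mem ⟨d, hc⟩ hcP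
  obtain ⟨f, hfP, hfq, hf⟩ := exists_principal q hle hqP fun h => hP (h ▸ q.isHomogeneous)
  let A := Localization.AtPrime P
  refine bassNum_above (ℳ := ℳ) q P hle hqP (algebraMap R A f) (fun h => hfq ?_) (le_antisymm ?_ ?_)
  · rw [IsLocalization.algebraMap_mem_map_algebraMap_iff P.primeCompl] at h
    obtain ⟨u, hu, huf⟩ := h
    exact (Ideal.IsPrime.mem_or_mem ‹q.toIdeal.IsPrime› huf).resolve_left fun h => hu (hle h)
  · intro x hx
    obtain ⟨g, s, rfl⟩ := IsLocalization.exists_mk'_eq P.primeCompl x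
    obtain ⟨c, hc, h, hch⟩ := hf g ((IsLocalization.AtPrime.mk'_mem_maximal_iff A P g s).1 hx)
    have hg : algebraMap R A c * algebraMap R A g ∈ extId q.toIdeal P ⊔ Ideal.span {algebraMap R A f} := by
      rw [← map_mul, show c * g = (c * g - h * f) + h * f by ring, map_add, map_mul _ h f]
      exact add_mem (Ideal.mem_sup_left (Ideal.mem_map_of_mem _ hch))
        (Ideal.mem_sup_right (Ideal.mul_mem_left _ _ (Ideal.mem_span_singleton_self _)))
    rw [IsLocalization.mk'_eq_mul_mk'_one]
    refine Ideal.mul_mem_right _ _ ?_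
    exact (Ideal.unit_mul_mem_iff_mem _ (IsLocalization.map_units A (⟨c, hc⟩ : P.primeCompl))).1 hg
  · refine sup_le (Ideal.map_le_iff_le_comap.2 fun c hc => ?_) ?_
    · exact (IsLocalization.AtPrime.to_map_mem_maximal_iff A P c).2 (hle hc)
    · rw [Ideal.span_singleton_le_iff_mem]
      exact (IsLocalization.AtPrime.to_map_mem_maximal_iff A P f).2 hfP

omit [GradedRing 𝒜] [DirectSum.Decomposition ℳ] [SetLike.GradedSMul 𝒜 ℳ] in
/-- vanishing of a Bass number everywhere gives vanishing of `Ext` from all cyclic modules -/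
theorem subsingleton_ext_quotient_of_bassNum (j : ℕ) (h : ∀ (P : Ideal R) [P.IsPrime], GrLC.bassNum P M j = 0)
    (I : Ideal R) : Subsingleton (Ext.{u} (ModuleCat.of R (R ⧸ I)) (ModuleCat.of R M) j) := by
  induction I using (IsWellFounded.wf (r := ((· > ·) : Ideal R → Ideal R → Prop))).induction with
  | _ I ih =>
    by_cases htop : I = ⊤
    · subst htop
      haveI : Subsingleton (R ⧸ (⊤ : Ideal R)) := Ideal.Quotient.subsingleton_iff.2 rfl
      refine subsingleton_of_forall_eq 0 fun z => ?_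
      rw [← Ext.mk₀_id_comp z, show 𝟙 (ModuleCat.of R (R ⧸ (⊤ : Ideal R))) = 0 from
        (ModuleCat.isZero_of_subsingleton _).eq_of_src _ _, Ext.mk₀_zero, Ext.zero_comp]
    -- multiplication by an element
    have seq : ∀ (x : R) (J : Ideal R), (∀ r, x * r ∈ I ↔ r ∈ J) →
        ∃ (μ : (R ⧸ J) →ₗ[R] (R ⧸ I)) (π : (R ⧸ I) →ₗ[R] (R ⧸ (I ⊔ Ideal.span {x}))),
          Function.Injective μ ∧ Function.Surjective π ∧ Function.Exact μ π ∧
          μ (Ideal.Quotient.mk J 1) = Ideal.Quotient.mk I x := by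
      intro x J hJ
      let μ : (R ⧸ J) →ₗ[R] (R ⧸ I) := Submodule.mapQ J I (LinearMap.mulLeft R x) fun r hr => (hJ r).2 hr
      let π : (R ⧸ I) →ₗ[R] (R ⧸ (I ⊔ Ideal.span {x})) := Submodule.factor le_sup_left
      refine ⟨μ, π, ?_, Submodule.factor_surjective _, fun z => ?_, ?_⟩
      · rw [injective_iff_map_eq_zero]
        intro z hz
        obtain ⟨r, rfl⟩ := Ideal.Quotient.mk_surjective z
        exact Ideal.Quotient.eq_zero_iff_mem.2 ((hJ r).1 (Ideal.Quotient.eq_zero_iff_mem.1 hz))
      · obtain ⟨r, rfl⟩ := Ideal.Quotient.mk_surjective z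
        constructor
        · intro h0
          obtain ⟨i, hi, b, hb, rfl⟩ := Submodule.mem_sup.1 ((Ideal.Quotient.eq_zero_iff_mem (I := I ⊔ Ideal.span {x})).1 h0)
          obtain ⟨c, rfl⟩ := Ideal.mem_span_singleton'.1 hb
          refine ⟨Ideal.Quotient.mk J c, ?_⟩
          change Ideal.Quotient.mk I (x * c) = _
          rw [map_add, Ideal.Quotient.eq_zero_iff_mem.2 hi, zero_add, mul_comm]
        · rintro ⟨w, hw⟩
          obtain ⟨c, rfl⟩ := Ideal.Quotient.mk_surjective w
          rw [← hw]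
          exact (Ideal.Quotient.eq_zero_iff_mem (I := I ⊔ Ideal.span {x})).2
            (Ideal.mem_sup_right (Ideal.mul_mem_right _ _ (Ideal.mem_span_singleton_self x)))
      · change Ideal.Quotient.mk I (x * 1) = _
        rw [mul_one]
    have big : ∀ x ∉ I, Subsingleton (Ext.{u} (ModuleCat.of R (R ⧸ (I ⊔ Ideal.span {x}))) (ModuleCat.of R M) j) :=
      fun x hx => ih _ (lt_of_le_of_ne le_sup_left fun he =>
        hx (he ▸ Ideal.mem_sup_right (Ideal.mem_span_singleton_self x)))
    by_cases hprime : I.IsPrime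
    · -- prime case
      have hinj : ∀ x ∉ I, ∀ w : Ext.{u} (ModuleCat.of R (R ⧸ I)) (ModuleCat.of R M) j, x • w = 0 → w = 0 := by
        intro x hx w hw
        obtain ⟨μ, π, hμ, hπ, hex, hμ1⟩ := seq x I fun r =>
          ⟨fun h => (hprime.mem_or_mem h).resolve_left hx, fun h => I.mul_mem_left x h⟩
        have hS := Groth.L04.LC.ses_shortExact μ π hμ hπ hex
        have hμx : μ = x • LinearMap.id := LinearMap.ext fun z => by
          obtain ⟨r, rfl⟩ := Ideal.Quotient.mk_surjective z
          rw [show Ideal.Quotient.mk I r = r • Ideal.Quotient.mk I 1 from (congrArg _ (mul_one r)).symm, map_smul, hμ1]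
          change Ideal.Quotient.mk I (r * x) = Ideal.Quotient.mk I (x * (r * 1))
          rw [mul_one, mul_comm]
        obtain ⟨y, hy⟩ := Ext.contravariant_sequence_exact₂ hS (ModuleCat.of R M) w (by
          change (Ext.mk₀ (ModuleCat.ofHom μ)).comp w (zero_add j) = 0
          rw [hμx]
          change (Ext.mk₀ (x • 𝟙 (ModuleCat.of R (R ⧸ I)))).comp w (zero_add j) = 0
          rw [Ext.mk₀_smul, Ext.smul_comp, Ext.mk₀_id_comp, hw])
        rw [← hy, @Subsingleton.elim _ (big x hx) y 0, Ext.comp_zero]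
      obtain ⟨e1⟩ := Groth.L04.LC.nonempty_localized_ext_equiv I.primeCompl j (R ⧸ I) M
      obtain ⟨e2⟩ := nonempty_residue_equiv I
      haveI : Subsingleton (Ext.{u} (ModuleCat.of (Localization.AtPrime I) (IsLocalRing.ResidueField (Localization.AtPrime I)))
          (ModuleCat.of (Localization.AtPrime I) (LocalizedModule I.primeCompl M)) j) :=
        (Module.length_eq_zero_iff (R := Localization.AtPrime I)).1 (h I)
      refine subsingleton_of_forall_eq 0 fun w => ?_
      let iso : ModuleCat.of (Localization.AtPrime I) (LocalizedModule I.primeCompl (R ⧸ I)) ≅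
          ModuleCat.of (Localization.AtPrime I) (IsLocalRing.ResidueField (Localization.AtPrime I)) :=
        LinearEquiv.toModuleIso (X₁ := LocalizedModule I.primeCompl (R ⧸ I)) e2
      have h1 : LocalizedModule.mk (S := I.primeCompl) w 1 = 0 := by
        refine e1.injective ?_
        rw [map_zero]
        generalize e1 (LocalizedModule.mk w 1) = z
        have h4 : (Ext.mk₀ iso.inv).comp z (zero_add j) = 0 := Subsingleton.elim _ _
        have h5 := congrArg (fun y => (Ext.mk₀ iso.hom).comp y (zero_add j)) h4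
        simp only [Ext.mk₀_comp_mk₀_assoc, Iso.hom_inv_id, Ext.mk₀_id_comp, Ext.comp_zero] at h5
        exact h5
      rw [← LocalizedModule.zero_mk (1 : I.primeCompl), LocalizedModule.mk_eq] at h1
      obtain ⟨u, hu⟩ := h1
      simp only [one_smul, smul_zero, Submonoid.smul_def] at hu
      exact hinj u u.2 w hu
    · obtain ⟨x, y, hx, hy, hxy⟩ : ∃ x y, x ∉ I ∧ y ∉ I ∧ x * y ∈ I := by
        by_contra hcon
        push Not at hcon
        exact hprime ⟨htop, fun {a b} hab => by
          by_contra hno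
          push Not at hno
          exact hcon a b hno.1 hno.2 hab⟩
      let J : Ideal R := Submodule.comap (LinearMap.mulLeft R x) I
      obtain ⟨μ, π, hμ, hπ, hex, -⟩ := seq x J fun r => Iff.rfl
      have hS := Groth.L04.LC.ses_shortExact μ π hμ hπ hex
      haveI := ih J (lt_of_le_of_ne (fun r hr => I.mul_mem_left x hr) fun he => hy (he ▸ (hxy : y ∈ J)))
      refine subsingleton_of_forall_eq 0 fun w => ?_
      obtain ⟨z, hz⟩ := Ext.contravariant_sequence_exact₂ hS (ModuleCat.of R M) w
        (Subsingleton.elim (α := Ext.{u} (ModuleCat.of R (R ⧸ J)) (ModuleCat.of R M) j) _ _)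
      rw [← hz, @Subsingleton.elim _ (big x hx) z 0, Ext.comp_zero]

lemma bassNum_succ_eq_zero_of_starInj (hM : GrLC.IsStarInj 𝒜 ℳ) (q : HomogeneousIdeal 𝒜) [q.toIdeal.IsPrime] (i : ℕ) :
    GrLC.bassNum q.toIdeal M (i + 1) = 0 :=
  Module.length_eq_zero_iff.2 (subsingleton_ext_residue (𝒳 := ℳ) hM q i)

theorem injdimLT_two_of_starInj (hM : GrLC.IsStarInj 𝒜 ℳ) : HasInjectiveDimensionLT (ModuleCat.of R M) 2 := by
  refine Groth.L06.ExtDim.hasInjectiveDimensionLT_of_forall_quotient 1 _ fun I => ?_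
  refine subsingleton_ext_quotient_of_bassNum 2 (fun P hP => ?_) I
  by_cases hh : Ideal.IsHomogeneous 𝒜 P
  · exact @bassNum_succ_eq_zero_of_starInj _ _ _ _ _ _ _ _ _ _ _ hM ⟨P, hh⟩ hP 1
  · haveI : (Ideal.homogeneousCore 𝒜 P).toIdeal.IsPrime := hP.homogeneousCore
    rw [(bassNum_nonHom (ℳ := ℳ) P hh).2 1]
    exact bassNum_succ_eq_zero_of_starInj hM _ 0

omit [GradedRing 𝒜] [DirectSum.Decomposition ℳ] [SetLike.GradedSMul 𝒜 ℳ] in
theorem mem_associatedPrimes_iff_bassNum_zero (q : Ideal R) [hq : q.IsPrime] :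
    q ∈ associatedPrimes R M ↔ GrLC.bassNum q M 0 ≠ 0 := by
  let A := Localization.AtPrime q
  rw [GrLC.bassNum, length_ext_zero, ne_eq, Module.length_eq_zero_iff, not_subsingleton_iff_nontrivial]
  constructor
  · intro h
    obtain ⟨-, z, hz⟩ := isAssociatedPrime_iff.1 h
    refine ⟨⟨LocalizedModule.mk z 1, mem_soc.2 fun b hb => ?_⟩, 0, fun h0 => ?_⟩
    · obtain ⟨r, s, rfl⟩ := IsLocalization.exists_mk'_eq q.primeCompl b
      rw [IsLocalization.AtPrime.mk'_mem_maximal_iff _ q] at hb
      rw [Localization.mk_eq_mk'.symm, LocalizedModule.mk_smul_mk]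
      rw [hz, Submodule.mem_colon_singleton, Submodule.mem_bot] at hb
      rw [hb, LocalizedModule.zero_mk]
    · have h1 : LocalizedModule.mk (S := q.primeCompl) z 1 = 0 := congrArg Subtype.val h0
      rw [← LocalizedModule.zero_mk (1 : q.primeCompl), LocalizedModule.mk_eq] at h1
      obtain ⟨u, hu⟩ := h1
      simp only [one_smul, smul_zero, Submonoid.smul_def] at hu
      exact u.2 (hz.ge (Submodule.mem_colon_singleton.2 ((Submodule.mem_bot R).2 hu)))
  · intro h
    obtain ⟨⟨y, hy⟩, hy0⟩ := exists_ne (0 : soc A (LocalizedModule q.primeCompl M))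
    induction y using LocalizedModule.induction_on with
    | h z s =>
      have hkill : ∀ c ∈ q, ∃ v : q.primeCompl, (v : R) • c • z = 0 := fun c hc => by
        have h1 := mem_soc.1 hy (algebraMap R A c) ((IsLocalization.AtPrime.to_map_mem_maximal_iff _ q c).2 hc)
        rw [algebraMap_smul, LocalizedModule.smul'_mk, ← LocalizedModule.zero_mk s, LocalizedModule.mk_eq] at h1
        obtain ⟨v, hv⟩ := h1
        rw [smul_zero, smul_zero, Submonoid.smul_def, Submonoid.smul_def, ← mul_smul] at hv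
        exact ⟨v * s, hv⟩
      obtain ⟨G, hG⟩ := IsNoetherian.noetherian q
      choose! v hv using hkill
      let W : q.primeCompl := ∏ c ∈ G, v c
      have hW : ∀ c ∈ q, c • (W : R) • z = 0 := fun c hc => by
        rw [← hG] at hc
        induction hc using Submodule.span_induction with
        | mem c hc =>
          have hd : (v c : R) ∣ (W : R) := by
            rw [show (W : R) = ∏ d ∈ G, (v d : R) from Submonoid.coe_finset_prod ..]
            exact Finset.dvd_prod_of_mem _ hc
          obtain ⟨r, hr⟩ := hd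
          rw [hr, ← mul_smul, show c * ((v c : R) * r) = r * ((v c : R) * c) by ring, mul_smul, mul_smul,
            hv c (hG ▸ Submodule.subset_span hc), smul_zero]
        | zero => rw [zero_smul]
        | add a b _ _ ha hb => rw [add_smul, ha, hb, add_zero]
        | smul a b _ hb => rw [smul_eq_mul, mul_smul, hb, smul_zero]
      refine isAssociatedPrime_iff.2 ⟨hq, (W : R) • z, le_antisymm (fun c hc => ?_) fun c hc => ?_⟩
      · rw [Submodule.mem_colon_singleton, Submodule.mem_bot]; exact hW c hc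
      · rw [Submodule.mem_colon_singleton, Submodule.mem_bot] at hc
        by_contra hcq
        refine hy0 (Subtype.ext ?_)
        change LocalizedModule.mk z s = 0
        rw [← LocalizedModule.zero_mk s, LocalizedModule.mk_eq]
        refine ⟨⟨c, hcq⟩ * W, ?_⟩
        simp only [smul_zero, Submonoid.smul_def, Submonoid.coe_mul]
        rw [smul_comm, mul_smul, hc, smul_zero]

theorem not_injective_iff (hM : GrLC.IsStarInj 𝒜 ℳ) :
    ¬ Module.Injective R M ↔ ∃ p : Ideal R, p.IsPrime ∧ ¬ Ideal.IsHomogeneous 𝒜 p ∧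
      (Ideal.homogeneousCore 𝒜 p).toIdeal ∈ associatedPrimes R M := by
  constructor
  · intro hninj
    by_contra hcon
    push Not at hcon
    refine hninj ?_
    have : Injective (ModuleCat.of R M) := Groth.L06.ExtDim.injective_of_forall_quotient _ fun I =>
      subsingleton_ext_quotient_of_bassNum 1 (fun P hP => by
        by_cases hh : Ideal.IsHomogeneous 𝒜 P
        · exact @bassNum_succ_eq_zero_of_starInj _ _ _ _ _ _ _ _ _ _ _ hM ⟨P, hh⟩ hP 0
        · haveI : (Ideal.homogeneousCore 𝒜 P).toIdeal.IsPrime := hP.homogeneousCore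
          rw [(bassNum_nonHom (ℳ := ℳ) P hh).2 0]
          exact not_not.1 fun h0 => hcon P hP hh ((mem_associatedPrimes_iff_bassNum_zero _).2 h0)) I
    exact Module.injective_module_of_injective_object R M
  · rintro ⟨p, hp, hnh, hass⟩ hinj
    haveI := hp
    haveI : (Ideal.homogeneousCore 𝒜 p).toIdeal.IsPrime := hp.homogeneousCore
    refine (mem_associatedPrimes_iff_bassNum_zero _).1 hass ?_
    rw [← (bassNum_nonHom (ℳ := ℳ) p hnh).2 0]
    haveI : Injective (ModuleCat.of R M) := (Module.injective_iff_injective_object R M).1 hinj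
    haveI hsub : Subsingleton (Ext.{u} (ModuleCat.of R (R ⧸ p)) (ModuleCat.of R M) 1) :=
      subsingleton_of_forall_eq 0 fun z => Ext.eq_zero_of_injective z
    obtain ⟨e1⟩ := Groth.L04.LC.nonempty_localized_ext_equiv p.primeCompl 1 (R ⧸ p) M
    obtain ⟨e2⟩ := nonempty_residue_equiv p
    have h2 : Subsingleton (LocalizedModule p.primeCompl (Ext.{u} (ModuleCat.of R (R ⧸ p)) (ModuleCat.of R M) 1)) :=
      subsingleton_of_forall_eq 0 fun y => by
        induction y using LocalizedModule.induction_on with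
        | h m s => rw [Subsingleton.elim m 0, LocalizedModule.zero_mk]
    have h3 := e1.symm.toEquiv.subsingleton
    refine Module.length_eq_zero_iff.2 (subsingleton_of_forall_eq 0 fun x => ?_)
    let iso : ModuleCat.of (Localization.AtPrime p) (LocalizedModule p.primeCompl (R ⧸ p)) ≅
        ModuleCat.of (Localization.AtPrime p) (IsLocalRing.ResidueField (Localization.AtPrime p)) :=
      LinearEquiv.toModuleIso (X₁ := LocalizedModule p.primeCompl (R ⧸ p)) e2
    have h4 : (Ext.mk₀ iso.hom).comp x (zero_add 1) = 0 := @Subsingleton.elim _ h3 _ _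
    have h5 := congrArg (fun y => (Ext.mk₀ iso.inv).comp y (zero_add 1)) h4
    simp only [Ext.mk₀_comp_mk₀_assoc, Iso.inv_hom_id, Ext.mk₀_id_comp, Ext.comp_zero] at h5
    exact h5

theorem isInjectiveHull_of_maximal {E : Type u} [AddCommGroup E] [Module R E] {𝓔 : ℤ → AddSubgroup E}
    [DirectSum.Decomposition 𝓔] [SetLike.GradedSMul 𝒜 𝓔] (m : HomogeneousIdeal 𝒜) [hm : m.toIdeal.IsMaximal]
    (e : (R ⧸ m.toIdeal) →ₗ[R] E) (he : GrLC.IsStarInjHull 𝒜 (GrLC.quotGr 𝒜 m) 𝓔 e) : InjHull.IsInjectiveHull e := by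
  have hgam := gam_eq_top_hull he
  refine ⟨⟨he.injective, fun N hN => ?_⟩, not_not.1 fun hninj => ?_⟩
  · obtain ⟨x, hxN, hx0⟩ := (Submodule.ne_bot_iff _).1 hN
    obtain ⟨n, hn⟩ : x ∈ GrLC.gam m.toIdeal E := hgam ▸ Submodule.mem_top
    induction n generalizing x with
    | zero => exact absurd (by simpa using hn 1 (by simp)) hx0
    | succ n ih =>
      by_cases hall : ∀ c ∈ m.toIdeal ^ n, c • x = 0
      · exact ih x hxN hx0 hall
      push Not at hall
      obtain ⟨c, hc, hcx⟩ := hall
      set y := c • x with hy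
      have hyN : y ∈ N := N.smul_mem c hxN
      have hym : ∀ b ∈ m.toIdeal, b • y = 0 := fun b hb => by
        rw [hy, ← mul_smul]
        exact hn _ (by rw [pow_succ']; exact Ideal.mul_mem_mul hb hc)
      have hrange : y ∈ LinearMap.range e := by
        obtain ⟨s, hs, -⟩ := exists_sum_cp 𝓔 y
        rw [← hs]
        refine Submodule.sum_mem _ fun d _ => ?_
        by_cases hd : cp 𝓔 d y = 0
        · rw [hd]; exact zero_mem _
        have hdm : ∀ b ∈ m.toIdeal, b • cp 𝓔 d y = 0 := fun b hb => by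
          obtain ⟨sb, hsb, -⟩ := exists_sum_cp 𝒜 b
          rw [← hsb, Finset.sum_smul]
          refine Finset.sum_eq_zero fun a _ => ?_
          rw [← cp_smul_hom 𝒜 𝓔 (cp_mem 𝒜 a b), show cp 𝒜 a b • y = 0 from hym _ (m.isHomogeneous a hb), map_zero]
        obtain ⟨b, r, hbr, hb0⟩ := exists_smul_eq he (cp_mem 𝓔 d y) hd
        obtain ⟨b', i, hi, hb'⟩ := hm.exists_inv (fun hbm => hb0 (hdm b hbm))
        have h1 : cp 𝓔 d y = b' • (b • cp 𝓔 d y) := by
          have := congrArg (· • cp 𝓔 d y) hb'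
          simp only [add_smul, hdm i hi, add_zero, one_smul, mul_smul] at this
          exact this.symm
        rw [h1, hbr]
        exact ⟨b' • Ideal.Quotient.mk m.toIdeal r, map_smul e _ _⟩
      exact fun h => hcx ((Submodule.mem_bot R).1 (h ▸ (⟨hyN, hrange⟩ : y ∈ N ⊓ LinearMap.range e)))
  · obtain ⟨p, hp, hnh, hass⟩ := (not_injective_iff (ℳ := 𝓔) he.starInj).1 hninj
    obtain ⟨hq, z, hz⟩ := isAssociatedPrime_iff.1 hass
    obtain ⟨n, hn⟩ : z ∈ GrLC.gam m.toIdeal E := hgam ▸ Submodule.mem_top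
    have hle : m.toIdeal ≤ p := fun c hc => Ideal.toIdeal_homogeneousCore_le 𝒜 p (hq.mem_of_pow_mem n (by
      rw [hz, Submodule.mem_colon_singleton, Submodule.mem_bot]
      exact hn _ (Ideal.pow_mem_pow hc n)))
    exact hnh ((hm.eq_of_le hp.ne_top hle) ▸ m.isHomogeneous)

end Groth.L12.GrLCLib
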