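import Groth.Agent.L12.GrLCCoarse
import Groth.Agent.L12.GrLCDim
import Groth.Agent.L12.GrLCNonHom4
import Groth.Agent.L04.SupportLoc
import Mathlib.RingTheory.KrullDimension.Module
import Mathlib.RingTheory.Spectrum.Prime.RingHom

/-!
# From a prime down to its graded core, one coordinate at a time
-/

set_option autoImplicit false

universe u

open DirectSum CategoryTheory CategoryTheory.Abelian

namespace Groth.L12.GrLCLib

section Support

variable {R : Type u} [CommRing R] {M : Type u} [AddCommGroup M] [Module R M]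

/-- the dimension of a localised module is a height in the support -/
theorem supportDim_localized_eq_height (P : PrimeSpectrum R) (hP : P ∈ Module.support R M) :
    Module.supportDim (Localization.AtPrime P.asIdeal) (LocalizedModule P.asIdeal.primeCompl M) =
      (Order.height (⟨P, hP⟩ : Module.support R M) : WithBot ℕ∞) := by
  let e := IsLocalization.AtPrime.primeSpectrumOrderIso (Localization.AtPrime P.asIdeal) P.asIdeal
  have he : ∀ Q, (e Q).1 = PrimeSpectrum.comap (algebraMap R (Localization.AtPrime P.asIdeal)) Q := fun Q => rfl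
  rw [Order.height_eq_krullDim_Iic, Module.supportDim]
  refine Order.krullDim_eq_of_orderIso
    { toFun := fun Q => ⟨⟨(e Q.1).1, he Q.1 ▸ (Groth.L04.support_localization P.asIdeal Q.1).1 Q.2⟩, (e Q.1).2⟩
      invFun := fun Q => ⟨e.symm ⟨Q.1.1, Q.2⟩, (Groth.L04.support_localization P.asIdeal _).2 (by
        rw [← he, OrderIso.apply_symm_apply]; exact Q.1.2)⟩
      left_inv := fun Q => Subtype.ext (e.symm_apply_apply Q.1)
      right_inv := fun Q => Subtype.ext (Subtype.ext (by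
        change (e (e.symm _)).1 = _
        rw [OrderIso.apply_symm_apply]))
      map_rel_iff' := fun {Q Q'} => e.map_rel_iff (a := Q.1) (b := Q'.1) }

end Support

section Annihilator

variable {ι : Type} [AddCommGroup ι] [DecidableEq ι]
variable {R : Type u} [CommRing R] {𝒜 : ι → AddSubgroup R} [GradedRing 𝒜]
variable {M : Type u} [AddCommGroup M] [Module R M] {τ : Type u} [SetLike τ M] [AddSubgroupClass τ M] {ℳ : ι → τ}
  [DirectSum.Decomposition ℳ] [SetLike.GradedSMul 𝒜 ℳ]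

include ℳ in
theorem annihilator_isHomogeneous : (Module.annihilator R M).IsHomogeneous 𝒜 := by
  intro n a ha
  rw [Module.mem_annihilator] at ha ⊢
  intro y
  change cp 𝒜 n a • y = 0
  induction y using induction_on_hom ℳ with
  | h0 => rw [smul_zero]
  | hh m y hy =>
    have h1 := cp_smul_mem 𝒜 ℳ a hy (n + m)
    rw [ha y, map_zero, add_sub_cancel_right] at h1
    exact h1.symm
  | ha b c hb hc => rw [smul_add, hb, hc, add_zero]

end Annihilator

section Step

variable {R : Type u} [CommRing R] [IsNoetherianRing R] {𝒜 : ℤ → AddSubgroup R} [GradedRing 𝒜]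

/-- heights in a set of primes closed under taking cores -/
theorem orderHeight_core_step (V : Set (PrimeSpectrum R))
    (hV : ∀ P ∈ V, ∀ h : (Ideal.homogeneousCore 𝒜 P.asIdeal).toIdeal.IsPrime,
      (⟨_, h⟩ : PrimeSpectrum R) ∈ V)
    (P : PrimeSpectrum R) (hP : P ∈ V) (h : (Ideal.homogeneousCore 𝒜 P.asIdeal).toIdeal.IsPrime)
    (hne : (Ideal.homogeneousCore 𝒜 P.asIdeal).toIdeal ≠ P.asIdeal) :
    Order.height (⟨P, hP⟩ : V) = Order.height (⟨⟨_, h⟩, hV P hP h⟩ : V) + 1 := by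
  induction hn : P.asIdeal.height using WellFoundedLT.induction generalizing P with
  | _ n ih =>
    subst hn
    refine le_antisymm ?_ (Order.height_add_one_le
      (show (⟨⟨_, h⟩, hV P hP h⟩ : V) < ⟨P, hP⟩ from
        lt_of_le_of_ne (Ideal.toIdeal_homogeneousCore_le 𝒜 P.asIdeal) fun he =>
          hne (congrArg (fun z : V => z.1.asIdeal) he)))
    rw [Order.height_eq_iSup_lt_height, iSup₂_le_iff]
    rintro ⟨Q, hQ⟩ hQP
    refine add_le_add ?_ le_rfl
    have hlt : Q.asIdeal < P.asIdeal := hQP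
    haveI := Q.isPrime
    haveI := P.isPrime
    haveI := h
    have hc : (Ideal.homogeneousCore 𝒜 Q.asIdeal).toIdeal.IsPrime := Ideal.IsPrime.homogeneousCore Q.isPrime
    haveI := hc
    have hle : (Ideal.homogeneousCore 𝒜 Q.asIdeal).toIdeal ≤ (Ideal.homogeneousCore 𝒜 P.asIdeal).toIdeal :=
      Ideal.homogeneousCore_mono 𝒜 hlt.le
    rcases eq_or_lt_of_le hle with heq | hcore
    · have hQc : (Ideal.homogeneousCore 𝒜 P.asIdeal).toIdeal = Q.asIdeal := by
        by_contra hne'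
        exact no_prime_between (𝒜 := 𝒜) (p₁ := Q.asIdeal) (p := P.asIdeal) (Ideal.homogeneousCore 𝒜 P.asIdeal).isHomogeneous
          (fun g x hx hxP => Ideal.mem_homogeneousCore_of_homogeneous_of_mem ⟨g, hx⟩ hxP)
          (lt_of_le_of_ne (heq ▸ Ideal.toIdeal_homogeneousCore_le 𝒜 Q.asIdeal) hne') hlt
      exact (congrArg Order.height (show (⟨Q, hQ⟩ : V) = ⟨⟨_, h⟩, hV P hP h⟩ from
        Subtype.ext (PrimeSpectrum.ext hQc.symm))).le
    · by_cases hQne : (Ideal.homogeneousCore 𝒜 Q.asIdeal).toIdeal = Q.asIdeal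
      · exact Order.height_mono (show (⟨Q, hQ⟩ : V) ≤ ⟨⟨_, h⟩, hV P hP h⟩ from (hQne.ge.trans hle :))
      · rw [ih _ (Ideal.height_strict_mono_of_isPrime hlt) Q hQ hc hQne rfl]
        exact Order.height_add_one_le (show (⟨⟨_, hc⟩, hV Q hQ hc⟩ : V) < ⟨⟨_, h⟩, hV P hP h⟩ from hcore)

end Step

section Iter

variable {ι : Type} [AddCommGroup ι] [DecidableEq ι]
variable {R : Type u} [CommRing R] [IsNoetherianRing R] {𝒜 : ι → AddSubgroup R} [GradedRing 𝒜]

theorem exists_iter (L : List (ι →+ ℤ)) (P : Ideal R) [hP : P.IsPrime] :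
    ∃ (Q : Ideal R) (hQ : Q.IsPrime) (c : ℕ), Q ≤ P ∧ (∀ J : Ideal R, J.IsHomogeneous 𝒜 → J ≤ P → J ≤ Q) ∧
      (∀ f ∈ L, IsCoarseHom 𝒜 f Q) ∧
      ∀ (M : Type u) [AddCommGroup M] [Module R M] (ℳ : ι → AddSubgroup M) [DirectSum.Decomposition ℳ]
        [SetLike.GradedSMul 𝒜 ℳ],
        ((∀ i < c, GrLC.bassNum P M i = 0) ∧ ∀ i, GrLC.bassNum P M (i + c) = GrLC.bassNum Q M i) ∧
        (Module.Finite R M → ∀ hPs : (⟨P, hP⟩ : PrimeSpectrum R) ∈ Module.support R M,
          ∃ hQs : (⟨Q, hQ⟩ : PrimeSpectrum R) ∈ Module.support R M,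
            Order.height (⟨_, hPs⟩ : Module.support R M) = Order.height (⟨_, hQs⟩ : Module.support R M) + c) := by
  induction L with
  | nil =>
    refine ⟨P, hP, 0, le_rfl, fun J _ h => h, fun f hf => absurd hf List.not_mem_nil, ?_⟩
    intro M _ _ ℳ _ _
    exact ⟨⟨fun i hi => absurd hi (Nat.not_lt_zero i), fun i => rfl⟩, fun _ hPs => ⟨hPs, by rw [Nat.cast_zero, add_zero]⟩⟩
  | cons f L ih =>
    obtain ⟨Q, hQ, c, hQP, hmax, hhom, hM⟩ := ih
    letI := fibRing 𝒜 f
    have hQ' : (coreAt 𝒜 f Q).IsPrime := Ideal.IsPrime.homogeneousCore hQ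
    have hle := coreAt_le 𝒜 f Q
    have hmax' : ∀ J : Ideal R, J.IsHomogeneous 𝒜 → J ≤ P → J ≤ coreAt 𝒜 f Q := fun J hJ h =>
      le_coreAt 𝒜 f (isCoarseHom_of_isHomogeneous 𝒜 f hJ) (hmax J hJ h)
    have hhom' : ∀ g ∈ f :: L, IsCoarseHom 𝒜 g (coreAt 𝒜 f Q) := by
      intro g hg
      rcases List.mem_cons.1 hg with rfl | hg
      · exact coreAt_isCoarseHom 𝒜 g Q
      · exact coreAt_isCoarseHom_of 𝒜 f g (hhom g hg)
    by_cases heq : coreAt 𝒜 f Q = Q
    · exact ⟨Q, hQ, c, hQP, hmax, heq ▸ hhom', hM⟩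
    refine ⟨coreAt 𝒜 f Q, hQ', c + 1, hle.trans hQP, hmax', hhom', ?_⟩
    intro M _ _ ℳ _ _
    obtain ⟨⟨hlow, hshift⟩, hdim⟩ := hM M ℳ
    letI := fibDec ℳ f
    haveI := fib_gradedSMul 𝒜 f ℳ
    haveI : Q.IsPrime := hQ
    haveI : (Ideal.homogeneousCore (fib 𝒜 f) Q).toIdeal.IsPrime := hQ'
    have hnh : ¬ Q.IsHomogeneous (fib 𝒜 f) := fun h => heq (le_antisymm hle (le_coreAt 𝒜 f h le_rfl))
    obtain ⟨h0, hs⟩ := bassNum_nonHom (ℳ := fib ℳ f) Q hnh
    refine ⟨⟨fun i hi => ?_, fun i => ?_⟩, fun hfin hPs => ?_⟩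
    · rcases Nat.lt_succ_iff_lt_or_eq.1 hi with h | rfl
      · exact hlow i h
      · exact (congrArg _ (Nat.zero_add i).symm).trans ((hshift 0).trans h0)
    · exact (congrArg _ (by omega : i + (c + 1) = (i + 1) + c)).trans ((hshift (i + 1)).trans (hs i))
    · haveI := hfin
      obtain ⟨hQs, hh⟩ := hdim hfin hPs
      have hV : ∀ P' ∈ Module.support R M, ∀ h : (Ideal.homogeneousCore (fib 𝒜 f) P'.asIdeal).toIdeal.IsPrime,
          (⟨_, h⟩ : PrimeSpectrum R) ∈ Module.support R M := fun P' hP' h => by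
        rw [Module.mem_support_iff_of_finite] at hP' ⊢
        exact le_coreAt 𝒜 f (annihilator_isHomogeneous (𝒜 := fib 𝒜 f) (ℳ := fib ℳ f)) hP'
      refine ⟨hV ⟨Q, hQ⟩ hQs hQ', ?_⟩
      rw [hh, orderHeight_core_step (Module.support R M) hV ⟨Q, hQ⟩ hQs hQ' heq, add_assoc,
        Nat.cast_succ, add_comm (1 : ℕ∞) (c : ℕ∞)]
      rfl

theorem exists_core [Module.Free ℤ ι] [Module.Finite ℤ ι] (P : Ideal R) [hP : P.IsPrime]
    [hq : (Ideal.homogeneousCore 𝒜 P).toIdeal.IsPrime] (d : ℕ)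
    (hd : (P.map (Ideal.Quotient.mk (Ideal.homogeneousCore 𝒜 P).toIdeal)).height = d)
    (M : Type u) [AddCommGroup M] [Module R M] (ℳ : ι → AddSubgroup M) [DirectSum.Decomposition ℳ]
    [SetLike.GradedSMul 𝒜 ℳ] :
    ((∀ i < d, GrLC.bassNum P M i = 0) ∧
      ∀ i, GrLC.bassNum P M (i + d) = GrLC.bassNum (Ideal.homogeneousCore 𝒜 P).toIdeal M i) ∧
    (Module.Finite R M → ∀ hPs : (⟨P, hP⟩ : PrimeSpectrum R) ∈ Module.support R M,
      ∃ hQs : (⟨_, hq⟩ : PrimeSpectrum R) ∈ Module.support R M,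
        Order.height (⟨_, hPs⟩ : Module.support R M) = Order.height (⟨_, hQs⟩ : Module.support R M) + d) := by
  classical
  let b := Module.Free.chooseBasis ℤ ι
  let cf : Module.Free.ChooseBasisIndex ℤ ι → ι →+ ℤ := fun j => (b.coord j).toAddMonoidHom
  obtain ⟨Q, hQ, c, hQP, hmax, hhom, hM⟩ := exists_iter (𝒜 := 𝒜)
    ((Finset.univ : Finset (Module.Free.ChooseBasisIndex ℤ ι)).toList.map cf) P
  set q := Ideal.homogeneousCore 𝒜 P with hqdef
  have hQhom : Q.IsHomogeneous 𝒜 := isHomogeneous_of_coarse 𝒜 cf (fun x y h => b.ext_elem h)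
    fun j => hhom _ (List.mem_map.2 ⟨j, Finset.mem_toList.2 (Finset.mem_univ j), rfl⟩)
  obtain rfl : Q = q.toIdeal := by
    refine le_antisymm (fun x hx => ?_) (hmax _ q.isHomogeneous (Ideal.toIdeal_homogeneousCore_le 𝒜 P))
    obtain ⟨s, hs, -⟩ := exists_sum_cp 𝒜 x
    exact hs ▸ Ideal.sum_mem _ fun g _ =>
      Ideal.mem_homogeneousCore_of_homogeneous_of_mem ⟨g, cp_mem 𝒜 g x⟩ (hQP (hQhom g hx))
  suffices hcd : c = d by subst hcd; exact hM M ℳ
  let W := quoG 𝒜 𝒜 q.toIdeal q.isHomogeneous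
  have hsupp : Module.support R W.carrier = PrimeSpectrum.zeroLocus (q.toIdeal : Set R) := by
    change Module.support R (R ⧸ q.toIdeal) = _
    rw [Module.support_eq_zeroLocus, Ideal.annihilator_quotient]
  obtain ⟨hQs, hh⟩ := (hM W.carrier W.gr).2 (inferInstanceAs (Module.Finite R (R ⧸ q.toIdeal)))
    (hsupp ▸ (PrimeSpectrum.mem_zeroLocus _ _).2 (Ideal.toIdeal_homogeneousCore_le 𝒜 P))
  have h0 : Order.height (⟨_, hQs⟩ : Module.support R W.carrier) = 0 := by
    refine Order.height_eq_zero.2 fun x _ => ?_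
    exact (PrimeSpectrum.mem_zeroLocus _ _).1 (hsupp ▸ x.2)
  rw [h0, zero_add] at hh
  refine (Nat.cast_inj (R := ℕ∞)).1 (hh.symm.trans (Eq.trans ?_ hd))
  let e := (OrderIso.setCongr _ _ hsupp).trans q.toIdeal.primeSpectrumQuotientOrderIsoZeroLocus.symm
  rw [← Order.height_orderIso e]
  set Pq := e ⟨⟨P, hP⟩, _⟩ with hPq
  rw [← PrimeSpectrum.height_eq_orderHeight]
  congr 1

end Iter

end Groth.L12.GrLCLib
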