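import Groth.Agent.L12.GrLCTopH
import Groth.Agent.L12.GrLCAinv
import Groth.Agent.L21.GorensteinAscend
import Groth.Agent.S0340
import Groth.Agent.L29.Dual.GorensteinRing
import Mathlib.RingTheory.Localization.LocalizationLocalization

/-!
# A graded Cohen–Macaulay ring with *injective top cohomology is Gorenstein
-/

set_option autoImplicit false

universe u

open DirectSum CategoryTheory CategoryTheory.Abelian

namespace Groth.L12.GrLCLib

section General

variable {ι : Type} [AddCommGroup ι] [DecidableEq ι] [Module.Free ℤ ι] [Module.Finite ℤ ι]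
variable {R : Type u} [CommRing R] [IsNoetherianRing R] {𝒜 : ι → AddSubgroup R} [GradedRing 𝒜]
variable {m : HomogeneousIdeal 𝒜}

/-- torsion graded modules at the *maximal ideal see nothing outside it -/
theorem smul_eq_zero_of_torsion (hm : GrLC.IsStarLocal 𝒜 m) {M : Type u} [AddCommGroup M] [Module R M]
    (ℳ : ι → AddSubgroup M) [DirectSum.Decomposition ℳ] [SetLike.GradedSMul 𝒜 ℳ]
    {z : M} (hz : z ∈ GrLC.gam m.toIdeal M) {s : R} (hs : s ∉ m.toIdeal) (h : s • z = 0) : z = 0 := by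
  by_contra hz0
  haveI := starLocal_isPrime hm
  obtain ⟨P, hP, hle⟩ := exists_le_isAssociatedPrime_of_isNoetherianRing R z hz0
  have hsP : s ∈ P := hle (by rw [Submodule.mem_colon_singleton, Submodule.mem_bot]; exact h)
  obtain ⟨n, hn⟩ := hz
  have hmP : m.toIdeal ≤ P := fun c hc => hP.isPrime.mem_of_pow_mem n (hle (by
    rw [Submodule.mem_colon_singleton, Submodule.mem_bot]; exact hn _ (Ideal.pow_mem_pow hc n)))
  haveI := hP.isPrime
  have hcore : (Ideal.homogeneousCore 𝒜 P).toIdeal = m.toIdeal := by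
    let Q : HomogeneousIdeal 𝒜 := Ideal.homogeneousCore 𝒜 P
    have hQ : Q ≠ ⊤ := fun h => hP.isPrime.ne_top (top_le_iff.1 (by
      have h1 := Ideal.toIdeal_homogeneousCore_le 𝒜 P
      rw [show (Ideal.homogeneousCore 𝒜 P) = ⊤ from h] at h1
      exact h1))
    have hmQ : m ≤ Q := fun c hc => by
      obtain ⟨t, ht, -⟩ := exists_sum_cp 𝒜 c
      exact ht ▸ Ideal.sum_mem _ fun g _ =>
        Ideal.mem_homogeneousCore_of_homogeneous_of_mem ⟨g, cp_mem 𝒜 g c⟩ (hmP (m.isHomogeneous g hc))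
    exact congrArg HomogeneousIdeal.toIdeal (hmQ.eq_or_lt.resolve_right fun h => hQ (hm.1.2 Q h)).symm
  haveI : (Ideal.homogeneousCore 𝒜 P).toIdeal.IsPrime := hcore ▸ ‹m.toIdeal.IsPrime›
  have hfin : (P.map (Ideal.Quotient.mk (Ideal.homogeneousCore 𝒜 P).toIdeal)) ≠ ⊤ := fun h => by
    have h1 := congrArg (Ideal.comap (Ideal.Quotient.mk (Ideal.homogeneousCore 𝒜 P).toIdeal)) h
    rw [Ideal.comap_map_of_surjective _ Ideal.Quotient.mk_surjective, ← RingHom.ker_eq_comap_bot, Ideal.mk_ker,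
      sup_eq_left.2 (Ideal.toIdeal_homogeneousCore_le 𝒜 P), Ideal.comap_top] at h1
    exact hP.isPrime.ne_top h1
  obtain ⟨d, hd⟩ := ENat.ne_top_iff_exists.1 (Ideal.height_ne_top hfin)
  obtain ⟨⟨hlow, -⟩, -⟩ := exists_core (𝒜 := 𝒜) P d hd.symm M ℳ
  rcases Nat.eq_zero_or_pos d with rfl | hd0
  · have hp : (P.map (Ideal.Quotient.mk (Ideal.homogeneousCore 𝒜 P).toIdeal)).IsPrime :=
      Ideal.map_isPrime_of_surjective Ideal.Quotient.mk_surjective (by rw [Ideal.mk_ker]; exact Ideal.toIdeal_homogeneousCore_le 𝒜 P)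
    have h0 : P.map (Ideal.Quotient.mk (Ideal.homogeneousCore 𝒜 P).toIdeal) = ⊥ := by
      by_contra hne
      have h1 := Ideal.height_strict_mono_of_isPrime (I := (⊥ : Ideal (R ⧸ (Ideal.homogeneousCore 𝒜 P).toIdeal)))
        (bot_lt_iff_ne_bot.2 hne)
      rw [← hd] at h1
      simp at h1
    refine hs (hcore ▸ ?_)
    have h1 : Ideal.Quotient.mk (Ideal.homogeneousCore 𝒜 P).toIdeal s ∈ (⊥ : Ideal _) := h0 ▸ Ideal.mem_map_of_mem _ hsP
    exact Ideal.Quotient.eq_zero_iff_mem.1 h1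
  · exact (mem_associatedPrimes_iff_bassNum_zero P).1 hP (hlow 0 hd0)

/-- graded local cohomology vanishes beyond the height of the *maximal ideal -/
theorem subsingleton_H_above (hm : GrLC.IsStarLocal 𝒜 m) {n : ℕ} (hn : m.toIdeal.height = n)
    {M : Type u} [AddCommGroup M] [Module R M] {ℳ : ι → AddSubgroup M} [DirectSum.Decomposition ℳ]
    [SetLike.GradedSMul 𝒜 ℳ] (E : GrLC.StarInjRes 𝒜 ℳ) {i : ℕ} (hi : n < i) : Subsingleton (E.H m i) := by
  haveI := starLocal_isPrime hm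
  let A := Localization.AtPrime m.toIdeal
  obtain ⟨e⟩ := nonempty_H_equiv E m i
  obtain ⟨e'⟩ := Groth.L04.LC.nonempty_localizedModule_H_equiv m.toIdeal m.toIdeal.primeCompl i M
  have hdim : ringKrullDim A ≤ n := by rw [IsLocalization.AtPrime.ringKrullDim_eq_height m.toIdeal, hn]; rfl
  haveI : IsNoetherianRing A := IsLocalization.isNoetherianRing m.toIdeal.primeCompl A inferInstance
  haveI := Groth.L04.LC.cdLE_of_ringKrullDim_le (m.toIdeal.map (algebraMap R A)) n hdim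
    (LocalizedModule m.toIdeal.primeCompl M) i hi
  have hsub : Subsingleton (LocalizedModule m.toIdeal.primeCompl (LocCoh.H m.toIdeal i M)) := e'.toEquiv.subsingleton
  letI := (Hgr_isInternal m E i).chooseDecomposition
  haveI : SetLike.GradedSMul 𝒜 (E.Hgr m i) := ⟨fun {_ _ _ _} hr hx => smul_mem_Hgr E m i hr hx⟩
  refine subsingleton_of_forall_eq 0 fun z => ?_
  have h0 : LocalizedModule.mk (S := m.toIdeal.primeCompl) (e z) 1 = 0 := Subsingleton.elim _ _
  rw [← LocalizedModule.zero_mk (1 : m.toIdeal.primeCompl), LocalizedModule.mk_eq] at h0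
  obtain ⟨s, hs⟩ := h0
  simp only [one_smul, smul_zero, Submonoid.smul_def] at hs
  obtain ⟨k, hk⟩ := isPowerTorsion_H m E i z
  exact smul_eq_zero_of_torsion hm (E.Hgr m i) ⟨k, hk⟩ s.2 (e.injective (by rw [map_smul, hs, map_zero]))

/-- one step up -/
theorem gam_above (hm : GrLC.IsStarLocal 𝒜 m) {n : ℕ} (hn : m.toIdeal.height = n) (E : GrLC.StarInjRes 𝒜 𝒜)
  (hmin0 : ∀ P : Submodule R (E.X 0).carrier, P.IsHomogeneous (E.X 0).gr → P ≠ ⊥ → P ⊓ LinearMap.range E.ε ≠ ⊥)
  (hmin : ∀ (n : ℕ) (P : Submodule R (E.X (n + 1)).carrier), P.IsHomogeneous (E.X (n + 1)).gr → P ≠ ⊥ →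
    P ⊓ LinearMap.range (E.d n) ≠ ⊥) (i : ℕ) (hi : n ≤ i)
  (h : ∀ z ∈ GrLC.gam m.toIdeal (E.X i).carrier, E.d i z = 0) :
    GrLC.gam m.toIdeal (E.X (i + 1)).carrier = ⊥ := by
  by_contra hne
  obtain ⟨y, ⟨hy, hyd⟩, hy0⟩ :=
    (Submodule.ne_bot_iff _).1 (inf_ker_ne_bot E hmin0 hmin _ (gam_isHomogeneous 𝒜 (E.X (i + 1)).gr m) hne)
  haveI := subsingleton_H_above hm hn E (i := i + 1) (by omega)
  have h1 : y ∈ E.cobdy m (i + 1) :=
    (Submodule.Quotient.mk_eq_zero ((E.cobdy m (i + 1)).comap (E.cocyc m (i + 1)).subtype)).1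
      (Subsingleton.elim (E.toH m (i + 1) ⟨y, hy, hyd⟩) 0)
  obtain ⟨x, hx, rfl⟩ := h1
  exact hy0 (h x hx)

/-- injective top cohomology kills the higher Bass numbers -/
theorem bassNum_eq_zero_above (hm : GrLC.IsStarLocal 𝒜 m) [m.toIdeal.IsPrime] {n : ℕ} (hn : m.toIdeal.height = n)
    (hlow : ∀ j < n, GrLC.bassNum m.toIdeal R j = 0) (I : GrLC.StarInjRes 𝒜 𝒜) {X : GrLC.GMod.{u} 𝒜}
    (φ : I.H m n ≃ₗ[R] X.carrier) (hX : GrLC.IsStarInj 𝒜 X.gr) (hφ : GrLC.IsGrHom (I.Hgr m n) X.gr φ.toLinearMap)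
    (j : ℕ) (hj : n < j) : GrLC.bassNum m.toIdeal R j = 0 := by
  obtain ⟨E, hmin0, hmin⟩ := exists_minimal_res (𝒜 := 𝒜) 𝒜
  obtain ⟨e, he, -⟩ := exists_Hequiv m E I n
  let φ' := e ≪≫ₗ φ
  have hT : (E.cocyc m n).IsHomogeneous (E.X n).gr := fun g x hx => cp_cocyc m E n g hx
  have hcob : E.cobdy m n = ⊥ := by
    cases n with
    | zero => rfl
    | succ k =>
      change (GrLC.gam m.toIdeal (E.X k).carrier).map (E.d k) = ⊥
      rw [gam_eq_bot_of_bassNum E hmin0 hmin hm (hlow k k.lt_succ_self), Submodule.map_bot]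
  let T : GrLC.GMod.{u} 𝒜 := subG 𝒜 (E.X n).gr (E.cocyc m n) hT
  let q0 : E.cocyc m n →ₗ[R] X.carrier := φ'.toLinearMap ∘ₗ E.toH m n
  let q : T.carrier →ₗ[R] X.carrier := q0
  have hq : GrLC.IsGrHom T.gr X.gr q := fun g x hx => hφ g _ (he g _ ⟨x, hx, rfl⟩)
  have hinj0 : Function.Injective (E.toH m n) := by
    rw [← LinearMap.ker_eq_bot, Submodule.ker_mkQ, hcob, Submodule.comap_bot, Submodule.ker_subtype]
  have hqinj : Function.Injective q0 := φ'.injective.comp hinj0
  have hqs : Function.Surjective q0 := φ'.surjective.comp (Submodule.mkQ_surjective _)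
  let incl : T.carrier →ₗ[R] (E.X n).carrier := (E.cocyc m n).subtype
  have hincl : Function.Injective incl := Submodule.injective_subtype (E.cocyc m n)
  have hincl' : GrLC.IsGrHom T.gr (E.X n).gr incl := fun g x hx => hx
  obtain ⟨p, hp, hpc⟩ := exists_extend hX incl hincl' q hq (by rw [LinearMap.ker_eq_bot.2 hincl]; exact bot_le)
  have hpq : ∀ t : E.cocyc m n, p t.1 = q0 t := fun t => LinearMap.congr_fun hpc t
  -- every torsion element of the top term is a cycle
  have hsurj : ∀ z ∈ GrLC.gam m.toIdeal (E.X n).carrier, E.d n z = 0 := by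
    have hbot : GrLC.gam m.toIdeal (E.X n).carrier ⊓ LinearMap.ker p = ⊥ := by
      by_contra hne
      refine inf_ker_ne_bot E hmin0 hmin (GrLC.gam m.toIdeal (E.X n).carrier ⊓ LinearMap.ker p)
        (fun g x hx => ⟨gam_isHomogeneous 𝒜 (E.X n).gr m g hx.1, ker_isHomogeneous (E.X n).gr X.gr hp g hx.2⟩) hne
        ((Submodule.eq_bot_iff _).2 ?_)
      rintro x ⟨⟨hxg, hxp⟩, hxd⟩
      have h1 : q0 ⟨x, ⟨hxg, hxd⟩⟩ = 0 := (hpq _).symm.trans hxp
      exact congrArg Subtype.val (hqinj (h1.trans (map_zero q0).symm))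
    intro z hz
    obtain ⟨t, ht⟩ := hqs (p z)
    rw [← hpq] at ht
    have h1 : z - t.1 ∈ GrLC.gam m.toIdeal (E.X n).carrier ⊓ LinearMap.ker p :=
      ⟨sub_mem hz t.2.1, LinearMap.mem_ker.2 (by rw [map_sub]; exact sub_eq_zero.2 ht.symm)⟩
    rw [hbot, Submodule.mem_bot, sub_eq_zero] at h1
    rw [h1]
    exact t.2.2
  have hgam : ∀ k, GrLC.gam m.toIdeal (E.X (n + 1 + k)).carrier = ⊥ := by
    intro k
    induction k with
    | zero => exact gam_above hm hn E hmin0 hmin n le_rfl hsurj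
    | succ k ih =>
      refine gam_above hm hn E hmin0 hmin (n + 1 + k) (by omega) fun z hz => ?_
      rw [ih, Submodule.mem_bot] at hz
      rw [hz, map_zero]
  obtain ⟨k, rfl⟩ := Nat.exists_eq_add_of_lt hj
  rw [show n + k + 1 = n + 1 + k by omega, bassNum_eq_bassNum_ker E hmin0 hmin m]
  by_contra hne
  obtain ⟨-, z, hz⟩ := isAssociatedPrime_iff.1
    ((mem_associatedPrimes_iff_bassNum_zero (M := LinearMap.ker (E.d (n + 1 + k))) m.toIdeal).2 hne)
  have h1 : z.1 ∈ GrLC.gam m.toIdeal (E.X (n + 1 + k)).carrier := ⟨1, fun c hc => by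
    have h2 : c • z = 0 := (Submodule.mem_bot R).1 (Submodule.mem_colon_singleton.1 (hz ▸ by simpa using hc))
    exact congrArg Subtype.val h2⟩
  rw [hgam k, Submodule.mem_bot] at h1
  refine ‹m.toIdeal.IsPrime›.ne_top (eq_top_iff.2 fun c _ => hz ▸ ?_)
  rw [Submodule.mem_colon_singleton, Submodule.mem_bot, show z = 0 from Subtype.ext h1, smul_zero]

end General

section Int

variable {R : Type u} [CommRing R] [IsNoetherianRing R] {𝒜 : ℤ → AddSubgroup R} [GradedRing 𝒜]

omit [IsNoetherianRing R] in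
/-- Gorenstein at a prime gives Gorenstein below it -/
theorem isGorensteinLocalRing_of_le {q p : Ideal R} [q.IsPrime] [p.IsPrime] (hqp : q ≤ p)
    [LocCoh.IsGorensteinLocalRing (Localization.AtPrime p)] : LocCoh.IsGorensteinLocalRing (Localization.AtPrime q) := by
  let B := Localization.AtPrime p
  obtain ⟨k, hk⟩ := LocCoh.IsGorensteinLocalRing.exists_hasInjectiveDimensionLT (A := B)
  have hG := (Groth.L29.Gorenstein.finite_injdim_self_iff.1 ⟨k, hk⟩).1
  let q' := q.map (algebraMap R B)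
  haveI : q'.IsPrime := IsLocalization.isPrime_of_isPrime_disjoint p.primeCompl B q ‹q.IsPrime›
    (Set.disjoint_left.2 fun _ hx hxq => hx (hqp hxq))
  haveI := hG.isGorensteinLocalRing_localization q'
  have hcomap : q'.comap (algebraMap R B) = q :=
    IsLocalization.comap_map_of_isPrime_disjoint p.primeCompl B ‹q.IsPrime› (Set.disjoint_left.2 fun _ hx hxq => hx (hqp hxq))
  haveI : IsLocalization.AtPrime (Localization.AtPrime q') q := by
    have h := IsLocalization.isLocalization_isLocalization_atPrime_isLocalization p.primeCompl (Localization.AtPrime q') q'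
    exact IsLocalization.isLocalization_of_is_exists_mul_mem (M := (q'.comap (algebraMap R B)).primeCompl) _ _
      (fun x hx => by change x ∉ q; rw [← hcomap]; exact hx) fun ⟨x, hx⟩ => ⟨1, by
        change (1 : R) * x ∉ q'.comap (algebraMap R B); rw [one_mul, hcomap]; exact hx⟩
  exact Groth.L21.GorensteinAscend.isGorensteinLocalRing_of_ringEquiv
    (IsLocalization.algEquiv q.primeCompl (Localization.AtPrime q') (Localization.AtPrime q)).toRingEquiv inferInstance

theorem isGorensteinRing_of_starLocal {m : HomogeneousIdeal 𝒜} (hm : GrLC.IsStarLocal 𝒜 m) [m.toIdeal.IsPrime]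
    (hG : LocCoh.IsGorensteinLocalRing (Localization.AtPrime m.toIdeal)) : LocCoh.IsGorensteinRing R := by
  refine { isGorensteinLocalRing_localization := fun p hp => ?_ }
  haveI hq : (Ideal.homogeneousCore 𝒜 p).toIdeal.IsPrime := hp.homogeneousCore
  haveI : LocCoh.IsGorensteinLocalRing (Localization.AtPrime (Ideal.homogeneousCore 𝒜 p).toIdeal) :=
    isGorensteinLocalRing_of_le (p := m.toIdeal) (le_starLocal hm (Ideal.homogeneousCore 𝒜 p).isHomogeneous hq.ne_top)
  obtain ⟨N, hN⟩ := (Groth.Agent.S0340.result (Localization.AtPrime (Ideal.homogeneousCore 𝒜 p).toIdeal)).1 inferInstance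
  have hfin : (p.map (Ideal.Quotient.mk (Ideal.homogeneousCore 𝒜 p).toIdeal)) ≠ ⊤ := fun h => by
    have h1 := congrArg (Ideal.comap (Ideal.Quotient.mk (Ideal.homogeneousCore 𝒜 p).toIdeal)) h
    rw [Ideal.comap_map_of_surjective _ Ideal.Quotient.mk_surjective, ← RingHom.ker_eq_comap_bot, Ideal.mk_ker,
      sup_eq_left.2 (Ideal.toIdeal_homogeneousCore_le 𝒜 p), Ideal.comap_top] at h1
    exact hp.ne_top h1
  obtain ⟨d, hd⟩ := ENat.ne_top_iff_exists.1 (Ideal.height_ne_top hfin)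
  obtain ⟨⟨-, hshift⟩, -⟩ := exists_core (𝒜 := 𝒜) p d hd.symm R 𝒜
  refine (Groth.Agent.S0340.result (Localization.AtPrime p)).2 ⟨N + d, fun i hi => ?_⟩
  obtain ⟨j, rfl⟩ : ∃ j, i = j + d := ⟨i - d, by omega⟩
  have h0 : GrLC.bassNum (Ideal.homogeneousCore 𝒜 p).toIdeal R j = 0 :=
    Module.length_eq_zero_iff.2 (hN j (by omega))
  rw [← hshift j] at h0
  exact Module.length_eq_zero_iff.1 h0

theorem isGorenstein_iff_starInj_top [LocCoh.IsCohenMacaulayRing R] {m : HomogeneousIdeal 𝒜}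
    (hm : GrLC.IsStarLocal 𝒜 m) (n : ℕ) (hn : m.toIdeal.height = n) (I : GrLC.StarInjRes 𝒜 𝒜) :
    LocCoh.IsGorensteinRing R ↔ ∃ (X : GrLC.GMod.{u} 𝒜) (φ : I.H m n ≃ₗ[R] X.carrier),
      GrLC.IsStarInj 𝒜 X.gr ∧ GrLC.IsGrHom (I.Hgr m n) X.gr φ.toLinearMap := by
  haveI := starLocal_isPrime hm
  constructor
  · intro h
    obtain ⟨g₀, X, f, φ, hf, hφ⟩ := exists_top_hull hm n hn I
    exact ⟨X, φ, hf.starInj, hφ⟩
  · rintro ⟨X, φ, hX, hφ⟩
    refine isGorensteinRing_of_starLocal hm ?_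
    let A := Localization.AtPrime m.toIdeal
    haveI : LocCoh.IsCohenMacaulayLocalRing A := LocCoh.IsCohenMacaulayRing.isCohenMacaulayLocalRing_localization m.toIdeal
    have hlow : ∀ j < n, GrLC.bassNum m.toIdeal R j = 0 := by
      refine (le_depth_iff_bassNum m.toIdeal R n).1 (le_of_eq ?_)
      have h1 := LocCoh.IsCohenMacaulayLocalRing.supportDim_eq_depth (R := A)
      rw [Module.supportDim_self_eq_ringKrullDim, IsLocalization.AtPrime.ringKrullDim_eq_height m.toIdeal, hn] at h1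
      exact (WithBot.coe_inj.1 h1 :)
    refine (Groth.Agent.S0340.result A).2 ⟨n + 1, fun i hi => ?_⟩
    exact Module.length_eq_zero_iff.1 (bassNum_eq_zero_above hm hn hlow I φ hX hφ i hi)

end Int

end Groth.L12.GrLCLib
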