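import Groth.Agent.L12.GrLCIter
import Groth.Agent.L04.Depth

/-!
# Depth and Bass numbers
-/

set_option autoImplicit false

universe u

open CategoryTheory CategoryTheory.Abelian

namespace Groth.L12.GrLCLib

variable {R : Type u} [CommRing R] [IsNoetherianRing R] (p : Ideal R) [p.IsPrime]
  (M : Type u) [AddCommGroup M] [Module R M] [Module.Finite R M]

theorem le_depth_iff_bassNum (n : ℕ) :
    (n : ℕ∞) ≤ LocCoh.depth (Localization.AtPrime p) (LocalizedModule p.primeCompl M) ↔
      ∀ i < n, GrLC.bassNum p M i = 0 := by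
  rw [LocCoh.depth, Groth.L04.le_idealDepth_iff_extVanish]
  exact forall₂_congr fun i _ => (Module.length_eq_zero_iff
    (R := Localization.AtPrime p)
    (M := Ext (ModuleCat.of (Localization.AtPrime p) (IsLocalRing.ResidueField (Localization.AtPrime p)))
      (ModuleCat.of (Localization.AtPrime p) (LocalizedModule p.primeCompl M)) i)).symm

/-- shifting Bass numbers shifts depth -/
theorem depth_eq_add_of_bassNum_shift (P : Ideal R) [P.IsPrime] (d : ℕ) (hlow : ∀ i < d, GrLC.bassNum P M i = 0)
    (hshift : ∀ i, GrLC.bassNum P M (i + d) = GrLC.bassNum p M i) :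
    LocCoh.depth (Localization.AtPrime P) (LocalizedModule P.primeCompl M) =
      LocCoh.depth (Localization.AtPrime p) (LocalizedModule p.primeCompl M) + d := by
  refine ENat.eq_of_forall_natCast_le_iff fun n => ?_
  rw [le_depth_iff_bassNum]
  rcases le_or_gt n d with h | h
  · exact iff_of_true (fun i hi => hlow i (lt_of_lt_of_le hi h))
      (le_trans (by exact_mod_cast h) le_add_self)
  obtain ⟨k, rfl⟩ := Nat.exists_eq_add_of_le h.le
  rw [Nat.cast_add, add_comm (d : ℕ∞) (k : ℕ∞), ENat.add_le_add_iff_right (ENat.coe_ne_top d), le_depth_iff_bassNum]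
  constructor
  · intro H i hi
    rw [← hshift i]
    exact H _ (by omega)
  · intro H i hi
    rcases lt_or_ge i d with hid | hid
    · exact hlow i hid
    · obtain ⟨j, rfl⟩ := Nat.exists_eq_add_of_le hid
      rw [add_comm, hshift j]
      exact H j (by omega)

end Groth.L12.GrLCLib
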