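/-
Cohen–Macaulayness and Gorensteinness: quotients by regular elements, and graded rings checked at the star maximal ideal.
-/
import Groth.Agent.L12.GrLCIterDepth
import Groth.Agent.L12.GrLCGorCrit
import Groth.Agent.L04.CMLoc
import Groth.Agent.L04.Depth2
import Groth.Agent.L13.LiaisonCM
import Groth.Agent.L21.GorensteinQuotient
import Mathlib.RingTheory.KrullDimension.Regular

/-!
# Cohen–Macaulay graded rings
-/

set_option autoImplicit false

universe u

open DirectSum IsLocalRing
open scoped Pointwise

namespace Groth.L12.GrCMStar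

open Groth.L12.GrLCLib

/-- a Noetherian local ring is Cohen–Macaulay iff its quotient by a regular element is -/
theorem cm_quotient_iff (A : Type u) [CommRing A] [IsLocalRing A] [IsNoetherianRing A] (x : A)
    (hx : x ∈ maximalIdeal A) (hreg : IsSMulRegular A x) :
    LocCoh.IsCohenMacaulayLocalRing A ↔ LocCoh.IsCohenMacaulayLocalRing (A ⧸ Ideal.span {x}) := by
  have hne : Ideal.span {x} ≠ ⊤ := fun h => (maximalIdeal.isMaximal A).ne_top
    (top_le_iff.1 (h.ge.trans ((Ideal.span_singleton_le_iff_mem _).2 hx)))
  haveI : IsLocalRing (A ⧸ Ideal.span {x}) := Groth.L01.isLocalRing_quotient hne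
  have hdim := ringKrullDim_quotient_span_singleton_succ_eq_ringKrullDim hreg hx
  have hdepth : LocCoh.depth (A ⧸ Ideal.span {x}) (A ⧸ Ideal.span {x}) + 1 = LocCoh.depth A A := by
    have h1 := Groth.L04.idealDepth_quotSMulTop_add_one (I := maximalIdeal A) (M := A) hx hreg
    have hspan : (x • (⊤ : Submodule A A)) = Ideal.span {x} := by
      simp [← Submodule.ideal_span_singleton_smul]
    rw [Groth.L04.idealDepth_congr (Submodule.quotEquivOfEq _ _ hspan)] at h1
    rw [LocCoh.depth, show maximalIdeal (A ⧸ Ideal.span {x}) = (maximalIdeal A).map (algebraMap A (A ⧸ Ideal.span {x}))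
      from Groth.L01.maximalIdeal_quotient_eq_map,
      ← Groth.L04.idealDepth_eq_idealDepth_map_of_finite (B := A ⧸ Ideal.span {x}) (maximalIdeal A) (A ⧸ Ideal.span {x})]
    exact h1
  constructor
  · intro h
    refine { supportDim_eq_depth := ?_ }
    have h2 := h.supportDim_eq_depth
    rw [Module.supportDim_self_eq_ringKrullDim, ← hdim, ← hdepth, WithBot.coe_add, WithBot.coe_one] at h2
    rw [Module.supportDim_self_eq_ringKrullDim]
    obtain ⟨s, hs⟩ := WithBot.ne_bot_iff_exists.1 (ringKrullDim_ne_bot (R := A ⧸ Ideal.span {x}))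
    rw [← hs, ← WithBot.coe_one, ← WithBot.coe_add, ← WithBot.coe_add, WithBot.coe_inj] at h2
    rw [← hs, WithBot.coe_inj]
    exact ENat.add_left_injective_of_ne_top ENat.one_ne_top h2
  · intro h
    refine { supportDim_eq_depth := ?_ }
    have h2 := h.supportDim_eq_depth
    rw [Module.supportDim_self_eq_ringKrullDim] at h2
    rw [Module.supportDim_self_eq_ringKrullDim, ← hdim, ← hdepth, h2, WithBot.coe_add, WithBot.coe_one]

variable {R : Type u} [CommRing R] [IsNoetherianRing R]

/-- Cohen–Macaulay at a prime gives Cohen–Macaulay below it -/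
theorem cm_of_le {q p : Ideal R} [q.IsPrime] [p.IsPrime] (hqp : q ≤ p)
    (h : LocCoh.IsCohenMacaulayLocalRing (Localization.AtPrime p)) :
    LocCoh.IsCohenMacaulayLocalRing (Localization.AtPrime q) := by
  let B := Localization.AtPrime p
  haveI := h
  have hG := Groth.L04.isCohenMacaulayRing_of_local B
  let q' := q.map (algebraMap R B)
  haveI : q'.IsPrime := IsLocalization.isPrime_of_isPrime_disjoint p.primeCompl B q ‹q.IsPrime›
    (Set.disjoint_left.2 fun _ hx hxq => hx (hqp hxq))
  have hcm := hG.isCohenMacaulayLocalRing_localization q'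
  have hcomap : q'.comap (algebraMap R B) = q :=
    IsLocalization.comap_map_of_isPrime_disjoint p.primeCompl B ‹q.IsPrime› (Set.disjoint_left.2 fun _ hx hxq => hx (hqp hxq))
  haveI : IsLocalization.AtPrime (Localization.AtPrime q') q := by
    have h := IsLocalization.isLocalization_isLocalization_atPrime_isLocalization p.primeCompl (Localization.AtPrime q') q'
    exact IsLocalization.isLocalization_of_is_exists_mul_mem (M := (q'.comap (algebraMap R B)).primeCompl) _ _
      (fun x hx => by change x ∉ q; rw [← hcomap]; exact hx) fun ⟨x, hx⟩ => ⟨1, by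
        change (1 : R) * x ∉ q'.comap (algebraMap R B); rw [one_mul, hcomap]; exact hx⟩
  exact Groth.L13.LiaisonCM.cm_of_ringEquiv
    (IsLocalization.algEquiv q.primeCompl (Localization.AtPrime q') (Localization.AtPrime q)).toRingEquiv hcm

variable {𝒜 : ℤ → AddSubgroup R} [GradedRing 𝒜]

/-- a graded ring is Cohen–Macaulay once it is so at the star maximal ideal -/
theorem isCohenMacaulayRing_of_starLocal {m : HomogeneousIdeal 𝒜} (hm : GrLC.IsStarLocal 𝒜 m) [m.toIdeal.IsPrime]
    (hG : LocCoh.IsCohenMacaulayLocalRing (Localization.AtPrime m.toIdeal)) : LocCoh.IsCohenMacaulayRing R := by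
  refine { isCohenMacaulayLocalRing_localization := fun p hp => ?_ }
  haveI hq : (Ideal.homogeneousCore 𝒜 p).toIdeal.IsPrime := hp.homogeneousCore
  have hcm : LocCoh.IsCohenMacaulayLocalRing (Localization.AtPrime (Ideal.homogeneousCore 𝒜 p).toIdeal) :=
    cm_of_le (p := m.toIdeal) (le_starLocal hm (Ideal.homogeneousCore 𝒜 p).isHomogeneous hq.ne_top) hG
  have hfin : (p.map (Ideal.Quotient.mk (Ideal.homogeneousCore 𝒜 p).toIdeal)) ≠ ⊤ := fun h => by
    have h1 := congrArg (Ideal.comap (Ideal.Quotient.mk (Ideal.homogeneousCore 𝒜 p).toIdeal)) h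
    rw [Ideal.comap_map_of_surjective _ Ideal.Quotient.mk_surjective, ← RingHom.ker_eq_comap_bot, Ideal.mk_ker,
      sup_eq_left.2 (Ideal.toIdeal_homogeneousCore_le 𝒜 p), Ideal.comap_top] at h1
    exact hp.ne_top h1
  obtain ⟨d, hd⟩ := ENat.ne_top_iff_exists.1 (Ideal.height_ne_top hfin)
  obtain ⟨⟨hlow, hshift⟩, hheight⟩ := exists_core (𝒜 := 𝒜) p d hd.symm R 𝒜
  have huniv : ∀ x : PrimeSpectrum R, x ∈ Module.support R R := fun x => by
    rw [Module.mem_support_iff_of_finite]
    intro a ha
    have : a = 0 := by simpa using Module.mem_annihilator.1 ha 1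
    simp [this]
  obtain ⟨hQs, hht⟩ := hheight inferInstance (huniv _)
  let e : Module.support R R ≃o PrimeSpectrum R :=
    { toFun := Subtype.val, invFun := fun x => ⟨x, huniv x⟩, map_rel_iff' := Iff.rfl }
  have hh : p.height = (Ideal.homogeneousCore 𝒜 p).toIdeal.height + d := by
    rw [PrimeSpectrum.height_eq_orderHeight ⟨p, hp⟩,
      PrimeSpectrum.height_eq_orderHeight ⟨(Ideal.homogeneousCore 𝒜 p).toIdeal, hq⟩]
    have h1 := Order.height_orderIso e ⟨⟨p, hp⟩, huniv _⟩
    have h2 := Order.height_orderIso e ⟨⟨_, hq⟩, huniv _⟩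
    exact h1.trans (hht.trans (congrArg (· + (d : ℕ∞)) h2.symm))
  have hdep := depth_eq_add_of_bassNum_shift (Ideal.homogeneousCore 𝒜 p).toIdeal R p d hlow hshift
  rw [Groth.L04.depth_localizedModule_self, Groth.L04.depth_localizedModule_self] at hdep
  haveI : IsNoetherianRing (Localization.AtPrime p) := IsLocalization.isNoetherianRing p.primeCompl _ inferInstance
  refine { supportDim_eq_depth := ?_ }
  have h3 := hcm.supportDim_eq_depth
  rw [Module.supportDim_self_eq_ringKrullDim, IsLocalization.AtPrime.ringKrullDim_eq_height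
    (Ideal.homogeneousCore 𝒜 p).toIdeal, WithBot.coe_inj] at h3
  rw [Module.supportDim_self_eq_ringKrullDim, IsLocalization.AtPrime.ringKrullDim_eq_height p, hdep, hh, h3]

/-- CM and Gorenstein pass between a ring and its quotient by a regular element, prime by prime -/
theorem localization_quot_iff (u : R) (hu : IsSMulRegular R u) (Q : Ideal (R ⧸ Ideal.span {u})) [Q.IsPrime] :
    (LocCoh.IsCohenMacaulayLocalRing (Localization.AtPrime (Q.comap (Ideal.Quotient.mk (Ideal.span {u})))) ↔
      LocCoh.IsCohenMacaulayLocalRing (Localization.AtPrime Q)) ∧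
    (LocCoh.IsGorensteinLocalRing (Localization.AtPrime (Q.comap (Ideal.Quotient.mk (Ideal.span {u})))) ↔
      LocCoh.IsGorensteinLocalRing (Localization.AtPrime Q)) := by
  let P := Q.comap (Ideal.Quotient.mk (Ideal.span {u}))
  let A := Localization.AtPrime P
  obtain ⟨e⟩ := Groth.L13.LiaisonCM.nonempty_ringEquiv_localization_quotient (Ideal.span {u}) Q
  let x := algebraMap R A u
  have hmap : (Ideal.span {u}).map (algebraMap R A) = Ideal.span {x} := by
    rw [Ideal.map_span, Set.image_singleton]
  have huP : u ∈ P := by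
    show Ideal.Quotient.mk _ u ∈ Q
    rw [Ideal.Quotient.eq_zero_iff_mem.2 (Ideal.mem_span_singleton_self u)]
    exact zero_mem _
  have hxm : x ∈ maximalIdeal A := (IsLocalization.AtPrime.to_map_mem_maximal_iff A P u).2 huP
  have hxr : IsSMulRegular A x := by
    intro a b hab
    obtain ⟨⟨a', s⟩, ha⟩ := IsLocalization.surj P.primeCompl a
    obtain ⟨⟨b', t⟩, hb⟩ := IsLocalization.surj P.primeCompl b
    dsimp only at ha hb
    simp only [smul_eq_mul] at hab
    have h1 : algebraMap R A (u * (a' * t)) = algebraMap R A (u * (b' * s)) := by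
      simp only [map_mul, ← ha, ← hb]
      linear_combination (algebraMap R A (t : R) * algebraMap R A (s : R)) * hab
    obtain ⟨c, hc⟩ := (IsLocalization.eq_iff_exists P.primeCompl A).1 h1
    have h2 : (c : R) * (a' * t) = c * (b' * s) := hu (by
      show u * ((c : R) * (a' * t)) = u * (c * (b' * s))
      rw [mul_left_comm, hc, mul_left_comm])
    have h3 := congrArg (algebraMap R A) h2
    simp only [map_mul, ← ha, ← hb] at h3
    have hcs := ((IsLocalization.map_units A c).mul (IsLocalization.map_units A s)).mul (IsLocalization.map_units A t)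
    exact hcs.mul_left_cancel (by linear_combination h3)
  let e' : A ⧸ Ideal.span {x} ≃+* Localization.AtPrime Q := (Ideal.quotEquivOfEq hmap.symm).trans e
  haveI : IsNoetherianRing A := IsLocalization.isNoetherianRing P.primeCompl _ inferInstance
  refine ⟨(cm_quotient_iff A x hxm hxr).trans
    ⟨Groth.L13.LiaisonCM.cm_of_ringEquiv e', Groth.L13.LiaisonCM.cm_of_ringEquiv e'.symm⟩,
    (Groth.L21.GorensteinQuotient.isGorensteinLocalRing_quotient_iff A x hxm
      (mem_nonZeroDivisors_iff_right.2 fun z hz => hxr (by simpa [mul_comm] using hz))).trans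
    ⟨Groth.L21.GorensteinAscend.isGorensteinLocalRing_of_ringEquiv e',
      Groth.L21.GorensteinAscend.isGorensteinLocalRing_of_ringEquiv e'.symm⟩⟩

/-- a star local ring with a regular element in the star maximal ideal has the properties of its quotient -/
theorem star_quot_iff {m : HomogeneousIdeal 𝒜} (hm : GrLC.IsStarLocal 𝒜 m) [m.toIdeal.IsPrime] (u : R)
    (hu : IsSMulRegular R u) (hum : u ∈ m.toIdeal) :
    (LocCoh.IsCohenMacaulayRing R ↔ LocCoh.IsCohenMacaulayRing (R ⧸ Ideal.span {u})) ∧
    (LocCoh.IsGorensteinRing R ↔ LocCoh.IsGorensteinRing (R ⧸ Ideal.span {u})) := by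
  have hle : Ideal.span {u} ≤ m.toIdeal := (Ideal.span_singleton_le_iff_mem _).2 hum
  let Q := m.toIdeal.map (Ideal.Quotient.mk (Ideal.span {u}))
  haveI : Q.IsPrime := Ideal.map_isPrime_of_surjective Ideal.Quotient.mk_surjective (by rwa [Ideal.mk_ker])
  have hQ : Q.comap (Ideal.Quotient.mk (Ideal.span {u})) = m.toIdeal := by
    rw [Ideal.comap_map_of_surjective _ Ideal.Quotient.mk_surjective, ← RingHom.ker_eq_comap_bot, Ideal.mk_ker,
      sup_eq_left.2 hle]
  constructor
  · constructor
    · intro h
      exact { isCohenMacaulayLocalRing_localization := fun P _ =>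
        ((localization_quot_iff u hu P).1).1 (h.isCohenMacaulayLocalRing_localization _) }
    · intro h
      refine isCohenMacaulayRing_of_starLocal hm ?_
      have key : ∀ (J : Ideal R) (hJp : J.IsPrime), J = m.toIdeal →
          LocCoh.IsCohenMacaulayLocalRing (@Localization.AtPrime _ _ J hJp) →
          LocCoh.IsCohenMacaulayLocalRing (Localization.AtPrime m.toIdeal) := by
        rintro J hJp rfl hJ
        exact hJ
      exact key _ _ hQ (((localization_quot_iff u hu Q).1).2 (h.isCohenMacaulayLocalRing_localization _))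
  · constructor
    · intro h
      exact { isGorensteinLocalRing_localization := fun P _ =>
        ((localization_quot_iff u hu P).2).1 (h.isGorensteinLocalRing_localization _) }
    · intro h
      refine isGorensteinRing_of_starLocal hm ?_
      have key : ∀ (J : Ideal R) (hJp : J.IsPrime), J = m.toIdeal →
          LocCoh.IsGorensteinLocalRing (@Localization.AtPrime _ _ J hJp) →
          LocCoh.IsGorensteinLocalRing (Localization.AtPrime m.toIdeal) := by
        rintro J hJp rfl hJ
        exact hJ
      exact key _ _ hQ (((localization_quot_iff u hu Q).2).2 (h.isGorensteinLocalRing_localization _))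

end Groth.L12.GrCMStar
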