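/-
The extended Rees algebra of a filtration on a local ring as a star local graded ring.
-/
import Groth.Prelude.Def_W4c2filtblowupsingRees
import Groth.Agent.L12.GrCMStar
import Mathlib.RingTheory.FiniteType
import Mathlib.RingTheory.Polynomial.Basic
import Mathlib.Algebra.Polynomial.Laurent

/-!
# Extended Rees algebras are star local
-/

set_option autoImplicit false

universe u

open DirectSum

noncomputable section

namespace Groth.L12.FiltReesExt

open Groth.L12.GrLCLib

variable {A : Type u} [CommRing A] (𝓕 : FiltBl.IdealFiltration A)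


instance instCommRingExtRees : CommRing ↥𝓕.extRees := 𝓕.extRees.toCommRing

/-- homogeneous pieces -/
def gpiece (n : ℤ) : AddSubgroup ↥𝓕.extRees where
  carrier := {f | ∀ i : ℤ, i ≠ n → (f : LaurentPolynomial A).coeff i = 0}
  zero_mem' := fun i _ => by simp
  add_mem' {p q} hp hq := fun i hi => by
    show ((p + q : ↥𝓕.extRees) : LaurentPolynomial A).coeff i = 0
    rw [Subalgebra.coe_add, AddMonoidAlgebra.coeff_add, Finsupp.add_apply, hp i hi, hq i hi, add_zero]
  neg_mem' {p} hp := fun i hi => by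
    show ((-p : ↥𝓕.extRees) : LaurentPolynomial A).coeff i = 0
    rw [Subalgebra.coe_neg, AddMonoidAlgebra.coeff_neg, Finsupp.neg_apply, hp i hi, neg_zero]

/-- a monomial -/
def mon (n : ℤ) (a : A) (ha : a ∈ 𝓕.F n.toNat) : ↥𝓕.extRees :=
  ⟨AddMonoidAlgebra.single n a, fun i => by
    rw [AddMonoidAlgebra.coeff_single, Finsupp.single_apply]
    split_ifs with h
    · subst h; exact ha
    · exact zero_mem _⟩

lemma coe_mon (n : ℤ) (a : A) (ha : a ∈ 𝓕.F n.toNat) :
    ((mon 𝓕 n a ha : ↥𝓕.extRees) : LaurentPolynomial A) = AddMonoidAlgebra.single n a := rfl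

lemma mon_mem (n : ℤ) (a : A) (ha : a ∈ 𝓕.F n.toNat) : mon 𝓕 n a ha ∈ gpiece 𝓕 n := fun i hi => by
  rw [coe_mon, AddMonoidAlgebra.coeff_single, Finsupp.single_eq_of_ne hi]

lemma eq_sum_mon (f : ↥𝓕.extRees) :
    f = ∑ n ∈ (f : LaurentPolynomial A).coeff.support, mon 𝓕 n ((f : LaurentPolynomial A).coeff n) (f.2 n) := by
  apply Subtype.ext
  rw [AddSubmonoidClass.coe_finsetSum]
  exact (AddMonoidAlgebra.sum_coeff_single (f : LaurentPolynomial A)).symm

/-- projections -/
def gpr (n : ℤ) : ↥𝓕.extRees →+ ↥𝓕.extRees where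
  toFun f := mon 𝓕 n ((f : LaurentPolynomial A).coeff n) (f.2 n)
  map_zero' := Subtype.ext (by simp [coe_mon])
  map_add' p q := Subtype.ext (by simp [coe_mon, AddMonoidAlgebra.single_add])

instance gradedMonoid_gpiece : SetLike.GradedMonoid (gpiece 𝓕) where
  one_mem := fun i hi => by
    show ((1 : ↥𝓕.extRees) : LaurentPolynomial A).coeff i = 0
    rw [OneMemClass.coe_one, AddMonoidAlgebra.one_def, AddMonoidAlgebra.coeff_single, Finsupp.single_eq_of_ne hi]
  mul_mem := fun a b p q hp hq i hi => by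
    classical
    show ((p * q : ↥𝓕.extRees) : LaurentPolynomial A).coeff i = 0
    rw [Subalgebra.coe_mul, AddMonoidAlgebra.coeff_mul]
    simp only [Finsupp.sum]
    refine Finset.sum_eq_zero fun x hx => Finset.sum_eq_zero fun y hy => ?_
    split_ifs with h
    · by_cases h1 : x = a
      · rw [hq y (fun h2 => hi (by rw [← h, h1, h2])), mul_zero]
      · rw [hp x h1, zero_mul]
    · rfl

lemma gpiece_isInternal : DirectSum.IsInternal (gpiece 𝓕) := by
  refine isInternal_of_pr _ (gpr 𝓕) (fun g p hp => ?_) (fun g h hgh p hp => ?_) fun p => ?_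
  · refine Subtype.ext (LaurentPolynomial.ext fun i => ?_)
    show (AddMonoidAlgebra.single g ((p : LaurentPolynomial A).coeff g)).coeff i = _
    rw [AddMonoidAlgebra.coeff_single, Finsupp.single_apply]
    split_ifs with hi
    · subst hi; rfl
    · exact (hp i (Ne.symm hi)).symm
  · refine Subtype.ext ?_
    show AddMonoidAlgebra.single h ((p : LaurentPolynomial A).coeff h) = 0
    rw [hp h (Ne.symm hgh), AddMonoidAlgebra.single_zero]
  · rw [eq_sum_mon 𝓕 p]
    exact sum_mem fun n _ => AddSubgroup.mem_iSup_of_mem n (mon_mem 𝓕 n _ _)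

instance decomposition_gpiece : DirectSum.Decomposition (gpiece 𝓕) :=
  (gpiece_isInternal 𝓕).chooseDecomposition

instance gradedRing_gpiece : GradedRing (gpiece 𝓕) where
  toDecomposition := decomposition_gpiece 𝓕
  toGradedMonoid := gradedMonoid_gpiece 𝓕

/-- the extended Rees algebra is of finite type over a filtration ring with finitely generated Rees algebra -/
theorem finiteType_extRees (hfg : Algebra.FiniteType A 𝓕.rees) : Algebra.FiniteType A ↥𝓕.extRees := by
  have hmem : ∀ f : 𝓕.rees, Polynomial.toLaurentAlg (f : Polynomial A) ∈ 𝓕.extRees := by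
    intro f
    rw [show (f : Polynomial A) = ∑ n ∈ (f : Polynomial A).support, Polynomial.monomial n ((f : Polynomial A).coeff n)
      from (f : Polynomial A).as_sum_support, map_sum]
    refine sum_mem fun n _ => ?_
    rw [Polynomial.toLaurentAlg_apply, Polynomial.toLaurent_C_mul_T]
    intro i
    rw [← LaurentPolynomial.single_eq_C_mul_T, AddMonoidAlgebra.coeff_single, Finsupp.single_apply]
    split_ifs with h
    · subst h; simpa using f.2 n
    · exact zero_mem _
  let ι : 𝓕.rees →ₐ[A] ↥𝓕.extRees := (Polynomial.toLaurentAlg.comp 𝓕.rees.val).codRestrict _ hmem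
  haveI := hfg
  haveI : Algebra.FiniteType A (Polynomial 𝓕.rees) :=
    Algebra.FiniteType.trans hfg (inferInstance : Algebra.FiniteType 𝓕.rees (Polynomial 𝓕.rees))
  let ψ : Polynomial 𝓕.rees →ₐ[A] ↥𝓕.extRees :=
    { Polynomial.eval₂RingHom ι.toRingHom 𝓕.u with
      commutes' := fun a => by
        show Polynomial.eval₂ ι.toRingHom 𝓕.u (algebraMap A (Polynomial 𝓕.rees) a) = _
        rw [IsScalarTower.algebraMap_apply A 𝓕.rees (Polynomial 𝓕.rees), Polynomial.algebraMap_eq, Polynomial.eval₂_C]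
        exact ι.commutes a }
  refine Algebra.FiniteType.of_surjective ψ fun f => ?_
  show f ∈ ψ.range
  rw [eq_sum_mon 𝓕 f]
  refine sum_mem fun n _ => ?_
  suffices hsuf : ∀ (a : A) (ha : a ∈ 𝓕.F n.toNat), mon 𝓕 n a ha ∈ ψ.range from hsuf _ _
  intro a ha
  rcases le_or_gt 0 n with hn | hn
  · obtain ⟨j, rfl⟩ : ∃ j : ℕ, n = (j : ℤ) := ⟨n.toNat, by omega⟩
    refine ⟨Polynomial.C ⟨Polynomial.monomial j a, fun i => ?_⟩, Subtype.ext ?_⟩
    · rw [Polynomial.coeff_monomial]
      split_ifs with h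
      · subst h; simpa using ha
      · exact zero_mem _
    · show ((Polynomial.eval₂ ι.toRingHom 𝓕.u (Polynomial.C _) : ↥𝓕.extRees) : LaurentPolynomial A) = _
      rw [Polynomial.eval₂_C]
      show Polynomial.toLaurentAlg (Polynomial.monomial j a) = _
      rw [Polynomial.toLaurentAlg_apply, Polynomial.toLaurent_C_mul_T, ← LaurentPolynomial.single_eq_C_mul_T]
      rfl
  · obtain ⟨j, rfl⟩ : ∃ j : ℕ, n = -(j : ℤ) := ⟨(-n).toNat, by omega⟩
    refine ⟨Polynomial.C (algebraMap A 𝓕.rees a) * Polynomial.X ^ j, Subtype.ext ?_⟩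
    show ((Polynomial.eval₂ ι.toRingHom 𝓕.u (Polynomial.C _ * Polynomial.X ^ j) : ↥𝓕.extRees) : LaurentPolynomial A) = _
    rw [Polynomial.eval₂_mul, Polynomial.eval₂_C, Polynomial.eval₂_X_pow, Subalgebra.coe_mul, Subalgebra.coe_pow]
    rw [show ((ι.toRingHom (algebraMap A 𝓕.rees a) : ↥𝓕.extRees) : LaurentPolynomial A) = LaurentPolynomial.C a from
      congrArg Subtype.val (ι.commutes a)]
    show LaurentPolynomial.C a * LaurentPolynomial.T (-1) ^ j = AddMonoidAlgebra.single (-(j : ℤ)) a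
    rw [LaurentPolynomial.T_pow, LaurentPolynomial.single_eq_C_mul_T]
    congr 2
    ring

lemma coe_u : ((𝓕.u : ↥𝓕.extRees) : LaurentPolynomial A) = LaurentPolynomial.T (-1) := rfl

/-- `T⁻¹` is regular -/
lemma u_regular : IsSMulRegular ↥𝓕.extRees 𝓕.u := fun p q h => Subtype.ext (by
  have h1 := congrArg Subtype.val h
  simp only [smul_eq_mul, Subalgebra.coe_mul, coe_u] at h1
  exact (LaurentPolynomial.isUnit_T (R := A) (-1)).mul_left_cancel h1)

lemma u_mem_gpiece : 𝓕.u ∈ gpiece 𝓕 (-1) := fun i hi => by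
  rw [coe_u, LaurentPolynomial.T_apply, if_neg (Ne.symm hi)]

/-- a filtration with trivial intersection has proper positive part -/
lemma F_one_ne_top [Nontrivial A] (hsep : ⨅ n, 𝓕.F n = ⊥) : 𝓕.F 1 ≠ ⊤ := fun h => by
  have hall : ∀ n, 𝓕.F n = ⊤ := fun n => by
    induction n with
    | zero => exact 𝓕.zero_eq
    | succ n ih =>
      refine eq_top_iff.2 (le_trans ?_ (𝓕.mul_le n 1))
      rw [ih, h, Ideal.top_mul]
  rw [iInf_congr hall, iInf_const] at hsep
  exact top_ne_bot hsep

variable [IsLocalRing A]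

/-- the star maximal ideal -/
def starMax (h1 : 𝓕.F 1 ≤ IsLocalRing.maximalIdeal A) : Ideal ↥𝓕.extRees where
  carrier := {f | (f : LaurentPolynomial A).coeff 0 ∈ IsLocalRing.maximalIdeal A}
  zero_mem' := by simp
  add_mem' {p q} hp hq := by
    show ((p + q : ↥𝓕.extRees) : LaurentPolynomial A).coeff 0 ∈ IsLocalRing.maximalIdeal A
    rw [Subalgebra.coe_add, AddMonoidAlgebra.coeff_add, Finsupp.add_apply]
    exact add_mem hp hq
  smul_mem' r p hp := by
    classical
    show ((r * p : ↥𝓕.extRees) : LaurentPolynomial A).coeff 0 ∈ IsLocalRing.maximalIdeal A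
    rw [Subalgebra.coe_mul, AddMonoidAlgebra.coeff_mul]
    simp only [Finsupp.sum]
    refine Submodule.sum_mem _ fun x _ => Submodule.sum_mem _ fun y _ => ?_
    split_ifs with h
    · rcases lt_trichotomy 0 x with hx | hx | hx
      · exact Ideal.mul_mem_right _ _ (h1 (𝓕.antitone (show 1 ≤ x.toNat by omega) (r.2 x)))
      · have hy : y = 0 := by omega
        subst hy
        exact Ideal.mul_mem_left _ _ hp
      · exact Ideal.mul_mem_left _ _ (h1 (𝓕.antitone (show 1 ≤ y.toNat by omega) (p.2 y)))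
    · exact zero_mem _

lemma starMax_isHomogeneous (h1 : 𝓕.F 1 ≤ IsLocalRing.maximalIdeal A) :
    (starMax 𝓕 h1).IsHomogeneous (gpiece 𝓕) := by
  intro g f hf
  by_cases hg : g = 0
  · subst hg
    have hcp : (DirectSum.decompose (gpiece 𝓕) f 0 : ↥𝓕.extRees) = gpr 𝓕 0 f := by
      refine Subtype.ext (LaurentPolynomial.ext fun i => ?_)
      show _ = (AddMonoidAlgebra.single (0 : ℤ) ((f : LaurentPolynomial A).coeff 0)).coeff i
      conv_lhs => rw [eq_sum_mon 𝓕 f]
      rw [DirectSum.decompose_sum, DFinsupp.finsetSum_apply, AddSubmonoidClass.coe_finsetSum,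
        AddSubmonoidClass.coe_finsetSum]
      rw [Finset.sum_eq_single 0]
      · rw [DirectSum.decompose_of_mem_same _ (mon_mem 𝓕 0 _ _)]
        rfl
      · intro n _ hn
        rw [DirectSum.decompose_of_mem_ne _ (mon_mem 𝓕 n _ _) hn]
        rfl
      · intro h0
        rw [Finsupp.notMem_support_iff] at h0
        rw [DirectSum.decompose_of_mem_same _ (mon_mem 𝓕 0 _ _), coe_mon, h0]
        simp
    rw [hcp]
    show (AddMonoidAlgebra.single (0 : ℤ) ((f : LaurentPolynomial A).coeff 0)).coeff 0 ∈ IsLocalRing.maximalIdeal A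
    rw [AddMonoidAlgebra.coeff_single, Finsupp.single_eq_same]
    exact hf
  · show ((DirectSum.decompose (gpiece 𝓕) f g : ↥𝓕.extRees) : LaurentPolynomial A).coeff 0 ∈ IsLocalRing.maximalIdeal A
    rw [(DirectSum.decompose (gpiece 𝓕) f g).2 0 (Ne.symm hg)]
    exact zero_mem _

/-- the star maximal ideal as a homogeneous ideal -/
def starMaxH (h1 : 𝓕.F 1 ≤ IsLocalRing.maximalIdeal A) : HomogeneousIdeal (gpiece 𝓕) :=
  ⟨starMax 𝓕 h1, starMax_isHomogeneous 𝓕 h1⟩

lemma starMax_ne_top (h1 : 𝓕.F 1 ≤ IsLocalRing.maximalIdeal A) : starMax 𝓕 h1 ≠ ⊤ := fun h => by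
  have h2 : (1 : ↥𝓕.extRees) ∈ starMax 𝓕 h1 := by rw [h]; trivial
  have h3 : ((1 : ↥𝓕.extRees) : LaurentPolynomial A).coeff 0 ∈ IsLocalRing.maximalIdeal A := h2
  rw [OneMemClass.coe_one, AddMonoidAlgebra.one_def, AddMonoidAlgebra.coeff_single, Finsupp.single_eq_same] at h3
  exact (IsLocalRing.maximalIdeal.isMaximal A).ne_top ((Ideal.eq_top_iff_one _).2 h3)

theorem starMax_isStarLocal (h1 : 𝓕.F 1 ≤ IsLocalRing.maximalIdeal A) :
    GrLC.IsStarLocal (gpiece 𝓕) (starMaxH 𝓕 h1) := by
  have hall : ∀ J : HomogeneousIdeal (gpiece 𝓕), J ≠ ⊤ → J ≤ starMaxH 𝓕 h1 := fun J hJ f hf => by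
    by_contra hc
    have hu : IsUnit ((f : LaurentPolynomial A).coeff 0) := by
      by_contra hu
      exact hc ((IsLocalRing.mem_maximalIdeal _).2 hu)
    obtain ⟨b, hb⟩ := hu.exists_left_inv
    refine hJ (HomogeneousIdeal.toIdeal_injective ((Ideal.eq_top_iff_one _).2 ?_))
    have h2 := J.toIdeal.mul_mem_left (algebraMap A ↥𝓕.extRees b) (J.isHomogeneous 0 hf)
    have e : algebraMap A ↥𝓕.extRees b * (DirectSum.decompose (gpiece 𝓕) f 0 : ↥𝓕.extRees) = 1 := by
      refine Subtype.ext ?_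
      rw [Subalgebra.coe_mul, Subalgebra.coe_algebraMap, OneMemClass.coe_one]
      have e0 : ((DirectSum.decompose (gpiece 𝓕) f 0 : ↥𝓕.extRees) : LaurentPolynomial A) =
          AddMonoidAlgebra.single 0 ((f : LaurentPolynomial A).coeff 0) := by
        refine LaurentPolynomial.ext fun i => ?_
        rw [AddMonoidAlgebra.coeff_single, Finsupp.single_apply]
        split_ifs with hi
        · subst hi
          have h3 : f - (DirectSum.decompose (gpiece 𝓕) f 0 : ↥𝓕.extRees) =
              f - cp (gpiece 𝓕) 0 f := rfl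
          have h4 : ∀ g : ↥𝓕.extRees, cp (gpiece 𝓕) 0 g = 0 → (g : LaurentPolynomial A).coeff 0 = 0 := by
            intro g hg
            obtain ⟨s, hs, -⟩ := exists_sum_cp (gpiece 𝓕) g
            rw [← hs, AddSubmonoidClass.coe_finsetSum, AddMonoidAlgebra.coeff_sum, Finsupp.finsetSum_apply]
            refine Finset.sum_eq_zero fun j _ => ?_
            by_cases hj : j = 0
            · subst hj; rw [hg]; simp
            · exact cp_mem (gpiece 𝓕) j g 0 (Ne.symm hj)
          have h5 := h4 (f - cp (gpiece 𝓕) 0 f) (by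
            rw [map_sub, cp_same _ (cp_mem (gpiece 𝓕) 0 f), sub_self])
          rw [Subalgebra.coe_sub, AddMonoidAlgebra.coeff_sub, Finsupp.sub_apply, sub_eq_zero] at h5
          exact h5.symm
        · exact (DirectSum.decompose (gpiece 𝓕) f 0).2 i (Ne.symm hi)
      rw [e0, LaurentPolynomial.algebraMap_apply, Algebra.algebraMap_self, RingHom.id_apply,
        ← LaurentPolynomial.single_eq_C, AddMonoidAlgebra.single_mul_single, add_zero, hb]
      rfl
    rwa [e] at h2
  have hne : starMaxH 𝓕 h1 ≠ ⊤ := fun h => starMax_ne_top 𝓕 h1 (congrArg HomogeneousIdeal.toIdeal h)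
  refine ⟨⟨hne, fun J hJ => by_contra fun hJt => hJ.not_ge (hall J hJt)⟩, fun J hJ => ?_⟩
  exact le_antisymm (hall J hJ.1) (by_contra fun hle => hne (hJ.2 _ (lt_of_le_of_ne (hall J hJ.1) fun e => hle e.ge)))

/-- Cohen–Macaulay and Gorenstein extended Rees algebras are detected by the associated graded ring -/
theorem extRees_iff [IsNoetherianRing A] (hfg : Algebra.FiniteType A 𝓕.rees) (hsep : ⨅ n, 𝓕.F n = ⊥) :
    (LocCoh.IsCohenMacaulayRing ↥𝓕.extRees ↔ LocCoh.IsCohenMacaulayRing 𝓕.Gr) ∧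
    (LocCoh.IsGorensteinRing ↥𝓕.extRees ↔ LocCoh.IsGorensteinRing 𝓕.Gr) := by
  haveI := finiteType_extRees 𝓕 hfg
  haveI : IsNoetherianRing ↥𝓕.extRees := Algebra.FiniteType.isNoetherianRing A ↥𝓕.extRees
  have h1 : 𝓕.F 1 ≤ IsLocalRing.maximalIdeal A := IsLocalRing.le_maximalIdeal (F_one_ne_top 𝓕 hsep)
  have hm := starMax_isStarLocal 𝓕 h1
  haveI : (starMaxH 𝓕 h1).toIdeal.IsPrime := starLocal_isPrime hm
  refine Groth.L12.GrCMStar.star_quot_iff hm 𝓕.u (u_regular 𝓕) ?_
  show ((𝓕.u : ↥𝓕.extRees) : LaurentPolynomial A).coeff 0 ∈ IsLocalRing.maximalIdeal A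
  rw [u_mem_gpiece 𝓕 0 (by omega)]
  exact zero_mem _

end Groth.L12.FiltReesExt

end
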