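/-
The extended Rees algebra away from the ideal of positive degree.
-/
import Groth.Agent.L12.FiltReesExt
import Groth.Agent.S2092
import Mathlib.RingTheory.Localization.Algebra
import Mathlib.RingTheory.Localization.LocalizationLocalization

/-!
# The punctured spectrum of the extended Rees algebra
-/

set_option autoImplicit false

universe u

noncomputable section

namespace Groth.L12.FiltReesExt

open Groth.L12.GrCMStar

/-- transfer of Cohen–Macaulayness through a localization -/
theorem cm_loc_iff {R S : Type u} [CommRing R] [CommRing S] [Algebra R S] (M : Submonoid R) [IsLocalization M S]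
    (p : Ideal S) [p.IsPrime] :
    LocCoh.IsCohenMacaulayLocalRing (Localization.AtPrime (p.comap (algebraMap R S))) ↔
      LocCoh.IsCohenMacaulayLocalRing (Localization.AtPrime p) := by
  haveI : IsLocalization.AtPrime (Localization.AtPrime p) (p.comap (algebraMap R S)) :=
    IsLocalization.isLocalization_isLocalization_atPrime_isLocalization M (Localization.AtPrime p) p
  let e := (IsLocalization.algEquiv (p.comap (algebraMap R S)).primeCompl
    (Localization.AtPrime (p.comap (algebraMap R S))) (Localization.AtPrime p)).toRingEquiv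
  exact ⟨Groth.L13.LiaisonCM.cm_of_ringEquiv e, Groth.L13.LiaisonCM.cm_of_ringEquiv e.symm⟩

/-- transfer of Cohen–Macaulayness through an isomorphism -/
theorem cm_equiv_iff {R S : Type u} [CommRing R] [CommRing S] (e : R ≃+* S) (p : Ideal S) [p.IsPrime] :
    LocCoh.IsCohenMacaulayLocalRing (Localization.AtPrime (p.comap e.toRingHom)) ↔
      LocCoh.IsCohenMacaulayLocalRing (Localization.AtPrime p) := by
  have H : (p.comap e.toRingHom).primeCompl.map e.toMonoidHom = p.primeCompl := by
    ext x
    constructor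
    · rintro ⟨y, hy, rfl⟩
      exact hy
    · intro hx
      exact ⟨e.symm x, fun h => hx (by simpa using h), e.apply_symm_apply x⟩
  let e' := IsLocalization.ringEquivOfRingEquiv (Localization.AtPrime (p.comap e.toRingHom))
    (Localization.AtPrime p) e H
  exact ⟨Groth.L13.LiaisonCM.cm_of_ringEquiv e', Groth.L13.LiaisonCM.cm_of_ringEquiv e'.symm⟩

/-- isomorphic Cohen–Macaulay rings -/
theorem cm_ring_of_equiv {R S : Type u} [CommRing R] [CommRing S] (e : R ≃+* S)
    [h : LocCoh.IsCohenMacaulayRing R] : LocCoh.IsCohenMacaulayRing S :=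
  haveI := isNoetherianRing_of_ringEquiv R e
  { isCohenMacaulayLocalRing_localization := fun p _ =>
      (cm_equiv_iff e p).1 (h.isCohenMacaulayLocalRing_localization _) }

/-- a prime of a polynomial ring over a Cohen–Macaulay point is Cohen–Macaulay -/
theorem cm_polynomial_at {A : Type u} [CommRing A] (P : Ideal (Polynomial A)) [P.IsPrime]
    (h : LocCoh.IsCohenMacaulayLocalRing (Localization.AtPrime (P.comap Polynomial.C))) :
    LocCoh.IsCohenMacaulayLocalRing (Localization.AtPrime P) := by
  let q := P.comap Polynomial.C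
  let B := Localization.AtPrime q
  haveI := h
  haveI := Groth.L04.isCohenMacaulayRing_of_local B
  haveI := Groth.Agent.S2092.result (R := B) 1
  haveI : LocCoh.IsCohenMacaulayRing (Polynomial B) :=
    cm_ring_of_equiv (MvPolynomial.uniqueAlgEquiv B (Fin 1)).toRingEquiv
  let pc := Submonoid.map Polynomial.C.toMonoidHom q.primeCompl
  letI : Algebra (Polynomial A) (Polynomial B) := Polynomial.algebra A B
  haveI : IsLocalization pc (Polynomial B) := Polynomial.isLocalization _ _
  have disj : Disjoint (pc : Set (Polynomial A)) (P : Set (Polynomial A)) := by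
    refine Set.disjoint_left.2 ?_
    rintro _ ⟨a, ha, rfl⟩ haP
    exact ha haP
  let P' := P.map (algebraMap (Polynomial A) (Polynomial B))
  haveI : P'.IsPrime := IsLocalization.isPrime_of_isPrime_disjoint pc _ _ ‹_› disj
  have hP : P'.comap (algebraMap (Polynomial A) (Polynomial B)) = P :=
    IsLocalization.comap_map_of_isPrime_disjoint pc _ ‹P.IsPrime› disj
  have key : ∀ (J : Ideal (Polynomial A)) (hJp : J.IsPrime), J = P →
      LocCoh.IsCohenMacaulayLocalRing (@Localization.AtPrime _ _ J hJp) →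
      LocCoh.IsCohenMacaulayLocalRing (Localization.AtPrime P) := by
    rintro J hJp rfl hJ
    exact hJ
  exact key _ _ hP ((cm_loc_iff pc P').2
    (LocCoh.IsCohenMacaulayRing.isCohenMacaulayLocalRing_localization P'))

open LaurentPolynomial in
/-- a prime of a Laurent polynomial ring over a Cohen–Macaulay point is Cohen–Macaulay -/
theorem cm_laurent_at {A : Type u} [CommRing A] (P : Ideal A[T;T⁻¹]) [P.IsPrime]
    (h : LocCoh.IsCohenMacaulayLocalRing (Localization.AtPrime (P.comap LaurentPolynomial.C))) :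
    LocCoh.IsCohenMacaulayLocalRing (Localization.AtPrime P) := by
  rw [← cm_loc_iff (R := Polynomial A) (Submonoid.powers (Polynomial.X : Polynomial A)) P]
  refine cm_polynomial_at _ ?_
  have key : ∀ (J : Ideal A) (hJp : J.IsPrime), J = P.comap LaurentPolynomial.C →
      LocCoh.IsCohenMacaulayLocalRing (@Localization.AtPrime _ _ J hJp) := by
    rintro J hJp rfl
    exact h
  refine key _ _ ?_
  rw [Ideal.comap_comap]
  congr 1
  refine RingHom.ext fun a => ?_
  simp [LaurentPolynomial.algebraMap_eq_toLaurent]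

variable {A : Type u} [CommRing A] (𝓕 : FiltBl.IdealFiltration A)

/-- inverting `T⁻¹` gives the Laurent polynomial ring -/
theorem isLocalization_powers_u :
    IsLocalization (Submonoid.powers 𝓕.u) (LaurentPolynomial A) where
  map_units := by
    rintro ⟨_, j, rfl⟩
    change IsUnit ((((𝓕.u : ↥𝓕.extRees) ^ j : ↥𝓕.extRees)) : LaurentPolynomial A)
    rw [SubmonoidClass.coe_pow]
    exact (LaurentPolynomial.isUnit_T (R := A) (-1)).pow j
  surj := by
    intro f
    obtain ⟨N, hN⟩ : ∃ N : ℕ, ∀ n ∈ f.coeff.support, n ≤ (N : ℤ) :=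
      ⟨f.coeff.support.sup Int.toNat, fun n hn => by
        have := Finset.le_sup (f := Int.toNat) hn
        omega⟩
    have hmem : f * LaurentPolynomial.T (-(N : ℤ)) ∈ 𝓕.extRees := fun i => by
      rcases le_or_gt i 0 with hi | hi
      · rw [Int.toNat_of_nonpos hi, 𝓕.zero_eq]; trivial
      · have h0 : (f * LaurentPolynomial.T (-(N : ℤ))).coeff i = f.coeff (i + N) := by
          conv_lhs => rw [LaurentPolynomial.T]
          rw [AddMonoidAlgebra.coeff_mul_single_eq_coeff_mul (i + N) (fun m _ => by omega), mul_one]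
        rw [h0, show f.coeff (i + N) = 0 from Finsupp.notMem_support_iff.1 fun h => by
          have := hN _ h
          omega]
        exact zero_mem _
    refine ⟨⟨⟨_, hmem⟩, ⟨_, N, rfl⟩⟩, ?_⟩
    change f * (((𝓕.u ^ N : ↥𝓕.extRees)) : LaurentPolynomial A) = f * LaurentPolynomial.T (-(N : ℤ))
    rw [SubmonoidClass.coe_pow, coe_u, LaurentPolynomial.T_pow]
    congr 2
    ring
  exists_of_eq := fun {x y} h => ⟨1, by rw [Subtype.ext (show (x : LaurentPolynomial A) = y from h)]⟩

/-- evaluation at `T = 1` -/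
def ev : ↥𝓕.extRees →ₐ[A] A :=
  (AddMonoidAlgebra.lift A A ℤ (1 : Multiplicative ℤ →* A)).comp 𝓕.extRees.val

lemma ev_eq (f : ↥𝓕.extRees) : ev 𝓕 f = (f : LaurentPolynomial A).coeff.sum fun _ a => a := by
  show AddMonoidAlgebra.lift A A ℤ (1 : Multiplicative ℤ →* A) (f : LaurentPolynomial A) = _
  rw [AddMonoidAlgebra.lift_apply]
  simp

lemma ev_surjective : Function.Surjective (ev 𝓕) := fun a => ⟨algebraMap A _ a, (ev 𝓕).commutes a⟩

lemma ev_u : ev 𝓕 𝓕.u = 1 := by
  rw [ev_eq, coe_u]
  show (AddMonoidAlgebra.single (-1 : ℤ) (1 : A)).coeff.sum _ = 1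
  rw [AddMonoidAlgebra.coeff_single, Finsupp.sum_single_index rfl]

/-- the kernel of evaluation at one -/
theorem ker_ev : RingHom.ker (ev 𝓕) = Ideal.span {𝓕.u - 1} := by
  classical
  refine le_antisymm (fun f hf => ?_) ?_
  · rw [RingHom.mem_ker, ev_eq] at hf
    set c := (f : LaurentPolynomial A).coeff with hc
    let g : ℤ → A := fun n => - ∑ i ∈ c.support.filter (fun i => n ≤ i), c i
    obtain ⟨N, hN⟩ : ∃ N : ℕ, ∀ n ∈ c.support, -(N : ℤ) ≤ n ∧ n ≤ (N : ℤ) :=
      ⟨c.support.sup Int.natAbs, fun n hn => by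
        have := Finset.le_sup (f := Int.natAbs) hn
        omega⟩
    have hgmem : ∀ n, g n ∈ 𝓕.F n.toNat := fun n => neg_mem (Submodule.sum_mem _ fun i hi =>
      𝓕.antitone (show n.toNat ≤ i.toNat by have := (Finset.mem_filter.1 hi).2; omega) (f.2 i))
    have hgsupp : ∀ n, g n ≠ 0 → n ∈ Finset.Icc (-(N : ℤ)) N := by
      intro n hn
      rw [Finset.mem_Icc]
      by_contra hcon
      refine hn ?_
      rw [not_and_or, not_le, not_le] at hcon
      simp only [g, neg_eq_zero]
      rcases hcon with h | h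
      · rw [Finset.filter_true_of_mem fun i hi => by have := (hN i hi).1; omega]
        exact hf
      · rw [Finset.filter_false_of_mem fun i hi => by have := (hN i hi).2; omega, Finset.sum_empty]
    let gF : ℤ →₀ A := Finsupp.onFinset (Finset.Icc (-(N : ℤ)) N) g hgsupp
    have hgR : (AddMonoidAlgebra.ofCoeff gF : LaurentPolynomial A) ∈ 𝓕.extRees := fun n => by
      show gF n ∈ _
      rw [Finsupp.onFinset_apply]
      exact hgmem n
    refine Ideal.mem_span_singleton.2 ⟨⟨_, hgR⟩, Subtype.ext ?_⟩
    rw [Subalgebra.coe_mul, Subalgebra.coe_sub, OneMemClass.coe_one, coe_u, sub_mul, one_mul]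
    refine LaurentPolynomial.ext fun n => ?_
    rw [AddMonoidAlgebra.coeff_sub, Finsupp.sub_apply, mul_comm]
    conv_rhs =>
      arg 1
      rw [LaurentPolynomial.T, AddMonoidAlgebra.coeff_mul_single_eq_coeff_mul (n + 1) (fun m _ => by omega), mul_one]
    show c n = gF (n + 1) - gF n
    rw [Finsupp.onFinset_apply, Finsupp.onFinset_apply]
    simp only [g]
    rw [sub_neg_eq_add, neg_add_eq_sub, eq_sub_iff_add_eq]
    by_cases hn : n ∈ c.support
    · have : c.support.filter (fun i => n ≤ i) = insert n (c.support.filter fun i => n + 1 ≤ i) := by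
        ext i
        simp only [Finset.mem_filter, Finset.mem_insert]
        constructor
        · rintro ⟨h1, h2⟩
          rcases eq_or_lt_of_le h2 with h | h
          · exact Or.inl h.symm
          · exact Or.inr ⟨h1, by omega⟩
        · rintro (rfl | ⟨h1, h2⟩)
          · exact ⟨hn, le_rfl⟩
          · exact ⟨h1, by omega⟩
      rw [this, Finset.sum_insert (by simp)]
    · rw [Finsupp.notMem_support_iff.1 hn, zero_add]
      refine Finset.sum_congr (Finset.filter_congr fun i hi => ?_) fun _ _ => rfl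
      have hne : i ≠ n := fun h => hn (h ▸ hi)
      omega
  · rw [Ideal.span_le, Set.singleton_subset_iff, SetLike.mem_coe, RingHom.mem_ker, map_sub, ev_u, map_one, sub_self]

/-- `T⁻¹ - 1` is regular -/
theorem u_sub_one_regular : IsSMulRegular ↥𝓕.extRees (𝓕.u - 1) := by
  rw [isSMulRegular_iff_right_eq_zero_of_smul]
  intro f hf
  rw [smul_eq_mul] at hf
  have h1 := congrArg Subtype.val hf
  rw [Subalgebra.coe_mul, Subalgebra.coe_sub, OneMemClass.coe_one, coe_u, sub_mul, one_mul, ZeroMemClass.coe_zero, sub_eq_zero,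
    mul_comm] at h1
  refine Subtype.ext ?_
  by_contra h0
  set c := (f : LaurentPolynomial A).coeff with hc
  have hne : c.support.Nonempty := Finsupp.support_nonempty_iff.2 fun h => h0 (AddMonoidAlgebra.coeff_injective h)
  obtain ⟨n, hn, hmax⟩ := c.support.exists_max_image id hne
  have h2 := congrArg (fun p : LaurentPolynomial A => p.coeff n) h1
  simp only [LaurentPolynomial.T] at h2
  rw [AddMonoidAlgebra.coeff_mul_single_eq_coeff_mul (n + 1) (fun m _ => by omega), mul_one] at h2
  have h3 : c (n + 1) = 0 := Finsupp.notMem_support_iff.1 fun h => by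
    have := hmax _ h
    simp only [id] at this
    omega
  exact Finsupp.mem_support_iff.1 hn (h2.symm.trans h3)

/-- Cohen–Macaulayness away from the positive degree ideal -/
theorem punctured_iff [IsNoetherianRing A] (hfg : Algebra.FiniteType A 𝓕.rees)
    {G : Type u} [CommRing G] (φ : ↥𝓕.extRees →+* G) (hφ : Function.Surjective φ)
    (hker : RingHom.ker φ = Ideal.span {𝓕.u}) (Rp : Ideal 𝓕.extRees)
    (hRp : Rp = Ideal.span {x : 𝓕.extRees | ∃ n : ℕ, 0 < n ∧ ∃ a ∈ 𝓕.F n,
      (x : LaurentPolynomial A) = LaurentPolynomial.C a * LaurentPolynomial.T (n : ℤ)}) :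
    (∀ (P : Ideal 𝓕.extRees) [P.IsPrime], ¬ Rp ≤ P →
        LocCoh.IsCohenMacaulayLocalRing (Localization.AtPrime P)) ↔
      ((∀ (p : Ideal G) [p.IsPrime], ¬ Ideal.map φ Rp ≤ p →
          LocCoh.IsCohenMacaulayLocalRing (Localization.AtPrime p)) ∧
        (∀ (q : Ideal A) [q.IsPrime], ¬ 𝓕.F 1 ≤ q →
            LocCoh.IsCohenMacaulayLocalRing (Localization.AtPrime q))) := by
  haveI := finiteType_extRees 𝓕 hfg
  haveI : IsNoetherianRing ↥𝓕.extRees := Algebra.FiniteType.isNoetherianRing A _
  have key : ∀ (J J' : Ideal ↥𝓕.extRees) (hJp : J.IsPrime) (hJp' : J'.IsPrime), J = J' →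
      LocCoh.IsCohenMacaulayLocalRing (@Localization.AtPrime _ _ J hJp) →
      LocCoh.IsCohenMacaulayLocalRing (@Localization.AtPrime _ _ J' hJp') := by
    rintro J J' hJp hJp' rfl hJ
    exact hJ
  let e : (↥𝓕.extRees ⧸ Ideal.span {𝓕.u}) ≃+* G :=
    (Ideal.quotEquivOfEq hker.symm).trans (RingHom.quotientKerEquivOfSurjective hφ)
  have hG : ∀ (p : Ideal G) [p.IsPrime],
      (LocCoh.IsCohenMacaulayLocalRing (Localization.AtPrime p) ↔
        LocCoh.IsCohenMacaulayLocalRing (Localization.AtPrime (p.comap φ))) := by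
    intro p _
    have h1 := (cm_equiv_iff e p).symm.trans ((localization_quot_iff 𝓕.u (u_regular 𝓕) (p.comap e.toRingHom)).1).symm
    have hc : (p.comap e.toRingHom).comap (Ideal.Quotient.mk (Ideal.span {𝓕.u})) = p.comap φ := by
      rw [Ideal.comap_comap]
      congr 1
    exact h1.trans ⟨key _ _ _ _ hc, key _ _ _ _ hc.symm⟩
  constructor
  · intro h
    refine ⟨fun p _ hp => (hG p).2 (h _ fun hle => hp (Ideal.map_le_iff_le_comap.2 hle)), fun q _ hq => ?_⟩
    obtain ⟨a, haF, haq⟩ := SetLike.not_le_iff_exists.1 hq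
    let e1 : (↥𝓕.extRees ⧸ Ideal.span {𝓕.u - 1}) ≃+* A :=
      (Ideal.quotEquivOfEq (ker_ev 𝓕).symm).trans (RingHom.quotientKerEquivOfSurjective (ev_surjective 𝓕))
    refine ((cm_equiv_iff e1 q).1 ?_)
    refine ((localization_quot_iff (𝓕.u - 1) (u_sub_one_regular 𝓕) _).1).1 (h _ fun hle => haq ?_)
    have hx : (⟨AddMonoidAlgebra.single (1 : ℤ) a, (mon 𝓕 1 a (by simpa using haF)).2⟩ : ↥𝓕.extRees) ∈ Rp := by
      rw [hRp]
      refine Ideal.subset_span ⟨1, one_pos, a, haF, ?_⟩
      rw [← LaurentPolynomial.single_eq_C_mul_T]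
      rfl
    have h2 := hle hx
    change ev 𝓕 ⟨AddMonoidAlgebra.single (1 : ℤ) a, _⟩ ∈ q at h2
    rw [ev_eq, AddMonoidAlgebra.coeff_single, Finsupp.sum_single_index rfl] at h2
    exact h2
  · rintro ⟨hGp, hA⟩ P _ hP
    by_cases hu : 𝓕.u ∈ P
    · have hk : RingHom.ker φ ≤ P := by rw [hker, Ideal.span_singleton_le_iff_mem]; exact hu
      haveI : (P.map φ).IsPrime := Ideal.map_isPrime_of_surjective hφ hk
      have hc : (P.map φ).comap φ = P := by
        rw [Ideal.comap_map_of_surjective _ hφ, ← RingHom.ker_eq_comap_bot, sup_eq_left.2 hk]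
      refine key _ _ _ _ hc ((hG (P.map φ)).1 (hGp _ fun hle => hP ?_))
      rw [← hc]
      exact Ideal.map_le_iff_le_comap.1 hle
    · haveI := isLocalization_powers_u 𝓕
      have disj : Disjoint (Submonoid.powers 𝓕.u : Set ↥𝓕.extRees) (P : Set ↥𝓕.extRees) := by
        refine Set.disjoint_left.2 ?_
        rintro _ ⟨j, rfl⟩ hj
        exact hu (Ideal.IsPrime.mem_of_pow_mem ‹_› j hj)
      let P' := P.map (algebraMap ↥𝓕.extRees (LaurentPolynomial A))
      haveI : P'.IsPrime := IsLocalization.isPrime_of_isPrime_disjoint (Submonoid.powers 𝓕.u) _ _ ‹_› disj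
      have hc : P'.comap (algebraMap ↥𝓕.extRees (LaurentPolynomial A)) = P :=
        IsLocalization.comap_map_of_isPrime_disjoint (Submonoid.powers 𝓕.u) _ ‹P.IsPrime› disj
      refine key _ _ _ _ hc ((cm_loc_iff (Submonoid.powers 𝓕.u) P').2 (cm_laurent_at P' (hA _ ?_)))
      intro hle
      refine hP ?_
      rw [hRp, Ideal.span_le]
      rintro x ⟨n, hn, a, ha, hx⟩
      rw [SetLike.mem_coe, ← hc, Ideal.mem_comap]
      change (x : LaurentPolynomial A) ∈ P'
      rw [hx]
      exact P'.mul_mem_right _ (hle (𝓕.antitone (show 1 ≤ n by omega) ha))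

end Groth.L12.FiltReesExt

end
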