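import Groth.Agent.L12.GrLCVerH
import Groth.Agent.L12.GrLCDual
import Groth.Agent.L12.GrLCGorCrit
import Mathlib.RingTheory.Ideal.GoingUp

/-!
# Veronese subrings of Gorenstein rings
-/

set_option autoImplicit false

universe u

open DirectSum

namespace Groth.L12.GrLCLib

section Inverse

variable {ι : Type} [AddCommGroup ι] [DecidableEq ι]
variable {R : Type u} [CommRing R]
variable {A : Type u} [AddCommGroup A] [Module R A] {B : Type u} [AddCommGroup B] [Module R B]

/-- the inverse of a homogeneous bijection is homogeneous -/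
theorem grHom_symm (𝒳 : ι → AddSubgroup A) [DirectSum.Decomposition 𝒳] (𝒴 : ι → AddSubgroup B)
    [DirectSum.Decomposition 𝒴] (e : A ≃ₗ[R] B) (he : GrLC.IsGrHom 𝒳 𝒴 e.toLinearMap) :
    GrLC.IsGrHom 𝒴 𝒳 e.symm.toLinearMap := by
  intro g y hy
  have h1 : e (cp 𝒳 g (e.symm y)) = y := by
    have := cp_map 𝒳 𝒴 e.toLinearMap.toAddMonoidHom he g (e.symm y)
    refine this.symm.trans ?_
    change cp 𝒴 g (e (e.symm y)) = y
    rw [e.apply_symm_apply, cp_same 𝒴 hy]
  change e.symm y ∈ 𝒳 g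
  rw [← h1, e.symm_apply_apply]
  exact cp_mem 𝒳 g _

end Inverse

section Res

variable {ι : Type} [AddCommGroup ι] [DecidableEq ι] [Module.Free ℤ ι] [Module.Finite ℤ ι]
variable {R : Type u} [CommRing R] [IsNoetherianRing R] {𝒜 : ι → AddSubgroup R} [GradedRing 𝒜] {m : HomogeneousIdeal 𝒜}
variable {M : Type u} [AddCommGroup M] [Module R M] {ℳ : ι → AddSubgroup M} [DirectSum.Decomposition ℳ]
  [SetLike.GradedSMul 𝒜 ℳ]

omit [Module.Free ℤ ι] [Module.Finite ℤ ι] in
theorem gam_eq_bot_of_H (E : GrLC.StarInjRes 𝒜 ℳ)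
    (hmin0 : ∀ P : Submodule R (E.X 0).carrier, P.IsHomogeneous (E.X 0).gr → P ≠ ⊥ → P ⊓ LinearMap.range E.ε ≠ ⊥)
    (hmin : ∀ (n : ℕ) (P : Submodule R (E.X (n + 1)).carrier), P.IsHomogeneous (E.X (n + 1)).gr → P ≠ ⊥ →
      P ⊓ LinearMap.range (E.d n) ≠ ⊥) (j : ℕ) (h : ∀ i ≤ j, Subsingleton (E.H m i)) :
    GrLC.gam m.toIdeal (E.X j).carrier = ⊥ := by
  induction j with
  | zero =>
    by_contra hne
    obtain ⟨y, ⟨hy, hyd⟩, hy0⟩ := (Submodule.ne_bot_iff _).1
      (inf_ker_ne_bot E hmin0 hmin _ (gam_isHomogeneous 𝒜 (E.X 0).gr m) hne)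
    haveI := h 0 le_rfl
    have h1 : y ∈ E.cobdy m 0 := (Submodule.Quotient.mk_eq_zero ((E.cobdy m 0).comap (E.cocyc m 0).subtype)).1
      (Subsingleton.elim (E.toH m 0 ⟨y, hy, hyd⟩) 0)
    exact hy0 ((Submodule.mem_bot R).1 h1)
  | succ k ih =>
    by_contra hne
    obtain ⟨y, ⟨hy, hyd⟩, hy0⟩ := (Submodule.ne_bot_iff _).1
      (inf_ker_ne_bot E hmin0 hmin _ (gam_isHomogeneous 𝒜 (E.X (k + 1)).gr m) hne)
    haveI := h (k + 1) le_rfl
    have h1 : y ∈ E.cobdy m (k + 1) := (Submodule.Quotient.mk_eq_zero ((E.cobdy m (k + 1)).comap (E.cocyc m (k + 1)).subtype)).1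
      (Subsingleton.elim (E.toH m (k + 1) ⟨y, hy, hyd⟩) 0)
    obtain ⟨x, hx, rfl⟩ := h1
    rw [SetLike.mem_coe, ih fun i hi => h i (hi.trans k.le_succ), Submodule.mem_bot] at hx
    exact hy0 (by rw [hx, map_zero])

theorem bassNum_eq_zero_of_H (hm : GrLC.IsStarLocal 𝒜 m) [m.toIdeal.IsPrime] (F : GrLC.StarInjRes 𝒜 ℳ) (j : ℕ)
    (h : ∀ i ≤ j, Subsingleton (F.H m i)) : GrLC.bassNum m.toIdeal M j = 0 := by
  obtain ⟨E, hmin0, hmin⟩ := exists_minimal_res (𝒜 := 𝒜) ℳ
  have hE : ∀ i ≤ j, Subsingleton (E.H m i) := fun i hi => by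
    obtain ⟨e, -⟩ := exists_Hequiv m E F i
    haveI := h i hi
    exact e.toEquiv.subsingleton
  have hgam := gam_eq_bot_of_H E hmin0 hmin j hE
  rw [bassNum_eq_bassNum_ker E hmin0 hmin m]
  by_contra hne
  obtain ⟨-, z, hz⟩ := isAssociatedPrime_iff.1
    ((mem_associatedPrimes_iff_bassNum_zero (M := LinearMap.ker (E.d j)) m.toIdeal).2 hne)
  have h1 : z.1 ∈ GrLC.gam m.toIdeal (E.X j).carrier := ⟨1, fun c hc => by
    have h2 : c • z = 0 := (Submodule.mem_bot R).1 (Submodule.mem_colon_singleton.1 (hz ▸ by simpa using hc))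
    exact congrArg Subtype.val h2⟩
  rw [hgam, Submodule.mem_bot] at h1
  refine ‹m.toIdeal.IsPrime›.ne_top (eq_top_iff.2 fun c _ => hz ▸ ?_)
  rw [Submodule.mem_colon_singleton, Submodule.mem_bot, show z = 0 from Subtype.ext h1, smul_zero]

end Res

variable {R : Type u} [CommRing R] {𝒜 : ℤ → AddSubgroup R} [GradedRing 𝒜]
variable {R' : Type u} [CommRing R'] {𝒜' : ℤ → AddSubgroup R'} [GradedRing 𝒜'] [Algebra R' R] {q : ℕ}

attribute [local instance] verMod

local instance (X : GrLC.GMod.{u} 𝒜) : IsScalarTower R' R X.carrier :=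
  IsScalarTower.of_algebraMap_smul fun _ _ => rfl

/-- Veronese parts of duals are duals -/
theorem IsDual.ver {X : GrLC.GMod.{u} 𝒜} (hX : IsDual 𝒜 X.gr) (h : IsVer 𝒜 𝒜' q) :
    IsDual 𝒜' (verG X.gr h).gr := by
  have hneg : ∀ j : ℤ, -j * (q : ℤ) = -(j * q) := fun j => neg_mul _ _
  refine ⟨fun j x hx hc => ?_, ?_, fun j lam hl hadd hsm => ?_⟩
  · refine Subtype.ext (hX.uniq (j * q) _ hx fun c hc' => ?_)
    obtain ⟨r, hr, rfl⟩ := h.surj (-j) c (by rwa [hneg])
    exact (algebraMap_smul R r _).trans (congrArg Subtype.val (hc r hr))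
  · obtain ⟨u, hu, hune, hline⟩ := hX.line
    refine ⟨(⟨u, mem_verSub_of_mem X.gr h (dvd_zero _) hu⟩ : verSub X.gr h), ?_, fun e => hune (congrArg Subtype.val e),
      fun y hy => ?_⟩
    · change u ∈ X.gr (0 * q); rw [zero_mul]; exact hu
    · obtain ⟨r, hr, hry⟩ := hline (Subtype.val (p := fun z => z ∈ verSub X.gr h) y) (by
        have h1 : Subtype.val (p := fun z => z ∈ verSub X.gr h) y ∈ X.gr ((0 : ℤ) * q) := hy
        rwa [zero_mul] at h1)
      obtain ⟨r', hr', rfl⟩ := h.surj 0 r (by rwa [zero_mul])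
      exact ⟨r', hr', Subtype.ext ((algebraMap_smul R r' u).symm.trans hry)⟩
  · classical
    let val : (verG X.gr h).carrier → X.carrier := fun z => Subtype.val (p := fun z => z ∈ verSub X.gr h) z
    let lamR : R → X.carrier := fun c => if hc : ∃ r ∈ 𝒜' (-j), algebraMap R' R r = c then val (lam hc.choose) else 0
    have hlamR : ∀ r ∈ 𝒜' (-j), lamR (algebraMap R' R r) = val (lam r) := fun r hr => by
      have hc : ∃ r' ∈ 𝒜' (-j), algebraMap R' R r' = algebraMap R' R r := ⟨r, hr, rfl⟩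
      simp only [lamR]
      rw [dif_pos hc, h.inj hc.choose_spec.2]
    obtain ⟨x, hx, hxc⟩ := hX.exist (j * q) lamR (fun c hc => by
      obtain ⟨r, hr, rfl⟩ := h.surj (-j) c (by rwa [hneg])
      rw [hlamR r hr]
      have h1 : val (lam r) ∈ X.gr ((0 : ℤ) * q) := hl r hr
      rwa [zero_mul] at h1) (fun a ha b hb => by
      obtain ⟨r, hr, rfl⟩ := h.surj (-j) a (by rwa [hneg])
      obtain ⟨s, hs, rfl⟩ := h.surj (-j) b (by rwa [hneg])
      rw [← map_add, hlamR r hr, hlamR s hs, hlamR _ (add_mem hr hs), hadd r hr s hs]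
      rfl) (fun z hz c hc => by
      obtain ⟨t, ht, rfl⟩ := h.surj 0 z (by rwa [zero_mul])
      obtain ⟨r, hr, rfl⟩ := h.surj (-j) c (by rwa [hneg])
      have htr : t * r ∈ 𝒜' (-j) := by have := SetLike.mul_mem_graded ht hr; rwa [zero_add] at this
      rw [← map_mul, hlamR _ htr, hlamR r hr, hsm t ht r hr, algebraMap_smul]
      rfl)
    refine ⟨(⟨x, mem_verSub_of_mem X.gr h (dvd_mul_left _ _) hx⟩ : verSub X.gr h), hx, fun r hr => Subtype.ext ?_⟩
    change r • x = val (lam r)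
    rw [← hlamR r hr, ← hxc _ (by have := h.mem _ r hr; rwa [hneg] at this), algebraMap_smul]

variable [IsNoetherianRing R]

omit [IsNoetherianRing R] in
theorem pos_ver (h : IsVer 𝒜 𝒜' q) (hpos : ∀ n : ℤ, n < 0 → 𝒜 n = ⊥) : ∀ j : ℤ, j < 0 → 𝒜' j = ⊥ := fun j hj =>
  (AddSubgroup.eq_bot_iff_forall _).2 fun r hr => h.inj (by
    have := h.mem j r hr
    rw [hpos _ (mul_neg_of_neg_of_pos hj (Int.natCast_pos.2 h.pos)), AddSubgroup.mem_bot] at this
    rw [this, map_zero])

omit [IsNoetherianRing R] in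
theorem isField_deg0_ver (h : IsVer 𝒜 𝒜' q) (h0 : IsField (GrLC.deg0 𝒜)) : IsField (GrLC.deg0 𝒜') := by
  let e : GrLC.deg0 𝒜' ≃+* GrLC.deg0 𝒜 := RingEquiv.ofBijective
    (((algebraMap R' R).comp (GrLC.deg0 𝒜').subtype).codRestrict (GrLC.deg0 𝒜) fun r => by
      have h0 := h.mem 0 _ r.2
      rw [zero_mul] at h0
      exact h0)
    ⟨fun _ _ e => Subtype.ext (h.inj (congrArg Subtype.val e)), fun y => by
      obtain ⟨r, hr, hry⟩ := h.surj 0 y.1 (by rw [zero_mul]; exact y.2)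
      exact ⟨⟨r, hr⟩, Subtype.ext hry⟩⟩
  exact MulEquiv.isField h0 e.toMulEquiv

/-- with a field in degree zero the irrelevant ideal is the *maximal ideal -/
theorem posIdeal_isStarLocal (hpos : ∀ n : ℤ, n < 0 → 𝒜 n = ⊥) (h0 : IsField (GrLC.deg0 𝒜)) :
    GrLC.IsStarLocal 𝒜 (posIdeal 𝒜) := by
  have hne : posIdeal 𝒜 ≠ ⊤ := fun h => by
    have h1 : (1 : R) ∈ (posIdeal 𝒜).toIdeal := by rw [h]; exact Submodule.mem_top
    have h2 : ∀ x ∈ (posIdeal 𝒜).toIdeal, cp 𝒜 0 x = 0 := by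
      intro x hx
      induction hx using Submodule.span_induction with
      | mem x hx =>
        obtain ⟨n, hn, hxn⟩ := Set.mem_iUnion₂.1 hx
        exact cp_ne 𝒜 hxn (ne_of_gt (show (0 : ℤ) < n from hn))
      | zero => exact map_zero _
      | add a b _ _ ha hb => rw [map_add, ha, hb, add_zero]
      | smul r a ha hb =>
        rw [smul_eq_mul, mul_comm, (cp_mul_trunc hpos (u := r) (g := 0) (fun d hd => by
          have := cp_mem 𝒜 d r; rwa [hpos d hd, AddSubgroup.mem_bot] at this) a).1, hb, zero_mul]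
    have h3 := h2 1 h1
    rw [cp_same 𝒜 (SetLike.one_mem_graded 𝒜)] at h3
    haveI := h0.nontrivial
    exact one_ne_zero (α := GrLC.deg0 𝒜) (Subtype.ext h3)
  have hall : ∀ J : HomogeneousIdeal 𝒜, J ≠ ⊤ → J ≤ posIdeal 𝒜 := fun J hJ x hx => by
    have hc : cp 𝒜 0 x = 0 := by
      by_contra hc
      obtain ⟨b, hb⟩ := h0.mul_inv_cancel (a := (⟨cp 𝒜 0 x, cp_mem 𝒜 0 x⟩ : GrLC.deg0 𝒜))
        (fun e => hc (congrArg Subtype.val e))
      have h1 : (1 : R) ∈ J.toIdeal := by
        rw [← show cp 𝒜 0 x * (b : R) = 1 from congrArg Subtype.val hb]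
        exact J.toIdeal.mul_mem_right _ (J.isHomogeneous 0 hx)
      exact hJ (HomogeneousIdeal.toIdeal_injective ((Ideal.eq_top_iff_one _).2 h1))
    have := sub_cp_zero_mem_posIdeal hpos x
    rwa [hc, sub_zero] at this
  refine ⟨⟨hne, fun J hJ => by_contra fun hJt => hJ.not_ge (hall J hJt)⟩, fun J hJ => ?_⟩
  exact le_antisymm (hall J hJ.1) (by_contra fun hle => hne (hJ.2 _ (lt_of_le_of_ne (hall J hJ.1) fun e => hle e.ge)))

theorem isIntegral_ver (h : IsVer 𝒜 𝒜' q) : Algebra.IsIntegral R' R :=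
  ⟨fun x => by
    induction x using induction_on_hom 𝒜 with
    | h0 => exact isIntegral_zero
    | ha a b ha hb => exact ha.add hb
    | hh g y hy =>
      have hpow : y ^ q ∈ 𝒜 (g * q) := by
        have := SetLike.pow_mem_graded q hy
        rwa [nsmul_eq_mul, mul_comm] at this
      obtain ⟨r, -, hr⟩ := h.surj g _ hpow
      exact IsIntegral.of_pow h.pos (hr ▸ isIntegral_algebraMap)⟩

omit [IsNoetherianRing R] in
/-- integral injective extensions preserve dimension -/
theorem ringKrullDim_eq_of_integral {A B : Type u} [CommRing A] [CommRing B] [Algebra A B] [Algebra.IsIntegral A B]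
    (hinj : Function.Injective (algebraMap A B)) : ringKrullDim A = ringKrullDim B := by
  refine le_antisymm ?_ (Order.krullDim_le_of_strictMono (PrimeSpectrum.comap (algebraMap A B)) fun P Q hPQ => ?_)
  · refine iSup_le fun s => ?_
    have H : ∀ P : PrimeSpectrum B, PrimeSpectrum.comap (algebraMap A B) P = s.head →
        ∃ t : LTSeries (PrimeSpectrum B), t.head = P ∧ t.length = s.length := by
      induction s using RelSeries.inductionOn with
      | singleton x => exact fun P _ => ⟨RelSeries.singleton _ P, rfl, rfl⟩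
      | cons p x hx ih =>
        intro P hP
        rw [RelSeries.head_cons] at hP
        have hlt : x < p.head := hx
        obtain ⟨Q, hQ, hQp, hQc⟩ := Ideal.exists_ideal_over_prime_of_isIntegral p.head.asIdeal P.asIdeal (by
          rw [← PrimeSpectrum.comap_asIdeal, hP]; exact hlt.le)
        obtain ⟨t, ht, htl⟩ := ih ⟨Q, hQp⟩ (PrimeSpectrum.ext hQc)
        have hPt : P < t.head := by
          rw [ht]
          refine lt_of_le_of_ne hQ fun e => hlt.ne ?_
          rw [← hP, e]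
          exact PrimeSpectrum.ext hQc
        exact ⟨t.cons P hPt, RelSeries.head_cons _ _ _, by simp [htl]⟩
    obtain ⟨Q, -, hQp, hQc⟩ := Ideal.exists_ideal_over_prime_of_isIntegral s.head.asIdeal (⊥ : Ideal B) (by
      rw [← RingHom.ker_eq_comap_bot, (RingHom.injective_iff_ker_eq_bot _).1 hinj]; exact bot_le)
    obtain ⟨t, -, ht⟩ := H ⟨Q, hQp⟩ (PrimeSpectrum.ext hQc)
    rw [← ht]
    exact Order.LTSeries.length_le_krullDim t
  · haveI := P.isPrime
    exact Ideal.IsIntegral.comap_lt_comap (A := B) hPQ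

/-- Veronese subrings of Gorenstein rings are Gorenstein when `q` divides the `a`-invariant -/
theorem isGorensteinRing_ver [LocCoh.IsGorensteinRing R] [LocCoh.IsCohenMacaulayRing R] (h : IsVer 𝒜 𝒜' q) (hpos : ∀ n : ℤ, n < 0 → 𝒜 n = ⊥)
    (h0 : IsField (GrLC.deg0 𝒜)) {m : HomogeneousIdeal 𝒜} (hm : GrLC.IsStarLocal 𝒜 m)
    (hmsp : m.toIdeal = Ideal.span (⋃ n ∈ Set.Ioi (0 : ℤ), (𝒜 n : Set R))) (n : ℕ) (hn : ringKrullDim R = n)
    (I : GrLC.StarInjRes 𝒜 𝒜) (a : ℤ) (ha : GrLC.endDeg (I.Hgr m n) = ((a : WithTop ℤ) : WithBot (WithTop ℤ)))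
    (hdvd : (q : ℤ) ∣ a) : LocCoh.IsGorensteinRing R' := by
  haveI := isNoetherianRing_ver h
  let m' := posIdeal 𝒜'
  have hm'sp : m'.toIdeal = Ideal.span (⋃ j ∈ Set.Ioi (0 : ℤ), (𝒜' j : Set R')) := rfl
  have hpos' := pos_ver h hpos
  have hm' := posIdeal_isStarLocal hpos' (isField_deg0_ver h h0)
  haveI := starLocal_isPrime hm'
  haveI := isIntegral_ver h
  have hn' : m'.toIdeal.height = n := by
    have h1 := ringKrullDim_eq_height_starLocal hpos' hm'
    rw [ringKrullDim_eq_of_integral h.inj, hn] at h1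
    exact_mod_cast h1.symm
  have hnm : m.toIdeal.height = n := by
    have h1 := ringKrullDim_eq_height_starLocal hpos hm
    rw [hn] at h1
    exact_mod_cast h1.symm
  obtain ⟨F⟩ := nonempty_starInjRes 𝒜' 𝒜'
  have gl : ∀ p, ∃ Θ : F.H m' p →ₛₗ[algebraMap R' R] I.H m p, Function.Injective Θ ∧
      ∀ j : ℤ, (F.Hgr m' p j).map (Θ : F.H m' p →+ I.H m p) = I.Hgr m p (j * q) := by
    let g : R' →ₛₗ[algebraMap R' R] R :=
      { toFun := algebraMap R' R, map_add' := map_add _, map_smul' := fun r x => map_mul _ r x }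
    refine fun p => exists_verH h hmsp hm'sp g h.inj (fun j => ?_) I F p
    ext y
    exact ⟨fun ⟨r, hr, e⟩ => e ▸ h.mem j r hr, fun hy => by
      obtain ⟨r, hr, e⟩ := h.surj j y hy
      exact ⟨r, hr, e⟩⟩
  have hvan : ∀ i < n, Subsingleton (F.H m' i) := fun i hi => by
    obtain ⟨Θ, hΘ, -⟩ := gl i
    haveI : Subsingleton (I.H m i) := subsingleton_of_forall_eq 0 fun z => by
      letI := (Hgr_isInternal m I i).chooseDecomposition
      refine eq_zero_of_cp (I.Hgr m i) fun g => ?_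
      have h1 := cp_mem (I.Hgr m i) g z
      rwa [van_below_dim hpos hm hn hi g I, AddSubgroup.mem_bot] at h1
    exact hΘ.subsingleton
  have hlow : ∀ j < n, GrLC.bassNum m'.toIdeal R' j = 0 := fun j hj =>
    bassNum_eq_zero_of_H hm' F j fun i hi => hvan i (lt_of_le_of_lt hi hj)
  -- the top cohomology
  obtain ⟨g₀, X, f, φ, hf, hφ⟩ := exists_top_hull hm n hnm I
  let W := shG 𝒜 X.gr g₀
  let f' : (R ⧸ m.toIdeal) →ₗ[R] W.carrier := f
  have hW : GrLC.IsStarInjHull 𝒜 (GrLC.quotGr 𝒜 m) W.gr f' :=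
    { injective := hf.injective
      grHom := fun i x hx => hf.grHom (i + g₀) x (by rw [add_sub_cancel_right]; exact hx)
      essential := fun P hP hne => by
        let P' : Submodule R X.carrier := P
        exact hf.essential P' (isHomogeneous_of_shG X.gr g₀ P' hP) hne
      starInj := starInj_shift hf.starInj g₀ }
  have hdual := isDual_of_hull hpos h0 hm hW
  letI := (Hgr_isInternal m I n).chooseDecomposition
  have hφ' := grHom_symm (I.Hgr m n) X.gr φ hφ
  have hga : g₀ = a := by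
    refine le_antisymm ?_ ?_
    · obtain ⟨u, hu, hune, -⟩ := hdual.line
      let u' : X.carrier := u
      have hu' : u' ∈ X.gr g₀ := by
        have h1 : u' ∈ X.gr (0 + g₀) := hu
        rwa [zero_add] at h1
      by_contra hlt
      have h1 : φ.symm u' ∈ I.Hgr m n g₀ := hφ' g₀ _ hu'
      rw [(endDeg_le_coe_iff (I.Hgr m n) a).1 ha.le g₀ (not_le.1 hlt), AddSubgroup.mem_bot] at h1
      exact hune ((LinearEquiv.map_eq_zero_iff φ.symm).1 h1)
    · have h1 : GrLC.endDeg (I.Hgr m n) ≤ ((g₀ : WithTop ℤ) : WithBot (WithTop ℤ)) := by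
        rw [endDeg_le_coe_iff]
        intro g hg
        refine (AddSubgroup.eq_bot_iff_forall _).2 fun x hx => φ.injective ?_
        rw [map_zero]
        let y : W.carrier := φ x
        have hy : y ∈ W.gr (g - g₀) := by
          change φ x ∈ X.gr (g - g₀ + g₀); rw [sub_add_cancel]; exact hφ g x hx
        exact hdual.uniq _ y hy fun c hc => by
          rw [hpos _ (show -(g - g₀) < 0 by omega), AddSubgroup.mem_bot] at hc
          rw [hc, zero_smul]
      rw [ha] at h1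
      exact_mod_cast h1
  obtain ⟨k, hk⟩ := hdvd
  obtain ⟨Θ, hΘ, hΘmap⟩ := gl n
  let V := verG W.gr h
  let val : F.H m' n → W.carrier := fun y => φ (Θ y)
  letI := (Hgr_isInternal m' F n).chooseDecomposition
  have hdeg : ∀ (j : ℤ) y, y ∈ F.Hgr m' n j → val y ∈ W.gr ((j - k) * q) := fun j y hy => by
    change φ (Θ y) ∈ X.gr ((j - k) * q + g₀)
    rw [show (j - k) * (q : ℤ) + g₀ = j * q by rw [hga, hk]; ring]
    exact hφ _ _ (hΘmap j ▸ AddSubgroup.mem_map_of_mem _ hy)
  have hfix : ∀ y, val y ∈ verSub W.gr h := fun y => by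
    induction y using induction_on_hom (F.Hgr m' n) with
    | h0 => rw [show val 0 = 0 by simp only [val, map_zero]; rfl]; exact zero_mem _
    | hh j z hz => exact mem_verSub_of_mem W.gr h (dvd_mul_left _ _) (hdeg j z hz)
    | ha b c hb hc => rw [show val (b + c) = val b + val c by simp only [val, map_add]; rfl]; exact add_mem hb hc
  let Ψ : F.H m' n →ₗ[R'] V.carrier :=
    { toFun := fun y => (⟨val y, hfix y⟩ : verSub W.gr h)
      map_add' := fun b c => Subtype.ext (by change val (b + c) = val b + val c; simp only [val, map_add]; rfl)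
      map_smul' := fun r y => Subtype.ext (by
        change φ (Θ (r • y)) = r • (φ (Θ y) : W.carrier)
        rw [map_smulₛₗ, map_smul]; rfl) }
  have hΨ : Function.Bijective Ψ := by
    refine ⟨fun b c e => hΘ (φ.injective (congrArg (Subtype.val (p := fun z => z ∈ verSub W.gr h)) e)), fun w => ?_⟩
    induction w using induction_on_hom V.gr with
    | h0 => exact ⟨0, map_zero _⟩
    | hh j z hz =>
      let x : X.carrier := Subtype.val (p := fun z => z ∈ verSub W.gr h) z
      have hx : x ∈ X.gr ((j + k) * q) := by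
        rw [show ((j + k) * (q : ℤ)) = j * q + g₀ by rw [hga, hk]; ring]
        exact hz
      obtain ⟨y, hy, hyx⟩ := AddSubgroup.mem_map.1 ((hΘmap (j + k)).ge (hφ' _ _ hx))
      refine ⟨y, Subtype.ext ?_⟩
      change φ (Θ y) = x
      exact (congrArg φ hyx).trans (φ.apply_symm_apply x)
    | ha b c hb hc =>
      obtain ⟨y, hy⟩ := hb
      obtain ⟨z, hz⟩ := hc
      exact ⟨y + z, by rw [map_add, hy, hz]⟩
  let V' := shG 𝒜' V.gr (-k)
  have hV' : GrLC.IsStarInj 𝒜' V'.gr := starInj_shift ((hdual.ver h).starInj (isField_deg0_ver h h0)) (-k)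
  let Ψe : F.H m' n ≃ₗ[R'] V'.carrier := LinearEquiv.ofBijective Ψ hΨ
  have hΨgr : GrLC.IsGrHom (F.Hgr m' n) V'.gr Ψe.toLinearMap := fun j y hy => by
    change val y ∈ W.gr ((j + -k) * q)
    rw [← sub_eq_add_neg]
    exact hdeg j y hy
  refine isGorensteinRing_of_starLocal hm' ((Groth.Agent.S0340.result _).2 ⟨n + 1, fun i hi => ?_⟩)
  exact Module.length_eq_zero_iff.1 (bassNum_eq_zero_above hm' hn' hlow F Ψe hV' hΨgr i hi)

end Groth.L12.GrLCLib
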