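/-
The section ring of a point on a curve: leading coefficients at the point and the Weierstrass semigroup.
-/
import Groth.Prelude.Def_W4c6gradedringsgwSect
import Groth.Agent.L26.FF.Weierstrass
import Groth.Agent.L26.FF.Closed
import Mathlib.Algebra.Module.SpanRank
import Mathlib.Algebra.MonoidAlgebra.Basic
import Mathlib.RingTheory.Ideal.Quotient.Operations

open WithZero Polynomial

namespace Groth.L12.GrSectLead

noncomputable section

open FunFld Groth.Agent.FF

variable {k K : Type*} [Field k] [Field K] [Algebra k K]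

/-- `L(nP)`. -/
abbrev Lp (P : Place k K) (n : ℤ) : Submodule k K := L (Finsupp.single P n)

lemma smul_single_one (P : Place k K) (n : ℤ) :
    n • (Finsupp.single P 1 : Divisor k K) = Finsupp.single P n := by
  simp

lemma L_smul_single (P : Place k K) (n : ℤ) :
    L (n • (Finsupp.single P 1 : Divisor k K)) = Lp P n := by
  rw [smul_single_one]

lemma val_le_of_mem {P : Place k K} {n : ℤ} {x : K} (hx : x ∈ Lp P n) : P.1 x ≤ exp n := by
  have h := hx P
  rwa [Finsupp.single_eq_same] at h

lemma val_le_one_of_mem {P Q : Place k K} {n : ℤ} {x : K} (hx : x ∈ Lp P n) (hQ : Q ≠ P) :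
    Q.1 x ≤ 1 := by
  have h := hx Q
  rwa [Finsupp.single_eq_of_ne hQ, exp_zero] at h

lemma mem_Lp {P : Place k K} {n : ℤ} {x : K} (h1 : P.1 x ≤ exp n)
    (h2 : ∀ Q : Place k K, Q ≠ P → Q.1 x ≤ 1) : x ∈ Lp P n := by
  intro Q
  by_cases hQ : Q = P
  · subst hQ; rwa [Finsupp.single_eq_same]
  · rw [Finsupp.single_eq_of_ne hQ, exp_zero]; exact h2 Q hQ

lemma Lp_mono (P : Place k K) {m n : ℤ} (h : m ≤ n) : Lp P m ≤ Lp P n := by
  apply L_mono
  exact Finsupp.single_le_single.2 h

lemma Lp_mul {P : Place k K} {m n : ℤ} {x y : K} (hx : x ∈ Lp P m) (hy : y ∈ Lp P n) :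
    x * y ∈ Lp P (m + n) := by
  have h := W4c6gradedringsgw.mul_mem_L hx hy
  rwa [← Finsupp.single_add] at h

lemma algebraMap_mem_Lp (P : Place k K) {n : ℤ} (hn : 0 ≤ n) (c : k) :
    algebraMap k K c ∈ Lp P n := by
  refine Lp_mono P hn ?_
  show algebraMap k K c ∈ L (Finsupp.single P 0)
  rw [Finsupp.single_zero]
  exact W4c6gradedringsgw.algebraMap_mem_L_zero c

lemma one_mem_Lp (P : Place k K) {n : ℤ} (hn : 0 ≤ n) : (1 : K) ∈ Lp P n := by
  simpa using algebraMap_mem_Lp P hn (1 : k)

lemma Lp_zero_eq (hK : IsFunctionField k K) (P : Place k K) {x : K} (hx : x ∈ Lp P 0) :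
    ∃ c : k, algebraMap k K c = x := by
  have h : x ∈ L (0 : Divisor k K) := by
    have := hx
    simp only [Lp, Finsupp.single_zero] at this
    exact this
  rw [L_zero hK] at h
  exact Submodule.mem_one.1 h

variable [IsAlgClosed k]

lemma Lp_one_le (hK : IsFunctionField k K) (hg : 1 ≤ genus k K) (P : Place k K) :
    Lp P 1 ≤ Lp P 0 := by
  have := finite_L hK.1 (Finsupp.single P (1 : ℤ))
  refine le_of_eq (Submodule.eq_of_le_of_finrank_le (Lp_mono P (by norm_num)) ?_).symm
  show ell (Finsupp.single P (1 : ℤ)) ≤ ell (Finsupp.single P (0 : ℤ))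
  rw [Finsupp.single_zero, ell_zero hK]
  apply ell_le_one_of_deg_le_one hK (by omega)
  rw [deg_single, deg_eq_one hK P]
  simp

/-- The value at `P`. -/
noncomputable def evP (hK : IsFunctionField k K) (P : Place k K) : P.O →ₐ[k] k :=
  ((AlgEquiv.ofBijective (Algebra.ofId k (IsLocalRing.ResidueField P.O))
    (residue_bijective_of_deg_one P (deg_eq_one hK P))).symm.toAlgHom).comp (resMap P)

lemma evP_eq_zero (hK : IsFunctionField k K) (P : Place k K) (z : P.O) :
    evP hK P z = 0 ↔ P.1 (z : K) < 1 := by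
  rw [← residue_eq_zero]
  exact map_eq_zero_iff ((AlgEquiv.ofBijective (Algebra.ofId k (IsLocalRing.ResidueField P.O))
    (residue_bijective_of_deg_one P (deg_eq_one hK P))).symm) (AlgEquiv.injective _)

/-- A uniformizer at `P`. -/
noncomputable def unif (P : Place k K) : K := (exists_val_eq P (-1)).choose

lemma unif_spec (P : Place k K) : unif P ≠ 0 ∧ P.1 (unif P) = exp (-1) :=
  (exists_val_eq P (-1)).choose_spec

lemma val_unif_pow (P : Place k K) (n : ℕ) : P.1 (unif P ^ n) = exp (-(n : ℤ)) := by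
  rw [map_pow, (unif_spec P).2, ← exp_nsmul]
  simp

lemma mul_unif_pow_mem {P : Place k K} {n : ℕ} {x : K} (hx : x ∈ Lp P n) :
    x * unif P ^ n ∈ P.O := by
  show P.1 _ ≤ 1
  rw [map_mul, val_unif_pow]
  refine (mul_le_mul' (val_le_of_mem hx) le_rfl).trans_eq ?_
  rw [← exp_add]
  simp

/-- The leading coefficient at `P` of an element of `L(nP)`. -/
noncomputable def lead (hK : IsFunctionField k K) (P : Place k K) (n : ℕ) :
    ↥(Lp P n) →ₗ[k] k :=
  (evP hK P).toLinearMap ∘ₗ
    { toFun := fun x => ⟨(x : K) * unif P ^ n, mul_unif_pow_mem x.2⟩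
      map_add' := fun a b => Subtype.ext (add_mul (a : K) b _)
      map_smul' := fun c a => Subtype.ext (by
        show (c • (a : K)) * unif P ^ n = algebraMap k K c * ((a : K) * unif P ^ n)
        rw [Algebra.smul_def, mul_assoc]) }

lemma lead_apply (hK : IsFunctionField k K) (P : Place k K) (n : ℕ) (x : ↥(Lp P n)) :
    lead hK P n x = evP hK P ⟨(x : K) * unif P ^ n, mul_unif_pow_mem x.2⟩ := rfl

lemma lead_eq_zero_iff (hK : IsFunctionField k K) (P : Place k K) (n : ℕ) (x : ↥(Lp P n)) :
    lead hK P n x = 0 ↔ (x : K) ∈ Lp P ((n : ℤ) - 1) := by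
  rw [lead_apply, evP_eq_zero]
  show P.1 ((x : K) * unif P ^ n) < 1 ↔ _
  rw [map_mul, val_unif_pow]
  constructor
  · intro h
    refine mem_Lp (le_exp_sub_one ?_) fun Q hQ => val_le_one_of_mem x.2 hQ
    have h2 := mul_lt_mul_of_pos_right h (exp_pos : (0 : WithZero (Multiplicative ℤ)) < exp (n : ℤ))
    rwa [mul_assoc, ← exp_add, neg_add_cancel, exp_zero, mul_one, one_mul] at h2
  · intro h
    refine lt_of_le_of_lt (mul_le_mul' (val_le_of_mem h) le_rfl) ?_
    rw [← exp_add, exp_lt_one']
    omega

lemma lead_mul (hK : IsFunctionField k K) (P : Place k K) {i j n : ℕ} (h : i + j = n)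
    (x : ↥(Lp P i)) (y : ↥(Lp P j)) (hxy : (x : K) * y ∈ Lp P n) :
    lead hK P n ⟨(x : K) * y, hxy⟩ = lead hK P i x * lead hK P j y := by
  rw [lead_apply, lead_apply, lead_apply, ← map_mul]
  congr 1
  apply Subtype.ext
  show (x : K) * y * unif P ^ n = (x * unif P ^ i) * (y * unif P ^ j)
  rw [← h, pow_add]
  ring

lemma lead_zero_algebraMap (hK : IsFunctionField k K) (P : Place k K) (c : k)
    (h : algebraMap k K c ∈ Lp P ((0 : ℕ) : ℤ)) :
    lead hK P 0 ⟨algebraMap k K c, h⟩ = c := by
  rw [lead_apply]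
  have : (⟨algebraMap k K c * unif P ^ 0, mul_unif_pow_mem h⟩ : P.O) = algebraMap k P.O c :=
    Subtype.ext (by simp; rfl)
  rw [this]
  simp

lemma lead_one_eq_zero (hK : IsFunctionField k K) (hg : 1 ≤ genus k K) (P : Place k K)
    (x : ↥(Lp P ((1 : ℕ) : ℤ))) : lead hK P 1 x = 0 := by
  rw [lead_eq_zero_iff]
  have := Lp_one_le hK hg P (show (x : K) ∈ Lp P 1 from x.2)
  simpa using this

/-! ### The semigroup -/

lemma mem_poleOrders_iff (hK : IsFunctionField k K) (P : Place k K) (n : ℕ) :
    n ∈ W4c6gradedringsgw.poleOrders P ↔ ∃ x : ↥(Lp P n), lead hK P n x = 1 := by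
  have hdef : n ∈ W4c6gradedringsgw.poleOrders P ↔
      ell (Finsupp.single P (n : ℤ)) = ell (Finsupp.single P ((n : ℤ) - 1)) + 1 := by
    simp only [W4c6gradedringsgw.poleOrders, Set.mem_ofPred_eq, smul_single_one]
  rw [hdef]
  have := finite_L hK.1 (Finsupp.single P (n : ℤ))
  have hker : LinearMap.ker (lead hK P n) =
      (Lp P ((n : ℤ) - 1)).comap (Lp P n).subtype := by
    ext x
    rw [LinearMap.mem_ker, lead_eq_zero_iff]
    rfl
  have hkr : Module.finrank k (LinearMap.ker (lead hK P n)) =
      ell (Finsupp.single P ((n : ℤ) - 1)) := by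
    rw [hker]
    exact (Submodule.comapSubtypeEquivOfLe (Lp_mono P (by omega))).finrank_eq
  have hrn := LinearMap.finrank_range_add_finrank_ker (lead hK P n)
  rw [hkr] at hrn
  change _ = ell (Finsupp.single P (n : ℤ)) at hrn
  constructor
  · intro h
    have h1 : Module.finrank k (LinearMap.range (lead hK P n)) = 1 := by omega
    have h2 : LinearMap.range (lead hK P n) = ⊤ :=
      Submodule.eq_top_of_finrank_eq (h1.trans (Module.finrank_self k).symm)
    exact LinearMap.range_eq_top.1 h2 1
  · rintro ⟨x, hx⟩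
    have h2 : LinearMap.range (lead hK P n) = ⊤ := LinearMap.range_eq_top.2 fun c =>
      ⟨c • x, by rw [map_smul, hx, smul_eq_mul, mul_one]⟩
    rw [h2, finrank_top, Module.finrank_self] at hrn
    omega

lemma lead_eq_zero_of_not_mem (hK : IsFunctionField k K) (P : Place k K) {n : ℕ}
    (hn : n ∉ W4c6gradedringsgw.poleOrders P) (x : ↥(Lp P n)) : lead hK P n x = 0 := by
  by_contra h
  exact hn ((mem_poleOrders_iff hK P n).2 ⟨(lead hK P n x)⁻¹ • x, by
    rw [map_smul, smul_eq_mul, inv_mul_cancel₀ h]⟩)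

lemma zero_mem_poleOrders (hK : IsFunctionField k K) (P : Place k K) :
    0 ∈ W4c6gradedringsgw.poleOrders P :=
  (mem_poleOrders_iff hK P 0).2
    ⟨⟨algebraMap k K 1, algebraMap_mem_Lp P (by simp) 1⟩, lead_zero_algebraMap hK P 1 _⟩

lemma add_mem_poleOrders (hK : IsFunctionField k K) (P : Place k K) {a b : ℕ}
    (ha : a ∈ W4c6gradedringsgw.poleOrders P) (hb : b ∈ W4c6gradedringsgw.poleOrders P) :
    a + b ∈ W4c6gradedringsgw.poleOrders P := by
  obtain ⟨x, hx⟩ := (mem_poleOrders_iff hK P a).1 ha
  obtain ⟨y, hy⟩ := (mem_poleOrders_iff hK P b).1 hb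
  have hxy : (x : K) * y ∈ Lp P ((a + b : ℕ) : ℤ) := by
    push_cast; exact Lp_mul x.2 y.2
  refine (mem_poleOrders_iff hK P (a + b)).2 ⟨⟨(x : K) * y, hxy⟩, ?_⟩
  rw [lead_mul hK P rfl, hx, hy, one_mul]

lemma mem_poleOrders_of_le (hK : IsFunctionField k K) (hg : 1 ≤ genus k K) (P : Place k K)
    {n : ℕ} (hn : 2 * genus k K ≤ n) : n ∈ W4c6gradedringsgw.poleOrders P := by
  by_contra h
  have h1 : L (Finsupp.single P (n : ℤ)) =
      (L (Finsupp.single P ((n : ℤ) - 1)) : Submodule k K) := by
    refine le_antisymm (fun x hx => ?_) (Lp_mono P (by omega))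
    exact (lead_eq_zero_iff hK P n ⟨x, hx⟩).1 (lead_eq_zero_of_not_mem hK P h _)
  have := gap_le hK (p := n) (by omega) h1
  omega

lemma one_not_mem_poleOrders (hK : IsFunctionField k K) (hg : 1 ≤ genus k K) (P : Place k K) :
    1 ∉ W4c6gradedringsgw.poleOrders P := by
  intro h
  obtain ⟨x, hx⟩ := (mem_poleOrders_iff hK P 1).1 h
  rw [lead_one_eq_zero hK hg] at hx
  exact zero_ne_one hx

lemma closure_poleOrders (hK : IsFunctionField k K) (P : Place k K) :
    (AddSubmonoid.closure (W4c6gradedringsgw.poleOrders P) : Set ℕ) =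
      W4c6gradedringsgw.poleOrders P := by
  refine le_antisymm (fun n hn => ?_) AddSubmonoid.subset_closure
  exact (AddSubmonoid.closure_le (S :=
    { carrier := W4c6gradedringsgw.poleOrders P
      zero_mem' := zero_mem_poleOrders hK P
      add_mem' := add_mem_poleOrders hK P })).2 le_rfl hn

lemma minGens_finite (hK : IsFunctionField k K) (hg : 1 ≤ genus k K) (P : Place k K) :
    (W4c6gradedringsgw.minGens (W4c6gradedringsgw.poleOrders P)).Finite := by
  refine (Set.finite_Iic (4 * genus k K)).subset ?_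
  rintro h ⟨-, -, h3⟩
  by_contra hc
  rw [Set.mem_Iic] at hc
  exact h3 (2 * genus k K) (mem_poleOrders_of_le hK hg P le_rfl) (h - 2 * genus k K)
    (mem_poleOrders_of_le hK hg P (by omega)) (by omega) (by omega) (by omega)

/-! ### The section ring -/

variable (P : Place k K)

/-- The section ring of `P`. -/
abbrev Rg : Subalgebra k K[X] := W4c6gradedringsgw.sectRing (Finsupp.single P 1 : Divisor k K)

omit [IsAlgClosed k] in
lemma coeff_mem (p : Rg P) (n : ℕ) : (p : K[X]).coeff n ∈ Lp P n := by
  rw [← L_smul_single]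
  exact p.2 n

omit [IsAlgClosed k] in
lemma monomial_mem {n : ℕ} {x : K} (hx : x ∈ Lp P n) : monomial n x ∈ Rg P := by
  intro m
  rw [L_smul_single, coeff_monomial]
  split_ifs with h
  · subst h; exact hx
  · exact zero_mem _

/-- The monomial `x T^n`. -/
def mon (n : ℕ) (x : ↥(Lp P n)) : Rg P := ⟨monomial n (x : K), monomial_mem P x.2⟩

/-- The element `T`. -/
def Xel : Rg P := mon P 1 ⟨1, one_mem_Lp P (by simp)⟩

omit [IsAlgClosed k] in
lemma coe_Xel : ((Xel P : Rg P) : K[X]) = X := monomial_one_one_eq_X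

omit [IsAlgClosed k] in
lemma Xel_ne_zero : Xel P ≠ 0 := fun h => X_ne_zero (R := K) (by
  rw [← coe_Xel P, h]; rfl)

/-- The `n`-th coefficient. -/
noncomputable def cf (n : ℕ) : Rg P →ₗ[k] ↥(Lp P n) where
  toFun p := ⟨(p : K[X]).coeff n, coeff_mem P p n⟩
  map_add' p q := Subtype.ext (by simp)
  map_smul' c p := Subtype.ext (by simp)

variable {P}

/-- The leading coefficient of the `n`-th coefficient. -/
noncomputable def lc (hK : IsFunctionField k K) (n : ℕ) : Rg P →ₗ[k] k :=
  lead hK P n ∘ₗ cf P n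

lemma lc_of_coeff_eq_zero (hK : IsFunctionField k K) (n : ℕ) (p : Rg P)
    (h : (p : K[X]).coeff n = 0) : lc hK n p = 0 := by
  show lead hK P n (cf P n p) = 0
  rw [show cf P n p = 0 from Subtype.ext h, map_zero]

lemma lc_one (hK : IsFunctionField k K) (n : ℕ) :
    lc hK n (1 : Rg P) = if n = 0 then 1 else 0 := by
  split_ifs with h
  · subst h
    have := lead_zero_algebraMap hK P 1 (algebraMap_mem_Lp P (by simp) 1)
    convert this using 1
    show lead hK P 0 _ = _
    congr 1
    exact Subtype.ext (by simp [cf])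
  · exact lc_of_coeff_eq_zero hK n _ (by simp [coeff_one, h])

lemma lc_mul (hK : IsFunctionField k K) (n : ℕ) (p q : Rg P) :
    lc hK n (p * q) = ∑ x ∈ Finset.HasAntidiagonal.antidiagonal n, lc hK x.1 p * lc hK x.2 q := by
  have key : ∀ x ∈ Finset.HasAntidiagonal.antidiagonal n,
      (p : K[X]).coeff x.1 * (q : K[X]).coeff x.2 ∈ Lp P (n : ℤ) := fun x hx => by
    rw [← Finset.HasAntidiagonal.mem_antidiagonal.1 hx, Nat.cast_add]
    exact Lp_mul (coeff_mem P p _) (coeff_mem P q _)
  show lead hK P n (cf P n (p * q)) = _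
  have h1 : cf P n (p * q) = ∑ x ∈ (Finset.HasAntidiagonal.antidiagonal n).attach,
      (⟨_, key x.1 x.2⟩ : ↥(Lp P n)) := by
    apply Subtype.ext
    rw [AddSubmonoidClass.coe_finsetSum]
    show ((p * q : Rg P) : K[X]).coeff n = _
    rw [Subalgebra.coe_mul, coeff_mul]
    exact (Finset.sum_attach (Finset.HasAntidiagonal.antidiagonal n)
      (fun x => (p : K[X]).coeff x.1 * (q : K[X]).coeff x.2)).symm
  rw [h1, map_sum,
    ← Finset.sum_attach (Finset.HasAntidiagonal.antidiagonal n) (fun x => lc hK x.1 p * lc hK x.2 q)]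
  exact Finset.sum_congr rfl fun x _ =>
    lead_mul hK P (Finset.HasAntidiagonal.mem_antidiagonal.1 x.2) (cf P x.1.1 p) (cf P x.1.2 q) _

/-- The leading coefficients as a polynomial. -/
noncomputable def thFun (hK : IsFunctionField k K) (p : Rg P) : k[X] :=
  ∑ n ∈ Finset.range ((p : K[X]).natDegree + 1), monomial n (lc hK n p)

lemma coeff_thFun (hK : IsFunctionField k K) (p : Rg P) (n : ℕ) :
    (thFun hK p).coeff n = lc hK n p := by
  rw [thFun, finsetSum_coeff]
  simp only [coeff_monomial]
  rw [Finset.sum_ite_eq']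
  split_ifs with h
  · rfl
  · rw [Finset.mem_range, Nat.lt_succ_iff, not_le] at h
    exact (lc_of_coeff_eq_zero hK n p (coeff_eq_zero_of_natDegree_lt h)).symm

/-- Reduction modulo `T`. -/
noncomputable def th (hK : IsFunctionField k K) : Rg P →ₐ[k] k[X] :=
  AlgHom.ofLinearMap
    { toFun := thFun hK
      map_add' := fun p q => Polynomial.ext fun n => by simp [coeff_thFun]
      map_smul' := fun c p => Polynomial.ext fun n => by simp [coeff_thFun] }
    (Polynomial.ext fun n => by simp [coeff_thFun, lc_one, coeff_one])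
    (fun p q => Polynomial.ext fun n => by
      show (thFun hK (p * q)).coeff n = (thFun hK p * thFun hK q).coeff n
      simp [coeff_thFun, coeff_mul, lc_mul])

lemma coeff_th (hK : IsFunctionField k K) (p : Rg P) (n : ℕ) :
    (th hK p).coeff n = lc hK n p := coeff_thFun hK p n

lemma lc_mon (hK : IsFunctionField k K) (n m : ℕ) (x : ↥(Lp P n)) :
    lc hK m (mon P n x) = if m = n then lead hK P n x else 0 := by
  split_ifs with h
  · subst h
    show lead hK P m (cf P m (mon P m x)) = _
    congr 1
    exact Subtype.ext (by simp [cf, mon])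
  · exact lc_of_coeff_eq_zero hK m _ (by simp [mon, coeff_monomial, Ne.symm h])

lemma th_mon (hK : IsFunctionField k K) (n : ℕ) (x : ↥(Lp P n)) :
    th hK (mon P n x) = monomial n (lead hK P n x) := by
  ext m
  rw [coeff_th, lc_mon, coeff_monomial]
  simp [eq_comm]

lemma th_Xel (hK : IsFunctionField k K) (hg : 1 ≤ genus k K) : th hK (Xel P) = 0 := by
  rw [Xel, th_mon, lead_one_eq_zero hK hg, map_zero]

lemma ker_th (hK : IsFunctionField k K) (hg : 1 ≤ genus k K) :
    RingHom.ker (th (P := P) hK) = Ideal.span {Xel P} := by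
  refine le_antisymm (fun p hp => ?_) ?_
  · rw [RingHom.mem_ker] at hp
    have hl : ∀ n, lc hK n p = 0 := fun n => by rw [← coeff_th, hp, coeff_zero]
    have h0 : (p : K[X]).coeff 0 = 0 := by
      obtain ⟨c, hc⟩ := Lp_zero_eq hK P (coeff_mem P p 0)
      have := hl 0
      change lead hK P 0 (cf P 0 p) = 0 at this
      have e : cf P 0 p = ⟨algebraMap k K c, algebraMap_mem_Lp P (by simp) c⟩ :=
        Subtype.ext hc.symm
      rw [e, lead_zero_algebraMap] at this
      rw [← hc, this, map_zero]
    have hd : (p : K[X]).divX ∈ Rg P := fun n => by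
      rw [L_smul_single, coeff_divX]
      have := (lead_eq_zero_iff hK P (n + 1) (cf P (n + 1) p)).1 (hl (n + 1))
      simpa [cf] using this
    rw [Ideal.mem_span_singleton]
    refine ⟨⟨_, hd⟩, Subtype.ext ?_⟩
    rw [Subalgebra.coe_mul, coe_Xel]
    conv_lhs => rw [← X_mul_divX_add (p : K[X]), h0, map_zero, add_zero]
  · rw [Ideal.span_le, Set.singleton_subset_iff]
    exact th_Xel hK hg

variable (P)

/-- The semigroup algebra inside the polynomial ring. -/
noncomputable def iota : AddMonoidAlgebra k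
    ↥(AddSubmonoid.closure (W4c6gradedringsgw.poleOrders P)) →ₐ[k] k[X] :=
  (toFinsuppIsoAlg k).symm.toAlgHom.comp
    (AddMonoidAlgebra.mapDomainAlgHom k k
      (AddSubmonoid.closure (W4c6gradedringsgw.poleOrders P)).subtype)

omit [IsAlgClosed k] in
lemma iota_injective : Function.Injective (iota P) := by
  intro a b h
  exact AddMonoidAlgebra.mapDomain_injective (fun x y => Subtype.ext)
    ((toFinsuppIsoAlg k).symm.injective h)

omit [IsAlgClosed k] in
lemma iota_single (n : ↥(AddSubmonoid.closure (W4c6gradedringsgw.poleOrders P))) (c : k) :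
    iota P (AddMonoidAlgebra.single n c) = monomial (n : ℕ) c := by
  apply (toFinsuppIsoAlg k).injective
  show (toFinsuppIsoAlg k) ((toFinsuppIsoAlg k).symm (AddMonoidAlgebra.mapDomain _ _)) = _
  rw [AlgEquiv.apply_symm_apply, AddMonoidAlgebra.mapDomain_single]
  exact (toFinsupp_monomial _ _).symm

variable {P}

lemma range_th (hK : IsFunctionField k K) : (th (P := P) hK).range = (iota P).range := by
  refine le_antisymm ?_ ?_
  · rintro _ ⟨p, rfl⟩
    show th hK p ∈ (iota P).range
    rw [(th hK p).as_sum_support]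
    refine Subalgebra.sum_mem _ fun n hn => ?_
    rw [mem_support_iff, coeff_th] at hn
    have hmem : n ∈ W4c6gradedringsgw.poleOrders P := by
      by_contra h
      exact hn (lead_eq_zero_of_not_mem hK P h _)
    exact ⟨AddMonoidAlgebra.single ⟨n, AddSubmonoid.subset_closure hmem⟩ ((th hK p).coeff n),
      iota_single P _ _⟩
  · rintro _ ⟨f, rfl⟩
    show iota P f ∈ (th (P := P) hK).range
    induction f using AddMonoidAlgebra.induction_linear with
    | zero => simp
    | add a b ha hb => rw [map_add]; exact add_mem ha hb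
    | single n c =>
      have hmem : (n : ℕ) ∈ W4c6gradedringsgw.poleOrders P :=
        (Set.ext_iff.1 (closure_poleOrders hK P) _).1 n.2
      obtain ⟨x, hx⟩ := (mem_poleOrders_iff hK P _).1 hmem
      refine ⟨mon P n (c • x), ?_⟩
      show th hK (mon P n (c • x)) = _
      rw [th_mon, iota_single, map_smul, hx, smul_eq_mul, mul_one]

/-- `R/TR` is the semigroup algebra. -/
theorem quot_Xel (hK : IsFunctionField k K) (hg : 1 ≤ genus k K) :
    Nonempty ((↥(Rg P) ⧸ Ideal.span {Xel P}) ≃ₐ[k]
      AddMonoidAlgebra k ↥(AddSubmonoid.closure (W4c6gradedringsgw.poleOrders P))) :=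
  ⟨((Ideal.quotientEquivAlgOfEq k (ker_th (P := P) hK hg).symm).trans
    (Ideal.quotientKerEquivRange (th hK))).trans
    ((Subalgebra.equivOfEq _ _ (range_th hK)).trans
      (AlgEquiv.ofInjective (iota P) (iota_injective P)).symm)⟩

/-! ### The irrelevant ideal -/

/-- The irrelevant ideal. -/
abbrev irr (P : Place k K) : Ideal (Rg P) :=
  RingHom.ker (Polynomial.constantCoeff.comp (Rg P).val.toRingHom)

omit [IsAlgClosed k] in
lemma mem_irr {p : Rg P} : p ∈ irr P ↔ (p : K[X]).coeff 0 = 0 := by
  rw [RingHom.mem_ker]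
  rfl

omit [IsAlgClosed k] in
lemma mon_sub_mem {n : ℕ} (x : ↥(Lp P (n + 1 : ℕ))) (h : (x : K) ∈ Lp P n) :
    mon P (n + 1) x ∈ Ideal.span {Xel P} := by
  rw [Ideal.mem_span_singleton]
  refine ⟨mon P n ⟨_, h⟩, Subtype.ext ?_⟩
  rw [Subalgebra.coe_mul, coe_Xel]
  show monomial (n + 1) (x : K) = X * monomial n (x : K)
  rw [X_mul_monomial]

theorem spanFinrank_irr (hK : IsFunctionField k K) (hg : 1 ≤ genus k K) (P : Place k K) :
    (irr P).spanFinrank =
      (W4c6gradedringsgw.minGens (W4c6gradedringsgw.poleOrders P)).ncard + 1 := by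
  classical
  set M := W4c6gradedringsgw.minGens (W4c6gradedringsgw.poleOrders P) with hM
  have hMf : M.Finite := minGens_finite hK hg P
  haveI : Fintype M := hMf.fintype
  have hsel : ∀ h : M, ∃ x : ↥(Lp P (h : ℕ)), lead hK P (h : ℕ) x = 1 := fun h =>
    (mem_poleOrders_iff hK P _).1 h.2.1
  choose xs hxs using hsel
  set G : Set (Rg P) := insert (Xel P) (Set.range fun h : M => mon P (h : ℕ) (xs h)) with hG
  have hGsub : G ⊆ irr P := by
    rintro p (rfl | ⟨h, rfl⟩)
    · rw [SetLike.mem_coe, mem_irr, coe_Xel]; simp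
    · rw [SetLike.mem_coe, mem_irr]
      simp [mon, coeff_monomial, h.2.2.1]
  have hXG : Ideal.span {Xel P} ≤ Ideal.span G :=
    Ideal.span_mono (Set.singleton_subset_iff.2 (Set.mem_insert _ _))
  have hA : ∀ n : ℕ, n ∈ W4c6gradedringsgw.poleOrders P → n ≠ 0 →
      ∃ y : ↥(Lp P n), lead hK P n y = 1 ∧ mon P n y ∈ Ideal.span G := by
    intro n
    induction n using Nat.strong_induction_on with
    | _ n ih =>
      intro hn hn0
      by_cases hmin : n ∈ M
      · exact ⟨xs ⟨n, hmin⟩, hxs ⟨n, hmin⟩,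
          Ideal.subset_span (Set.mem_insert_of_mem _ ⟨⟨n, hmin⟩, rfl⟩)⟩
      · have : ∃ a ∈ W4c6gradedringsgw.poleOrders P, ∃ b ∈ W4c6gradedringsgw.poleOrders P,
            a ≠ 0 ∧ b ≠ 0 ∧ a + b = n := by
          by_contra hc
          exact hmin ⟨hn, hn0, fun a ha b hb ha0 hb0 hab => hc ⟨a, ha, b, hb, ha0, hb0, hab⟩⟩
        obtain ⟨a, ha, b, hb, ha0, hb0, rfl⟩ := this
        obtain ⟨y, hy, hyG⟩ := ih a (by omega) ha ha0
        obtain ⟨z, hz⟩ := (mem_poleOrders_iff hK P b).1 hb
        have hyz : (y : K) * z ∈ Lp P ((a + b : ℕ) : ℤ) := by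
          push_cast; exact Lp_mul y.2 z.2
        refine ⟨⟨(y : K) * z, hyz⟩, by rw [lead_mul hK P rfl, hy, hz, one_mul], ?_⟩
        have e : mon P (a + b) ⟨(y : K) * z, hyz⟩ = mon P a y * mon P b z :=
          Subtype.ext (monomial_mul_monomial a b _ _).symm
        rw [e]
        exact Ideal.mul_mem_right _ _ hyG
  have hB : ∀ n : ℕ, n ≠ 0 → ∀ x : ↥(Lp P n), mon P n x ∈ Ideal.span G := by
    intro n hn0 x
    obtain ⟨m, rfl⟩ : ∃ m, n = m + 1 := ⟨n - 1, by omega⟩
    have hsmall : ∀ z : ↥(Lp P (m + 1 : ℕ)), lead hK P (m + 1) z = 0 →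
        mon P (m + 1) z ∈ Ideal.span G := fun z hz =>
      hXG (mon_sub_mem z (by simpa using (lead_eq_zero_iff hK P (m + 1) z).1 hz))
    by_cases hn : m + 1 ∈ W4c6gradedringsgw.poleOrders P
    · obtain ⟨y, hy, hyG⟩ := hA _ hn hn0
      have e : mon P (m + 1) x = mon P (m + 1) (x - lead hK P (m + 1) x • y) +
          lead hK P (m + 1) x • mon P (m + 1) y := by
        apply Subtype.ext
        show monomial (m + 1) (x : K) = monomial (m + 1) (_ - _) + _ • monomial (m + 1) (y : K)
        rw [map_sub, smul_monomial]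
        simp
      rw [e]
      exact add_mem (hsmall _ (by rw [map_sub, map_smul, hy, smul_eq_mul, mul_one, sub_self]))
        (Submodule.smul_of_tower_mem _ _ hyG)
    · exact hsmall _ (lead_eq_zero_of_not_mem hK P hn _)
  have hspan : irr P = Ideal.span G := by
    refine le_antisymm (fun p hp => ?_) (Ideal.span_le.2 hGsub)
    have e : p = ∑ n ∈ (p : K[X]).support, mon P n (cf P n p) := by
      apply Subtype.ext
      rw [AddSubmonoidClass.coe_finsetSum]
      exact (p : K[X]).as_sum_support
    rw [e]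
    refine sum_mem fun n hn => hB n ?_ _
    rintro rfl
    exact mem_support_iff.1 hn (mem_irr.1 hp)
  refine le_antisymm ?_ ?_
  · rw [hspan]
    refine (Submodule.spanFinrank_span_le_ncard_of_finite
      ((Set.finite_range _).insert _)).trans ?_
    refine (Set.ncard_insert_le _ _).trans (Nat.add_le_add_right ?_ 1)
    rw [← Set.image_univ, ← Nat.card_coe_set_eq M]
    exact (Set.ncard_image_le (Set.toFinite _)).trans_eq (Set.ncard_univ _)
  · -- lower bound
    let φ : Rg P →ₗ[k] k × (M → k) :=
      LinearMap.prod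
        { toFun := fun p => lead hK P 0
            ⟨(p : K[X]).coeff 1, by
              simpa using Lp_one_le hK hg P (by simpa using coeff_mem P p 1)⟩
          map_add' := fun p q => by
            rw [← map_add]; congr 1
          map_smul' := fun c p => by
            rw [RingHom.id_apply, ← map_smul]; congr 1 }
        (LinearMap.pi fun h => lc hK (h : ℕ))
    have hφ : ∀ r p : Rg P, p ∈ irr P → φ (r * p) = (th hK r).coeff 0 • φ p := by
      intro r p hp
      rw [mem_irr] at hp
      refine Prod.ext ?_ (funext fun h => ?_)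
      · show lead hK P 0 _ = (th hK r).coeff 0 * lead hK P 0 _
        rw [coeff_th]
        obtain ⟨c, hc⟩ := Lp_zero_eq hK P (coeff_mem P r 0)
        have e : cf P 0 r = ⟨algebraMap k K c, algebraMap_mem_Lp P (by simp) c⟩ :=
          Subtype.ext hc.symm
        show _ = lead hK P 0 (cf P 0 r) * _
        rw [e, lead_zero_algebraMap]
        refine Eq.trans ?_ ((map_smul (lead hK P 0) c _).trans (smul_eq_mul _ _))
        congr 1
        apply Subtype.ext
        show ((r * p : Rg P) : K[X]).coeff 1 = c • (p : K[X]).coeff 1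
        rw [Subalgebra.coe_mul, coeff_mul, Finset.Nat.sum_antidiagonal_eq_sum_range_succ_mk,
          Finset.sum_range_succ, Finset.sum_range_one, Algebra.smul_def, hc]
        simp [hp]
      · show lc hK (h : ℕ) (r * p) = (th hK r).coeff 0 * lc hK (h : ℕ) p
        rw [lc_mul, coeff_th, Finset.sum_eq_single (0, (h : ℕ))]
        · rintro ⟨i, j⟩ hij hne
          rw [Finset.HasAntidiagonal.mem_antidiagonal] at hij
          rcases eq_or_ne j 0 with rfl | hj
          · rw [lc_of_coeff_eq_zero hK 0 p hp, mul_zero]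
          rcases eq_or_ne i 0 with rfl | hi
          · exact (hne (Prod.ext rfl ((zero_add j).symm.trans hij))).elim
          by_cases hi' : i ∈ W4c6gradedringsgw.poleOrders P
          · by_cases hj' : j ∈ W4c6gradedringsgw.poleOrders P
            · exact absurd hij (h.2.2.2 i hi' j hj' hi hj)
            · rw [show lc hK j p = 0 from lead_eq_zero_of_not_mem hK P hj' _, mul_zero]
          · rw [show lc hK i r = 0 from lead_eq_zero_of_not_mem hK P hi' _, zero_mul]
        · intro hn
          exact absurd (Finset.HasAntidiagonal.mem_antidiagonal.2 (zero_add _)) hn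
    obtain ⟨s, hscard, hs⟩ := Submodule.FG.exists_span_set_encard_eq_spanFinrank
      (p := irr P) (by rw [hspan]; exact Submodule.fg_span ((Set.finite_range _).insert _))
    have hsf : s.Finite := Set.finite_of_encard_eq_coe hscard
    have hT : ∀ p ∈ irr P, φ p ∈ Submodule.span k (φ '' s) := by
      intro p hp
      suffices p ∈ irr P ∧ φ p ∈ Submodule.span k (φ '' s) from this.2
      rw [← hs] at hp
      induction hp using Submodule.span_induction with
      | mem x hx => exact ⟨hs ▸ Submodule.subset_span hx, Submodule.subset_span ⟨x, hx, rfl⟩⟩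
      | zero => exact ⟨zero_mem _, by rw [map_zero]; exact zero_mem _⟩
      | add x y _ _ hx hy => exact ⟨add_mem hx.1 hy.1, by rw [map_add]; exact add_mem hx.2 hy.2⟩
      | smul r x _ hx =>
        exact ⟨Ideal.mul_mem_left _ _ hx.1, by
          rw [smul_eq_mul, hφ r x hx.1]; exact Submodule.smul_mem _ _ hx.2⟩
    have htop : Submodule.span k (φ '' s) = ⊤ := by
      rw [eq_top_iff]
      rintro ⟨a, f⟩ -
      have hf : (a, f) = a • φ (Xel P) + ∑ h : M, f h • φ (mon P (h : ℕ) (xs h)) := by
        have h1 : φ (Xel P) = (1, 0) := by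
          refine Prod.ext ?_ (funext fun h => ?_)
          · show lead hK P 0 _ = (1 : k)
            rw [← lead_zero_algebraMap hK P 1 (algebraMap_mem_Lp P (by simp) 1)]
            congr 1
            exact Subtype.ext (by simp [coe_Xel])
          · show lc hK (h : ℕ) (Xel P) = 0
            rw [Xel, lc_mon, if_neg]
            intro h1
            exact one_not_mem_poleOrders hK hg P (h1 ▸ h.2.1)
        have h2 : ∀ h : M, φ (mon P (h : ℕ) (xs h)) = (0, Pi.single h 1) := by
          intro h
          refine Prod.ext ?_ (funext fun h' => ?_)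
          · show lead hK P 0 _ = (0 : k)
            rw [← map_zero (lead hK P 0)]
            congr 1
            apply Subtype.ext
            show (monomial (h : ℕ) (xs h : K)).coeff 1 = 0
            rw [coeff_monomial, if_neg]
            intro h1
            exact one_not_mem_poleOrders hK hg P (h1 ▸ h.2.1)
          · show lc hK (h' : ℕ) (mon P (h : ℕ) (xs h)) = (Pi.single h (1 : k) : M → k) h'
            rw [lc_mon, Pi.single_apply, hxs]
            simp only [Subtype.coe_inj]
        simp only [h1, h2, Prod.smul_mk, smul_eq_mul, mul_one, smul_zero]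
        refine Prod.ext ?_ ?_
        · simp [Prod.fst_sum]
        · simp only [Prod.snd_add, Prod.snd_sum, zero_add]
          exact (Finset.univ_sum_single f).symm.trans
            (Finset.sum_congr rfl fun h _ => by
              rw [← Pi.single_smul, smul_eq_mul, mul_one])
      rw [hf]
      exact add_mem (Submodule.smul_mem _ _ (hT _ (hGsub (Set.mem_insert _ _))))
        (sum_mem fun h _ => Submodule.smul_mem _ _
          (hT _ (hGsub (Set.mem_insert_of_mem _ ⟨h, rfl⟩))))
    haveI : Fintype ↑(φ '' s) := (hsf.image φ).fintype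
    have hle := finrank_span_le_card (R := k) (φ '' s)
    rw [htop, finrank_top, Module.finrank_prod, Module.finrank_self, Module.finrank_fintype_fun_eq_card,
      Set.toFinset_card, ← Nat.card_eq_fintype_card, ← Nat.card_eq_fintype_card, Nat.card_coe_set_eq,
      Nat.card_coe_set_eq] at hle
    have hse : s.ncard = (irr P).spanFinrank := by
      rw [Set.ncard, hscard]; simp
    have := Set.ncard_image_le (f := φ) hsf
    omega

end

end Groth.L12.GrSectLead
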