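/-
The section ring of a point is Gorenstein iff the Weierstrass semigroup is symmetric.
-/
import Groth.Agent.L12.GrSectLead
import Groth.Agent.L12.GrLCGorCrit
import Groth.Agent.L12.GrLCVerGor
import Groth.Agent.L21.GorensteinQuotient
import Groth.Agent.L21.GorensteinFlat
import Mathlib.Algebra.Category.ModuleCat.Injective
import Mathlib.RingTheory.FiniteType

open WithZero Polynomial DirectSum

noncomputable section

namespace Groth.L12.GrSectLead

open FunFld Groth.Agent.FF

universe u

/-- An algebra of finite dimension with a nondegenerate functional is Gorenstein. -/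
theorem isGorensteinLocalRing_of_functional {k A : Type u} [Field k] [CommRing A] [IsLocalRing A]
    [Algebra k A] [Module.Finite k A] (ψ : A →ₗ[k] k)
    (hψ : ∀ a, (∀ b, ψ (a * b) = 0) → a = 0) : LocCoh.IsGorensteinLocalRing A := by
  haveI : IsNoetherianRing A := isNoetherian_of_tower k inferInstance
  haveI : Module.Injective A A := by
    refine Module.Baer.injective fun I g => ?_
    obtain ⟨lam, hlam⟩ := LinearMap.exists_extend (ψ ∘ₗ g.restrictScalars k : ↥(I.restrictScalars k) →ₗ[k] k)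
    let D : A →ₗ[k] Module.Dual k A := LinearMap.compr₂ (LinearMap.mul k A) ψ
    have hD : Function.Injective D :=
      (injective_iff_map_eq_zero D).2 fun a ha => hψ a fun b => LinearMap.congr_fun ha b
    obtain ⟨a, ha⟩ := (LinearMap.injective_iff_surjective_of_finrank_eq_finrank
      (Subspace.dual_finrank_eq (K := k) (V := A)).symm).1 hD lam
    refine ⟨LinearMap.toSpanSingleton A A a, fun x hx => sub_eq_zero.1 (hψ _ fun r => ?_)⟩
    have h2 := LinearMap.congr_fun hlam ⟨r * x, I.mul_mem_left r hx⟩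
    have h3 : ψ (a * (r * x)) = lam (r * x) := LinearMap.congr_fun ha (r * x)
    have h4 : g ⟨r * x, I.mul_mem_left r hx⟩ = r * g ⟨x, hx⟩ := by
      exact g.map_smul r ⟨x, hx⟩
    change lam (r * x) = ψ (g ⟨r * x, I.mul_mem_left r hx⟩) at h2
    rw [h4, ← h3] at h2
    rw [LinearMap.toSpanSingleton_apply, smul_eq_mul, sub_mul, map_sub, sub_eq_zero,
      mul_comm (g ⟨x, hx⟩) r, ← h2]
    congr 1
    ring
  haveI : CategoryTheory.Injective (ModuleCat.of A A) :=
    Module.injective_object_of_injective_module A A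
  exact { exists_hasInjectiveDimensionLT := ⟨1, inferInstance⟩ }

/-- Cutting down a local ring by a regular sequence of length two. -/
theorem gorenstein_localization_iff {R : Type u} [CommRing R] [IsNoetherianRing R] [IsDomain R]
    (m : Ideal R) [m.IsPrime] (X Y : R) (hX : X ∈ m) (hY : Y ∈ m) (hX0 : X ≠ 0)
    (hreg : ∀ r s : R, s ∉ m → X ∣ r * Y * s → X ∣ r)
    (hunit : ∀ s : R, s ∉ m → IsUnit (Ideal.Quotient.mk (Ideal.span {X, Y}) s)) :
    LocCoh.IsGorensteinLocalRing (Localization.AtPrime m) ↔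
      LocCoh.IsGorensteinLocalRing (R ⧸ Ideal.span {X, Y}) := by
  let B := Localization.AtPrime m
  let x : B := algebraMap R B X
  let y : B := algebraMap R B Y
  have hinj := IsLocalization.injective B (Ideal.primeCompl_le_nonZeroDivisors m)
  have hxm : x ∈ IsLocalRing.maximalIdeal B :=
    (IsLocalization.AtPrime.to_map_mem_maximal_iff B m _).2 hX
  have hym : y ∈ IsLocalRing.maximalIdeal B :=
    (IsLocalization.AtPrime.to_map_mem_maximal_iff B m _).2 hY
  haveI : IsDomain B := IsLocalization.isDomain_localization (Ideal.primeCompl_le_nonZeroDivisors _)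
  have hx0 : x ≠ 0 := fun h => hX0 (hinj (h.trans (map_zero _).symm))
  rw [Groth.L21.GorensteinQuotient.isGorensteinLocalRing_quotient_iff B x hxm
    (mem_nonZeroDivisors_of_ne_zero hx0)]
  haveI : Nontrivial (B ⧸ Ideal.span {x}) := Ideal.Quotient.nontrivial_iff.2 fun h =>
    (IsLocalRing.maximalIdeal.isMaximal B).ne_top
      (top_le_iff.1 (h.ge.trans ((Ideal.span_singleton_le_iff_mem _).2 hxm)))
  haveI : IsLocalRing (B ⧸ Ideal.span {x}) := .of_surjective' _ Ideal.Quotient.mk_surjective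
  let y1 : B ⧸ Ideal.span {x} := Ideal.Quotient.mk _ y
  have hy1m : y1 ∈ IsLocalRing.maximalIdeal (B ⧸ Ideal.span {x}) := by
    rw [← IsLocalRing.map_maximalIdeal_of_surjective (Ideal.Quotient.mk (Ideal.span {x}))
      Ideal.Quotient.mk_surjective]
    exact Ideal.mem_map_of_mem _ hym
  have hy1r : y1 ∈ nonZeroDivisors (B ⧸ Ideal.span {x}) := by
    rw [mem_nonZeroDivisors_iff_right]
    intro b hb
    obtain ⟨b, rfl⟩ := Ideal.Quotient.mk_surjective b
    rw [← map_mul, Ideal.Quotient.eq_zero_iff_mem, Ideal.mem_span_singleton] at hb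
    obtain ⟨z, hz⟩ := hb
    obtain ⟨⟨r, s⟩, hrs⟩ := IsLocalization.surj m.primeCompl b
    obtain ⟨⟨r', s'⟩, hrs'⟩ := IsLocalization.surj m.primeCompl z
    dsimp only at hrs hrs'
    have heq : r * Y * s' = X * (r' * s) := by
      apply hinj
      simp only [map_mul]
      rw [← hrs, ← hrs']
      linear_combination (algebraMap R B s * algebraMap R B s') * hz
    obtain ⟨w, rfl⟩ := hreg r s' s'.2 ⟨_, heq⟩
    rw [Ideal.Quotient.eq_zero_iff_mem, ← Ideal.mul_unit_mem_iff_mem _
      (IsLocalization.map_units B s), hrs, map_mul]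
    exact Ideal.mul_mem_right _ _ (Ideal.mem_span_singleton_self x)
  rw [Groth.L21.GorensteinQuotient.isGorensteinLocalRing_quotient_iff _ y1 hy1m hy1r]
  have hu : ∀ s : m.primeCompl, IsUnit (Ideal.Quotient.mk (Ideal.span {X, Y}) (s : R)) :=
    fun s => hunit s s.2
  let π : B →+* R ⧸ Ideal.span {X, Y} := IsLocalization.lift hu
  have hπc : π.comp (algebraMap R B) = Ideal.Quotient.mk _ := IsLocalization.lift_comp hu
  have hπs : Function.Surjective π := fun a => by
    obtain ⟨p, rfl⟩ := Ideal.Quotient.mk_surjective a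
    exact ⟨algebraMap _ B p, RingHom.congr_fun hπc p⟩
  have hkπ : RingHom.ker π = Ideal.span {x, y} := by
    have hmap : Ideal.span {x, y} = (Ideal.span {X, Y}).map (algebraMap R B) := by
      rw [Ideal.map_span, Set.image_pair]
    rw [hmap]
    refine le_antisymm (fun b hb => ?_) ?_
    · obtain ⟨⟨r, s⟩, hrs⟩ := IsLocalization.surj m.primeCompl b
      dsimp only at hrs
      rw [RingHom.mem_ker] at hb
      have h1 := congrArg π hrs
      rw [map_mul, hb, zero_mul] at h1
      have h2 : π (algebraMap R B r) = Ideal.Quotient.mk _ r := RingHom.congr_fun hπc r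
      rw [h2, eq_comm, Ideal.Quotient.eq_zero_iff_mem] at h1
      rw [← Ideal.mul_unit_mem_iff_mem _ (IsLocalization.map_units B s), hrs]
      exact Ideal.mem_map_of_mem _ h1
    · rw [Ideal.map_le_iff_le_comap]
      intro p hp
      rw [Ideal.mem_comap, RingHom.mem_ker]
      exact (RingHom.congr_fun hπc p).trans (Ideal.Quotient.eq_zero_iff_mem.2 hp)
  have hxk : Ideal.span {x} ≤ RingHom.ker π := by
    rw [hkπ]; exact Ideal.span_mono (Set.singleton_subset_iff.2 (Set.mem_insert _ _))
  let π1 : B ⧸ Ideal.span {x} →+* R ⧸ Ideal.span {X, Y} :=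
    Ideal.Quotient.lift _ π fun b hb => hxk hb
  have hπ1s : Function.Surjective π1 := fun a => by
    obtain ⟨b, rfl⟩ := hπs a
    exact ⟨Ideal.Quotient.mk _ b, rfl⟩
  have hk1 : RingHom.ker π1 = Ideal.span {y1} := by
    rw [Ideal.ker_quotient_lift, hkπ, Ideal.map_span, Set.image_pair,
      Ideal.Quotient.eq_zero_iff_mem.2 (Ideal.mem_span_singleton_self x), Ideal.span_insert_zero]
  let eq2 : (B ⧸ Ideal.span {x}) ⧸ Ideal.span {y1} ≃+* R ⧸ Ideal.span {X, Y} :=
    (Ideal.quotEquivOfEq hk1.symm).trans (RingHom.quotientKerEquivOfSurjective hπ1s)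
  exact ⟨Groth.L21.GorensteinAscend.isGorensteinLocalRing_of_ringEquiv eq2,
    Groth.L21.GorensteinAscend.isGorensteinLocalRing_of_ringEquiv eq2.symm⟩

variable {k K : Type u} [Field k] [IsAlgClosed k] [Field K] [Algebra k K]

omit [IsAlgClosed k] in
lemma coe_mon (P : Place k K) (n : ℕ) (x : ↥(Lp P n)) :
    ((mon P n x : Rg P) : K[X]) = monomial n (x : K) := rfl

omit [IsAlgClosed k] in
lemma eq_sum_mon (P : Place k K) (p : Rg P) :
    p = ∑ n ∈ (p : K[X]).support, mon P n (cf P n p) := by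
  apply Subtype.ext
  rw [AddSubmonoidClass.coe_finsetSum]
  exact (p : K[X]).as_sum_support

omit [IsAlgClosed k] in
lemma mon_add (P : Place k K) (n : ℕ) (x y : ↥(Lp P n)) :
    mon P n (x + y) = mon P n x + mon P n y :=
  Subtype.ext (map_add (monomial n) (x : K) (y : K))

omit [IsAlgClosed k] in
lemma mon_smul (P : Place k K) (n : ℕ) (c : k) (x : ↥(Lp P n)) :
    mon P n (c • x) = c • mon P n x :=
  Subtype.ext (smul_monomial c n (x : K)).symm

instance instCommRingRg (P : Place k K) : CommRing ↥(Rg P) := (Rg P).toCommRing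

/-! ### Finite type -/

lemma finiteType (hK : IsFunctionField k K) (hg : 1 ≤ genus k K) (P : Place k K) :
    Algebra.FiniteType k (Rg P) := by
  classical
  set M := W4c6gradedringsgw.minGens (W4c6gradedringsgw.poleOrders P) with hM
  haveI : Fintype M := (minGens_finite hK hg P).fintype
  have hsel : ∀ h : M, ∃ x : ↥(Lp P (h : ℕ)), lead hK P (h : ℕ) x = 1 := fun h =>
    (mem_poleOrders_iff hK P _).1 h.2.1
  choose xs hxs using hsel
  set G : Set (Rg P) := insert (Xel P) (Set.range fun h : M => mon P (h : ℕ) (xs h)) with hG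
  have hone : ∃ y : ↥(Lp P (0 : ℕ)), lead hK P 0 y = 1 ∧ mon P 0 y ∈ Algebra.adjoin k G :=
    ⟨⟨algebraMap k K 1, algebraMap_mem_Lp P (by simp) 1⟩, lead_zero_algebraMap hK P 1 _, by
      have : mon P 0 ⟨algebraMap k K 1, algebraMap_mem_Lp P (by simp) 1⟩ = 1 := Subtype.ext (by simp [mon])
      rw [this]; exact one_mem _⟩
  have hA : ∀ n : ℕ, n ∈ W4c6gradedringsgw.poleOrders P →
      ∃ y : ↥(Lp P n), lead hK P n y = 1 ∧ mon P n y ∈ Algebra.adjoin k G := by
    intro n
    induction n using Nat.strong_induction_on with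
    | _ n ih =>
      intro hn
      rcases eq_or_ne n 0 with rfl | hn0
      · exact hone
      by_cases hmin : n ∈ M
      · exact ⟨xs ⟨n, hmin⟩, hxs ⟨n, hmin⟩,
          Algebra.subset_adjoin (Set.mem_insert_of_mem _ ⟨⟨n, hmin⟩, rfl⟩)⟩
      · have : ∃ a ∈ W4c6gradedringsgw.poleOrders P, ∃ b ∈ W4c6gradedringsgw.poleOrders P,
            a ≠ 0 ∧ b ≠ 0 ∧ a + b = n := by
          by_contra hc
          exact hmin ⟨hn, hn0, fun a ha b hb ha0 hb0 hab => hc ⟨a, ha, b, hb, ha0, hb0, hab⟩⟩
        obtain ⟨a, ha, b, hb, ha0, hb0, rfl⟩ := this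
        obtain ⟨y, hy, hyG⟩ := ih a (by omega) ha
        obtain ⟨z, hz, hzG⟩ := ih b (by omega) hb
        have hyz : (y : K) * z ∈ Lp P ((a + b : ℕ) : ℤ) := by
          push_cast; exact Lp_mul y.2 z.2
        refine ⟨⟨(y : K) * z, hyz⟩, by rw [lead_mul hK P rfl, hy, hz, one_mul], ?_⟩
        rw [show mon P (a + b) ⟨(y : K) * z, hyz⟩ = mon P a y * mon P b z from
          Subtype.ext (monomial_mul_monomial a b _ _).symm]
        exact mul_mem hyG hzG
  have hB : ∀ (n : ℕ) (x : ↥(Lp P n)), mon P n x ∈ Algebra.adjoin k G := by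
    intro n
    induction n with
    | zero =>
      intro x
      obtain ⟨c, hc⟩ := Lp_zero_eq hK P x.2
      rw [show mon P 0 x = algebraMap k (Rg P) c from Subtype.ext (by
        show monomial 0 (x : K) = _
        rw [← hc, monomial_zero_left]
        rfl)]
      exact Subalgebra.algebraMap_mem _ c
    | succ m ih =>
      have hsmall : ∀ z : ↥(Lp P (m + 1 : ℕ)), lead hK P (m + 1) z = 0 →
          mon P (m + 1) z ∈ Algebra.adjoin k G := fun z hz => by
        have hz' : (z : K) ∈ Lp P (m : ℤ) := by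
          simpa using (lead_eq_zero_iff hK P (m + 1) z).1 hz
        rw [show mon P (m + 1) z = Xel P * mon P m ⟨_, hz'⟩ from Subtype.ext (by
          rw [Subalgebra.coe_mul, coe_Xel]
          exact (X_mul_monomial m (z : K)).symm)]
        exact mul_mem (Algebra.subset_adjoin (Set.mem_insert _ _)) (ih _)
      intro x
      by_cases hn : m + 1 ∈ W4c6gradedringsgw.poleOrders P
      · obtain ⟨y, hy, hyG⟩ := hA _ hn
        rw [← sub_add_cancel x (lead hK P (m + 1) x • y), mon_add, mon_smul]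
        exact add_mem (hsmall _ (by rw [map_sub, map_smul, hy, smul_eq_mul, mul_one, sub_self]))
          (Subalgebra.smul_mem _ hyG _)
      · exact hsmall _ (lead_eq_zero_of_not_mem hK P hn _)
  refine ⟨⟨((Set.finite_range _).insert _ : G.Finite).toFinset, ?_⟩⟩
  rw [Set.Finite.coe_toFinset, eq_top_iff]
  intro p _
  rw [eq_sum_mon P p]
  exact sum_mem fun n _ => hB n _

/-! ### The grading -/

variable (P : Place k K)

/-- The homogeneous pieces. -/
def gpiece (n : ℤ) : AddSubgroup (Rg P) where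
  carrier := {p | ∀ i : ℕ, (i : ℤ) ≠ n → (p : K[X]).coeff i = 0}
  zero_mem' := fun i _ => by simp
  add_mem' {p q} hp hq := fun i hi => by
    show ((p + q : Rg P) : K[X]).coeff i = 0
    rw [Subalgebra.coe_add, coeff_add, hp i hi, hq i hi, add_zero]
  neg_mem' {p} hp := fun i hi => by
    show ((-p : Rg P) : K[X]).coeff i = 0
    rw [Subalgebra.coe_neg, coeff_neg, hp i hi, neg_zero]

omit [IsAlgClosed k] in
lemma mem_gpiece {n : ℤ} {p : Rg P} :
    p ∈ gpiece P n ↔ ∀ i : ℕ, (i : ℤ) ≠ n → (p : K[X]).coeff i = 0 := Iff.rfl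

omit [IsAlgClosed k] in
lemma mon_mem_gpiece (n : ℕ) (x : ↥(Lp P n)) : mon P n x ∈ gpiece P n := fun i hi => by
  rw [coe_mon, coeff_monomial, if_neg]
  exact fun h => hi (by rw [h])

/-- The projections. -/
def gpr (n : ℤ) : Rg P →+ Rg P where
  toFun p := if 0 ≤ n then mon P n.toNat (cf P n.toNat p) else 0
  map_zero' := by
    split_ifs
    · rw [map_zero]; exact Subtype.ext (by simp [mon])
    · rfl
  map_add' p q := by
    split_ifs
    · rw [map_add, mon_add]
    · rw [add_zero]

instance gradedMonoid_gpiece : SetLike.GradedMonoid (gpiece P) where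
  one_mem := fun i hi => by
    show ((1 : Rg P) : K[X]).coeff i = 0
    rw [OneMemClass.coe_one, coeff_one, if_neg]
    exact fun h => hi (by rw [h]; rfl)
  mul_mem := fun a b p q hp hq i hi => by
    show ((p * q : Rg P) : K[X]).coeff i = 0
    rw [Subalgebra.coe_mul, coeff_mul]
    refine Finset.sum_eq_zero fun x hx => ?_
    rw [Finset.HasAntidiagonal.mem_antidiagonal] at hx
    by_cases h1 : (x.1 : ℤ) = a
    · rw [hq x.2 (fun h2 => hi (by rw [← hx, ← h1, ← h2]; push_cast; rfl)), mul_zero]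
    · rw [hp x.1 h1, zero_mul]

omit [IsAlgClosed k] in
lemma gpiece_isInternal : DirectSum.IsInternal (gpiece P) := by
  refine Groth.L12.GrLCLib.isInternal_of_pr _ (gpr P) (fun g p hp => ?_) (fun g h hgh p hp => ?_) fun p => ?_
  · show (if 0 ≤ g then mon P g.toNat (cf P g.toNat p) else 0) = p
    split_ifs with hg
    · refine Subtype.ext (Polynomial.ext fun i => ?_)
      rw [coe_mon, coeff_monomial]
      split_ifs with hi
      · subst hi; rfl
      · exact (hp i fun h => hi (by omega)).symm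
    · exact Subtype.ext (Polynomial.ext fun i => (hp i (by omega)).symm)
  · show (if 0 ≤ h then mon P h.toNat (cf P h.toNat p) else 0) = 0
    split_ifs with hh
    · refine Subtype.ext ?_
      show monomial h.toNat ((p : K[X]).coeff h.toNat) = 0
      rw [hp _ (by omega), map_zero]
    · rfl
  · rw [eq_sum_mon P p]
    exact sum_mem fun n _ => AddSubgroup.mem_iSup_of_mem (n : ℤ) (mon_mem_gpiece P n _)

instance decomposition_gpiece : DirectSum.Decomposition (gpiece P) :=
  (gpiece_isInternal P).chooseDecomposition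

instance gradedRing_gpiece : GradedRing (gpiece P) where
  toDecomposition := decomposition_gpiece P
  toGradedMonoid := gradedMonoid_gpiece P

omit [IsAlgClosed k] in
lemma gpiece_neg {n : ℤ} (hn : n < 0) : gpiece P n = ⊥ :=
  (AddSubgroup.eq_bot_iff_forall _).2 fun _ hp =>
    Subtype.ext (Polynomial.ext fun i => hp i (by omega))

variable {P}

lemma mem_gpiece_zero (hK : IsFunctionField k K) {p : Rg P} (hp : p ∈ gpiece P 0) :
    ∃ c : k, algebraMap k (Rg P) c = p := by
  obtain ⟨c, hc⟩ := Lp_zero_eq hK P (coeff_mem P p 0)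
  refine ⟨c, Subtype.ext (Polynomial.ext fun i => ?_)⟩
  rw [Subalgebra.coe_algebraMap, Polynomial.algebraMap_apply, coeff_C]
  split_ifs with hi
  · subst hi; exact hc
  · exact (hp i (by omega)).symm

lemma isField_deg0 (hK : IsFunctionField k K) : IsField (GrLC.deg0 (gpiece P)) := by
  let j : k →+* GrLC.deg0 (gpiece P) := (algebraMap k (Rg P)).codRestrict _ fun c i hi => by
    rw [Subalgebra.coe_algebraMap, Polynomial.algebraMap_apply, coeff_C, if_neg]
    exact fun h => hi (by rw [h]; rfl)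
  refine MulEquiv.isField (Field.toIsField k) (RingEquiv.ofBijective j ⟨j.injective, fun p => ?_⟩).symm.toMulEquiv
  obtain ⟨c, hc⟩ := mem_gpiece_zero hK p.2
  exact ⟨c, Subtype.ext hc⟩

lemma posIdeal_eq_irr : (Groth.L12.GrLCLib.posIdeal (gpiece P)).toIdeal = irr P := by
  refine le_antisymm (Ideal.span_le.2 ?_) fun p hp => ?_
  · rintro q hq
    obtain ⟨n, hn, hqn⟩ := Set.mem_iUnion₂.1 hq
    exact mem_irr.2 (hqn 0 (by have : (0 : ℤ) < n := hn; omega))
  · rw [eq_sum_mon P p]
    refine sum_mem fun n hn => Ideal.subset_span (Set.mem_iUnion₂.2 ⟨(n : ℤ), ?_, mon_mem_gpiece P n _⟩)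
    have : n ≠ 0 := by
      rintro rfl
      exact mem_support_iff.1 hn (mem_irr.1 hp)
    exact Set.mem_Ioi.2 (by omega)

/-! ### The Artinian reduction -/

variable (hK : IsFunctionField k K)
include hK

lemma mem_irr_iff_lc {p : Rg P} : p ∈ irr P ↔ lc hK 0 p = 0 := by
  rw [mem_irr]
  refine ⟨fun h => lc_of_coeff_eq_zero hK 0 p h, fun h => ?_⟩
  obtain ⟨c, hc⟩ := Lp_zero_eq hK P (coeff_mem P p 0)
  have e : cf P 0 p = ⟨algebraMap k K c, algebraMap_mem_Lp P (by simp) c⟩ := Subtype.ext hc.symm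
  change lead hK P 0 (cf P 0 p) = 0 at h
  rw [e, lead_zero_algebraMap] at h
  rw [← hc, h, map_zero]

omit [IsAlgClosed k] hK in
lemma irr_ne_top : irr P ≠ ⊤ := fun h => by
  have h1 : (1 : Rg P) ∈ irr P := by rw [h]; trivial
  rw [mem_irr] at h1
  simp at h1

omit [IsAlgClosed k] hK in
instance irr_isPrime : (irr P).IsPrime := RingHom.ker_isPrime _

lemma irr_isMaximal : (irr P).IsMaximal := by
  refine Ideal.isMaximal_iff.2 ⟨fun h => irr_ne_top ((Ideal.eq_top_iff_one _).2 h), fun J x hJ hx hxJ => ?_⟩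
  have hc : lc hK 0 x ≠ 0 := fun h => hx ((mem_irr_iff_lc hK).2 h)
  have h1 : x - algebraMap k (Rg P) (lc hK 0 x) ∈ irr P := by
    rw [mem_irr_iff_lc hK, ← coeff_th, map_sub, AlgHom.commutes, Polynomial.algebraMap_apply,
      coeff_sub, coeff_C_zero, coeff_th]
    simp
  have h2 : algebraMap k (Rg P) (lc hK 0 x) ∈ J := by
    have := J.sub_mem hxJ (hJ h1)
    rwa [sub_sub_cancel] at this
  have := J.mul_mem_left (algebraMap k (Rg P) (lc hK 0 x)⁻¹) h2
  rwa [← map_mul, inv_mul_cancel₀ hc, map_one] at this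

variable (P)

/-- The element `x T^e` with leading coefficient one. -/
def yel (e : ℕ) (he : e ∈ W4c6gradedringsgw.poleOrders P) : Rg P :=
  mon P e ((mem_poleOrders_iff hK P e).1 he).choose

/-- The ideal generated by `T` and `x T^e`. -/
abbrev Jid (e : ℕ) (he : e ∈ W4c6gradedringsgw.poleOrders P) : Ideal (Rg P) :=
  Ideal.span {Xel P, yel P hK e he}

/-- The Apéry set. -/
def apery (e : ℕ) : Set ℕ :=
  {n | n ∈ W4c6gradedringsgw.poleOrders P ∧ ¬(e ≤ n ∧ n - e ∈ W4c6gradedringsgw.poleOrders P)}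

variable {P}

lemma th_yel (e : ℕ) (he : e ∈ W4c6gradedringsgw.poleOrders P) :
    th hK (yel P hK e he) = X ^ e := by
  rw [yel, th_mon, ((mem_poleOrders_iff hK P e).1 he).choose_spec, monomial_one_right_eq_X_pow]

lemma exists_th_monomial {n : ℕ} (hn : n ∈ W4c6gradedringsgw.poleOrders P) (c : k) :
    ∃ x : ↥(Lp P n), th hK (mon P n x) = monomial n c := by
  obtain ⟨x, hx⟩ := (mem_poleOrders_iff hK P n).1 hn
  exact ⟨c • x, by rw [th_mon, map_smul, hx, smul_eq_mul, mul_one]⟩

lemma mem_Jid_iff (hg : 1 ≤ genus k K) (e : ℕ) (he : e ∈ W4c6gradedringsgw.poleOrders P) (p : Rg P) :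
    p ∈ Jid P hK e he ↔ ∀ n ∈ apery P e, lc hK n p = 0 := by
  constructor
  · intro hp n hn
    obtain ⟨a, b, rfl⟩ := Ideal.mem_span_pair.1 hp
    rw [← coeff_th, map_add, map_mul, map_mul, th_Xel hK hg, mul_zero, zero_add, th_yel,
      coeff_mul_X_pow']
    split_ifs with h
    · rw [coeff_th]
      exact lead_eq_zero_of_not_mem hK P (fun h' => hn.2 ⟨h, h'⟩) _
    · rfl
  · intro h
    have hker : ∀ q : Rg P, th hK q = 0 → q ∈ Jid P hK e he := fun q hq => by
      have h1 : q ∈ RingHom.ker (th (P := P) hK) := hq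
      rw [ker_th hK hg] at h1
      exact Ideal.span_mono (Set.singleton_subset_iff.2 (Set.mem_insert _ _)) h1
    have himg : ∀ n : ℕ, ∃ q ∈ Jid P hK e he, th hK q = monomial n (lc hK n p) := by
      intro n
      by_cases hc : lc hK n p = 0
      · exact ⟨0, zero_mem _, by rw [hc, map_zero, map_zero]⟩
      · have hn : n ∈ W4c6gradedringsgw.poleOrders P := by
          by_contra hn
          exact hc (lead_eq_zero_of_not_mem hK P hn _)
        have hne : e ≤ n ∧ n - e ∈ W4c6gradedringsgw.poleOrders P := by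
          by_contra hne
          exact hc (h n ⟨hn, hne⟩)
        obtain ⟨x, hx⟩ := exists_th_monomial hK hne.2 (lc hK n p)
        refine ⟨yel P hK e he * mon P (n - e) x,
          Ideal.mul_mem_right _ _ (Ideal.subset_span (Set.mem_insert_of_mem _ rfl)), ?_⟩
        rw [map_mul, th_yel, hx, X_pow_mul_monomial, Nat.sub_add_cancel hne.1]
    choose q hqJ hq using himg
    have hsum : th hK (p - ∑ n ∈ (th hK p).support, q n) = 0 := by
      rw [map_sub, map_sum, sub_eq_zero]
      simp only [hq, ← coeff_th]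
      exact (th hK p).as_sum_support
    have := add_mem (hker _ hsum) (sum_mem (t := (th hK p).support) fun n _ => hqJ n)
    rwa [sub_add_cancel] at this

lemma apery_finite (hg : 1 ≤ genus k K) (e : ℕ) : (apery P e).Finite := by
  refine (Set.finite_Iio (2 * genus k K + e)).subset fun n hn => ?_
  by_contra hc
  rw [Set.mem_Iio, not_lt] at hc
  exact hn.2 ⟨by omega, mem_poleOrders_of_le hK hg P (by omega)⟩

lemma Jid_le (e : ℕ) (he : e ∈ W4c6gradedringsgw.poleOrders P) (he0 : e ≠ 0) :
    Jid P hK e he ≤ irr P := by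
  rw [Ideal.span_le]
  rintro p (rfl | rfl)
  · exact mem_irr.2 (by rw [coe_Xel, coeff_X_zero])
  · refine mem_irr.2 ?_
    rw [yel, coe_mon, coeff_monomial, if_neg he0]

lemma irr_le_radical (hg : 1 ≤ genus k K) (e : ℕ) (he : e ∈ W4c6gradedringsgw.poleOrders P) :
    irr P ≤ (Jid P hK e he).radical := fun p hp => by
  refine ⟨2 * genus k K + e, (mem_Jid_iff hK hg e he _).2 fun n hn => ?_⟩
  have hlt : n < 2 * genus k K + e := by
    by_contra hc
    rw [not_lt] at hc
    exact hn.2 ⟨by omega, mem_poleOrders_of_le hK hg P (by omega)⟩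
  rw [← coeff_th, map_pow]
  obtain ⟨f, hf⟩ : X ∣ th hK p := by
    rw [X_dvd_iff, coeff_th]
    exact (mem_irr_iff_lc hK).1 hp
  rw [hf, mul_pow, coeff_X_pow_mul', if_neg (by omega)]

/-- The leading coefficient on the Artinian reduction. -/
def omg (hg : 1 ≤ genus k K) (e : ℕ) (he : e ∈ W4c6gradedringsgw.poleOrders P) (n : ↥(apery P e)) :
    (↥(Rg P) ⧸ Jid P hK e he) →ₗ[k] k :=
  (Submodule.liftQ ((Jid P hK e he).restrictScalars k) (lc hK (n : ℕ))
    fun p hp => (mem_Jid_iff hK hg e he p).1 hp n n.2) ∘ₗ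
  (Submodule.Quotient.restrictScalarsEquiv k (Jid P hK e he)).symm.toLinearMap

lemma omg_mk (hg : 1 ≤ genus k K) (e : ℕ) (he : e ∈ W4c6gradedringsgw.poleOrders P) (n : ↥(apery P e))
    (p : Rg P) : omg hK hg e he n (Ideal.Quotient.mk _ p) = lc hK (n : ℕ) p := rfl

lemma omg_ext (hg : 1 ≤ genus k K) (e : ℕ) (he : e ∈ W4c6gradedringsgw.poleOrders P)
    {a : ↥(Rg P) ⧸ Jid P hK e he} (h : ∀ n, omg hK hg e he n a = 0) : a = 0 := by
  obtain ⟨p, rfl⟩ := Ideal.Quotient.mk_surjective a
  exact Ideal.Quotient.eq_zero_iff_mem.2 ((mem_Jid_iff hK hg e he p).2 fun n hn => h ⟨n, hn⟩)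

lemma finite_quot (hg : 1 ≤ genus k K) (e : ℕ) (he : e ∈ W4c6gradedringsgw.poleOrders P) :
    Module.Finite k (↥(Rg P) ⧸ Jid P hK e he) := by
  haveI : Finite ↥(apery P e) := (apery_finite hK hg e).to_subtype
  exact Module.Finite.of_injective (LinearMap.pi (omg hK hg e he))
    ((injective_iff_map_eq_zero _).2 fun a ha => omg_ext hK hg e he fun n => congrFun ha n)

lemma isMaximal_unique (hg : 1 ≤ genus k K) (e : ℕ) (he : e ∈ W4c6gradedringsgw.poleOrders P)
    (he0 : e ≠ 0) (M : Ideal (↥(Rg P) ⧸ Jid P hK e he)) [M.IsMaximal] :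
    M = (irr P).map (Ideal.Quotient.mk _) := by
  have hJ : Jid P hK e he ≤ M.comap (Ideal.Quotient.mk _) := fun p hp => by
    rw [Ideal.mem_comap, Ideal.Quotient.eq_zero_iff_mem.2 hp]
    exact zero_mem _
  have h1 : irr P ≤ M.comap (Ideal.Quotient.mk _) :=
    (irr_le_radical hK hg e he).trans
      ((Ideal.IsPrime.radical_le_iff (Ideal.IsPrime.comap _)).2 hJ)
  have h2 : irr P = M.comap (Ideal.Quotient.mk _) :=
    (irr_isMaximal hK).eq_of_le (Ideal.comap_ne_top _ Ideal.IsPrime.ne_top') h1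
  rw [h2, Ideal.map_comap_of_surjective _ Ideal.Quotient.mk_surjective]

lemma isLocalRing_quot (hg : 1 ≤ genus k K) (e : ℕ) (he : e ∈ W4c6gradedringsgw.poleOrders P)
    (he0 : e ≠ 0) : IsLocalRing (↥(Rg P) ⧸ Jid P hK e he) := by
  haveI : Nontrivial (↥(Rg P) ⧸ Jid P hK e he) := Ideal.Quotient.nontrivial_iff.2 fun h =>
    irr_ne_top (P := P) (top_le_iff.1 (h.ge.trans (Jid_le hK e he he0)))
  obtain ⟨M, hM⟩ := Ideal.exists_maximal (↥(Rg P) ⧸ Jid P hK e he)
  refine IsLocalRing.of_unique_max_ideal ⟨M, hM, fun M' hM' => ?_⟩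
  haveI := hM
  haveI : M'.IsMaximal := hM'
  rw [isMaximal_unique hK hg e he he0 M', isMaximal_unique hK hg e he he0 M]

/-- `R` is Gorenstein iff its Artinian reduction is. -/
theorem gorenstein_iff_quot (hg : 1 ≤ genus k K) (e : ℕ) (he : e ∈ W4c6gradedringsgw.poleOrders P)
    (he0 : e ≠ 0) :
    LocCoh.IsGorensteinRing (Rg P) ↔ LocCoh.IsGorensteinLocalRing (↥(Rg P) ⧸ Jid P hK e he) := by
  haveI := finiteType hK hg P
  haveI : IsNoetherianRing (Rg P) := Algebra.FiniteType.isNoetherianRing k _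
  haveI := isLocalRing_quot hK hg e he he0
  have hm := Groth.L12.GrLCLib.posIdeal_isStarLocal (𝒜 := gpiece P) (fun n hn => gpiece_neg P hn)
    (isField_deg0 hK)
  have hI := posIdeal_eq_irr (P := P)
  have hstar : LocCoh.IsGorensteinRing (Rg P) ↔
      LocCoh.IsGorensteinLocalRing (Localization.AtPrime (irr P)) := by
    constructor
    · intro h
      exact h.isGorensteinLocalRing_localization _
    · intro h
      have key : ∀ (I : Ideal (Rg P)) (hIp : I.IsPrime), I = irr P →
          LocCoh.IsGorensteinLocalRing (@Localization.AtPrime _ _ I hIp) := by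
        rintro I hIp rfl
        exact h
      haveI : (Groth.L12.GrLCLib.posIdeal (gpiece P)).toIdeal.IsPrime := by rw [hI]; infer_instance
      exact Groth.L12.GrLCLib.isGorensteinRing_of_starLocal hm (key _ _ hI)
  rw [hstar]
  refine gorenstein_localization_iff (irr P) (Xel P) (yel P hK e he)
    (Jid_le hK e he he0 (Ideal.subset_span (Set.mem_insert _ _)))
    (Jid_le hK e he he0 (Ideal.subset_span (Set.mem_insert_of_mem _ rfl))) (Xel_ne_zero P) ?_ ?_
  · intro r s hs hdvd
    obtain ⟨w, hw⟩ := hdvd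
    have hth := congrArg (th hK) hw
    simp only [map_mul, th_Xel hK hg, th_yel, zero_mul] at hth
    have hs' : th hK s ≠ 0 := fun h0 => hs ((mem_irr_iff_lc hK).2 (by
      rw [← coeff_th, h0, coeff_zero]))
    rcases mul_eq_zero.1 hth with h1 | h1
    swap
    · exact absurd h1 hs'
    rcases mul_eq_zero.1 h1 with h2 | h2
    swap
    · exact absurd h2 (pow_ne_zero _ X_ne_zero)
    have hr : r ∈ RingHom.ker (th (P := P) hK) := h2
    rw [ker_th hK hg] at hr
    exact Ideal.mem_span_singleton.1 hr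
  · intro s hs
    by_contra h
    obtain ⟨M, hM, hsM⟩ := exists_max_ideal_of_mem_nonunits h
    haveI := hM
    rw [isMaximal_unique hK hg e he he0 M,
      Ideal.mem_quotient_iff_mem (Jid_le hK e he he0)] at hsM
    exact hs hsM

/-! ### Symmetry -/

/-- `R` is Gorenstein iff the semigroup is symmetric. -/
theorem gorenstein_iff_symmetric (hg : 1 ≤ genus k K) :
    LocCoh.IsGorensteinRing (Rg P) ↔
      W4c6gradedringsgw.IsSymmetric (W4c6gradedringsgw.poleOrders P) := by
  set H := W4c6gradedringsgw.poleOrders P with hH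
  set e := 2 * genus k K with hedef
  have he : e ∈ H := mem_poleOrders_of_le hK hg P le_rfl
  have he0 : e ≠ 0 := by omega
  rw [gorenstein_iff_quot hK hg e he he0]
  haveI := isLocalRing_quot hK hg e he he0
  haveI := finite_quot hK hg e he
  -- the Frobenius number
  obtain ⟨F, hF, hFmax⟩ : ∃ F : ℕ, F ∉ H ∧ ∀ m, F < m → m ∈ H := by
    classical
    have hfin : {n | n ∉ H}.Finite := (Set.finite_Iio e).subset fun n hn => by
      by_contra hc
      rw [Set.mem_Iio, not_lt] at hc
      exact hn (mem_poleOrders_of_le hK hg P hc)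
    obtain ⟨F, hFm, hFM⟩ := Set.exists_max_image _ id hfin ⟨1, one_not_mem_poleOrders hK hg P⟩
    exact ⟨F, hFm, fun m hm => by_contra fun hmH => absurd (hFM m hmH) (not_le.2 hm)⟩
  have hF0 : F ≠ 0 := fun h => hF (h ▸ zero_mem_poleOrders hK P)
  constructor
  · intro hG
    -- otherwise two socle elements
    have key : ∀ m : ℕ, m ∉ H → m ≠ F → m ≤ F ∧ F - m ∈ H := by
      by_contra hcon
      push Not at hcon
      obtain ⟨m₀, hm₀, hm₀F, hbad⟩ := hcon
      classical
      have hle : ∀ m, m ∉ H → m ≤ F := fun m hm => not_lt.1 fun h => hm (hFmax m h)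
      let T := (Finset.range (F + 1)).filter fun m => m ∉ H ∧ m ≠ F ∧ F - m ∉ H
      have hT : T.Nonempty := ⟨m₀, Finset.mem_filter.2
        ⟨Finset.mem_range.2 (Nat.lt_succ_of_le (hle _ hm₀)), hm₀, hm₀F, hbad (hle _ hm₀)⟩⟩
      obtain ⟨m, hmT, hmM⟩ := T.exists_max_image id hT
      obtain ⟨-, hm, hmF, hmc⟩ := Finset.mem_filter.1 hmT
      have hpf : ∀ h ∈ H, h ≠ 0 → m + h ∈ H := fun h hh h0 => by
        by_contra hn
        have hle' := hle _ hn
        by_cases hEF : m + h = F
        · exact hmc (by rw [show F - m = h by omega]; exact hh)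
        · by_cases hc : F - (m + h) ∈ H
          · exact hmc (by
              rw [show F - m = F - (m + h) + h by omega]
              exact add_mem_poleOrders hK P hc hh)
          · have := hmM (m + h) (Finset.mem_filter.2
              ⟨Finset.mem_range.2 (Nat.lt_succ_of_le hle'), hn, hEF, hc⟩)
            simp only [id_eq] at this
            omega
      have hsoc : ∀ n, n ∉ H → (∀ h ∈ H, h ≠ 0 → n + h ∈ H) → ∀ x : ↥(Lp P (n + e : ℕ)),
          ∀ a ∈ IsLocalRing.maximalIdeal (↥(Rg P) ⧸ Jid P hK e he),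
            a * Ideal.Quotient.mk _ (mon P (n + e) x) = 0 := by
        intro n hn hnh x a ha
        rw [isMaximal_unique hK hg e he he0 (IsLocalRing.maximalIdeal _)] at ha
        obtain ⟨q, hq, rfl⟩ := (Ideal.mem_map_iff_of_surjective _ Ideal.Quotient.mk_surjective).1 ha
        rw [← map_mul, Ideal.Quotient.eq_zero_iff_mem, mem_Jid_iff hK hg]
        intro j hj
        rw [lc_mul]
        refine Finset.sum_eq_zero fun z hz => ?_
        rw [Finset.HasAntidiagonal.mem_antidiagonal] at hz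
        rw [lc_mon]
        split_ifs with h2
        · rcases eq_or_ne z.1 0 with h1 | h1
          · rw [h1, (mem_irr_iff_lc hK).1 hq, zero_mul]
          · by_cases hzH : z.1 ∈ H
            · exfalso
              refine hj.2 ⟨by omega, ?_⟩
              rw [show j - e = n + z.1 by omega]
              exact hnh z.1 hzH h1
            · rw [show lc hK z.1 q = 0 from lead_eq_zero_of_not_mem hK P hzH _, zero_mul]
        · rw [mul_zero]
      have hAp : ∀ n, n ∉ H → n + e ∈ apery P e := fun n hn =>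
        ⟨mem_poleOrders_of_le hK hg P (by omega), fun h => hn (by
          have := h.2
          rwa [show n + e - e = n by omega] at this)⟩
      obtain ⟨x₁, hx₁⟩ := (mem_poleOrders_iff hK P (m + e)).1 (hAp m hm).1
      obtain ⟨x₂, hx₂⟩ := (mem_poleOrders_iff hK P (F + e)).1 (hAp F hF).1
      set a₁ := Ideal.Quotient.mk (Jid P hK e he) (mon P (m + e) x₁) with ha₁
      set a₂ := Ideal.Quotient.mk (Jid P hK e he) (mon P (F + e) x₂) with ha₂
      have hω₁ : omg hK hg e he ⟨m + e, hAp m hm⟩ a₁ = 1 := by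
        rw [ha₁, omg_mk, lc_mon, if_pos rfl, hx₁]
      have hω₂ : omg hK hg e he ⟨F + e, hAp F hF⟩ a₂ = 1 := by
        rw [ha₂, omg_mk, lc_mon, if_pos rfl, hx₂]
      have hω₁₂ : omg hK hg e he ⟨m + e, hAp m hm⟩ a₂ = 0 := by
        rw [ha₂, omg_mk, lc_mon]
        exact if_neg (by simp only; omega)
      have ha₂0 : a₂ ≠ 0 := fun h => by rw [h, map_zero] at hω₂; exact zero_ne_one hω₂
      obtain ⟨-, s, hs, hdiv⟩ := Groth.L21.GorensteinFlat.exists_socle_generator _ a₂ ha₂0
        (hsoc F hF (fun h _ h0 => hFmax _ (by omega)) x₂)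
      obtain ⟨c₁, hc₁⟩ := hdiv a₁ (hsoc m hm hpf x₁)
      obtain ⟨c₂, hc₂⟩ := hdiv a₂ (hsoc F hF (fun h _ h0 => hFmax _ (by omega)) x₂)
      -- scalars
      have hsc : ∀ c, ∃ t : k, s * c = algebraMap k _ t * s := by
        intro c
        obtain ⟨q, rfl⟩ := Ideal.Quotient.mk_surjective c
        refine ⟨lc hK 0 q, ?_⟩
        have h1 : q - algebraMap k (Rg P) (lc hK 0 q) ∈ irr P := by
          rw [mem_irr_iff_lc hK, ← coeff_th, map_sub, AlgHom.commutes, Polynomial.algebraMap_apply,
            coeff_sub, coeff_C_zero, coeff_th]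
          simp
        have h2 : Ideal.Quotient.mk (Jid P hK e he) (q - algebraMap k (Rg P) (lc hK 0 q)) ∈
            IsLocalRing.maximalIdeal _ := by
          rw [isMaximal_unique hK hg e he he0 (IsLocalRing.maximalIdeal _)]
          exact Ideal.mem_map_of_mem _ h1
        have h3 := (hs _).1 h2
        rw [map_sub, sub_mul, sub_eq_zero, Ideal.Quotient.mk_algebraMap] at h3
        rw [mul_comm s, h3]
      obtain ⟨t₁, ht₁⟩ := hsc c₁
      obtain ⟨t₂, ht₂⟩ := hsc c₂
      rw [ht₁, ← Algebra.smul_def] at hc₁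
      rw [ht₂, ← Algebra.smul_def] at hc₂
      rw [hc₁, map_smul, smul_eq_mul] at hω₁
      rw [hc₂, map_smul, smul_eq_mul, mul_eq_zero] at hω₁₂
      rcases hω₁₂ with h | h
      · exact ha₂0 (by rw [hc₂, h, zero_smul])
      · rw [h, mul_zero] at hω₁; exact zero_ne_one hω₁
    refine ⟨F, fun n => ⟨?_, fun hn => ?_⟩⟩
    · rintro ⟨a, ha, rfl⟩ ⟨b, hb, hb'⟩
      exact hF (by rw [show F = a + b by omega]; exact add_mem_poleOrders hK P ha hb)
    · by_contra hn'
      rcases lt_trichotomy n 0 with h | h | h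
      · exact hn ⟨((F : ℤ) - n).toNat, hFmax _ (by omega), by omega⟩
      · exact hn' ⟨0, zero_mem_poleOrders hK P, by simp [h]⟩
      · have hnH : n.toNat ∉ H := fun h' => hn' ⟨n.toNat, h', by omega⟩
        by_cases hnF : n.toNat = F
        · exact hn ⟨0, zero_mem_poleOrders hK P, by push_cast; omega⟩
        · obtain ⟨h1, h2⟩ := key _ hnH hnF
          exact hn ⟨_, h2, by omega⟩
  · rintro ⟨d, hd⟩
    -- `d = F`
    have hdF : d = F := by
      refine le_antisymm ?_ ?_
      · by_contra hc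
        have h0 : ∃ h ∈ H, (h : ℤ) = d := ⟨d.toNat, hFmax _ (by omega), by omega⟩
        exact (hd d).1 h0 ⟨0, zero_mem_poleOrders hK P, by simp⟩
      · by_contra hc
        obtain ⟨b, -, hb⟩ := not_not.1 fun h => (fun h' : ∃ h ∈ H, (h : ℤ) = (F : ℤ) => hF (by
          obtain ⟨a, ha, ha'⟩ := h'; rwa [show F = a by omega])) ((hd F).2 h)
        omega
    subst hdF
    have hf : F + e ∈ apery P e :=
      ⟨mem_poleOrders_of_le hK hg P (by omega), fun h => hF (by
        have := h.2
        rwa [show F + e - e = F by omega] at this)⟩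
    refine isGorensteinLocalRing_of_functional (omg hK hg e he ⟨F + e, hf⟩) fun a ha => ?_
    refine omg_ext hK hg e he fun n => ?_
    obtain ⟨p, rfl⟩ := Ideal.Quotient.mk_surjective a
    have hsub : ∃ j ∈ H, (n : ℕ) + j = F + e := by
      have h1 : ¬ ∃ h ∈ H, (h : ℤ) = ((n : ℕ) : ℤ) - (e : ℕ) := by
        rintro ⟨h, hh, he'⟩
        exact n.2.2 ⟨by omega, by rwa [show (n : ℕ) - e = h by omega]⟩
      obtain ⟨j, hj, hj'⟩ := not_not.1 fun h => h1 ((hd _).2 h)
      exact ⟨j, hj, by omega⟩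
    obtain ⟨j, hjH, hj⟩ := hsub
    obtain ⟨x, hx⟩ := (mem_poleOrders_iff hK P j).1 hjH
    have h1 := ha (Ideal.Quotient.mk _ (mon P j x))
    rw [← map_mul, omg_mk, lc_mul, Finset.sum_eq_single ((n : ℕ), j)] at h1
    · rw [lc_mon, if_pos rfl, hx, mul_one] at h1
      exact h1
    · rintro ⟨u, v⟩ huv hne
      rw [Finset.HasAntidiagonal.mem_antidiagonal] at huv
      rw [lc_mon, if_neg, mul_zero]
      intro hv
      exact hne (Prod.ext (by simp only at huv hv ⊢; omega) hv)
    · intro hn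
      exact absurd (Finset.HasAntidiagonal.mem_antidiagonal.2 hj) hn

end Groth.L12.GrSectLead

end
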