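import Groth.Prelude.Def_GrLC
import Mathlib.Algebra.DirectSum.Module
import Mathlib.LinearAlgebra.Prod

/-!
# Graded modules: components, homogeneous submodules, constructions

General grading group; all lemmas for `GrLC.GMod` and bare families of pieces.
-/

set_option autoImplicit false

universe u

open DirectSum

namespace Groth.L12.GrLCLib

variable {ι : Type} [AddCommGroup ι] [DecidableEq ι]
variable {R : Type u} [CommRing R] {σ : Type u} [SetLike σ R] [AddSubgroupClass σ R]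

section Pieces

variable {M : Type u} [AddCommGroup M] {τ : Type u} [SetLike τ M] [AddSubgroupClass τ M]
  (ℳ : ι → τ) [DirectSum.Decomposition ℳ]

/-- homogeneous component -/
noncomputable def cp (g : ι) : M →+ M where
  toFun x := (decompose ℳ x g : M)
  map_zero' := by simp
  map_add' x y := by simp

lemma cp_apply (g : ι) (x : M) : cp ℳ g x = (decompose ℳ x g : M) := rfl

lemma cp_mem (g : ι) (x : M) : cp ℳ g x ∈ ℳ g := (decompose ℳ x g).2

lemma cp_same {g : ι} {x : M} (hx : x ∈ ℳ g) : cp ℳ g x = x := decompose_of_mem_same ℳ hx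

lemma cp_ne {g h : ι} {x : M} (hx : x ∈ ℳ g) (hgh : g ≠ h) : cp ℳ h x = 0 := decompose_of_mem_ne ℳ hx hgh

lemma exists_sum_cp (x : M) : ∃ s : Finset ι, ∑ g ∈ s, cp ℳ g x = x ∧ ∀ g, cp ℳ g x ≠ 0 → g ∈ s := by
  classical
  refine ⟨(decompose ℳ x).support, sum_support_decompose ℳ x, fun g hg => ?_⟩
  rw [DFinsupp.mem_support_iff]
  exact fun h => hg (by rw [cp_apply, h]; rfl)

lemma induction_on_hom {P : M → Prop} (x : M) (h0 : P 0) (hh : ∀ (g : ι) (y : M), y ∈ ℳ g → P y)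
    (ha : ∀ a b, P a → P b → P (a + b)) : P x := by
  classical
  obtain ⟨s, hs, -⟩ := exists_sum_cp ℳ x
  rw [← hs]
  exact Finset.sum_induction _ P (fun a b => ha a b) h0 fun g _ => hh g _ (cp_mem ℳ g x)

lemma eq_zero_of_cp {x : M} (h : ∀ g, cp ℳ g x = 0) : x = 0 := by
  obtain ⟨s, hs, -⟩ := exists_sum_cp ℳ x
  rw [← hs]
  exact Finset.sum_eq_zero fun g _ => h g

lemma mem_iff_cp {g : ι} {x : M} : x ∈ ℳ g ↔ cp ℳ g x = x :=
  ⟨cp_same ℳ, fun h => h ▸ cp_mem ℳ g x⟩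

lemma eq_zero_of_mem_mem {g h : ι} {x : M} (hg : x ∈ ℳ g) (hh : x ∈ ℳ h) (hgh : g ≠ h) : x = 0 :=
  (cp_same ℳ hh).symm.trans (cp_ne ℳ hg hgh)

variable {N : Type u} [AddCommGroup N] {τ' : Type u} [SetLike τ' N] [AddSubgroupClass τ' N]
  (𝒩 : ι → τ') [DirectSum.Decomposition 𝒩]

lemma cp_map_deg (f : M →+ N) (d : ι) (hf : ∀ g, ∀ x ∈ ℳ g, f x ∈ 𝒩 (g + d)) (g : ι) (x : M) :
    cp 𝒩 (g + d) (f x) = f (cp ℳ g x) := by
  induction x using induction_on_hom ℳ with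
  | h0 => simp
  | hh h y hy =>
    rcases eq_or_ne h g with rfl | hne
    · rw [cp_same ℳ hy, cp_same 𝒩 (hf h y hy)]
    · rw [cp_ne ℳ hy hne, cp_ne 𝒩 (hf h y hy) (fun e => hne (add_right_cancel e)), map_zero]
  | ha a b iha ihb => simp only [map_add, iha, ihb]

lemma cp_map (f : M →+ N) (hf : ∀ g, ∀ x ∈ ℳ g, f x ∈ 𝒩 g) (g : ι) (x : M) :
    cp 𝒩 g (f x) = f (cp ℳ g x) := by
  have := cp_map_deg ℳ 𝒩 f 0 (fun g x hx => by rw [add_zero]; exact hf g x hx) g x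
  rwa [add_zero] at this

/-- A family with compatible projections is an internal decomposition. -/
lemma isInternal_of_pr {X : Type u} [AddCommGroup X] (P : ι → AddSubgroup X) (pr : ι → X →+ X)
    (h1 : ∀ g, ∀ x ∈ P g, pr g x = x) (h2 : ∀ g h, g ≠ h → ∀ x ∈ P g, pr h x = 0)
    (h3 : ∀ x : X, x ∈ ⨆ g, P g) : DirectSum.IsInternal P := by
  classical
  refine ⟨fun x y hxy => DFinsupp.ext fun g => Subtype.ext ?_, fun v => ?_⟩
  · have h : ∀ z : ⨁ i, P i, pr g (DirectSum.coeAddMonoidHom P z) = (z g : X) := by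
      intro z
      induction z using DirectSum.induction_on with
      | zero => simp
      | of e z =>
        rw [DirectSum.coeAddMonoidHom_of]
        rcases eq_or_ne e g with rfl | hne
        · rw [h1 _ _ z.2, DirectSum.of_eq_same]
        · rw [h2 _ _ hne _ z.2, DirectSum.of_eq_of_ne _ _ _ hne.symm]
          rfl
      | add a b ha hb => simp [ha, hb]
    rw [← h x, ← h y]
    exact congrArg (pr g) hxy
  · refine AddSubgroup.iSup_induction (C := fun v => ∃ z, DirectSum.coeAddMonoidHom P z = v) P (h3 v)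
      (fun g x hx => ⟨DirectSum.of (fun i => P i) g ⟨x, hx⟩, DirectSum.coeAddMonoidHom_of _ _ _⟩) ⟨0, map_zero _⟩
      (fun a b ⟨za, ha⟩ ⟨zb, hb⟩ => ⟨za + zb, by rw [map_add, ha, hb]⟩)

end Pieces

variable (𝒜 : ι → σ) [GradedRing 𝒜]
variable {M : Type u} [AddCommGroup M] [Module R M] {τ : Type u} [SetLike τ M] [AddSubgroupClass τ M]
  (ℳ : ι → τ) [DirectSum.Decomposition ℳ] [SetLike.GradedSMul 𝒜 ℳ]

omit [DirectSum.Decomposition ℳ] in
lemma smul_mem' {a g : ι} {r : R} {x : M} (hr : r ∈ 𝒜 a) (hx : x ∈ ℳ g) : r • x ∈ ℳ (a + g) :=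
  SetLike.GradedSMul.smul_mem (A := 𝒜) (B := ℳ) hr hx

lemma cp_smul_hom {a : ι} {r : R} (hr : r ∈ 𝒜 a) (g : ι) (x : M) :
    cp ℳ (a + g) (r • x) = r • cp ℳ g x := by
  have := cp_map_deg ℳ ℳ (DistribSMul.toAddMonoidHom M r) a
    (fun h y hy => by rw [add_comm h a]; exact smul_mem' 𝒜 ℳ hr hy) g x
  rwa [add_comm g a] at this

lemma cp_smul_hom' {a : ι} {r : R} (hr : r ∈ 𝒜 a) (g : ι) (x : M) :
    cp ℳ g (r • x) = r • cp ℳ (g - a) x := by
  rw [← cp_smul_hom 𝒜 ℳ hr, add_sub_cancel]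

lemma cp_smul_mem (r : R) {g : ι} {x : M} (hx : x ∈ ℳ g) (h : ι) :
    cp ℳ h (r • x) = cp 𝒜 (h - g) r • x := by
  have hf : ∀ a, ∀ c ∈ 𝒜 a, (AddMonoidHom.flip (smulAddHom R M) x) c ∈ ℳ (a + g) := fun a c hc => smul_mem' 𝒜 ℳ hc hx
  have := cp_map_deg 𝒜 ℳ (AddMonoidHom.flip (smulAddHom R M) x) g hf (h - g) r
  rwa [sub_add_cancel] at this

/-! ### homogeneous submodules -/

omit [SetLike.GradedSMul 𝒜 ℳ] in
lemma isHomogeneous_iff {P : Submodule R M} : P.IsHomogeneous ℳ ↔ ∀ g, ∀ x ∈ P, cp ℳ g x ∈ P := Iff.rfl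

include 𝒜 in
/-- A span of homogeneous elements is homogeneous. -/
lemma span_isHomogeneous {s : Set M} (hs : ∀ x ∈ s, ∃ g, x ∈ ℳ g) :
    (Submodule.span R s).IsHomogeneous ℳ := by
  intro g x hx
  induction hx using Submodule.span_induction generalizing g with
  | mem y hy =>
    obtain ⟨h, hh⟩ := hs y hy
    rcases eq_or_ne h g with rfl | hne
    · rw [decompose_of_mem_same ℳ hh]; exact Submodule.subset_span hy
    · rw [decompose_of_mem_ne ℳ hh hne]; exact zero_mem _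
  | zero => simp
  | add a b _ _ ha hb => rw [decompose_add]; exact add_mem (ha g) (hb g)
  | smul r y _ hy =>
    change cp ℳ g (r • y) ∈ _
    induction r using induction_on_hom 𝒜 with
    | h0 => rw [zero_smul, map_zero]; exact zero_mem _
    | hh a c hc => rw [cp_smul_hom' 𝒜 ℳ hc]; exact Submodule.smul_mem _ _ (hy _)
    | ha a b iha ihb => rw [add_smul, map_add]; exact add_mem iha ihb

omit [SetLike.GradedSMul 𝒜 ℳ] in
lemma ker_isHomogeneous {N : Type u} [AddCommGroup N] [Module R N] {τ' : Type u} [SetLike τ' N]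
    [AddSubgroupClass τ' N] (𝒩 : ι → τ') [DirectSum.Decomposition 𝒩] {f : M →ₗ[R] N}
    (hf : GrLC.IsGrHom ℳ 𝒩 f) : (LinearMap.ker f).IsHomogeneous ℳ := fun g x hx => by
  change f (cp ℳ g x) = 0
  exact (cp_map ℳ 𝒩 f.toAddMonoidHom hf g x).symm.trans (by simp [LinearMap.mem_ker.1 hx])

omit [SetLike.GradedSMul 𝒜 ℳ] in
lemma range_isHomogeneous {N : Type u} [AddCommGroup N] [Module R N] {τ' : Type u} [SetLike τ' N]
    [AddSubgroupClass τ' N] (𝒩 : ι → τ') [DirectSum.Decomposition 𝒩] {f : M →ₗ[R] N}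
    (hf : GrLC.IsGrHom ℳ 𝒩 f) : (LinearMap.range f).IsHomogeneous 𝒩 := by
  rintro g _ ⟨x, rfl⟩
  exact ⟨cp ℳ g x, (cp_map ℳ 𝒩 f.toAddMonoidHom hf g x).symm⟩

omit [DirectSum.Decomposition ℳ] [SetLike.GradedSMul 𝒜 ℳ] in
lemma gam_mono {a : Ideal R} {N : Type u} [AddCommGroup N] [Module R N] (f : M →ₗ[R] N) {x : M}
    (hx : x ∈ GrLC.gam a M) : f x ∈ GrLC.gam a N := by
  obtain ⟨n, hn⟩ := hx
  exact ⟨n, fun c hc => by rw [← map_smul, hn c hc, map_zero]⟩

lemma gam_isHomogeneous (a : HomogeneousIdeal 𝒜) : (GrLC.gam a.toIdeal M).IsHomogeneous ℳ := by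
  intro g x hx
  obtain ⟨n, hn⟩ := hx
  have hhom : (a.toIdeal ^ n).IsHomogeneous 𝒜 := by
    clear hn
    induction n with
    | zero => rw [pow_zero, Ideal.one_eq_top]; exact Ideal.IsHomogeneous.top 𝒜
    | succ n ih => rw [pow_succ]; exact ih.mul a.isHomogeneous
  refine ⟨n, fun c hc => ?_⟩
  obtain ⟨s, hs, -⟩ := exists_sum_cp 𝒜 c
  rw [← hs, Finset.sum_smul]
  refine Finset.sum_eq_zero fun b _ => ?_
  change cp 𝒜 b c • cp ℳ g x = 0
  rw [← cp_smul_hom 𝒜 ℳ (cp_mem 𝒜 b c), show cp 𝒜 b c • x = 0 from hn _ (hhom b hc), map_zero]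

/-! ### bundled constructions -/

/-- pieces as additive subgroups -/
def asub (g : ι) : AddSubgroup M := AddSubgroup.ofClass (ℳ g)

omit [SetLike.GradedSMul 𝒜 ℳ] [Module R M] in
lemma asub_isInternal : DirectSum.IsInternal (asub ℳ) := by
  refine isInternal_of_pr _ (cp ℳ) (fun g x hx => cp_same ℳ hx) (fun g h hgh x hx => cp_ne ℳ hx hgh) fun x => ?_
  obtain ⟨s, hs, -⟩ := exists_sum_cp ℳ x
  rw [← hs]
  exact sum_mem fun g _ => AddSubgroup.mem_iSup_of_mem g (cp_mem ℳ g x)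

/-- bundle a graded module with arbitrary type of pieces -/
noncomputable def toG : GrLC.GMod.{u} 𝒜 :=
  { carrier := M
    gr := asub ℳ
    dec := (asub_isInternal ℳ).chooseDecomposition
    gsmul := ⟨fun {_ _ _ _} hr hx => SetLike.GradedSMul.smul_mem (A := 𝒜) (B := ℳ) hr hx⟩ }

omit [SetLike.GradedSMul 𝒜 ℳ] in
lemma sub_isInternal {P : Submodule R M} (hP : P.IsHomogeneous ℳ) :
    DirectSum.IsInternal fun g => (asub ℳ g).comap P.subtype.toAddMonoidHom := by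
  refine isInternal_of_pr _ (fun g => AddMonoidHom.mk' (fun x : P => ⟨cp ℳ g x, hP g x.2⟩)
    fun x y => Subtype.ext (by simp)) (fun g x hx => Subtype.ext (cp_same ℳ hx))
    (fun g h hgh x hx => Subtype.ext (cp_ne ℳ hx hgh)) fun x => ?_
  obtain ⟨s, hs, -⟩ := exists_sum_cp ℳ (x : M)
  have : x = ∑ g ∈ s, (⟨cp ℳ g x, hP g x.2⟩ : P) := Subtype.ext (by simp [hs])
  rw [this]
  exact sum_mem fun g _ => AddSubgroup.mem_iSup_of_mem g (cp_mem ℳ g (x : M))

/-- a homogeneous submodule as a graded module -/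
noncomputable def subG (P : Submodule R M) (hP : P.IsHomogeneous ℳ) : GrLC.GMod.{u} 𝒜 :=
  { carrier := P
    gr := fun g => (asub ℳ g).comap P.subtype.toAddMonoidHom
    dec := (sub_isInternal ℳ hP).chooseDecomposition
    gsmul := ⟨fun {_ _ _ _} hr hx => SetLike.GradedSMul.smul_mem (A := 𝒜) (B := ℳ) hr hx⟩ }

omit [SetLike.GradedSMul 𝒜 ℳ] in
lemma quo_isInternal {P : Submodule R M} (hP : P.IsHomogeneous ℳ) :
    DirectSum.IsInternal fun g => (asub ℳ g).map P.mkQ.toAddMonoidHom := by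
  refine isInternal_of_pr _
    (fun g => QuotientAddGroup.lift P.toAddSubgroup (P.mkQ.toAddMonoidHom.comp (cp ℳ g))
      fun x hx => (Submodule.Quotient.mk_eq_zero P).2 (hP g hx)) ?_ ?_ fun x => ?_
  · rintro g _ ⟨x, hx, rfl⟩
    exact congrArg (Submodule.Quotient.mk (p := P)) (cp_same ℳ hx)
  · rintro g h hgh _ ⟨x, hx, rfl⟩
    exact (congrArg (Submodule.Quotient.mk (p := P)) (cp_ne ℳ hx hgh)).trans rfl
  · obtain ⟨x, rfl⟩ := Submodule.Quotient.mk_surjective P x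
    obtain ⟨s, hs, -⟩ := exists_sum_cp ℳ x
    rw [← hs, ← Submodule.mkQ_apply, map_sum]
    exact sum_mem fun g _ => AddSubgroup.mem_iSup_of_mem g ⟨_, cp_mem ℳ g x, rfl⟩

/-- a quotient by a homogeneous submodule as a graded module -/
noncomputable def quoG (P : Submodule R M) (hP : P.IsHomogeneous ℳ) : GrLC.GMod.{u} 𝒜 :=
  { carrier := M ⧸ P
    gr := fun g => (asub ℳ g).map P.mkQ.toAddMonoidHom
    dec := (quo_isInternal ℳ hP).chooseDecomposition
    gsmul := ⟨fun {i j r x} hr hx => by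
      obtain ⟨y, hy, rfl⟩ := hx
      exact ⟨r • y, SetLike.GradedSMul.smul_mem (A := 𝒜) (B := ℳ) hr hy, map_smul P.mkQ r y⟩⟩ }

variable {N : Type u} [AddCommGroup N] [Module R N] {τ' : Type u} [SetLike τ' N] [AddSubgroupClass τ' N]
  (𝒩 : ι → τ') [DirectSum.Decomposition 𝒩] [SetLike.GradedSMul 𝒜 𝒩]

omit [Module R M] [Module R N] [SetLike.GradedSMul 𝒜 ℳ] [SetLike.GradedSMul 𝒜 𝒩] in
lemma prod_isInternal : DirectSum.IsInternal fun g => (asub ℳ g).prod (asub 𝒩 g) := by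
  refine isInternal_of_pr _ (fun g => AddMonoidHom.prodMap (cp ℳ g) (cp 𝒩 g))
    (fun g x hx => Prod.ext (cp_same ℳ hx.1) (cp_same 𝒩 hx.2))
    (fun g h hgh x hx => Prod.ext (cp_ne ℳ hx.1 hgh) (cp_ne 𝒩 hx.2 hgh)) fun x => ?_
  obtain ⟨s, hs, -⟩ := exists_sum_cp ℳ x.1
  obtain ⟨t, ht, -⟩ := exists_sum_cp 𝒩 x.2
  have : x = (∑ g ∈ s, (cp ℳ g x.1, (0 : N))) + ∑ g ∈ t, ((0 : M), cp 𝒩 g x.2) :=
    Prod.ext (by simp [Prod.fst_sum, hs]) (by simp [Prod.snd_sum, ht])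
  rw [this]
  exact add_mem (sum_mem fun g _ => AddSubgroup.mem_iSup_of_mem g ⟨cp_mem ℳ g _, zero_mem _⟩)
    (sum_mem fun g _ => AddSubgroup.mem_iSup_of_mem g ⟨zero_mem _, cp_mem 𝒩 g _⟩)

/-- the product of two graded modules -/
noncomputable def prodG : GrLC.GMod.{u} 𝒜 :=
  { carrier := M × N
    gr := fun g => (asub ℳ g).prod (asub 𝒩 g)
    dec := (prod_isInternal ℳ 𝒩).chooseDecomposition
    gsmul := ⟨fun {_ _ _ _} hr hx => ⟨SetLike.GradedSMul.smul_mem (A := 𝒜) (B := ℳ) hr hx.1,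
      SetLike.GradedSMul.smul_mem (A := 𝒜) (B := 𝒩) hr hx.2⟩⟩ }

omit [Module R M] [SetLike.GradedSMul 𝒜 ℳ] in
lemma shift_isInternal (d : ι) : DirectSum.IsInternal fun g => asub ℳ (g + d) := by
  refine isInternal_of_pr _ (fun g => cp ℳ (g + d)) (fun g x hx => cp_same ℳ hx)
    (fun g h hgh x hx => cp_ne ℳ hx fun e => hgh (add_right_cancel e)) fun x => ?_
  obtain ⟨s, hs, -⟩ := exists_sum_cp ℳ x
  rw [← hs]
  exact sum_mem fun g _ => AddSubgroup.mem_iSup_of_mem (g - d)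
    (show cp ℳ g x ∈ ℳ (g - d + d) by rw [sub_add_cancel]; exact cp_mem ℳ g x)

/-- the shifted module `M(d)` -/
noncomputable def shG (d : ι) : GrLC.GMod.{u} 𝒜 :=
  { carrier := M
    gr := fun g => asub ℳ (g + d)
    dec := (shift_isInternal ℳ d).chooseDecomposition
    gsmul := ⟨fun {i j _ _} hr hx => by
      have h := SetLike.GradedSMul.smul_mem (A := 𝒜) (B := ℳ) hr hx
      rw [vadd_eq_add] at h ⊢
      rwa [show i + j + d = i + (j + d) from add_assoc _ _ _]⟩ }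

/-! ### essential extensions -/

include 𝒜 in
/-- A *essential extension is essential. -/
theorem essential_of_starEss {f : M →ₗ[R] N} (hf : GrLC.IsStarEss ℳ 𝒩 f) (P : Submodule R N) (hP : P ≠ ⊥) :
    P ⊓ LinearMap.range f ≠ ⊥ := by
  classical
  obtain ⟨x, hxP, hx⟩ := P.exists_mem_ne_zero_of_ne_bot hP
  have hI := range_isHomogeneous ℳ 𝒩 hf.grHom
  suffices H : ∀ (n : ℕ) (x : N) (s : Finset ι), s.card ≤ n → x ∈ P → x ≠ 0 →
      (∀ g, g ∉ s → cp 𝒩 g x ∈ LinearMap.range f) → P ⊓ LinearMap.range f ≠ ⊥ by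
    obtain ⟨s, -, hs⟩ := exists_sum_cp 𝒩 x
    exact H s.card x s le_rfl hxP hx fun g hg => by
      rw [show cp 𝒩 g x = 0 from not_not.1 fun h => hg (hs g h)]; exact zero_mem _
  intro n
  induction n with
  | zero =>
    intro x s hs hxP hx hout
    rw [Submodule.ne_bot_iff]
    refine ⟨x, ⟨hxP, ?_⟩, hx⟩
    obtain ⟨t, ht, -⟩ := exists_sum_cp 𝒩 x
    rw [← ht]
    exact Submodule.sum_mem _ fun g _ => hout g (by simp [Finset.card_eq_zero.1 (Nat.le_zero.1 hs)])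
  | succ n ih =>
    intro x s hs hxP hx hout
    by_cases hall : ∀ g ∈ s, cp 𝒩 g x ∈ LinearMap.range f
    · exact ih x ∅ (by simp) hxP hx fun g _ => if hg : g ∈ s then hall g hg else hout g hg
    push Not at hall
    obtain ⟨g, hgs, hg⟩ := hall
    have hne : cp 𝒩 g x ≠ 0 := fun h => hg (h ▸ zero_mem _)
    obtain ⟨y, hy, hy0⟩ := (Submodule.ne_bot_iff _).1 (hf.essential (Submodule.span R {cp 𝒩 g x})
      (span_isHomogeneous 𝒜 𝒩 (by simpa using ⟨g, cp_mem 𝒩 g x⟩))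
      (by rwa [ne_eq, Submodule.span_singleton_eq_bot]))
    obtain ⟨c, hc⟩ := Submodule.mem_span_singleton.1 hy.1
    obtain ⟨h, hh⟩ : ∃ h, cp 𝒩 h y ≠ 0 := not_forall.1 fun h => hy0 (eq_zero_of_cp 𝒩 h)
    rw [← hc, cp_smul_mem 𝒜 𝒩 c (cp_mem 𝒩 g x)] at hh
    set a := h - g
    have hmem : cp 𝒜 a c • cp 𝒩 g x ∈ LinearMap.range f := by
      rw [← cp_smul_mem 𝒜 𝒩 c (cp_mem 𝒩 g x), hc]
      exact hI h hy.2
    refine ih (cp 𝒜 a c • x) ((s.erase g).image fun e => a + e)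
      (Finset.card_image_le.trans (by rw [Finset.card_erase_of_mem hgs]; omega)) (P.smul_mem _ hxP) ?_ ?_
    · intro h0
      refine hh ?_
      rw [← cp_smul_hom 𝒜 𝒩 (cp_mem 𝒜 a c), h0, map_zero]
    · intro e he
      rw [cp_smul_hom' 𝒜 𝒩 (cp_mem 𝒜 a c)]
      rcases eq_or_ne (e - a) g with heq | hne'
      · rw [heq]; exact hmem
      · refine Submodule.smul_mem _ _ (hout _ fun hmems => he ?_)
        exact Finset.mem_image.2 ⟨e - a, Finset.mem_erase.2 ⟨hne', hmems⟩, add_sub_cancel a e⟩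

include 𝒜 in
/-- *essential = homogeneous and essential. -/
lemma starEss_iff_essential {f : M →ₗ[R] N} :
    GrLC.IsStarEss ℳ 𝒩 f ↔ Function.Injective f ∧ GrLC.IsGrHom ℳ 𝒩 f ∧
      ∀ P : Submodule R N, P ≠ ⊥ → P ⊓ LinearMap.range f ≠ ⊥ :=
  ⟨fun h => ⟨h.injective, h.grHom, essential_of_starEss 𝒜 ℳ 𝒩 h⟩,
    fun h => ⟨h.1, h.2.1, fun P _ hP => h.2.2 P hP⟩⟩

end Groth.L12.GrLCLib
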