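import Groth.Prelude.Def_ArtFun3
import Mathlib.RingTheory.LocalRing.Length
import Mathlib.RingTheory.HopkinsLevitzki
import Mathlib.RingTheory.Ideal.Quotient.Noetherian

/-!
# Basic facts about the category of augmented local Artinian algebras
-/

universe u v w

open CategoryTheory ArtFun ArtFun.Art IsLocalRing

namespace Groth.L12

variable {Λ : Type u} {k : Type u} [CommRing Λ] [Field k] [Algebra Λ k]

lemma hom_ext {A B : Art Λ k} {f g : A ⟶ B} (h : ∀ a, f a = g a) : f = g :=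
  Art.hom_ext (AlgHom.ext h)

lemma isNilpotent_of_res_eq_zero (A : Art Λ k) {a : A} (h : A.res a = 0) : IsNilpotent a := by
  have := (A.mem_maximalIdeal_iff a).2 h
  obtain ⟨n, hn⟩ := IsArtinianRing.isNilpotent_jacobson_bot (R := A)
  rw [IsLocalRing.jacobson_eq_maximalIdeal ⊥ bot_ne_top, Ideal.zero_eq_bot] at hn
  exact ⟨n, Ideal.mem_bot.1 (hn ▸ Ideal.pow_mem_pow this n)⟩

lemma isNilpotent_maximalIdeal (A : Art Λ k) : IsNilpotent (maximalIdeal A) :=
  isArtinianRing_iff_isNilpotent_maximalIdeal _ |>.1 inferInstance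

lemma isUnit_iff_res_ne_zero (A : Art Λ k) (a : A) : IsUnit a ↔ A.res a ≠ 0 := by
  rw [ne_eq, ← A.mem_maximalIdeal_iff, IsLocalRing.mem_maximalIdeal, mem_nonunits_iff, not_not]

/-- the inverse of a bijective morphism -/
noncomputable def isoOfBijective {A B : Art Λ k} (f : A ⟶ B) (h : Function.Bijective f) : A ≅ B where
  hom := f
  inv := ⟨(AlgEquiv.ofBijective f.toAlgHom h).symm.toAlgHom, by
    apply AlgHom.ext
    intro b
    obtain ⟨a, rfl⟩ := h.2 b
    change A.res ((AlgEquiv.ofBijective f.toAlgHom h).symm (f a)) = B.res (f a)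
    rw [Art.res_app]
    congr 1
    exact (AlgEquiv.ofBijective f.toAlgHom h).symm_apply_apply a⟩
  hom_inv_id := hom_ext fun a => (AlgEquiv.ofBijective f.toAlgHom h).symm_apply_apply a
  inv_hom_id := hom_ext fun b => (AlgEquiv.ofBijective f.toAlgHom h).apply_symm_apply b

lemma isIso_of_bijective {A B : Art Λ k} (f : A ⟶ B) (h : Function.Bijective f) : IsIso f :=
  (isoOfBijective f h).isIso_hom

lemma bijective_of_isIso {A B : Art Λ k} (f : A ⟶ B) [IsIso f] : Function.Bijective f :=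
  Function.bijective_iff_has_inverse.2 ⟨fun b => inv f b,
    fun a => by change (f ≫ inv f) a = a; rw [IsIso.hom_inv_id]; rfl,
    fun b => by change (inv f ≫ f) b = b; rw [IsIso.inv_hom_id]; rfl⟩

lemma map_bijective_of_isIso (F : Art Λ k ⥤ Type v) {A B : Art Λ k} (f : A ⟶ B) [IsIso f] :
    Function.Bijective (F.map f) :=
  (isIso_iff_bijective _).1 inferInstance

lemma map_map (F : Art Λ k ⥤ Type v) {A B C : Art Λ k} (f : A ⟶ B) (g : B ⟶ C) (x : F.obj A) :
    F.map g (F.map f x) = F.map (f ≫ g) x := by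
  rw [F.map_comp]; rfl

lemma map_id' (F : Art Λ k ⥤ Type v) {A : Art Λ k} (x : F.obj A) : F.map (𝟙 A) x = x := by
  rw [F.map_id]; rfl

lemma ker_le_maximalIdeal {A B : Art Λ k} (f : A ⟶ B) :
    RingHom.ker f.toAlgHom ≤ maximalIdeal A := by
  intro a ha
  rw [A.mem_maximalIdeal_iff, ← Art.res_app f]
  change B.res (f.toAlgHom a) = 0
  rw [RingHom.mem_ker.1 ha, map_zero]

lemma ker_comp_ge {A B C : Art Λ k} (f : A ⟶ B) (g : B ⟶ C) :
    RingHom.ker f.toAlgHom ≤ RingHom.ker (f ≫ g).toAlgHom := by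
  intro a ha
  change g.toAlgHom (f.toAlgHom a) = 0
  rw [RingHom.mem_ker.1 ha, map_zero]

lemma surjective_comp {A B C : Art Λ k} {f : A ⟶ B} {g : B ⟶ C}
    (hf : Function.Surjective f) (hg : Function.Surjective g) : Function.Surjective (f ≫ g) :=
  fun c => by
    obtain ⟨b, rfl⟩ := hg c
    obtain ⟨a, rfl⟩ := hf b
    exact ⟨a, rfl⟩

lemma surjective_of_comp {A B C : Art Λ k} {f : A ⟶ B} {g : B ⟶ C}
    (hfg : Function.Surjective (f ≫ g)) : Function.Surjective g := fun c => by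
  obtain ⟨a, rfl⟩ := hfg c
  exact ⟨f a, rfl⟩

lemma toBase_comp {A B : Art Λ k} (f : A ⟶ B) : f ≫ toBase B = toBase A := eq_toBase _

lemma toBase_surjective (A : Art Λ k) : Function.Surjective (toBase A) := A.res_surjective

lemma exists_desc {A B C : Art Λ k} (p : A ⟶ B) (hp : Function.Surjective p) (g : A ⟶ C)
    (h : ∀ a, p a = 0 → g a = 0) : ∃ q : B ⟶ C, p ≫ q = g := by
  let φ : B →ₐ[Λ] C := AlgHom.liftOfSurjective p.toAlgHom hp g.toAlgHom
    (fun a ha => RingHom.mem_ker.2 (h a (RingHom.mem_ker.1 ha)))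
  have hφ : ∀ a, φ (p a) = g a := fun a => AlgHom.liftOfSurjective_apply _ hp _ _ a
  refine ⟨⟨φ, AlgHom.ext fun b => ?_⟩, hom_ext hφ⟩
  obtain ⟨a, rfl⟩ := hp b
  rw [AlgHom.comp_apply, hφ, Art.res_app, Art.res_app]

section SmallExt

variable {A B : Art Λ k}

lemma mul_eq_of_res_eq {b b' z : B} (h : B.res b = B.res b')
    (hz : ∀ a ∈ maximalIdeal B, a * z = 0) : b * z = b' * z := by
  rw [← sub_eq_zero, ← sub_mul]
  exact hz _ ((B.mem_maximalIdeal_iff _).2 (by rw [map_sub, h, sub_self]))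

lemma IsSemismall.mul_eq_zero {p : B ⟶ A} (h : IsSemismallExt p) {a z : B}
    (ha : a ∈ maximalIdeal B) (hz : p z = 0) : a * z = 0 :=
  Ideal.mem_bot.1 (h.2 ▸ Ideal.mul_mem_mul ha (RingHom.mem_ker.2 hz))

lemma IsSmall.exists_gen {p : B ⟶ A} (h : IsSmallExt p) :
    ∃ t : B, RingHom.ker p.toAlgHom = Ideal.span {t} ∧ t ≠ 0 ∧ p t = 0 ∧
      ∀ a ∈ maximalIdeal B, a * t = 0 := by
  obtain ⟨t, ht⟩ := h.2.2.1.principal
  have ht' : RingHom.ker p.toAlgHom = Ideal.span {t} := ht
  have htk : t ∈ RingHom.ker p.toAlgHom := ht' ▸ Ideal.mem_span_singleton_self t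
  refine ⟨t, ht', fun h0 => h.2.1 ?_, htk, fun a ha => h.isSemismallExt.2 |> fun e =>
    Ideal.mem_bot.1 (e ▸ Ideal.mul_mem_mul ha htk)⟩
  rw [ht', h0, Ideal.span_singleton_eq_bot]

lemma isSmallExt_of_gen {p : B ⟶ A} (hp : Function.Surjective p) {t : B} (ht0 : t ≠ 0)
    (ht : RingHom.ker p.toAlgHom = Ideal.span {t}) (hm : ∀ a ∈ maximalIdeal B, a * t = 0) :
    IsSmallExt p := by
  refine ⟨hp, ?_, ⟨⟨t, ht⟩⟩, ?_⟩
  · rw [ht, Ne, Ideal.span_singleton_eq_bot]; exact ht0
  · rw [ht, eq_bot_iff, Ideal.mul_le]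
    intro a ha z hz
    obtain ⟨b, rfl⟩ := Ideal.mem_span_singleton'.1 hz
    rw [Ideal.mem_bot, mul_left_comm, hm a ha, mul_zero]

lemma exists_socle (B : Art Λ k) {K J : Ideal B} (hKJ : K < J) :
    ∃ t ∈ J, t ∉ K ∧ ∀ a ∈ maximalIdeal B, a * t ∈ K := by
  by_contra hno
  push_neg at hno
  have key : ∀ n, ∀ t ∈ J, t ∉ K → ∃ c ∈ maximalIdeal B ^ n, c * t ∉ K ∧ c * t ∈ J := by
    intro n
    induction n with
    | zero => exact fun t htJ htK => ⟨1, by simp, by simpa using htK, by simpa using htJ⟩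
    | succ n ih =>
      intro t htJ htK
      obtain ⟨c, hc, hcK, hcJ⟩ := ih t htJ htK
      obtain ⟨a, ha, haK⟩ := hno _ hcJ hcK
      refine ⟨a * c, ?_, by rwa [mul_assoc], by rw [mul_assoc]; exact J.mul_mem_left a hcJ⟩
      rw [pow_succ']
      exact Ideal.mul_mem_mul ha hc
  obtain ⟨t, htJ, htK⟩ := Set.exists_of_ssubset hKJ
  obtain ⟨n, hn⟩ := isNilpotent_maximalIdeal B
  obtain ⟨c, hc, hcK, -⟩ := key n t htJ htK
  rw [hn, Ideal.zero_eq_bot, Ideal.mem_bot] at hc
  exact hcK (by simp [hc])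

end SmallExt

/-- Induction principle: a surjection is a composite of small extensions. -/
theorem surjective_induction
    (P : ∀ ⦃A B : Art Λ k⦄, (B ⟶ A) → Prop)
    (hiso : ∀ ⦃A B : Art Λ k⦄ (e : B ⟶ A), IsIso e → P e)
    (hsmall : ∀ ⦃A B : Art Λ k⦄ (p : B ⟶ A), IsSmallExt p → P p)
    (hcomp : ∀ ⦃A B C : Art Λ k⦄ (p : C ⟶ B) (q : B ⟶ A), P p → P q → P (p ≫ q))
    ⦃A B : Art Λ k⦄ (f : B ⟶ A) (hf : Function.Surjective f) : P f := by
  have hm : ∀ K : Ideal B, K ≤ RingHom.ker f.toAlgHom → K ≤ maximalIdeal B :=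
    fun K h => h.trans (ker_le_maximalIdeal f)
  suffices H : ∀ (K : Ideal B) (hK : K ≤ RingHom.ker f.toAlgHom), P (quotFactor (hm K hK) f hK) by
    have h0 := H ⊥ bot_le
    have hq : IsIso (quotMk B ⊥ (hm _ bot_le)) := isIso_of_bijective _
      ⟨fun a b h => by
        have := Ideal.Quotient.eq.1 h
        rwa [Ideal.mem_bot, sub_eq_zero] at this, quotMk_surjective _ _ _⟩
    rw [← quotMk_quotFactor (hm ⊥ bot_le) f bot_le]
    exact hcomp _ _ (hiso _ hq) h0
  intro K
  induction K using WellFoundedGT.induction with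
  | ind K ih =>
    intro hK
    rcases eq_or_lt_of_le hK with heq | hlt
    · refine hiso _ (isIso_of_bijective _ ⟨?_, ?_⟩)
      · intro x y hxy
        obtain ⟨a, rfl⟩ := Ideal.Quotient.mk_surjective x
        obtain ⟨b, rfl⟩ := Ideal.Quotient.mk_surjective y
        apply Ideal.Quotient.eq.2
        rw [heq, RingHom.mem_ker, map_sub, sub_eq_zero]
        exact hxy
      · intro a
        obtain ⟨b, rfl⟩ := hf a
        exact ⟨Ideal.Quotient.mk _ b, rfl⟩
    · obtain ⟨t, htJ, htK, htm⟩ := exists_socle B hlt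
      have hK' : K ⊔ Ideal.span {t} ≤ RingHom.ker f.toAlgHom :=
        sup_le hK ((Ideal.span_singleton_le_iff_mem _).2 htJ)
      have hlt' : K < K ⊔ Ideal.span {t} := lt_of_le_of_ne le_sup_left fun e =>
        htK (e ▸ Ideal.mem_sup_right (Ideal.mem_span_singleton_self t))
      let q : quot B K (hm K hK) ⟶ quot B _ (hm _ hK') :=
        quotFactor (hm K hK) (quotMk B _ (hm _ hK'))
          (fun x hx => Ideal.Quotient.eq_zero_iff_mem.2 (Ideal.mem_sup_left hx))
      have hq : IsSmallExt q := by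
        refine isSmallExt_of_gen ?_ (t := (Ideal.Quotient.mk K t : B ⧸ K)) ?_ ?_ ?_
        · intro x
          obtain ⟨a, rfl⟩ := Ideal.Quotient.mk_surjective x
          exact ⟨Ideal.Quotient.mk _ a, rfl⟩
        · exact fun h => htK (Ideal.Quotient.eq_zero_iff_mem.1 h)
        · apply le_antisymm
          · intro x hx
            obtain ⟨a, rfl⟩ := Ideal.Quotient.mk_surjective (I := K) x
            have ha : a ∈ K ⊔ Ideal.span {t} := Ideal.Quotient.eq_zero_iff_mem.1 hx
            obtain ⟨y, hy, z, hz, rfl⟩ := Submodule.mem_sup.1 ha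
            obtain ⟨c, rfl⟩ := Ideal.mem_span_singleton'.1 hz
            refine Ideal.mem_span_singleton'.2 ⟨Ideal.Quotient.mk K c, ?_⟩
            rw [map_add, Ideal.Quotient.eq_zero_iff_mem.2 hy, zero_add, map_mul]
            rfl
          · refine (Ideal.span_singleton_le_iff_mem _).2 ?_
            exact Ideal.Quotient.eq_zero_iff_mem.2
              (Ideal.mem_sup_right (Ideal.mem_span_singleton_self t))
        · intro a ha
          obtain ⟨b, rfl⟩ := Ideal.Quotient.mk_surjective (I := K) a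
          refine (map_mul (Ideal.Quotient.mk K) b t).symm.trans (Ideal.Quotient.eq_zero_iff_mem.2 (htm b ?_))
          rw [B.mem_maximalIdeal_iff]
          exact ((quot B K (hm K hK)).mem_maximalIdeal_iff _).1 ha
      have : quotFactor (hm K hK) f hK = q ≫ quotFactor (hm _ hK') f hK' := hom_ext fun x => by
        obtain ⟨a, rfl⟩ := Ideal.Quotient.mk_surjective (I := K) x
        rfl
      rw [this]
      exact hcomp _ _ (hsmall _ hq) (ih _ hlt' hK')

end Groth.L12
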