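import Groth.Agent.L12.ArtBasic
import Mathlib.Algebra.Algebra.Subalgebra.Basic
import Mathlib.RingTheory.LocalRing.Pullback

/-!
# Fibre products in the category of augmented local Artinian algebras
-/

universe u v w

open CategoryTheory ArtFun ArtFun.Art IsLocalRing

namespace Groth.L12

variable {Λ : Type u} {k : Type u} [CommRing Λ] [Field k] [Algebra Λ k]

/-- the equalising subalgebra of `A₁ × A₂` -/
def pbSub {A A₁ A₂ : Art Λ k} (f₁ : A₁ ⟶ A) (f₂ : A₂ ⟶ A) : Subalgebra Λ (A₁ × A₂) :=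
  AlgHom.equalizer (f₁.toAlgHom.comp (AlgHom.fst Λ A₁ A₂)) (f₂.toAlgHom.comp (AlgHom.snd Λ A₁ A₂))

lemma res_eq_of_map_eq {A A₁ A₂ : Art Λ k} {f₁ : A₁ ⟶ A} {f₂ : A₂ ⟶ A} {a₁ : A₁} {a₂ : A₂}
    (h : f₁ a₁ = f₂ a₂) : A₁.res a₁ = A₂.res a₂ := by
  rw [← Art.res_app f₁, h, Art.res_app]

/-- a local ring with a surjection to `k` sees every object with finite length -/
lemma isFiniteLength_of_algebra {B : Type u} [CommRing B] [IsLocalRing B] (A : Art Λ k)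
    [Algebra B A] [IsLocalHom (algebraMap B A)]
    (h : ∀ a : A, ∃ b : B, A.res (algebraMap B A b) = A.res a) : IsFiniteLength B A := by
  rw [← Module.length_ne_top_iff, IsLocalRing.length_restrictScalars B A A]
  have h1 : Module.length A A ≠ ⊤ := Module.length_ne_top
  have hs : Function.Surjective (algebraMap (ResidueField B) (ResidueField A)) := by
    intro x
    obtain ⟨a, rfl⟩ := residue_surjective x
    obtain ⟨b, hb⟩ := h a
    refine ⟨residue B b, ?_⟩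
    rw [IsLocalRing.ResidueField.algebraMap_residue, ← sub_eq_zero, ← map_sub, residue_eq_zero_iff,
      A.mem_maximalIdeal_iff, map_sub, hb, sub_self]
  rw [Module.length_eq_of_surjective (M := ResidueField A) hs]
  exact WithTop.mul_ne_top h1 Module.length_ne_top

theorem exists_isFibreProd {A A₁ A₂ : Art Λ k} (f₁ : A₁ ⟶ A) (f₂ : A₂ ⟶ A)
    (h : ∀ c : k, ∃ (a₁ : A₁) (a₂ : A₂), f₁ a₁ = f₂ a₂ ∧ A₁.res a₁ = c) :
    ∃ (B : Art Λ k) (p₁ : B ⟶ A₁) (p₂ : B ⟶ A₂), IsFibreProd p₁ p₂ f₁ f₂ := by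
  have hmem : ∀ x : A₁ × A₂, x ∈ pbSub f₁ f₂ ↔ f₁ x.1 = f₂ x.2 := fun x => Iff.rfl
  let π₁ : pbSub f₁ f₂ →ₐ[Λ] A₁ := (AlgHom.fst Λ A₁ A₂).comp (pbSub f₁ f₂).val
  let π₂ : pbSub f₁ f₂ →ₐ[Λ] A₂ := (AlgHom.snd Λ A₁ A₂).comp (pbSub f₁ f₂).val
  let r : pbSub f₁ f₂ →ₐ[Λ] k := A₁.res.comp π₁
  have hr : Function.Surjective r := fun c => by
    obtain ⟨a₁, a₂, he, hc⟩ := h c
    exact ⟨⟨(a₁, a₂), (hmem _).2 he⟩, hc⟩
  haveI : Nontrivial (pbSub f₁ f₂) := RingHom.domain_nontrivial (r : pbSub f₁ f₂ →+* k)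
  have hu : ∀ x : pbSub f₁ f₂, r x ≠ 0 → IsUnit x := by
    rintro ⟨⟨a₁, a₂⟩, hx⟩ hne
    have he : f₁ a₁ = f₂ a₂ := (hmem _).1 hx
    obtain ⟨u₁, hu₁⟩ := (isUnit_iff_res_ne_zero A₁ a₁).2 hne
    obtain ⟨u₂, hu₂⟩ := (isUnit_iff_res_ne_zero A₂ a₂).2 (res_eq_of_map_eq he ▸ hne)
    have hinv : f₁ (↑u₁⁻¹ : A₁) = f₂ (↑u₂⁻¹ : A₂) := by
      refine left_inv_eq_right_inv (a := f₁ a₁) ?_ ?_
      · rw [← map_mul, ← hu₁, Units.inv_mul, map_one]
      · rw [he, ← map_mul, ← hu₂, Units.mul_inv, map_one]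
    refine IsUnit.of_mul_eq_one ⟨((↑u₁⁻¹ : A₁), (↑u₂⁻¹ : A₂)), (hmem _).2 hinv⟩ ?_
    apply Subtype.ext
    apply Prod.ext
    · change a₁ * (↑u₁⁻¹ : A₁) = 1
      rw [← hu₁, Units.mul_inv]
    · change a₂ * (↑u₂⁻¹ : A₂) = 1
      rw [← hu₂, Units.mul_inv]
  haveI : IsLocalRing (pbSub f₁ f₂) := IsLocalRing.of_isUnit_or_isUnit_one_sub_self fun x => by
    by_cases hx : r x = 0
    · right; apply hu; rw [map_sub, map_one, hx, sub_zero]; exact one_ne_zero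
    · exact Or.inl (hu x hx)
  haveI : IsArtinianRing (pbSub f₁ f₂) := by
    letI : Algebra (pbSub f₁ f₂) A₁ := π₁.toRingHom.toAlgebra
    letI : Algebra (pbSub f₁ f₂) A₂ := π₂.toRingHom.toAlgebra
    haveI : IsLocalHom (algebraMap (pbSub f₁ f₂) A₁) := ⟨fun x hx =>
      hu x ((isUnit_iff_res_ne_zero A₁ _).1 hx)⟩
    haveI : IsLocalHom (algebraMap (pbSub f₁ f₂) A₂) := ⟨fun x hx =>
      hu x (by
        have := (isUnit_iff_res_ne_zero A₂ _).1 hx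
        exact fun h0 => this ((res_eq_of_map_eq ((hmem _).1 x.2)).symm.trans h0))⟩
    have l₁ : IsFiniteLength (pbSub f₁ f₂) A₁ := isFiniteLength_of_algebra A₁ fun a => by
      obtain ⟨x, hx⟩ := hr (A₁.res a)
      exact ⟨x, hx⟩
    have l₂ : IsFiniteLength (pbSub f₁ f₂) A₂ := isFiniteLength_of_algebra A₂ fun a => by
      obtain ⟨x, hx⟩ := hr (A₂.res a)
      exact ⟨x, (res_eq_of_map_eq ((hmem _).1 x.2)).symm.trans hx⟩
    rw [isFiniteLength_iff_isNoetherian_isArtinian] at l₁ l₂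
    haveI := l₁.2
    haveI := l₂.2
    exact isArtinian_of_injective
      ((Algebra.linearMap (pbSub f₁ f₂) A₁).prod (Algebra.linearMap (pbSub f₁ f₂) A₂))
      (fun x y hxy => Subtype.ext hxy)
  let B : Art Λ k := Art.of (pbSub f₁ f₂) r hr
  refine ⟨B, ⟨π₁, rfl⟩, ⟨π₂, ?_⟩, ⟨?_, ?_, ?_⟩⟩
  · exact AlgHom.ext fun x => (res_eq_of_map_eq ((hmem _).1 x.2)).symm
  · exact hom_ext fun x => (hmem _).1 x.2
  · exact fun b₁ b₂ e₁ e₂ => Subtype.ext (Prod.ext e₁ e₂)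
  · exact fun a' a'' e => ⟨⟨(a', a''), (hmem _).2 e⟩, rfl, rfl⟩

theorem exists_isFibreProd_of_surjective {A A₁ A₂ : Art Λ k} (f₁ : A₁ ⟶ A) (f₂ : A₂ ⟶ A)
    (hf₂ : Function.Surjective f₂) :
    ∃ (B : Art Λ k) (p₁ : B ⟶ A₁) (p₂ : B ⟶ A₂), IsFibreProd p₁ p₂ f₁ f₂ :=
  exists_isFibreProd f₁ f₂ fun c => by
    obtain ⟨a₁, ha₁⟩ := A₁.res_surjective c
    obtain ⟨a₂, ha₂⟩ := hf₂ (f₁ a₁)
    exact ⟨a₁, a₂, ha₂.symm, ha₁⟩

theorem exists_isFibreProd_of_surjective_left {A A₁ A₂ : Art Λ k} (f₁ : A₁ ⟶ A) (f₂ : A₂ ⟶ A)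
    (hf₁ : Function.Surjective f₁) :
    ∃ (B : Art Λ k) (p₁ : B ⟶ A₁) (p₂ : B ⟶ A₂), IsFibreProd p₁ p₂ f₁ f₂ :=
  exists_isFibreProd f₁ f₂ fun c => by
    obtain ⟨a₂, ha₂⟩ := A₂.res_surjective c
    obtain ⟨a₁, ha₁⟩ := hf₁ (f₂ a₂)
    exact ⟨a₁, a₂, ha₁, (res_eq_of_map_eq ha₁).trans ha₂⟩

section Props

variable {B A A' A'' : Art Λ k} {p' : B ⟶ A'} {p'' : B ⟶ A''} {f' : A' ⟶ A} {f'' : A'' ⟶ A}

lemma IsFP.symm (h : IsFibreProd p' p'' f' f'') : IsFibreProd p'' p' f'' f' where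
  w := h.w.symm
  inj b₁ b₂ e₁ e₂ := h.inj b₁ b₂ e₂ e₁
  surj a'' a' e := by obtain ⟨b, e₁, e₂⟩ := h.surj a' a'' e.symm; exact ⟨b, e₂, e₁⟩

lemma IsFP.fst_surjective (h : IsFibreProd p' p'' f' f'') (hf : Function.Surjective f'') :
    Function.Surjective p' := fun a' => by
  obtain ⟨a'', e⟩ := hf (f' a')
  obtain ⟨b, e₁, -⟩ := h.surj a' a'' e.symm
  exact ⟨b, e₁⟩

lemma IsFP.snd_surjective (h : IsFibreProd p' p'' f' f'') (hf : Function.Surjective f') :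
    Function.Surjective p'' := IsFP.fst_surjective (IsFP.symm h) hf

lemma IsFP.hom_ext (h : IsFibreProd p' p'' f' f'') {C : Art Λ k} {g₁ g₂ : C ⟶ B}
    (e₁ : g₁ ≫ p' = g₂ ≫ p') (e₂ : g₁ ≫ p'' = g₂ ≫ p'') : g₁ = g₂ :=
  Groth.L12.hom_ext fun c => h.inj _ _ (congrArg (fun (g : C ⟶ A') => g c) e₁)
    (congrArg (fun (g : C ⟶ A'') => g c) e₂)

lemma IsFP.exists_lift (h : IsFibreProd p' p'' f' f'') {C : Art Λ k} (g' : C ⟶ A') (g'' : C ⟶ A'')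
    (e : g' ≫ f' = g'' ≫ f'') : ∃ g : C ⟶ B, g ≫ p' = g' ∧ g ≫ p'' = g'' := by
  choose g hg' hg'' using fun c => h.surj (g' c) (g'' c) (congrArg (fun (g : C ⟶ A) => g c) e)
  have ext : ∀ {b₁ b₂ : B}, p' b₁ = p' b₂ → p'' b₁ = p'' b₂ → b₁ = b₂ := fun e₁ e₂ => h.inj _ _ e₁ e₂
  let φ : C →ₐ[Λ] B :=
    { toFun := g
      map_one' := ext (by rw [hg', map_one, map_one]) (by rw [hg'', map_one, map_one])
      map_mul' := fun x y => ext (by rw [hg', map_mul, map_mul, hg', hg'])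
        (by rw [hg'', map_mul, map_mul, hg'', hg''])
      map_zero' := ext (by rw [hg', map_zero, map_zero]) (by rw [hg'', map_zero, map_zero])
      map_add' := fun x y => ext (by rw [hg', map_add, map_add, hg', hg'])
        (by rw [hg'', map_add, map_add, hg'', hg''])
      commutes' := fun x => ext (by rw [hg', AlgHom.commutes, AlgHom.commutes])
        (by rw [hg'', AlgHom.commutes, AlgHom.commutes]) }
  refine ⟨⟨φ, AlgHom.ext fun c => ?_⟩, Groth.L12.hom_ext hg', Groth.L12.hom_ext hg''⟩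
  rw [AlgHom.comp_apply, ← Art.res_app p']
  change A'.res (p' (g c)) = _
  rw [hg', Art.res_app]

lemma IsFP.isSmallExt_fst (h : IsFibreProd p' p'' f' f'') (hf : IsSmallExt f'') : IsSmallExt p' := by
  obtain ⟨t, ht, ht0, htk, htm⟩ := IsSmall.exists_gen hf
  obtain ⟨s, hs', hs''⟩ := h.surj 0 t (by rw [map_zero]; exact htk.symm)
  refine isSmallExt_of_gen (t := s) (IsFP.fst_surjective h hf.1)
    (fun e => ht0 (by rw [← hs'', e, map_zero])) ?_ ?_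
  · refine le_antisymm (fun b hb => ?_) ((Ideal.span_singleton_le_iff_mem _).2 hs')
    have hbk : f'' (p'' b) = 0 := by rw [← h.w_apply, RingHom.mem_ker.1 hb, map_zero]
    obtain ⟨c, hc⟩ := Ideal.mem_span_singleton'.1 (ht ▸ RingHom.mem_ker.2 hbk : p'' b ∈ Ideal.span {t})
    obtain ⟨d, hd⟩ := B.res_surjective (A''.res c)
    refine Ideal.mem_span_singleton'.2 ⟨d, h.inj _ _ ?_ ?_⟩
    · rw [map_mul, hs', mul_zero]; exact (RingHom.mem_ker.1 hb).symm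
    · rw [map_mul, hs'', ← hc]
      exact mul_eq_of_res_eq (by rw [Art.res_app, hd]) htm
  · intro a ha
    refine h.inj _ _ ?_ ?_
    · rw [map_mul, hs', mul_zero, map_zero]
    · rw [map_mul, hs'', map_zero]
      exact htm _ ((A''.mem_maximalIdeal_iff _).2 (by rw [Art.res_app]; exact (B.mem_maximalIdeal_iff _).1 ha))

/-- pasting of fibre product squares -/
lemma IsFP.paste {C E : Art Λ k} {q' : C ⟶ B} {q'' : C ⟶ E} {g : E ⟶ A''}
    (h : IsFibreProd p' p'' f' f'') (hq : IsFibreProd q' q'' p'' g) :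
    IsFibreProd (q' ≫ p') q'' f' (g ≫ f'') where
  w := by rw [Category.assoc, h.w, ← Category.assoc, hq.w, Category.assoc]
  inj b₁ b₂ e₁ e₂ := hq.inj _ _ (h.inj _ _ e₁ (by
    change p'' (q' b₁) = p'' (q' b₂)
    rw [hq.w_apply, hq.w_apply, e₂])) e₂
  surj a' e' e := by
    obtain ⟨b, hb₁, hb₂⟩ := h.surj a' (g e') e
    obtain ⟨c, hc₁, hc₂⟩ := hq.surj b e' hb₂
    exact ⟨c, by change p' (q' c) = a'; rw [hc₁, hb₁], hc₂⟩

/-- the other half of pasting -/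
lemma IsFP.of_paste {C E : Art Λ k} {q' : C ⟶ B} {q'' : C ⟶ E} {g : E ⟶ A''}
    (h : IsFibreProd p' p'' f' f'') (w : q' ≫ p'' = q'' ≫ g)
    (hq : IsFibreProd (q' ≫ p') q'' f' (g ≫ f'')) : IsFibreProd q' q'' p'' g where
  w := w
  inj b₁ b₂ e₁ e₂ := hq.inj _ _ (congrArg p'.toAlgHom e₁) e₂
  surj b e' e := by
    obtain ⟨c, hc₁, hc₂⟩ := hq.surj (p' b) e' (by
      change f' (p' b) = f'' (g e')
      rw [h.w_apply, e])
    refine ⟨c, h.inj _ _ hc₁ ?_, hc₂⟩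
    have := congrArg (fun (t : C ⟶ A'') => t c) w
    change p'' (q' c) = g (q'' c) at this
    rw [this, hc₂, e]

end Props

end Groth.L12
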