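import Groth.Agent.L12.Torsor
import Groth.Agent.L12.PowSer
import Mathlib.RingTheory.AdicCompletion.LocalRing
import Mathlib.RingTheory.AdicCompletion.Noetherian
import Mathlib.RingTheory.Polynomial.Basic

/-!
# Coefficient rings: truncations, quotients, limits, free objects
-/

universe u v w

open CategoryTheory ArtFun ArtFun.Art IsLocalRing

namespace Groth.L12

variable {Λ : Type u} {k : Type u} [CommRing Λ] [Field k] [Algebra Λ k]

instance isAdicComplete_cring (R : CRing Λ k) : IsAdicComplete (maximalIdeal R.carrier) R.carrier :=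
  R.isAdicComplete

lemma cring_ker_eq (R : CRing Λ k) : RingHom.ker R.res = maximalIdeal R.carrier :=
  Ideal.ext fun a => (RingHom.mem_ker).trans (CRing.mem_maximalIdeal_iff R a).symm

lemma cring_isUnit_iff (R : CRing Λ k) (a : R.carrier) : IsUnit a ↔ R.res a ≠ 0 := by
  rw [ne_eq, ← CRing.mem_maximalIdeal_iff, IsLocalRing.mem_maximalIdeal, mem_nonunits_iff, not_not]

lemma homSet_map_max {R : CRing Λ k} {A : Art Λ k} (φ : HomSet R.carrier R.res A) :
    (maximalIdeal R.carrier).map φ.1 ≤ maximalIdeal A := by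
  refine Ideal.map_le_iff_le_comap.2 fun r hr => ?_
  rw [Ideal.mem_comap, A.mem_maximalIdeal_iff, ← AlgHom.comp_apply, φ.2]
  exact (CRing.mem_maximalIdeal_iff R r).1 hr

lemma cringHom_map_max {R S : CRing Λ k} {g : R.carrier →ₐ[Λ] S.carrier} (hg : S.res.comp g = R.res) :
    (maximalIdeal R.carrier).map g ≤ maximalIdeal S.carrier := by
  refine Ideal.map_le_iff_le_comap.2 fun r hr => ?_
  rw [Ideal.mem_comap, CRing.mem_maximalIdeal_iff, ← AlgHom.comp_apply, hg]
  exact (CRing.mem_maximalIdeal_iff R r).1 hr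

/-- a homomorphism to an Artinian object factors through a truncation -/
lemma exists_trunc_factor (R : CRing Λ k) {A : Art Λ k} (φ : HomSet R.carrier R.res A) :
    ∃ N, ∀ n, N ≤ n → ∃ ψ : R.trunc n ⟶ A, HomSet.map ψ (R.truncHom n) = φ := by
  obtain ⟨N, hN⟩ := isNilpotent_maximalIdeal A
  refine ⟨N, fun n hn => ?_⟩
  have hle : ∀ a ∈ CRing.mpow R n, φ.1 a = 0 := fun a ha => by
    have h1 : φ.1 a ∈ maximalIdeal A ^ (n + 1) := Ideal.pow_right_mono (homSet_map_max φ) _ (by
      rw [← Ideal.map_pow]; exact Ideal.mem_map_of_mem _ ha)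
    have h2 := Ideal.pow_le_pow_right (show N ≤ n + 1 by omega) h1
    rwa [hN] at h2
  refine ⟨⟨Ideal.Quotient.liftₐ (CRing.mpow R n) φ.1 hle, ?_⟩, Subtype.ext (Ideal.Quotient.liftₐ_comp _ _ _)⟩
  apply AlgHom.ext
  intro x
  obtain ⟨a, rfl⟩ := Ideal.Quotient.mk_surjective x
  exact DFunLike.congr_fun φ.2 a

lemma truncHom_surjective (R : CRing Λ k) (n : ℕ) : Function.Surjective (R.truncHom n).1 :=
  Ideal.Quotient.mk_surjective

lemma homSet_ext_of_surj {R : CRing Λ k} {A : Art Λ k} {n : ℕ} {ψ ψ' : R.trunc n ⟶ A}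
    (h : HomSet.map ψ (R.truncHom n) = HomSet.map ψ' (R.truncHom n)) : ψ = ψ' :=
  hom_ext fun x => by
    obtain ⟨a, rfl⟩ := truncHom_surjective R n x
    exact DFunLike.congr_fun (congrArg Subtype.val h) a

/-- compatible maps into the truncations of `S` glue to a map into `S` -/
lemma exists_lift_cring (R : Type u) [CommRing R] [Algebra Λ R] (resR : R →ₐ[Λ] k) (S : CRing Λ k)
    (φ : ∀ n, HomSet R resR (S.trunc n))
    (h : ∀ n, HomSet.map (S.truncMap n) (φ (n + 1)) = φ n) :
    ∃ g : R →ₐ[Λ] S.carrier, S.res.comp g = resR ∧ ∀ n r, (S.truncHom n).1 (g r) = (φ n).1 r := by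
  choose s hs using fun n r => truncHom_surjective S n ((φ n).1 r)
  have hstep : ∀ n r, s (n + 1) r - s n r ∈ maximalIdeal S.carrier ^ (n + 1) := fun n r => by
    refine Ideal.Quotient.eq.1 ?_
    change (S.truncHom n).1 (s (n + 1) r) = (S.truncHom n).1 (s n r)
    rw [hs n r, ← DFunLike.congr_fun (congrArg Subtype.val (h n)) r]
    change (S.truncHom n).1 (s (n + 1) r) = S.truncMap n ((φ (n + 1)).1 r)
    rw [← hs (n + 1) r]
    rfl
  have hcauchy : ∀ r {m n : ℕ}, m ≤ n → s n r - s m r ∈ maximalIdeal S.carrier ^ (m + 1) := by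
    intro r m n hmn
    induction n, hmn using Nat.le_induction with
    | base => simp
    | succ n hmn ih =>
      rw [show s (n + 1) r - s m r = (s (n + 1) r - s n r) + (s n r - s m r) by ring]
      exact add_mem (Ideal.pow_le_pow_right (by omega) (hstep n r)) ih
  have hlim : ∀ r, ∃ t : S.carrier, ∀ n, t - s n r ∈ maximalIdeal S.carrier ^ (n + 1) := fun r => by
    obtain ⟨t, ht⟩ := IsPrecomplete.prec (S.isAdicComplete.toIsPrecomplete) (f := fun n => s n r)
      (fun {m n} hmn => by
        rw [SModEq.sub_mem, smul_eq_mul, Ideal.mul_top, ← neg_sub, neg_mem_iff]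
        exact Ideal.pow_le_pow_right (Nat.le_succ m) (hcauchy r hmn))
    refine ⟨t, fun n => ?_⟩
    have := (SModEq.sub_mem.1 (ht (n + 1)))
    rw [smul_eq_mul, Ideal.mul_top] at this
    rw [show t - s n r = -(s (n + 1) r - t) + (s (n + 1) r - s n r) by ring]
    exact add_mem (neg_mem this) (hstep n r)
  choose g hg using hlim
  have hev : ∀ n r, (S.truncHom n).1 (g r) = (φ n).1 r := fun n r => by
    rw [← hs n r]; exact Ideal.Quotient.eq.2 (hg r n)
  have hsep : ∀ {x y : S.carrier}, (∀ n, (S.truncHom n).1 x = (S.truncHom n).1 y) → x = y :=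
    fun {x y} e => eq_of_forall_sub_mem_pow (maximalIdeal S.carrier) fun n =>
      Ideal.pow_le_pow_right (Nat.le_succ n) (Ideal.Quotient.eq.1 (e n))
  let G : R →ₐ[Λ] S.carrier :=
    { toFun := g
      map_one' := hsep fun n => by rw [hev, map_one, map_one]
      map_mul' := fun x y => hsep fun n => by rw [hev, map_mul, map_mul, hev, hev]
      map_zero' := hsep fun n => by rw [hev, map_zero, map_zero]
      map_add' := fun x y => hsep fun n => by rw [hev, map_add, map_add, hev, hev]
      commutes' := fun x => hsep fun n => by rw [hev, AlgHom.commutes, AlgHom.commutes] }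
  refine ⟨G, AlgHom.ext fun r => ?_, hev⟩
  have := DFunLike.congr_fun (φ 0).2 r
  rw [AlgHom.comp_apply] at this
  rw [← this, ← hev 0 r]
  rfl

lemma cring_hom_ext {R : Type u} [CommRing R] [Algebra Λ R] {S : CRing Λ k} {g g' : R →ₐ[Λ] S.carrier}
    (h : ∀ n r, (S.truncHom n).1 (g r) = (S.truncHom n).1 (g' r)) : g = g' :=
  AlgHom.ext fun r => eq_of_forall_sub_mem_pow (maximalIdeal S.carrier) fun n =>
      Ideal.pow_le_pow_right (Nat.le_succ n) (Ideal.Quotient.eq.1 (h n r))

/-- descending open ideals in a complete local ring -/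
lemma chevalley {P : Type u} [CommRing P] [IsLocalRing P] [IsNoetherianRing P]
    [IsAdicComplete (maximalIdeal P) P] (J : ℕ → Ideal P) (hanti : Antitone J)
    (hopen : ∀ n, ∃ e, maximalIdeal P ^ e ≤ J n) (n : ℕ) :
    ∃ N, J N ≤ (⨅ i, J i) ⊔ maximalIdeal P ^ n := by
  have hstab : ∀ j, ∃ N, ∀ M, N ≤ M → J N ≤ J M ⊔ maximalIdeal P ^ j := fun j => by
    haveI : IsArtinianRing (P ⧸ maximalIdeal P ^ (j + 1)) := by
      haveI : Nontrivial (P ⧸ maximalIdeal P ^ (j + 1)) := Ideal.Quotient.nontrivial_iff.2 fun h =>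
        (maximalIdeal.isMaximal P).ne_top (top_le_iff.1 (h ▸ Ideal.pow_le_self (Nat.succ_ne_zero j)))
      haveI : IsLocalRing (P ⧸ maximalIdeal P ^ (j + 1)) :=
        IsLocalRing.of_surjective' (Ideal.Quotient.mk _) Ideal.Quotient.mk_surjective
      rw [isArtinianRing_iff_isNilpotent_maximalIdeal]
      refine ⟨j + 1, ?_⟩
      rw [← IsLocalRing.map_maximalIdeal_of_surjective _ Ideal.Quotient.mk_surjective, ← Ideal.map_pow]
      exact Ideal.map_quotient_self _
    obtain ⟨N, hN⟩ := IsArtinian.monotone_stabilizes (R := P ⧸ maximalIdeal P ^ (j + 1))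
      ⟨fun i => OrderDual.toDual ((J i).map (Ideal.Quotient.mk (maximalIdeal P ^ (j + 1)))),
        fun a b hab => Ideal.map_mono (hanti hab)⟩
    refine ⟨N, fun M hM x hx => ?_⟩
    have hx' : Ideal.Quotient.mk (maximalIdeal P ^ (j + 1)) x ∈ (J M).map (Ideal.Quotient.mk (maximalIdeal P ^ (j + 1))) := by
      have := OrderDual.toDual.injective (hN M hM)
      rw [← this]
      exact Ideal.mem_map_of_mem _ hx
    obtain ⟨y, hy, e⟩ := (Ideal.mem_map_iff_of_surjective _ Ideal.Quotient.mk_surjective).1 hx'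
    rw [show x = y + -(y - x) by ring]
    exact add_mem (Ideal.mem_sup_left hy) (Ideal.mem_sup_right
      (neg_mem (Ideal.pow_le_pow_right (Nat.le_succ j) (Ideal.Quotient.eq.1 e))))
  choose N hN using hstab
  let M : ℕ → ℕ := fun j => (Finset.range (j + 1)).sup N + j
  have hMmono : Monotone M := fun a b hab =>
    Nat.add_le_add (Finset.sup_mono (Finset.range_subset_range.2 (Nat.succ_le_succ hab))) hab
  have hMN : ∀ j, N j ≤ M j := fun j =>
    le_add_right (Finset.le_sup (Finset.mem_range.2 (Nat.lt_succ_self j)))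
  refine ⟨M n, fun x hx => ?_⟩
  have hstep : ∀ j, ∀ y ∈ J (M (n + j)), ∃ z ∈ J (M (n + (j + 1))), z - y ∈ maximalIdeal P ^ (n + j) := by
    intro j y hy
    obtain ⟨z, hz, e, he, rfl⟩ := Submodule.mem_sup.1 (hN (n + j) (M (n + (j + 1)))
      ((hMN _).trans (hMmono (by omega))) (hanti (hMN _) hy))
    exact ⟨z, hz, by rw [show z - (z + e) = -e by ring]; exact neg_mem he⟩
  choose f hf hf' using hstep
  let a : ∀ j, J (M (n + j)) := fun j => Nat.rec ⟨x, hx⟩ (fun j y => ⟨f j y.1 y.2, hf j y.1 y.2⟩) j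
  have ha : ∀ j, (a (j + 1)).1 - (a j).1 ∈ maximalIdeal P ^ (n + j) := fun j => hf' j _ _
  have hcauchy : ∀ {m l : ℕ}, m ≤ l → (a l).1 - (a m).1 ∈ maximalIdeal P ^ (n + m) := by
    intro m l hml
    induction l, hml using Nat.le_induction with
    | base => simp
    | succ l hml ih =>
      rw [show (a (l + 1)).1 - (a m).1 = ((a (l + 1)).1 - (a l).1) + ((a l).1 - (a m).1) by ring]
      exact add_mem (Ideal.pow_le_pow_right (by omega) (ha l)) ih
  obtain ⟨t, ht⟩ := IsPrecomplete.prec (I := maximalIdeal P) ‹IsAdicComplete (maximalIdeal P) P›.toIsPrecomplete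
    (f := fun j => (a j).1) (fun {m l} hml => by
      rw [SModEq.sub_mem, smul_eq_mul, Ideal.mul_top, ← neg_sub, neg_mem_iff]
      exact Ideal.pow_le_pow_right (by omega) (hcauchy hml))
  have ht' : ∀ j, (a j).1 - t ∈ maximalIdeal P ^ j := fun j => by
    have := SModEq.sub_mem.1 (ht j)
    rwa [smul_eq_mul, Ideal.mul_top] at this
  have htJ : t ∈ ⨅ i, J i := by
    refine (Submodule.mem_iInf _).2 fun i => ?_
    obtain ⟨e, he⟩ := hopen i
    have h1 : (a (max i e)).1 ∈ J i :=
      hanti (le_trans (le_trans (le_max_left i e) (Nat.le_add_left _ n)) (Nat.le_add_left _ _)) (a (max i e)).2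
    have h2 : (a (max i e)).1 - t ∈ J i := he (Ideal.pow_le_pow_right (le_max_right i e) (ht' _))
    simpa using sub_mem h1 h2
  have h3 : (a n).1 - x ∈ maximalIdeal P ^ n :=
    Ideal.pow_le_pow_right (Nat.le_add_right n 0) (hcauchy (Nat.zero_le n))
  rw [show x = t + (((a n).1 - t) - ((a n).1 - x)) by ring]
  exact add_mem (Ideal.mem_sup_left htJ) (Ideal.mem_sup_right (sub_mem (ht' n) h3))

/-- surjective images of complete local rings are complete -/
lemma isAdicComplete_of_surjective {A B : Type u} [CommRing A] [CommRing B] [IsLocalRing A]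
    [IsLocalRing B] [IsNoetherianRing B] [IsAdicComplete (maximalIdeal A) A] (f : A →+* B)
    (hf : Function.Surjective f) : IsAdicComplete (maximalIdeal B) B := by
  haveI : IsPrecomplete (maximalIdeal B) B := by
    refine ⟨fun {g} hg => ?_⟩
    have hmem : ∀ m, g (m + 1) - g m ∈ maximalIdeal B ^ m := fun m => by
      have := SModEq.sub_mem.1 (hg (Nat.le_succ m)).symm
      rwa [smul_eq_mul, Ideal.mul_top] at this
    have hlift : ∀ m, ∃ d ∈ maximalIdeal A ^ m, f d = g (m + 1) - g m := fun m => by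
      refine (Ideal.mem_map_iff_of_surjective f hf).1 ?_
      rw [Ideal.map_pow, IsLocalRing.map_maximalIdeal_of_surjective f hf]
      exact hmem m
    choose d hd hfd using hlift
    obtain ⟨x₀, hx₀⟩ := hf (g 0)
    let a : ℕ → A := fun m => x₀ + ∑ i ∈ Finset.range m, d i
    have hfa : ∀ m, f (a m) = g m := fun m => by
      induction m with
      | zero => simp [a, hx₀]
      | succ m ih =>
        rw [show a (m + 1) = a m + d m by simp [a, Finset.sum_range_succ, add_assoc], map_add, ih, hfd]
        ring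
    have hcauchy : ∀ {m l : ℕ}, m ≤ l → a l - a m ∈ maximalIdeal A ^ m := by
      intro m l hml
      induction l, hml using Nat.le_induction with
      | base => simp
      | succ l hml ih =>
        rw [show a (l + 1) - a m = d l + (a l - a m) by simp [a, Finset.sum_range_succ]; ring]
        exact add_mem (Ideal.pow_le_pow_right hml (hd l)) ih
    obtain ⟨t, ht⟩ := IsPrecomplete.prec (I := maximalIdeal A) ‹IsAdicComplete (maximalIdeal A) A›.toIsPrecomplete
      (f := a) (fun {m l} hml => by
        rw [SModEq.sub_mem, smul_eq_mul, Ideal.mul_top, ← neg_sub, neg_mem_iff]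
        exact hcauchy hml)
    refine ⟨f t, fun m => ?_⟩
    have := SModEq.sub_mem.1 (ht m)
    rw [smul_eq_mul, Ideal.mul_top] at this
    rw [SModEq.sub_mem, smul_eq_mul, Ideal.mul_top, ← hfa, ← map_sub,
      ← IsLocalRing.map_maximalIdeal_of_surjective f hf, ← Ideal.map_pow]
    exact Ideal.mem_map_of_mem f this
  exact {}

/-- quotient of a coefficient ring by a proper ideal -/
lemma exists_cring_quot (P : CRing Λ k) (J : Ideal P.carrier) (hJ : J ≤ maximalIdeal P.carrier) :
    ∃ (R : CRing Λ k) (q : P.carrier →ₐ[Λ] R.carrier),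
      R.res.comp q = P.res ∧ Function.Surjective q ∧ RingHom.ker q = J := by
  haveI : Nontrivial (P.carrier ⧸ J) := Ideal.Quotient.nontrivial_iff.2 fun h =>
    (maximalIdeal.isMaximal P.carrier).ne_top (top_le_iff.1 (h ▸ hJ))
  haveI : IsLocalRing (P.carrier ⧸ J) :=
    IsLocalRing.of_surjective' (Ideal.Quotient.mk J) Ideal.Quotient.mk_surjective
  exact ⟨{ carrier := P.carrier ⧸ J
           res := Ideal.Quotient.liftₐ J P.res fun a ha => (CRing.mem_maximalIdeal_iff P a).1 (hJ ha)
           res_surjective := fun c => by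
             obtain ⟨a, ha⟩ := P.res_surjective c
             exact ⟨Ideal.Quotient.mk J a, ha⟩
           isAdicComplete := isAdicComplete_of_surjective (Ideal.Quotient.mk J) Ideal.Quotient.mk_surjective },
    Ideal.Quotient.mkₐ Λ J, Ideal.Quotient.liftₐ_comp _ _ _, Ideal.Quotient.mk_surjective,
    Ideal.mk_ker⟩

/-- the completion of a Noetherian ring at a maximal ideal is Noetherian -/
lemma isNoetherianRing_completion {A : Type u} [CommRing A] [IsNoetherianRing A] (M : Ideal A) :
    IsNoetherianRing (AdicCompletion M A) := by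
  obtain ⟨s, hs⟩ := IsNoetherian.noetherian M
  haveI hc : IsAdicComplete (M.map (algebraMap A (AdicCompletion M A))) (AdicCompletion M A) :=
    AdicCompletion.isAdicComplete_self M (IsNoetherian.noetherian M)
  have hsM : ∀ i : s, (i : A) ∈ M := fun i => hs ▸ Submodule.subset_span i.2
  obtain ⟨φ, hφ⟩ := exists_evalPS (σ := s) (R := A) (M.map (algebraMap A (AdicCompletion M A)))
    (fun i => algebraMap A (AdicCompletion M A) i) (fun i => Ideal.mem_map_of_mem _ (hsM i))
  refine isNoetherianRing_of_surjective (MvPowerSeries s A) _ φ.toRingHom ?_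
  have hI : (Ideal.span (Set.range (MvPowerSeries.X : s → MvPowerSeries s A))).map φ.toRingHom
      = M.map (algebraMap A (AdicCompletion M A)) := by
    rw [Ideal.map_span, ← Set.range_comp]
    rw [show M.map (algebraMap A (AdicCompletion M A)) =
      (Ideal.span (s : Set A)).map (algebraMap A (AdicCompletion M A)) from congrArg (Ideal.map _) hs.symm,
      Ideal.map_span]
    congr 1
    ext x
    simp [hφ]
  haveI : IsHausdorff ((Ideal.span (Set.range (MvPowerSeries.X : s → MvPowerSeries s A))).map φ.toRingHom)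
      (AdicCompletion M A) := hI ▸ hc.toIsHausdorff
  refine surjective_of_mk_map_comp_surjective
    (I := Ideal.span (Set.range (MvPowerSeries.X : s → MvPowerSeries s A))) φ.toRingHom fun y => ?_
  obtain ⟨x, rfl⟩ := Ideal.Quotient.mk_surjective y
  obtain ⟨a, ha⟩ := Ideal.Quotient.mk_surjective (AdicCompletion.evalOneₐ M x)
  refine ⟨algebraMap A _ a, ?_⟩
  change Ideal.Quotient.mk _ (φ (algebraMap A (MvPowerSeries s A) a)) = _
  rw [φ.commutes, Ideal.Quotient.eq, hI, ← AdicCompletion.ker_evalOneₐ_eq_map M (IsNoetherian.noetherian M),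
    RingHom.mem_ker]
  change AdicCompletion.evalOneₐ M (algebraMap A (AdicCompletion M A) a - x) = 0
  rw [map_sub, AlgHom.commutes, ← ha]
  exact sub_self _

end Groth.L12
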