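import Groth.Agent.L12.SurjCrit
import Groth.Prelude.Def_W4sfdMinVersal

/-!
# Maps of coefficient rings induced by versal and free families
-/

universe u v w

open CategoryTheory ArtFun ArtFun.Art IsLocalRing

namespace Groth.L12

variable {Λ : Type u} {k : Type u} [CommRing Λ] [Field k] [Algebra Λ k] {F : Art Λ k ⥤ Type v}

lemma toFormalElt_along {R S : CRing Λ k} (ξ : Family R.carrier R.res F) (g : R.carrier →ₐ[Λ] S.carrier)
    (hg : S.res.comp g = R.res) : (ξ.along g hg).toFormalElt = ξ.toFormalElt.push g hg :=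
  FormalElt.ext' fun n => by
    change ξ.app (S.trunc n) _ = F.map (CRing.truncMapOfHom g hg n) (ξ.app (R.trunc n) (R.truncHom n))
    rw [← ξ.natural]
    rfl

lemma truncMap_surjective (R : CRing Λ k) (n : ℕ) : Function.Surjective (R.truncMap n) := fun x => by
  obtain ⟨a, rfl⟩ := truncHom_surjective R n x
  exact ⟨(R.truncHom (n + 1)).1 a, rfl⟩

lemma trunc_zero_bijective (R : CRing Λ k) : Function.Bijective (toBase (R.trunc 0)) := by
  refine ⟨fun x y e => ?_, (R.trunc 0).res_surjective⟩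
  obtain ⟨a, rfl⟩ := truncHom_surjective R 0 x
  obtain ⟨b, rfl⟩ := truncHom_surjective R 0 y
  refine Ideal.Quotient.eq.2 ?_
  change a - b ∈ maximalIdeal R.carrier ^ 1
  rw [pow_one, CRing.mem_maximalIdeal_iff, map_sub, sub_eq_zero]
  exact e

/-- extend a compatible system of liftings to a map of coefficient rings -/
lemma exists_hom_of_step {R S : CRing Λ k} (P : ∀ n, HomSet R.carrier R.res (S.trunc n) → Prop)
    (h0 : ∃ φ, P 0 φ) (hs : ∀ n φ, P n φ → ∃ ψ, P (n + 1) ψ ∧ HomSet.map (S.truncMap n) ψ = φ) :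
    ∃ (g : R.carrier →ₐ[Λ] S.carrier) (hg : S.res.comp g = R.res),
      ∀ n, P n (⟨(S.truncHom n).1.comp g, by rw [← AlgHom.comp_assoc, (S.truncHom n).2, hg]⟩) := by
  obtain ⟨φ₀, hφ₀⟩ := h0
  choose nxt hnxt hmap using hs
  let φ : ∀ n, {φ : HomSet R.carrier R.res (S.trunc n) // P n φ} := fun n =>
    Nat.rec (motive := fun n => {φ : HomSet R.carrier R.res (S.trunc n) // P n φ}) ⟨φ₀, hφ₀⟩
      (fun n φ => ⟨nxt n φ.1 φ.2, hnxt n φ.1 φ.2⟩) n
  obtain ⟨g, hg, hev⟩ := exists_lift_cring R.carrier R.res S (fun n => (φ n).1) fun n => hmap n _ _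
  refine ⟨g, hg, fun n => ?_⟩
  have e : (⟨(S.truncHom n).1.comp g, by rw [← AlgHom.comp_assoc, (S.truncHom n).2, hg]⟩ :
      HomSet R.carrier R.res (S.trunc n)) = (φ n).1 := Subtype.ext (AlgHom.ext fun r => hev n r)
  exact Eq.mpr (congrArg (P n) e) (φ n).2

theorem exists_along_eq (h0 : H0 F) {R : CRing Λ k} (ξ : Family R.carrier R.res F) (hξ : IsVersal ξ)
    (S : CRing Λ k) (η : FormalElt F S) :
    ∃ (g : R.carrier →ₐ[Λ] S.carrier) (hg : S.res.comp g = R.res), (ξ.along g hg).toFormalElt = η := by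
  obtain ⟨g, hg, hP⟩ := exists_hom_of_step (R := R) (S := S) (fun n φ => ξ.app _ φ = η.elt n)
    (family_surjective ξ hξ h0 _ _) fun n φ hφ => by
      obtain ⟨ψ, h₁, h₂⟩ := hξ (S.truncMap n) (truncMap_surjective S n) φ (η.elt (n + 1)) (by rw [η.compat, hφ])
      exact ⟨ψ, h₂, h₁⟩
  exact ⟨g, hg, FormalElt.ext' hP⟩

theorem universal_hom_ext {R S : CRing Λ k} (ξ : Family R.carrier R.res F) (hξ : IsUniversal ξ)
    (g₁ g₂ : R.carrier →ₐ[Λ] S.carrier) (hg₁ : S.res.comp g₁ = R.res) (hg₂ : S.res.comp g₂ = R.res)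
    (h : (ξ.along g₁ hg₁).toFormalElt = (ξ.along g₂ hg₂).toFormalElt) : g₁ = g₂ :=
  cring_hom_ext fun n r =>
    DFunLike.congr_fun (congrArg Subtype.val ((hξ _).1 (congrArg (fun u : FormalElt F S => u.elt n) h))) r

lemma along_id {R : CRing Λ k} (ξ : Family R.carrier R.res F) :
    (ξ.along (AlgHom.id Λ R.carrier) (AlgHom.comp_id _)).toFormalElt = ξ.toFormalElt :=
  FormalElt.ext' fun n => family_ext ξ fun r => rfl

lemma toFormalElt_along_comp {R S T : CRing Λ k} (ξ : Family R.carrier R.res F) (g : R.carrier →ₐ[Λ] S.carrier)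
    (hg : S.res.comp g = R.res) (g' : S.carrier →ₐ[Λ] T.carrier) (hg' : T.res.comp g' = S.res) :
    (ξ.along (g'.comp g) (by rw [← AlgHom.comp_assoc, hg', hg])).toFormalElt =
      (ξ.along g hg).toFormalElt.push g' hg' := by
  rw [← toFormalElt_along]
  exact FormalElt.ext' fun n => family_ext ξ fun r => rfl

lemma injective_of_surjective_endo {R : Type u} [CommRing R] [IsNoetherianRing R] (f : R →+* R)
    (hf : Function.Surjective f) : Function.Injective f := by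
  have hs : ∀ n : ℕ, Function.Surjective (f^[n]) := fun n => by
    induction n with
    | zero => exact Function.surjective_id
    | succ n ih => rw [Function.iterate_succ]; exact ih.comp hf
  have hmono : Monotone fun n => RingHom.ker (f ^ n) := monotone_nat_of_le_succ fun n x hx => by
    rw [RingHom.mem_ker] at hx ⊢
    rw [RingHom.coe_pow] at hx ⊢
    rw [Function.iterate_succ', Function.comp_apply, hx, map_zero]
  obtain ⟨n, hn⟩ := monotone_stabilizes_iff_noetherian.2 inferInstance ⟨fun n => RingHom.ker (f ^ n), hmono⟩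
  refine (injective_iff_map_eq_zero f).2 fun x hx => ?_
  obtain ⟨y, rfl⟩ := hs n x
  have h1 : RingHom.ker (f ^ n) = RingHom.ker (f ^ (n + 1)) := hn (n + 1) (Nat.le_succ n)
  have : y ∈ RingHom.ker (f ^ n) := by
    rw [h1, RingHom.mem_ker, RingHom.coe_pow, Function.iterate_succ', Function.comp_apply, hx]
  rwa [RingHom.mem_ker, RingHom.coe_pow] at this

theorem hull_minimal (h0 : H0 F) (P : Hull F) : P.family.IsMinimalVersal := by
  refine ⟨P.miniversal.1, fun R' u f hf hu => ?_⟩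
  obtain ⟨g, hg, hgu⟩ := exists_along_eq h0 P.family P.miniversal.1 R' u
  have hh : P.ring.res.comp (f.comp g) = P.ring.res := by rw [← AlgHom.comp_assoc, hf, hg]
  have hξ : P.family.along (f.comp g) hh = P.family :=
    family_eq_of_toFormalElt ((toFormalElt_along_comp P.family g hg f hf).trans (by rw [hgu, hu]))
  have hid : ∀ φ : HomSet P.ring.carrier P.ring.res (dual Λ k), ∀ r, φ.1 (f (g r)) = φ.1 r := fun φ r => by
    have h1 : P.family.app _ ⟨φ.1.comp (f.comp g), by rw [← AlgHom.comp_assoc, φ.2, hh]⟩ = P.family.app _ φ :=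
      congrArg (fun ξ : Family P.ring.carrier P.ring.res F => ξ.app _ φ) hξ
    exact DFunLike.congr_fun (congrArg Subtype.val (P.miniversal.2.1 h1)) r
  have hs : Function.Surjective (f.comp g) := surjective_of_tangent_injective _ _ _ hh fun φ ψ e =>
    Subtype.ext (AlgHom.ext fun r => (hid φ r).symm.trans ((e r).trans (hid ψ r)))
  exact fun x => by
    obtain ⟨r, rfl⟩ := hs x
    exact ⟨g r, rfl⟩

theorem minimal_unique (h0 : H0 F) {R₁ R₂ : CRing Λ k} (ξ₁ : Family R₁.carrier R₁.res F)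
    (ξ₂ : Family R₂.carrier R₂.res F) (h₁ : ξ₁.IsMinimalVersal) (h₂ : ξ₂.IsMinimalVersal) :
    ∃ (e : R₁.carrier ≃ₐ[Λ] R₂.carrier) (he : R₂.res.comp (e : R₁.carrier →ₐ[Λ] R₂.carrier) = R₁.res),
      (ξ₁.along (e : R₁.carrier →ₐ[Λ] R₂.carrier) he).toFormalElt = ξ₂.toFormalElt := by
  obtain ⟨g, hg, hgξ⟩ := exists_along_eq h0 ξ₁ h₁.1 R₂ ξ₂.toFormalElt
  obtain ⟨g', hg', hg'ξ⟩ := exists_along_eq h0 ξ₂ h₂.1 R₁ ξ₁.toFormalElt
  have s₁ : Function.Surjective g := h₂.2 R₁ ξ₁.toFormalElt g hg (by rw [← toFormalElt_along]; exact hgξ)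
  have s₂ : Function.Surjective g' := h₁.2 R₂ ξ₂.toFormalElt g' hg' (by rw [← toFormalElt_along]; exact hg'ξ)
  have hi : Function.Injective g := Function.Injective.of_comp
    (injective_of_surjective_endo (g'.comp g).toRingHom (s₂.comp s₁))
  exact ⟨AlgEquiv.ofBijective g ⟨hi, s₁⟩, hg, hgξ⟩

/-- compatible lifts out of a free coefficient ring into a coefficient ring -/
lemma IsFreeCR.exists_hom {P : CRing Λ k} {ι : Type u} {x : ι → P.carrier} (h : IsFreeCR P x) (T : CRing Λ k)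
    (a : ι → T.carrier) (ha : ∀ i, T.res (a i) = P.res (x i)) :
    ∃ g : P.carrier →ₐ[Λ] T.carrier, T.res.comp g = P.res ∧ ∀ i, g (x i) = a i := by
  choose φ hφ using fun n => h.lift (T.trunc n) (fun i => (T.truncHom n).1 (a i)) fun i =>
    (DFunLike.congr_fun (T.truncHom n).2 (a i)).trans (ha i)
  obtain ⟨g, hg, hev⟩ := exists_lift_cring P.carrier P.res T φ fun n => h.ext _ _ _ fun i => by
    change T.truncMap n ((φ (n + 1)).1 (x i)) = _
    rw [hφ, hφ]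
    rfl
  exact ⟨g, hg, fun i => eq_of_forall_sub_mem_pow (maximalIdeal T.carrier) fun n =>
    Ideal.pow_le_pow_right (Nat.le_succ n) (Ideal.Quotient.eq.1 ((hev n (x i)).trans (hφ n i)))⟩

lemma IsFreeCR.hom_ext {P : CRing Λ k} {ι : Type u} {x : ι → P.carrier} (h : IsFreeCR P x) {T : CRing Λ k}
    {g g' : P.carrier →ₐ[Λ] T.carrier} (hg : T.res.comp g = P.res) (hg' : T.res.comp g' = P.res)
    (e : ∀ i, g (x i) = g' (x i)) : g = g' :=
  cring_hom_ext fun n r => DFunLike.congr_fun (congrArg Subtype.val (h.ext (T.trunc n)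
    ⟨(T.truncHom n).1.comp g, by rw [← AlgHom.comp_assoc, (T.truncHom n).2, hg]⟩
    ⟨(T.truncHom n).1.comp g', by rw [← AlgHom.comp_assoc, (T.truncHom n).2, hg']⟩
    fun i => congrArg (T.truncHom n).1 (e i))) r

/-- every coefficient ring is a quotient of a free one -/
lemma exists_generating [Module.Finite Λ k] (S : CRing Λ k) : ∃ (n : ℕ) (a : ULift.{u} (Fin n) → S.carrier),
    Function.Surjective (MvPolynomial.aeval (fun i => S.res (a i)) : MvPolynomial (ULift.{u} (Fin n)) Λ →ₐ[Λ] k) ∧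
      ∀ (R : CRing Λ k) (f : R.carrier →ₐ[Λ] S.carrier), S.res.comp f = R.res → (∀ i, a i ∈ Set.range f) →
        Function.Surjective f := by
  classical
  obtain ⟨m, c, hc⟩ := exists_generators (Λ := Λ) (k := k)
  choose lift hlift using fun i => S.res_surjective (c i)
  obtain ⟨s, hs⟩ := IsNoetherian.noetherian (maximalIdeal S.carrier)
  let t : Finset S.carrier := Finset.univ.image lift ∪ s
  let a : ULift.{u} (Fin t.card) → S.carrier := fun i => (t.equivFin.symm i.down).1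
  have hat : ∀ x ∈ t, ∃ i, a i = x := fun x hx => ⟨⟨t.equivFin ⟨x, hx⟩⟩, by simp [a]⟩
  refine ⟨t.card, a, fun z => ?_, fun R f hf hrange => ?_⟩
  · obtain ⟨p, rfl⟩ := hc z
    choose j hj using fun i => hat (lift i) (Finset.mem_union_left _ (Finset.mem_image_of_mem _ (Finset.mem_univ i)))
    refine ⟨MvPolynomial.rename j p, ?_⟩
    rw [MvPolynomial.aeval_rename]
    exact congrArg (fun g => MvPolynomial.aeval g p) (funext fun i => by simp [hj, hlift])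
  · refine surjective_of_cotangent f R.res_surjective (fun s => (CRing.mem_maximalIdeal_iff S s).symm) hf
      (le_sup_of_le_left ?_)
    conv_lhs => rw [← hs]
    rw [Ideal.span_le]
    intro y hy
    obtain ⟨i, rfl⟩ := hat y (Finset.mem_union_right _ hy)
    obtain ⟨r, hr⟩ := hrange i
    refine hr ▸ Ideal.mem_map_of_mem _ ?_
    rw [CRing.mem_maximalIdeal_iff, ← hf, AlgHom.comp_apply, hr, ← CRing.mem_maximalIdeal_iff]
    exact hs ▸ Ideal.subset_span hy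

lemma exists_desc_cring {P R T : CRing Λ k} (q : P.carrier →ₐ[Λ] R.carrier) (hqs : Function.Surjective q)
    (hq : R.res.comp q = P.res) (g : P.carrier →ₐ[Λ] T.carrier) (hg : T.res.comp g = P.res)
    (h : RingHom.ker q ≤ RingHom.ker g) :
    ∃ g' : R.carrier →ₐ[Λ] T.carrier, T.res.comp g' = R.res ∧ g'.comp q = g := by
  let φ : R.carrier →ₐ[Λ] T.carrier := AlgHom.liftOfSurjective q hqs g h
  have hφ : ∀ a, φ (q a) = g a := fun a => AlgHom.liftOfSurjective_apply _ hqs _ _ a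
  refine ⟨φ, AlgHom.ext fun r => ?_, AlgHom.ext hφ⟩
  obtain ⟨a, rfl⟩ := hqs r
  rw [AlgHom.comp_apply, hφ, ← AlgHom.comp_apply, ← AlgHom.comp_apply, hg, hq]

theorem exists_pushout [IsNoetherianRing Λ] [Module.Finite Λ k] (R S₁ S₂ : CRing Λ k)
    (f₁ : R.carrier →ₐ[Λ] S₁.carrier) (hf₁ : S₁.res.comp f₁ = R.res)
    (f₂ : R.carrier →ₐ[Λ] S₂.carrier) (hf₂ : S₂.res.comp f₂ = R.res) :
    ∃ (P : CRing Λ k) (i₁ : S₁.carrier →ₐ[Λ] P.carrier) (i₂ : S₂.carrier →ₐ[Λ] P.carrier),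
      P.res.comp i₁ = S₁.res ∧ P.res.comp i₂ = S₂.res ∧ i₁.comp f₁ = i₂.comp f₂ ∧
      ∀ (T : CRing Λ k) (g₁ : S₁.carrier →ₐ[Λ] T.carrier) (g₂ : S₂.carrier →ₐ[Λ] T.carrier),
        T.res.comp g₁ = S₁.res → T.res.comp g₂ = S₂.res → g₁.comp f₁ = g₂.comp f₂ →
          ∃! h : P.carrier →ₐ[Λ] T.carrier, T.res.comp h = P.res ∧ h.comp i₁ = g₁ ∧ h.comp i₂ = g₂ := by
  obtain ⟨n₁, a₁, ha₁, hgen₁⟩ := exists_generating S₁
  obtain ⟨n₂, a₂, ha₂, hgen₂⟩ := exists_generating S₂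
  let c := Sum.elim (fun i => S₁.res (a₁ i)) (fun i => S₂.res (a₂ i))
  have hc : Function.Surjective (MvPolynomial.aeval c :
      MvPolynomial (ULift.{u} (Fin n₁) ⊕ ULift.{u} (Fin n₂)) Λ →ₐ[Λ] k) := fun z => by
    obtain ⟨p, rfl⟩ := ha₁ z
    exact ⟨MvPolynomial.rename Sum.inl p, by rw [MvPolynomial.aeval_rename, Sum.elim_comp_inl]⟩
  obtain ⟨Q, x, hx, hQ⟩ := exists_free_cring c hc
  obtain ⟨Q₁, x₁, hx₁, hQ₁⟩ := exists_free_cring _ ha₁
  obtain ⟨Q₂, x₂, hx₂, hQ₂⟩ := exists_free_cring _ ha₂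
  obtain ⟨p₁, hp₁, hp₁x⟩ := hQ₁.exists_hom S₁ a₁ (fun i => (hx₁ i).symm)
  obtain ⟨p₂, hp₂, hp₂x⟩ := hQ₂.exists_hom S₂ a₂ (fun i => (hx₂ i).symm)
  have hp₁s : Function.Surjective p₁ := hgen₁ Q₁ p₁ hp₁ fun i => ⟨_, hp₁x i⟩
  have hp₂s : Function.Surjective p₂ := hgen₂ Q₂ p₂ hp₂ fun i => ⟨_, hp₂x i⟩
  obtain ⟨j₁, hj₁, hj₁x⟩ := hQ₁.exists_hom Q (fun i => x (Sum.inl i)) (fun i => (hx _).trans (hx₁ i).symm)
  obtain ⟨j₂, hj₂, hj₂x⟩ := hQ₂.exists_hom Q (fun i => x (Sum.inr i)) (fun i => (hx _).trans (hx₂ i).symm)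
  let s₁ := Function.surjInv hp₁s
  let s₂ := Function.surjInv hp₂s
  let J : Ideal Q.carrier := (RingHom.ker p₁).map j₁ ⊔ (RingHom.ker p₂).map j₂ ⊔
    Ideal.span (Set.range fun r : R.carrier => j₁ (s₁ (f₁ r)) - j₂ (s₂ (f₂ r)))
  have hs₁ : ∀ y, p₁ (s₁ y) = y := Function.surjInv_eq hp₁s
  have hs₂ : ∀ y, p₂ (s₂ y) = y := Function.surjInv_eq hp₂s
  have hr₁ : ∀ q, Q.res (j₁ q) = S₁.res (p₁ q) := fun q =>
    (DFunLike.congr_fun hj₁ q).trans (DFunLike.congr_fun hp₁ q).symm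
  have hr₂ : ∀ q, Q.res (j₂ q) = S₂.res (p₂ q) := fun q =>
    (DFunLike.congr_fun hj₂ q).trans (DFunLike.congr_fun hp₂ q).symm
  have hJ : J ≤ maximalIdeal Q.carrier := by
    refine sup_le (sup_le ?_ ?_) (Ideal.span_le.2 ?_)
    · exact Ideal.map_le_iff_le_comap.2 fun q hq => by
        rw [Ideal.mem_comap, CRing.mem_maximalIdeal_iff, hr₁, RingHom.mem_ker.1 hq, map_zero]
    · exact Ideal.map_le_iff_le_comap.2 fun q hq => by
        rw [Ideal.mem_comap, CRing.mem_maximalIdeal_iff, hr₂, RingHom.mem_ker.1 hq, map_zero]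
    · rintro - ⟨r, rfl⟩
      rw [SetLike.mem_coe, CRing.mem_maximalIdeal_iff, map_sub, hr₁, hr₂, hs₁, hs₂, ← AlgHom.comp_apply, hf₁,
        ← AlgHom.comp_apply S₂.res, hf₂, sub_self]
  obtain ⟨P, q, hq, hqs, hqker⟩ := exists_cring_quot Q J hJ
  obtain ⟨i₁, hi₁, hi₁p⟩ := exists_desc_cring p₁ hp₁s hp₁ (q.comp j₁) (by rw [← AlgHom.comp_assoc, hq, hj₁])
    fun z hz => by
      rw [RingHom.mem_ker, AlgHom.comp_apply, ← RingHom.mem_ker, hqker]
      exact Ideal.mem_sup_left (Ideal.mem_sup_left (Ideal.mem_map_of_mem _ hz))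
  obtain ⟨i₂, hi₂, hi₂p⟩ := exists_desc_cring p₂ hp₂s hp₂ (q.comp j₂) (by rw [← AlgHom.comp_assoc, hq, hj₂])
    fun z hz => by
      rw [RingHom.mem_ker, AlgHom.comp_apply, ← RingHom.mem_ker, hqker]
      exact Ideal.mem_sup_left (Ideal.mem_sup_right (Ideal.mem_map_of_mem _ hz))
  have hi₁' : ∀ q', i₁ (p₁ q') = q (j₁ q') := DFunLike.congr_fun hi₁p
  have hi₂' : ∀ q', i₂ (p₂ q') = q (j₂ q') := DFunLike.congr_fun hi₂p
  refine ⟨P, i₁, i₂, hi₁, hi₂, AlgHom.ext fun r => ?_, fun T g₁ g₂ hg₁ hg₂ hgf => ?_⟩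
  · rw [AlgHom.comp_apply, AlgHom.comp_apply, ← hs₁ (f₁ r), ← hs₂ (f₂ r), hi₁', hi₂', ← sub_eq_zero, ← map_sub,
      ← RingHom.mem_ker, hqker]
    exact Ideal.mem_sup_right (Ideal.subset_span ⟨r, rfl⟩)
  · obtain ⟨G, hG, hGx⟩ := hQ.exists_hom T (Sum.elim (fun i => g₁ (a₁ i)) (fun i => g₂ (a₂ i))) (by
      rintro (i | i)
      · exact (DFunLike.congr_fun hg₁ (a₁ i)).trans (hx (Sum.inl i)).symm
      · exact (DFunLike.congr_fun hg₂ (a₂ i)).trans (hx (Sum.inr i)).symm)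
    have e₁ : G.comp j₁ = g₁.comp p₁ := hQ₁.hom_ext (by rw [← AlgHom.comp_assoc, hG, hj₁])
      (by rw [← AlgHom.comp_assoc, hg₁, hp₁]) fun i => by
        rw [AlgHom.comp_apply, AlgHom.comp_apply, hj₁x, hGx, hp₁x]; rfl
    have e₂ : G.comp j₂ = g₂.comp p₂ := hQ₂.hom_ext (by rw [← AlgHom.comp_assoc, hG, hj₂])
      (by rw [← AlgHom.comp_assoc, hg₂, hp₂]) fun i => by
        rw [AlgHom.comp_apply, AlgHom.comp_apply, hj₂x, hGx, hp₂x]; rfl
    have e₁' : ∀ z, G (j₁ z) = g₁ (p₁ z) := DFunLike.congr_fun e₁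
    have e₂' : ∀ z, G (j₂ z) = g₂ (p₂ z) := DFunLike.congr_fun e₂
    obtain ⟨h, hh, hhq⟩ := exists_desc_cring q hqs hq G hG (by
      rw [hqker]
      refine sup_le (sup_le ?_ ?_) (Ideal.span_le.2 ?_)
      · exact Ideal.map_le_iff_le_comap.2 fun z hz => by
          rw [Ideal.mem_comap, RingHom.mem_ker, e₁', RingHom.mem_ker.1 hz, map_zero]
      · exact Ideal.map_le_iff_le_comap.2 fun z hz => by
          rw [Ideal.mem_comap, RingHom.mem_ker, e₂', RingHom.mem_ker.1 hz, map_zero]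
      · rintro - ⟨r, rfl⟩
        rw [SetLike.mem_coe, RingHom.mem_ker, map_sub, e₁', e₂', hs₁, hs₂, ← AlgHom.comp_apply, hgf,
          AlgHom.comp_apply, sub_self])
    have hhq' : ∀ z, h (q z) = G z := DFunLike.congr_fun hhq
    refine ⟨h, ⟨hh, AlgHom.ext fun y => ?_, AlgHom.ext fun y => ?_⟩, fun h' ⟨hh', h₁, h₂⟩ => ?_⟩
    · rw [AlgHom.comp_apply, ← hs₁ y, hi₁', hhq', e₁']
    · rw [AlgHom.comp_apply, ← hs₂ y, hi₂', hhq', e₂']
    · have : h'.comp q = G := hQ.hom_ext (by rw [← AlgHom.comp_assoc, hh', hq]) hG (by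
        rintro (i | i)
        · rw [AlgHom.comp_apply, hGx, ← hj₁x, ← hi₁', hp₁x, Sum.elim_inl, ← h₁]; rfl
        · rw [AlgHom.comp_apply, hGx, ← hj₂x, ← hi₂', hp₂x, Sum.elim_inr, ← h₂]; rfl)
      refine AlgHom.ext fun y => ?_
      obtain ⟨z, rfl⟩ := hqs y
      rw [hhq', ← this]
      rfl

lemma exists_initial [IsNoetherianRing Λ] [Module.Finite Λ k] (R S : CRing Λ k) :
    ∃ (P : CRing Λ k) (i₁ : R.carrier →ₐ[Λ] P.carrier) (i₂ : S.carrier →ₐ[Λ] P.carrier),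
      P.res.comp i₁ = R.res ∧ P.res.comp i₂ = S.res ∧
      ∀ (T : CRing Λ k) (g₁ : R.carrier →ₐ[Λ] T.carrier) (g₂ : S.carrier →ₐ[Λ] T.carrier),
        T.res.comp g₁ = R.res → T.res.comp g₂ = S.res →
          ∃! h : P.carrier →ₐ[Λ] T.carrier, T.res.comp h = P.res ∧ h.comp i₁ = g₁ ∧ h.comp i₂ = g₂ := by
  -- the free ring on generators of `k` is weakly initial
  obtain ⟨n, c, hc⟩ := exists_generators (Λ := Λ) (k := k)
  obtain ⟨n₁, a₁, ha₁, hgen₁⟩ := exists_generating R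
  obtain ⟨n₂, a₂, ha₂, hgen₂⟩ := exists_generating S
  let c' := Sum.elim (fun i => R.res (a₁ i)) (fun i => S.res (a₂ i))
  have hc' : Function.Surjective (MvPolynomial.aeval c' :
      MvPolynomial (ULift.{u} (Fin n₁) ⊕ ULift.{u} (Fin n₂)) Λ →ₐ[Λ] k) := fun z => by
    obtain ⟨p, rfl⟩ := ha₁ z
    exact ⟨MvPolynomial.rename Sum.inl p, by rw [MvPolynomial.aeval_rename, Sum.elim_comp_inl]⟩
  obtain ⟨Q, x, hx, hQ⟩ := exists_free_cring c' hc'
  obtain ⟨Q₁, x₁, hx₁, hQ₁⟩ := exists_free_cring _ ha₁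
  obtain ⟨Q₂, x₂, hx₂, hQ₂⟩ := exists_free_cring _ ha₂
  obtain ⟨p₁, hp₁, hp₁x⟩ := hQ₁.exists_hom R a₁ (fun i => (hx₁ i).symm)
  obtain ⟨p₂, hp₂, hp₂x⟩ := hQ₂.exists_hom S a₂ (fun i => (hx₂ i).symm)
  have hp₁s : Function.Surjective p₁ := hgen₁ Q₁ p₁ hp₁ fun i => ⟨_, hp₁x i⟩
  have hp₂s : Function.Surjective p₂ := hgen₂ Q₂ p₂ hp₂ fun i => ⟨_, hp₂x i⟩
  obtain ⟨j₁, hj₁, hj₁x⟩ := hQ₁.exists_hom Q (fun i => x (Sum.inl i)) (fun i => (hx _).trans (hx₁ i).symm)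
  obtain ⟨j₂, hj₂, hj₂x⟩ := hQ₂.exists_hom Q (fun i => x (Sum.inr i)) (fun i => (hx _).trans (hx₂ i).symm)
  let J : Ideal Q.carrier := (RingHom.ker p₁).map j₁ ⊔ (RingHom.ker p₂).map j₂
  have hJ : J ≤ maximalIdeal Q.carrier := sup_le
    (Ideal.map_le_iff_le_comap.2 fun q hq => by
      rw [Ideal.mem_comap, CRing.mem_maximalIdeal_iff, ← AlgHom.comp_apply, hj₁, ← hp₁, AlgHom.comp_apply,
        RingHom.mem_ker.1 hq, map_zero])
    (Ideal.map_le_iff_le_comap.2 fun q hq => by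
      rw [Ideal.mem_comap, CRing.mem_maximalIdeal_iff, ← AlgHom.comp_apply, hj₂, ← hp₂, AlgHom.comp_apply,
        RingHom.mem_ker.1 hq, map_zero])
  obtain ⟨P, q, hq, hqs, hqker⟩ := exists_cring_quot Q J hJ
  obtain ⟨i₁, hi₁, hi₁p⟩ := exists_desc_cring p₁ hp₁s hp₁ (q.comp j₁) (by rw [← AlgHom.comp_assoc, hq, hj₁])
    fun z hz => by
      rw [RingHom.mem_ker, AlgHom.comp_apply, ← RingHom.mem_ker, hqker]
      exact Ideal.mem_sup_left (Ideal.mem_map_of_mem _ hz)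
  obtain ⟨i₂, hi₂, hi₂p⟩ := exists_desc_cring p₂ hp₂s hp₂ (q.comp j₂) (by rw [← AlgHom.comp_assoc, hq, hj₂])
    fun z hz => by
      rw [RingHom.mem_ker, AlgHom.comp_apply, ← RingHom.mem_ker, hqker]
      exact Ideal.mem_sup_right (Ideal.mem_map_of_mem _ hz)
  have hi₁' : ∀ q', i₁ (p₁ q') = q (j₁ q') := DFunLike.congr_fun hi₁p
  have hi₂' : ∀ q', i₂ (p₂ q') = q (j₂ q') := DFunLike.congr_fun hi₂p
  refine ⟨P, i₁, i₂, hi₁, hi₂, fun T g₁ g₂ hg₁ hg₂ => ?_⟩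
  obtain ⟨G, hG, hGx⟩ := hQ.exists_hom T (Sum.elim (fun i => g₁ (a₁ i)) (fun i => g₂ (a₂ i))) (by
    rintro (i | i)
    · exact (DFunLike.congr_fun hg₁ (a₁ i)).trans (hx (Sum.inl i)).symm
    · exact (DFunLike.congr_fun hg₂ (a₂ i)).trans (hx (Sum.inr i)).symm)
  have e₁ : G.comp j₁ = g₁.comp p₁ := hQ₁.hom_ext (by rw [← AlgHom.comp_assoc, hG, hj₁])
    (by rw [← AlgHom.comp_assoc, hg₁, hp₁]) fun i => by
      rw [AlgHom.comp_apply, AlgHom.comp_apply, hj₁x, hGx, hp₁x]; rfl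
  have e₂ : G.comp j₂ = g₂.comp p₂ := hQ₂.hom_ext (by rw [← AlgHom.comp_assoc, hG, hj₂])
    (by rw [← AlgHom.comp_assoc, hg₂, hp₂]) fun i => by
      rw [AlgHom.comp_apply, AlgHom.comp_apply, hj₂x, hGx, hp₂x]; rfl
  obtain ⟨h, hh, hhq⟩ := exists_desc_cring q hqs hq G hG (by
    rw [hqker]
    exact sup_le (Ideal.map_le_iff_le_comap.2 fun z hz => by
        rw [Ideal.mem_comap, RingHom.mem_ker, ← AlgHom.comp_apply, e₁, AlgHom.comp_apply, RingHom.mem_ker.1 hz,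
          map_zero])
      (Ideal.map_le_iff_le_comap.2 fun z hz => by
        rw [Ideal.mem_comap, RingHom.mem_ker, ← AlgHom.comp_apply, e₂, AlgHom.comp_apply, RingHom.mem_ker.1 hz,
          map_zero]))
  have hhq' : ∀ z, h (q z) = G z := DFunLike.congr_fun hhq
  refine ⟨h, ⟨hh, AlgHom.ext fun y => ?_, AlgHom.ext fun y => ?_⟩, fun h' ⟨hh', h₁, h₂⟩ => ?_⟩
  · obtain ⟨z, rfl⟩ := hp₁s y
    rw [AlgHom.comp_apply, hi₁', hhq']
    exact DFunLike.congr_fun e₁ z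
  · obtain ⟨z, rfl⟩ := hp₂s y
    rw [AlgHom.comp_apply, hi₂', hhq']
    exact DFunLike.congr_fun e₂ z
  · have : h'.comp q = G := hQ.hom_ext (by rw [← AlgHom.comp_assoc, hh', hq]) hG (by
      rintro (i | i)
      · rw [AlgHom.comp_apply, hGx, ← hj₁x, ← hi₁', hp₁x, Sum.elim_inl, ← h₁]; rfl
      · rw [AlgHom.comp_apply, hGx, ← hj₂x, ← hi₂', hp₂x, Sum.elim_inr, ← h₂]; rfl)
    refine AlgHom.ext fun y => ?_
    obtain ⟨z, rfl⟩ := hqs y
    rw [hhq', ← this]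
    rfl

end Groth.L12
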