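import Mathlib.FieldTheory.PrimitiveElement
import Mathlib.FieldTheory.PurelyInseparable.Basic
import Mathlib.RingTheory.AdjoinRoot
import Mathlib.RingTheory.Polynomial.GaussLemma
import Mathlib.RingTheory.TensorProduct.Free

/-!
Constant field extensions of a field with algebraically closed constants stay fields when reduced.
-/

set_option autoImplicit false
set_option linter.style.haveILetI false
universe u

open scoped TensorProduct

noncomputable section

namespace Groth.L12.ConstDeg

variable {k K : Type u} [Field k] [Field K] [Algebra k K]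

/-- A finite separable extension stays a field over a field with algebraically closed constants. -/
theorem isField_separable (hcl : ∀ a : K, IsIntegral k a → a ∈ Set.range (algebraMap k K))
    (S : Type u) [Field S] [Algebra k S] [FiniteDimensional k S] [Algebra.IsSeparable k S] :
    IsField (K ⊗[k] S) := by
  let pb := Field.powerBasisOfFiniteOfSeparable k S
  let g := minpoly k pb.gen
  have hint : IsIntegral k pb.gen := Algebra.IsIntegral.isIntegral _
  have hirr : Irreducible (g.map (algebraMap k K)) := by
    have hnu : ¬ IsUnit (g.map (algebraMap k K)) := fun hu => by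
      have := Polynomial.natDegree_eq_zero_of_isUnit hu
      rw [Polynomial.natDegree_map] at this
      exact (minpoly.natDegree_pos hint).ne' this
    obtain ⟨q, hqm, hqi, hqd⟩ := Polynomial.exists_monic_irreducible_factor _ hnu
    have hl := (Polynomial.lifts_iff_coeff_lifts _).1
      (integralClosure.mem_lifts_of_monic_of_dvd_map K (minpoly.monic hint) hqm hqd)
    have hk : q ∈ Polynomial.lifts (algebraMap k K) := (Polynomial.lifts_iff_coeff_lifts _).2 fun n => by
      obtain ⟨c, hc⟩ := hl n
      exact hcl _ (hc ▸ c.2)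
    obtain ⟨q₀, hq₀⟩ := (Polynomial.mem_lifts q).1 hk
    have hd₀ : q₀ ∣ g := (Polynomial.map_dvd_map' (algebraMap k K)).1 (hq₀.symm ▸ hqd)
    have hq₀nu : ¬ IsUnit q₀ := fun hu => hqi.not_isUnit (hq₀ ▸ hu.map (Polynomial.mapRingHom (algebraMap k K)))
    obtain ⟨r, hr⟩ := hd₀
    have hru : IsUnit r := ((minpoly.irreducible hint).isUnit_or_isUnit hr).resolve_left hq₀nu
    rw [hr, Polynomial.map_mul, hq₀]
    exact (irreducible_mul_isUnit (hru.map (Polynomial.mapRingHom (algebraMap k K)))).2 hqi
  haveI := Fact.mk hirr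
  let A := AdjoinRoot (g.map (algebraMap k K))
  let e : S →ₐ[k] A := pb.lift (AdjoinRoot.root _) (by
    rw [← Polynomial.aeval_map_algebraMap K, AdjoinRoot.aeval_eq, AdjoinRoot.mk_self])
  let φ : K ⊗[k] S →ₐ[K] A := Algebra.TensorProduct.lift (Algebra.ofId K A) e fun _ _ => Commute.all _ _
  have hne : g.map (algebraMap k K) ≠ 0 := hirr.ne_zero
  have hsurj : Function.Surjective φ := fun z => by
    have h1 : z ∈ Algebra.adjoin K ({AdjoinRoot.root (g.map (algebraMap k K))} : Set A) := by
      rw [AdjoinRoot.adjoinRoot_eq_top]; exact Algebra.mem_top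
    refine (Algebra.adjoin_le (S := φ.range) ?_) h1
    rintro _ rfl
    exact ⟨1 ⊗ₜ pb.gen, by simp [φ, e]⟩
  haveI : Module.Finite K A := (AdjoinRoot.powerBasis hne).finite
  have hrk : Module.finrank K (K ⊗[k] S) = Module.finrank K A := by
    rw [Module.finrank_baseChange, pb.finrank, (AdjoinRoot.powerBasis hne).finrank,
      AdjoinRoot.powerBasis_dim, Polynomial.natDegree_map, pb.natDegree_minpoly]
  have hinj : Function.Injective φ :=
    (LinearMap.injective_iff_surjective_of_finrank_eq_finrank hrk (f := φ.toLinearMap)).2 hsurj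
  exact (RingEquiv.ofBijective φ.toRingHom ⟨hinj, hsurj⟩).toMulEquiv.isField (Field.toIsField A)

/-- A reduced finite constant extension is a field. -/
theorem isField_tensor (hcl : ∀ a : K, IsIntegral k a → a ∈ Set.range (algebraMap k K))
    (L : Type u) [Field L] [Algebra k L] [FiniteDimensional k L] [IsReduced (K ⊗[k] L)] :
    IsField (K ⊗[k] L) := by
  let S := separableClosure k L
  obtain ⟨p, hp⟩ := ExpChar.exists K
  haveI : ExpChar k p := (algebraMap k K).expChar (algebraMap k K).injective p
  haveI : ExpChar L p := expChar_of_injective_ringHom (algebraMap k L).injective p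
  haveI : ExpChar S p := expChar_of_injective_ringHom (algebraMap k S).injective p
  haveI : Nontrivial (K ⊗[k] L) := Module.nontrivial_of_finrank_pos (R := K)
    (by rw [Module.finrank_baseChange]; exact Module.finrank_pos)
  haveI : ExpChar (K ⊗[k] L) p :=
    expChar_of_injective_ringHom (algebraMap K (K ⊗[k] L)).injective p
  let j : K ⊗[k] S →ₐ[K] K ⊗[k] L := Algebra.TensorProduct.map (AlgHom.id K K) S.val
  have hpow : ∀ (r : K ⊗[k] L) (n m : ℕ), r ^ p ^ n ∈ j.range → r ^ p ^ (n + m) ∈ j.range := fun r n m h => by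
    rw [pow_add, pow_mul]; exact pow_mem h _
  have key : ∀ w : K ⊗[k] L, ∃ n : ℕ, w ^ p ^ n ∈ j.range := fun w => by
    induction w using TensorProduct.induction_on with
    | zero => exact ⟨0, by rw [pow_zero, pow_one]; exact zero_mem _⟩
    | tmul x l =>
      obtain ⟨n, s, hs⟩ := IsPurelyInseparable.pow_mem S p l
      exact ⟨n, (x ^ p ^ n) ⊗ₜ s, by
        rw [Algebra.TensorProduct.tmul_pow, ← hs]; rfl⟩
    | add a b ha hb =>
      obtain ⟨n, hn⟩ := ha
      obtain ⟨m, hm⟩ := hb
      refine ⟨n + m, ?_⟩
      rw [add_pow_expChar_pow]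
      exact add_mem (hpow a n m hn) (add_comm m n ▸ hpow b m n hm)
  letI := (isField_separable hcl S).toField
  refine ⟨⟨0, 1, zero_ne_one⟩, mul_comm, fun {w} hw => ?_⟩
  obtain ⟨n, f, hf⟩ := key w
  have hf0 : f ≠ 0 := fun h => hw (IsReduced.eq_zero w ⟨p ^ n, by rw [← hf, h]; exact map_zero j.toRingHom⟩)
  have hu : IsUnit (w ^ p ^ n) := hf ▸ (isUnit_iff_ne_zero.2 hf0).map j.toRingHom
  exact ((isUnit_pow_iff (pow_ne_zero _ (expChar_ne_zero K p))).1 hu).exists_right_inv

/-- The degree of a constant extension divides the degree of every extension containing it. -/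
theorem finrank_dvd (hcl : ∀ a : K, IsIntegral k a → a ∈ Set.range (algebraMap k K))
    (L M : Type u) [Field L] [Field M] [Algebra k L] [FiniteDimensional k L] [IsReduced (K ⊗[k] L)]
    [Algebra K M] (σ : L →+* M) (h : ∀ a : k, σ (algebraMap k L a) = algebraMap K M (algebraMap k K a)) :
    Module.finrank k L ∣ Module.finrank K M := by
  letI := (isField_tensor hcl L).toField
  letI : Algebra k M := ((algebraMap K M).comp (algebraMap k K)).toAlgebra
  haveI : IsScalarTower k K M := IsScalarTower.of_algebraMap_eq fun _ => rfl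
  let φ : K ⊗[k] L →ₐ[K] M := Algebra.TensorProduct.lift (Algebra.ofId K M)
    ({ σ with commutes' := h } : L →ₐ[k] M) fun _ _ => Commute.all _ _
  letI : Algebra (K ⊗[k] L) M := φ.toRingHom.toAlgebra
  haveI : IsScalarTower K (K ⊗[k] L) M := IsScalarTower.of_algebraMap_eq fun a => (φ.commutes a).symm
  refine ⟨Module.finrank (K ⊗[k] L) M, ?_⟩
  rw [← Module.finrank_baseChange (R := K) (S := k) (M' := L), Module.finrank_mul_finrank]

end Groth.L12.ConstDeg
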