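import Groth.Prelude.Def_CotT
import Groth.Prelude.Def_CotT2
import Mathlib.RingTheory.Extension.Cotangent.Basis
import Mathlib.Tactic

/-!
# Basic structure of the cotangent complex of a presentation
-/

universe u v w t m m'

open TensorProduct CotT

namespace Groth.L12.CotTLib

variable {A : Type u} {B : Type v} {ι : Type w} {σ : Type t}
variable [CommRing A] [CommRing B] [Algebra A B]
variable (P : Algebra.Presentation A B ι σ)

/-- `F/F₀`. -/
abbrev Gq : Type _ := relMod P ⧸ trivRel P

noncomputable def gj : Gq P →ₗ[P.toExtension.Ring] P.toExtension.Ring :=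
  (trivRel P).liftQ (jmap P) (trivRel_le_relKer P)

@[simp] lemma gj_mk (f : relMod P) : gj P (Submodule.Quotient.mk f) = jmap P f := rfl

lemma gj_comm (u v : Gq P) : gj P u • v = gj P v • u := by
  obtain ⟨a, rfl⟩ := Submodule.Quotient.mk_surjective _ u
  obtain ⟨b, rfl⟩ := Submodule.Quotient.mk_surjective _ v
  rw [gj_mk, gj_mk, ← Submodule.Quotient.mk_smul, ← Submodule.Quotient.mk_smul, Submodule.Quotient.eq]
  exact Submodule.subset_span ⟨a, b, rfl⟩

noncomputable def gL1 : Gq P →ₗ[P.toExtension.Ring] L1 P :=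
  (trivRel P).liftQ (TensorProduct.mk P.toExtension.Ring B (relMod P) 1) fun y hy =>
    LinearMap.mem_ker.2 (one_tmul_eq_zero_of_mem_trivRel P y hy)

@[simp] lemma gL1_mk (f : relMod P) : gL1 P (Submodule.Quotient.mk f) = (1 : B) ⊗ₜ f := rfl

lemma gL1_smul (r : P.toExtension.Ring) (u : Gq P) :
    gL1 P (r • u) = algebraMap P.toExtension.Ring B r • gL1 P u := by
  rw [map_smul, algebraMap_smul]

/-- The class in `L₂` of a relation. -/
noncomputable def relClass : relKer P →ₗ[P.toExtension.Ring] L2 P :=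
  ((LinearMap.range ((trivRelKer P).subtype.baseChange B)).mkQ.restrictScalars P.toExtension.Ring) ∘ₗ
    TensorProduct.mk P.toExtension.Ring B (relKer P) 1

lemma relClass_apply (q : relKer P) : relClass P q = Submodule.Quotient.mk ((1 : B) ⊗ₜ q) := rfl

lemma relClass_smul (r : P.toExtension.Ring) (q : relKer P) :
    relClass P (r • q) = algebraMap P.toExtension.Ring B r • relClass P q := by
  rw [map_smul, algebraMap_smul]

lemma smul_relClass (b : B) (q : relKer P) : b • relClass P q = Submodule.Quotient.mk (b ⊗ₜ q) := by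
  rw [relClass_apply, ← Submodule.Quotient.mk_smul, TensorProduct.smul_tmul', smul_eq_mul, mul_one]

lemma relClass_eq_zero {q : relKer P} (h : (q : relMod P) ∈ trivRel P) : relClass P q = 0 := by
  rw [relClass_apply, Submodule.Quotient.mk_eq_zero]
  exact ⟨(1 : B) ⊗ₜ ⟨q, h⟩, rfl⟩

lemma relClass_congr {q q' : relKer P}
    (h : (Submodule.Quotient.mk (q : relMod P) : Gq P) = Submodule.Quotient.mk (q' : relMod P)) :
    relClass P q = relClass P q' := by
  rw [← sub_eq_zero, ← map_sub]
  refine relClass_eq_zero P ?_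
  rw [Submodule.Quotient.eq] at h
  exact h

lemma L2_hom_ext {M : Type m} [AddCommGroup M] [Module B M] {φ ψ : L2 P →ₗ[B] M}
    (h : ∀ q, φ (relClass P q) = ψ (relClass P q)) : φ = ψ := by
  refine LinearMap.ext fun z => ?_
  induction z using Submodule.Quotient.induction_on with
  | H z =>
    induction z using TensorProduct.induction_on with
    | zero => rw [Submodule.Quotient.mk_zero, map_zero, map_zero]
    | add x y hx hy => rw [Submodule.Quotient.mk_add, map_add, map_add, hx, hy]
    | tmul b q => rw [← smul_relClass, map_smul, map_smul, h]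

@[simp] lemma d2_relClass (q : relKer P) : d2 P (relClass P q) = (1 : B) ⊗ₜ (q : relMod P) := d2_mk_tmul P 1 q

/-- `L₁ = F/IF`, as a quotient of `F`. -/
lemma tmul_surjective : Function.Surjective (TensorProduct.mk P.toExtension.Ring B (relMod P) 1) := by
  intro x
  induction x using TensorProduct.induction_on with
  | zero => exact ⟨0, map_zero _⟩
  | add x y hx hy =>
    obtain ⟨a, rfl⟩ := hx
    obtain ⟨b, rfl⟩ := hy
    exact ⟨a + b, map_add _ _ _⟩
  | tmul b f =>
    obtain ⟨r, rfl⟩ := P.toExtension.algebraMap_surjective b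
    refine ⟨r • f, ?_⟩
    rw [TensorProduct.mk_apply, TensorProduct.tmul_smul, TensorProduct.smul_tmul', Algebra.smul_def, mul_one]

lemma jker_surjective : Function.Surjective (jker P) := by
  rintro ⟨x, hx⟩
  have h : x ∈ LinearMap.range (jmap P) := by rw [range_jmap]; exact hx
  obtain ⟨f, hf⟩ := h
  exact ⟨f, Subtype.ext hf⟩

lemma toCot_surjective : Function.Surjective (toCot P) := by
  intro x
  obtain ⟨y, rfl⟩ := Algebra.Extension.Cotangent.mk_surjective x
  obtain ⟨f, rfl⟩ := jker_surjective P y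
  exact ⟨1 ⊗ₜ f, by simp⟩

lemma tmul_smul_eq_zero {x : P.toExtension.Ring} (hx : x ∈ P.toExtension.ker) (f : relMod P) :
    (1 : B) ⊗ₜ[P.toExtension.Ring] (x • f) = (0 : L1 P) := by
  rw [TensorProduct.tmul_smul, TensorProduct.smul_tmul', Algebra.smul_def,
    show algebraMap P.toExtension.Ring B x = 0 from hx, zero_mul, TensorProduct.zero_tmul]

/-- `L₂ → L₁ → I/I²` is exact. -/
lemma exact_d2_toCot : Function.Exact (d2 P) (toCot P) := by
  intro z
  refine ⟨fun hz => ?_, ?_⟩
  · obtain ⟨f, rfl⟩ := tmul_surjective P z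
    have h1 : jmap P f ∈ P.toExtension.ker ^ 2 := by
      rw [TensorProduct.mk_apply, toCot_tmul, one_smul] at hz
      exact (Algebra.Extension.Cotangent.mk_eq_zero_iff _).1 hz
    have h2 : ∀ x ∈ P.toExtension.ker ^ 2, ∃ g : relMod P, jmap P g = x ∧
        (1 : B) ⊗ₜ[P.toExtension.Ring] g = (0 : L1 P) := by
      intro x hx
      rw [pow_two] at hx
      induction hx using Submodule.mul_induction_on' with
      | mem_mul_mem a ha b hb =>
        have hb' : b ∈ LinearMap.range (jmap P) := by rw [range_jmap]; exact hb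
        obtain ⟨g, rfl⟩ := hb'
        exact ⟨a • g, by rw [map_smul, smul_eq_mul], tmul_smul_eq_zero P ha g⟩
      | add x _ y _ hx hy =>
        obtain ⟨g, hg, hg'⟩ := hx
        obtain ⟨g', hgg, hgg'⟩ := hy
        exact ⟨g + g', by rw [map_add, hg, hgg], by rw [TensorProduct.tmul_add, hg', hgg', add_zero]⟩
    obtain ⟨g, hg, hg'⟩ := h2 _ h1
    refine ⟨relClass P ⟨f - g, ?_⟩, ?_⟩
    · change jmap P (f - g) = 0
      rw [map_sub, hg, sub_self]
    · rw [d2_relClass, TensorProduct.tmul_sub, hg', sub_zero]; rfl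
  · rintro ⟨y, rfl⟩
    exact LinearMap.congr_fun (toCot_comp_d2 P) y

lemma d1_apply (x : L1 P) : d1 P x = P.toExtension.cotangentComplex (toCot P x) := rfl

variable (M : Type m) [AddCommGroup M] [Module B M]

/-- every cocycle factors through `I/I²` -/
lemma exists_of_cocycle (c : L1 P →ₗ[B] M) (hc : c ∘ₗ d2 P = 0) :
    ∃ φ : P.toExtension.Cotangent →ₗ[B] M, φ ∘ₗ toCot P = c := by
  let e := (exact_d2_toCot P).linearEquivOfSurjective (toCot_surjective P)
  refine ⟨(Submodule.liftQ _ c (LinearMap.range_le_ker_iff.2 hc)) ∘ₗ e.symm.toLinearMap, LinearMap.ext fun x => ?_⟩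
  have : e.symm (toCot P x) = Submodule.Quotient.mk x := by
    rw [LinearEquiv.symm_apply_eq]; rfl
  simp [this]

lemma homToT1_surjective : Function.Surjective (homToT1 P M) := by
  intro z
  obtain ⟨⟨c, hc⟩, rfl⟩ := Submodule.Quotient.mk_surjective _ z
  obtain ⟨φ, rfl⟩ := exists_of_cocycle P M c hc
  exact ⟨φ, rfl⟩

lemma ker_homToT1 :
    LinearMap.ker (homToT1 P M) = LinearMap.range (LinearMap.lcomp B M P.toExtension.cotangentComplex) := by
  ext φ
  rw [LinearMap.mem_ker, homToT1, LinearMap.comp_apply, Submodule.mkQ_apply, Submodule.Quotient.mk_eq_zero]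
  refine ⟨?_, ?_⟩
  · rintro ⟨ψ, hψ⟩
    refine ⟨ψ, LinearMap.ext fun x => ?_⟩
    obtain ⟨x, rfl⟩ := toCot_surjective P x
    exact LinearMap.congr_fun hψ x
  · rintro ⟨ψ, rfl⟩
    exact ⟨ψ, rfl⟩

lemma T1_subsingleton_iff :
    Subsingleton (T1 P M) ↔ Function.Surjective (LinearMap.lcomp B M P.toExtension.cotangentComplex) := by
  constructor
  · intro h φ
    have h2 : φ ∈ LinearMap.range (LinearMap.lcomp B M P.toExtension.cotangentComplex) := by
      rw [← ker_homToT1]; exact LinearMap.mem_ker.2 (Subsingleton.elim _ _)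
    exact h2
  · intro h
    refine ⟨fun a b => ?_⟩
    obtain ⟨φ, rfl⟩ := homToT1_surjective P M a
    obtain ⟨ψ, rfl⟩ := homToT1_surjective P M b
    rw [← sub_eq_zero, ← map_sub, ← LinearMap.mem_ker, ker_homToT1]
    exact h _

lemma T2_subsingleton_iff :
    Subsingleton (T2 P M) ↔ Function.Surjective (LinearMap.lcomp B M (d2 P)) := by
  rw [Submodule.Quotient.subsingleton_iff, LinearMap.range_eq_top]
  rfl

lemma ker_d1Star :
    LinearMap.ker (d1Star P M) = LinearMap.ker (LinearMap.lcomp B M P.toExtension.cotangentComplex) := by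
  ext ψ
  refine ⟨fun h => LinearMap.ext fun x => ?_, fun h => LinearMap.ext fun x => ?_⟩
  · obtain ⟨x, rfl⟩ := toCot_surjective P x
    exact LinearMap.congr_fun (LinearMap.mem_ker.1 h) x
  · exact LinearMap.congr_fun (LinearMap.mem_ker.1 h) (toCot P x)

lemma basis_apply (i : ι) :
    P.cotangentSpaceBasis i = ((1 : B) ⊗ₜ KaehlerDifferential.D A P.toExtension.Ring (MvPolynomial.X i : P.toExtension.Ring) : L0 P) :=
  Algebra.Generators.cotangentSpaceBasis_apply _ _

end Groth.L12.CotTLib
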