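import Groth.Agent.L12.CotTHom

/-!
# Composition of morphisms of presentations; independence of the presentation
-/

universe u v w t u' v' w' t' u'' v'' w'' t'' m

open TensorProduct CotT

namespace Groth.L12.CotTLib

section Comp

variable {A : Type u} {B : Type v} {ι : Type w} {σ : Type t}
variable {A' : Type u'} {B' : Type v'} {ι' : Type w'} {σ' : Type t'}
variable {A'' : Type u''} {B'' : Type v''} {ι'' : Type w''} {σ'' : Type t''}
variable [CommRing A] [CommRing B] [Algebra A B] [CommRing A'] [CommRing B'] [Algebra A' B']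
  [CommRing A''] [CommRing B''] [Algebra A'' B'']
variable [Algebra A A'] [Algebra B B'] [Algebra A B'] [IsScalarTower A A' B'] [IsScalarTower A B B']
variable [Algebra A' A''] [Algebra B' B''] [Algebra A' B''] [IsScalarTower A' A'' B''] [IsScalarTower A' B' B'']
variable [Algebra A A''] [Algebra B B''] [Algebra A B''] [IsScalarTower A A'' B''] [IsScalarTower A B B'']
  [IsScalarTower A A' A''] [IsScalarTower B B' B'']
variable {P : Algebra.Presentation A B ι σ} {P' : Algebra.Presentation A' B' ι' σ'}
  {P'' : Algebra.Presentation A'' B'' ι'' σ''}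

lemma ringHom_comp (g : PresHom P' P'') (h : PresHom P P') (x : P.toExtension.Ring) :
    (g.hom.comp h.hom).toExtensionHom.toRingHom x = g.ringHom (h.ringHom x) :=
  Algebra.Generators.Hom.toAlgHom_comp_apply _ _ _ h.hom g.hom x

/-- composite of morphisms of presentations -/
noncomputable def comp (g : PresHom P' P'') (h : PresHom P P') : PresHom P P'' where
  hom := g.hom.comp h.hom
  relVal s := g.relModMap (h.relVal s)
  jmap_relVal s := by
    rw [PresHom.jmap_relModMap, h.jmap_relVal]
    exact (ringHom_comp g h _).symm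

lemma comp_ringHom (g : PresHom P' P'') (h : PresHom P P') (x : P.toExtension.Ring) :
    (comp g h).ringHom x = g.ringHom (h.ringHom x) :=
  ringHom_comp g h x

lemma comp_relModMap (g : PresHom P' P'') (h : PresHom P P') (f : relMod P) :
    (comp g h).relModMap f = g.relModMap (h.relModMap f) := by
  induction f using Finsupp.induction_linear with
  | zero => simp
  | add f f' hf hf' => simp only [map_add, hf, hf']
  | single s a =>
    rw [PresHom.relModMap_single, PresHom.relModMap_single, LinearMap.map_smulₛₗ, comp_ringHom]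
    rfl

variable (M : Type m) [AddCommGroup M] [Module B'' M] [Module B' M] [IsScalarTower B' B'' M]
  [Module B M] [IsScalarTower B B'' M] [IsScalarTower B B' M]

lemma pull0_comp (g : PresHom P' P'') (h : PresHom P P') (ψ : L0 P'' →ₗ[B''] M) :
    (comp g h).pull0 M ψ = h.pull0 M (g.pull0 M ψ) := by
  refine P.cotangentSpaceBasis.ext fun i => ?_
  rw [PresHom.pull0_apply, PresHom.pull0_apply, PresHom.pull0_apply, PresHom.L0map_apply,
    PresHom.L0map_apply, PresHom.L0map_apply, basis_apply, Algebra.Extension.CotangentSpace.map_tmul,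
    Algebra.Extension.CotangentSpace.map_tmul, map_one, map_one]
  change ψ (1 ⊗ₜ KaehlerDifferential.D A'' P''.toExtension.Ring ((comp g h).ringHom (MvPolynomial.X i))) =
    ψ (Algebra.Extension.CotangentSpace.map g.hom.toExtensionHom
      (1 ⊗ₜ KaehlerDifferential.D A' P'.toExtension.Ring (h.ringHom (MvPolynomial.X i))))
  rw [Algebra.Extension.CotangentSpace.map_tmul, map_one, comp_ringHom]
  rfl

lemma pull1_comp (g : PresHom P' P'') (h : PresHom P P') (c : L1 P'' →ₗ[B''] M) :
    (comp g h).pull1 M c = h.pull1 M (g.pull1 M c) := by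
  refine (L1basis P).ext fun s => ?_
  rw [L1basis_apply, PresHom.pull1_apply, PresHom.pull1_apply, PresHom.pull1_apply, PresHom.L1map_tmul,
    PresHom.L1map_tmul, map_one, map_one, PresHom.L1map_tmul, map_one, comp_relModMap]

lemma pull2_comp (g : PresHom P' P'') (h : PresHom P P') (φ : L2 P'' →ₗ[B''] M) :
    (comp g h).pull2 M φ = h.pull2 M (g.pull2 M φ) := by
  refine L2_hom_ext P fun q => ?_
  rw [PresHom.pull2_apply, PresHom.pull2_apply, PresHom.pull2_apply, L2map_relClass, L2map_relClass,
    L2map_relClass]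
  exact congrArg (fun z => φ (relClass P'' z)) (Subtype.ext (by
    rw [PresHom.relKerMap_coe, PresHom.relKerMap_coe, PresHom.relKerMap_coe, comp_relModMap]))

theorem T0pull_comp (g : PresHom P' P'') (h : PresHom P P') (k : PresHom P P'') (x : T0 P'' M) :
    k.T0pull M x = h.T0pull M (g.T0pull M x) := by
  rw [T0pull_eq M k (comp g h)]
  exact Subtype.ext (pull0_comp M g h _)

theorem T1pull_comp (g : PresHom P' P'') (h : PresHom P P') (k : PresHom P P'') (x : T1 P'' M) :
    k.T1pull M x = h.T1pull M (g.T1pull M x) := by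
  rw [T1pull_eq M k (comp g h)]
  obtain ⟨c, rfl⟩ := Submodule.Quotient.mk_surjective _ x
  rw [T1pull_mk, T1pull_mk, T1pull_mk]
  exact congrArg Submodule.Quotient.mk (Subtype.ext (pull1_comp M g h _))

theorem T2pull_comp (g : PresHom P' P'') (h : PresHom P P') (k : PresHom P P'') (x : T2 P'' M) :
    k.T2pull M x = h.T2pull M (g.T2pull M x) := by
  rw [T2pull_eq M k (comp g h)]
  obtain ⟨φ, rfl⟩ := Submodule.Quotient.mk_surjective _ x
  rw [T2pull_mk, T2pull_mk, T2pull_mk, pull2_comp]

end Comp

section Invariance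

variable {A : Type u} {B : Type v} [CommRing A] [CommRing B] [Algebra A B]
variable {ι : Type w} {σ : Type t} {ι' : Type w'} {σ' : Type t'}
variable {P : Algebra.Presentation A B ι σ} {P' : Algebra.Presentation A B ι' σ'}
variable (M : Type m) [AddCommGroup M] [Module B M]

lemma id_relModMap (f : relMod P) : (PresHom.id P).relModMap f = f := by
  induction f using Finsupp.induction_linear with
  | zero => simp
  | add f f' hf hf' => rw [map_add, hf, hf']
  | single s a =>
    rw [PresHom.relModMap_single]
    change (PresHom.id P).ringHom a • Finsupp.single s (1 : P.toExtension.Ring) = _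
    rw [Finsupp.smul_single, smul_eq_mul, mul_one]
    exact congrArg (Finsupp.single s) (MvPolynomial.aeval_X_left_apply a)

theorem T0pull_id (x : T0 P M) : (PresHom.id P).T0pull M x = x := by
  refine Subtype.ext (P.cotangentSpaceBasis.ext fun i => ?_)
  rw [T0pull_coe, PresHom.pull0_apply, PresHom.L0map_apply, basis_apply,
    Algebra.Extension.CotangentSpace.map_tmul, map_one]
  congr 2
  exact congrArg _ (MvPolynomial.aeval_X _ i)

theorem T1pull_id (x : T1 P M) : (PresHom.id P).T1pull M x = x := by
  obtain ⟨c, rfl⟩ := Submodule.Quotient.mk_surjective _ x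
  rw [T1pull_mk]
  refine congrArg Submodule.Quotient.mk (Subtype.ext ((L1basis P).ext fun s => ?_))
  rw [PresHom.cocycles1Pull_coe, L1basis_apply, PresHom.pull1_apply, PresHom.L1map_tmul, map_one, id_relModMap]

theorem T2pull_id (x : T2 P M) : (PresHom.id P).T2pull M x = x := by
  obtain ⟨φ, rfl⟩ := Submodule.Quotient.mk_surjective _ x
  rw [T2pull_mk]
  refine congrArg Submodule.Quotient.mk (L2_hom_ext P fun q => ?_)
  rw [PresHom.pull2_apply, L2map_relClass]
  exact congrArg (fun z => φ (relClass P z)) (Subtype.ext (id_relModMap _))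

theorem T0pull_bijective (h : PresHom P P') : Function.Bijective (h.T0pull M) := by
  obtain ⟨g⟩ := nonempty_presHom P' P
  exact Function.bijective_iff_has_inverse.2 ⟨g.T0pull M,
    fun x => by rw [← T0pull_comp M h g (PresHom.id P'), T0pull_id],
    fun x => by rw [← T0pull_comp M g h (PresHom.id P), T0pull_id]⟩

theorem T1pull_bijective (h : PresHom P P') : Function.Bijective (h.T1pull M) := by
  obtain ⟨g⟩ := nonempty_presHom P' P
  exact Function.bijective_iff_has_inverse.2 ⟨g.T1pull M,
    fun x => by rw [← T1pull_comp M h g (PresHom.id P'), T1pull_id],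
    fun x => by rw [← T1pull_comp M g h (PresHom.id P), T1pull_id]⟩

theorem T2pull_bijective (h : PresHom P P') : Function.Bijective (h.T2pull M) := by
  obtain ⟨g⟩ := nonempty_presHom P' P
  exact Function.bijective_iff_has_inverse.2 ⟨g.T2pull M,
    fun x => by rw [← T2pull_comp M h g (PresHom.id P'), T2pull_id],
    fun x => by rw [← T2pull_comp M g h (PresHom.id P), T2pull_id]⟩

variable (P P')

theorem nonempty_T_equiv :
    Nonempty (T0 P M ≃ₗ[B] T0 P' M) ∧ Nonempty (T1 P M ≃ₗ[B] T1 P' M) ∧ Nonempty (T2 P M ≃ₗ[B] T2 P' M) := by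
  obtain ⟨h⟩ := nonempty_presHom P' P
  exact ⟨⟨LinearEquiv.ofBijective _ (T0pull_bijective M h)⟩, ⟨LinearEquiv.ofBijective _ (T1pull_bijective M h)⟩,
    ⟨LinearEquiv.ofBijective _ (T2pull_bijective M h)⟩⟩

theorem T1_subsingleton_congr : Subsingleton (T1 P M) ↔ Subsingleton (T1 P' M) := by
  obtain ⟨-, ⟨e⟩, -⟩ := nonempty_T_equiv P P' M
  exact e.toEquiv.subsingleton_congr

theorem T2_subsingleton_congr : Subsingleton (T2 P M) ↔ Subsingleton (T2 P' M) := by
  obtain ⟨-, -, ⟨e⟩⟩ := nonempty_T_equiv P P' M
  exact e.toEquiv.subsingleton_congr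

end Invariance

end Groth.L12.CotTLib
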