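import Groth.Agent.L12.CotTBasic
import Groth.Prelude.Def_Exal

/-!
# Extensions and `T¹`
-/

universe u

open TensorProduct CotT

attribute [local instance] Exal.opModule Exal.isCentralScalar_opModule

namespace Groth.L12.CotTLib

variable {A B : Type u} [CommRing A] [CommRing B] [Algebra A B] {M : Type u} [AddCommGroup M] [Module B M]

/-- A map of extensions is an equivalence. -/
theorem equiv_of_hom (X Y : Exal.Ext A B M) (g : X.E →ₐ[A] Y.E) (hp : ∀ x, Y.proj (g x) = X.proj x)
    (hi : ∀ z, g (X.incl z) = Y.incl z) : Nonempty (Exal.Ext.Equiv X Y) := by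
  have hb : Function.Bijective g := by
    refine ⟨(injective_iff_map_eq_zero g).2 fun x hx => ?_, fun y => ?_⟩
    · obtain ⟨z, rfl⟩ := (X.isExtension.exact x).1 (by rw [← hp, hx, map_zero])
      rw [hi, ← map_zero Y.incl] at hx
      rw [Y.isExtension.incl_injective hx, map_zero]
    · obtain ⟨x, hx⟩ := X.isExtension.proj_surjective (Y.proj y)
      obtain ⟨z, hz⟩ := (Y.isExtension.exact (y - g x)).1 (by rw [map_sub, hp, hx, sub_self])
      exact ⟨x + X.incl z, by rw [map_add, hi, hz, add_sub_cancel]⟩
  exact ⟨⟨AlgEquiv.ofBijective g hb, hp, hi⟩⟩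

variable {ι σ : Type u} (P : Algebra.Presentation A B ι σ)

section Push

variable [Module P.toExtension.Ring M] [IsScalarTower P.toExtension.Ring B M]

variable (φ : P.toExtension.Cotangent →ₗ[B] M)

/-- first component -/
noncomputable def pf (z : Exal.Ext.TrivCarrier A P.toExtension.Ring M) : P.toExtension.Ring :=
  TrivSqZeroExt.fst (R := P.toExtension.Ring) (M := M) z

/-- second component -/
noncomputable def ps (z : Exal.Ext.TrivCarrier A P.toExtension.Ring M) : M :=
  TrivSqZeroExt.snd (R := P.toExtension.Ring) (M := M) z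

lemma pf_zero : pf P (0 : Exal.Ext.TrivCarrier A P.toExtension.Ring M) = 0 := TrivSqZeroExt.fst_zero

lemma ps_zero : ps P (0 : Exal.Ext.TrivCarrier A P.toExtension.Ring M) = 0 := TrivSqZeroExt.snd_zero

lemma pf_add (x y : Exal.Ext.TrivCarrier A P.toExtension.Ring M) : pf P (x + y) = pf P x + pf P y :=
  TrivSqZeroExt.fst_add _ _

lemma ps_add (x y : Exal.Ext.TrivCarrier A P.toExtension.Ring M) : ps P (x + y) = ps P x + ps P y :=
  TrivSqZeroExt.snd_add _ _

lemma pf_sub (x y : Exal.Ext.TrivCarrier A P.toExtension.Ring M) : pf P (x - y) = pf P x - pf P y :=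
  TrivSqZeroExt.fst_sub _ _

lemma ps_sub (x y : Exal.Ext.TrivCarrier A P.toExtension.Ring M) : ps P (x - y) = ps P x - ps P y :=
  TrivSqZeroExt.snd_sub _ _

lemma pf_mul (x y : Exal.Ext.TrivCarrier A P.toExtension.Ring M) : pf P (x * y) = pf P x * pf P y :=
  TrivSqZeroExt.fst_mul _ _

lemma ps_mul (x y : Exal.Ext.TrivCarrier A P.toExtension.Ring M) :
    ps P (x * y) = algebraMap P.toExtension.Ring B (pf P x) • ps P y +
      algebraMap P.toExtension.Ring B (pf P y) • ps P x := by
  rw [algebraMap_smul, algebraMap_smul]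
  exact (TrivSqZeroExt.snd_mul _ _).trans (congrArg _ (op_smul_eq_smul _ _))

/-- the graph of `-φ` on the kernel -/
noncomputable def pushIdeal : Ideal (Exal.Ext.TrivCarrier A P.toExtension.Ring M) where
  carrier := {z | ∃ h : pf P z ∈ P.toExtension.ker, ps P z = -φ (Algebra.Extension.Cotangent.mk ⟨_, h⟩)}
  zero_mem' := ⟨by rw [pf_zero]; exact zero_mem _, by
    rw [ps_zero]
    simp only [pf_zero]
    erw [map_zero]
    simp⟩
  add_mem' := by
    rintro x y ⟨hx, hx'⟩ ⟨hy, hy'⟩
    refine ⟨by rw [pf_add]; exact add_mem hx hy, ?_⟩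
    rw [ps_add, hx', hy', ← neg_add, ← map_add, ← map_add]
    simp only [pf_add]
    rfl
  smul_mem' := by
    rintro r z ⟨h, h'⟩
    refine ⟨by rw [smul_eq_mul, pf_mul]; exact Ideal.mul_mem_left _ _ h, ?_⟩
    simp only [smul_eq_mul]
    rw [ps_mul, h', show algebraMap P.toExtension.Ring B (pf P z) = 0 from h, zero_smul, add_zero,
      smul_neg, ← map_smul φ, algebraMap_smul, ← map_smul Algebra.Extension.Cotangent.mk]
    simp only [pf_mul]
    rfl

/-- projection of the split algebra -/
noncomputable def pushProj : Exal.Ext.TrivCarrier A P.toExtension.Ring M →ₐ[A] B :=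
  { ((algebraMap P.toExtension.Ring B).comp (TrivSqZeroExt.fstHom P.toExtension.Ring P.toExtension.Ring M).toRingHom) with
    commutes' := fun a => (IsScalarTower.algebraMap_apply A P.toExtension.Ring B a).symm }

lemma pushProj_apply (z : Exal.Ext.TrivCarrier A P.toExtension.Ring M) :
    pushProj P z = algebraMap P.toExtension.Ring B (pf P z) := rfl

/-- elements of the split algebra -/
noncomputable def pr (r : P.toExtension.Ring) (m : M) : Exal.Ext.TrivCarrier A P.toExtension.Ring M :=
  (TrivSqZeroExt.inl r + TrivSqZeroExt.inr m : TrivSqZeroExt P.toExtension.Ring M)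

@[simp] lemma fst_pr (r : P.toExtension.Ring) (m : M) : pf P (pr P r m) = r := by
  change TrivSqZeroExt.fst (TrivSqZeroExt.inl r + TrivSqZeroExt.inr m) = r
  simp

@[simp] lemma snd_pr (r : P.toExtension.Ring) (m : M) : ps P (pr P r m) = m := by
  change TrivSqZeroExt.snd (TrivSqZeroExt.inl r + TrivSqZeroExt.inr m) = m
  simp

lemma pr_ext {x y : Exal.Ext.TrivCarrier A P.toExtension.Ring M}
    (h1 : pf P x = pf P y) (h2 : ps P x = ps P y) : x = y :=
  TrivSqZeroExt.ext h1 h2

lemma pr_mk (z : Exal.Ext.TrivCarrier A P.toExtension.Ring M) : ∃ r m, z = pr P r m :=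
  ⟨pf P z, ps P z, pr_ext P (by simp) (by simp)⟩

lemma pr_add (r r' : P.toExtension.Ring) (m m' : M) : pr P r m + pr P r' m' = pr P (r + r') (m + m') :=
  pr_ext P (by simp [pf_add]) (by simp [ps_add])

lemma pr_mul (r r' : P.toExtension.Ring) (m m' : M) :
    pr P r m * pr P r' m' = pr P (r * r')
      (algebraMap P.toExtension.Ring B r • m' + algebraMap P.toExtension.Ring B r' • m) :=
  pr_ext P (by simp [pf_mul]) (by simp [ps_mul])

lemma pr_zero : pr P (0 : P.toExtension.Ring) (0 : M) = 0 :=
  pr_ext P (by simp [pf_zero]) (by simp [ps_zero])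

lemma pr_algebraMap (a : A) :
    algebraMap A (Exal.Ext.TrivCarrier A P.toExtension.Ring M) a = pr P (algebraMap A P.toExtension.Ring a) 0 :=
  pr_ext P (by rw [fst_pr]; rfl) (by rw [snd_pr]; rfl)

/-- the pushout extension -/
noncomputable def pushExt : Exal.Ext A B M where
  E := Exal.Ext.TrivCarrier A P.toExtension.Ring M ⧸ pushIdeal P φ
  proj := Ideal.Quotient.liftₐ (pushIdeal P φ) (pushProj P) fun z hz => hz.1
  incl :=
    { toFun := fun m => Ideal.Quotient.mk _ (pr P 0 m)
      map_zero' := by
        rw [pr_zero, map_zero]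
      map_add' := fun m m' => by rw [← map_add, pr_add, add_zero] }
  isExtension :=
    { proj_surjective := fun b => by
        obtain ⟨r, rfl⟩ := P.toExtension.algebraMap_surjective b
        exact ⟨Ideal.Quotient.mk _ (pr P r 0), (pushProj_apply P _).trans (by rw [fst_pr])⟩
      incl_injective := fun m m' h => by
        obtain ⟨h1, h2⟩ := Ideal.Quotient.eq.1 h
        rw [ps_sub, snd_pr, snd_pr] at h2
        simp only [pf_sub, fst_pr, sub_self] at h2
        rw [← sub_eq_zero, h2, neg_eq_zero]
        erw [map_zero]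
      exact := fun x => by
        obtain ⟨z, rfl⟩ := Ideal.Quotient.mk_surjective x
        obtain ⟨r, m, rfl⟩ := pr_mk P z
        constructor
        · intro hx
          have hr : r ∈ P.toExtension.ker := by
            have h2 : algebraMap P.toExtension.Ring B (pf P (pr P r m)) = 0 := hx
            rwa [fst_pr] at h2
          refine ⟨m + φ (Algebra.Extension.Cotangent.mk ⟨r, hr⟩), ?_⟩
          change Ideal.Quotient.mk _ (pr P 0 _) = _
          rw [eq_comm, Ideal.Quotient.eq]
          refine ⟨by simpa [pf_sub] using hr, ?_⟩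
          simp only [ps_sub, snd_pr, sub_add_cancel_left, neg_inj, pf_sub, fst_pr, sub_zero]
        · rintro ⟨m', hm'⟩
          rw [← hm']
          exact (pushProj_apply P _).trans (by rw [fst_pr, map_zero])
      mul_incl := fun x z => by
        obtain ⟨y, rfl⟩ := Ideal.Quotient.mk_surjective x
        obtain ⟨r, m, rfl⟩ := pr_mk P y
        change Ideal.Quotient.mk _ (pr P r m) * Ideal.Quotient.mk _ (pr P 0 z) = Ideal.Quotient.mk _ (pr P 0 _)
        rw [← map_mul, pr_mul, mul_zero, map_zero, zero_smul, add_zero]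
        congr 3
        exact (by rw [pushProj_apply, fst_pr] : algebraMap P.toExtension.Ring B r = pushProj P (pr P r m)) }

/-- the class of `(r, m)` -/
noncomputable def el (r : P.toExtension.Ring) (m : M) : (pushExt P φ).E :=
  Ideal.Quotient.mk (pushIdeal P φ) (pr P r m)

lemma el_surjective (x : (pushExt P φ).E) : ∃ r m, el P φ r m = x := by
  obtain ⟨z, rfl⟩ := Ideal.Quotient.mk_surjective x
  obtain ⟨r, m, rfl⟩ := pr_mk P z
  exact ⟨r, m, rfl⟩

lemma proj_el (r : P.toExtension.Ring) (m : M) :
    (pushExt P φ).proj (el P φ r m) = algebraMap P.toExtension.Ring B r :=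
  (pushProj_apply P _).trans (by rw [fst_pr])

lemma incl_eq (m : M) : (pushExt P φ).incl m = el P φ 0 m := rfl

lemma el_add (r r' : P.toExtension.Ring) (m m' : M) :
    el P φ r m + el P φ r' m' = el P φ (r + r') (m + m') := by
  exact (map_add (Ideal.Quotient.mk (pushIdeal P φ)) _ _).symm.trans (congrArg _ (pr_add P r r' m m'))

lemma el_mul (r r' : P.toExtension.Ring) (m m' : M) :
    el P φ r m * el P φ r' m' = el P φ (r * r')
      (algebraMap P.toExtension.Ring B r • m' + algebraMap P.toExtension.Ring B r' • m) := by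
  exact (map_mul (Ideal.Quotient.mk (pushIdeal P φ)) _ _).symm.trans (congrArg _ (pr_mul P r r' m m'))

lemma el_algebraMap (a : A) :
    algebraMap A (pushExt P φ).E a = el P φ (algebraMap A P.toExtension.Ring a) 0 :=
  congrArg (Ideal.Quotient.mk (pushIdeal P φ)) (pr_algebraMap P a)

lemma el_ker (x : P.toExtension.ker) :
    el P φ (x : P.toExtension.Ring) (-φ (Algebra.Extension.Cotangent.mk x)) = 0 := by
  refine Ideal.Quotient.eq_zero_iff_mem.2 ⟨by rw [fst_pr]; exact x.2, ?_⟩
  simp only [snd_pr, fst_pr]

lemma exists_hom (X : Exal.Ext A B M) (g : P.toExtension.Ring →ₐ[A] X.E) (c : P.toExtension.Ring → M)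
    (hg : ∀ r, X.proj (g r) = algebraMap P.toExtension.Ring B r)
    (hc : ∀ r r', c (r + r') = c r + c r')
    (hm : ∀ r r', c (r * r') = algebraMap P.toExtension.Ring B r • c r' + algebraMap P.toExtension.Ring B r' • c r)
    (hA : ∀ a, c (algebraMap A P.toExtension.Ring a) = 0)
    (hk : ∀ x : P.toExtension.ker, g x + X.incl (c x - φ (Algebra.Extension.Cotangent.mk x)) = 0) :
    Nonempty (Exal.Ext.Equiv (pushExt P φ) X) := by
  have h1 : g 1 = 1 := map_one g
  let f : Exal.Ext.TrivCarrier A P.toExtension.Ring M → X.E := fun z =>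
    g (pf P z) + X.incl (ps P z + c (pf P z))
  have hf : ∀ r m, f (pr P r m) = g r + X.incl (m + c r) := fun r m => by simp [f]
  have hsq : ∀ z w : M, X.incl z * X.incl w = 0 := fun z w => by
    rw [X.isExtension.mul_incl, (X.isExtension.exact _).2 ⟨z, rfl⟩, zero_smul, map_zero]
  have fadd : ∀ x y, f (x + y) = f x + f y := fun x y => by
    obtain ⟨r, m, rfl⟩ := pr_mk P x
    obtain ⟨r', m', rfl⟩ := pr_mk P y
    rw [pr_add, hf, hf, hf, hc, map_add g, add_add_add_comm m m', map_add X.incl]
    abel
  have fmul : ∀ x y, f (x * y) = f x * f y := fun x y => by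
    obtain ⟨r, m, rfl⟩ := pr_mk P x
    obtain ⟨r', m', rfl⟩ := pr_mk P y
    rw [pr_mul, hf, hf, hf, hm, map_mul g, add_mul, mul_add, mul_add, hsq,
      mul_comm (X.incl (m + c r)), X.isExtension.mul_incl, X.isExtension.mul_incl, hg, hg, smul_add, smul_add,
      map_add X.incl, map_add X.incl, map_add X.incl, map_add X.incl, map_add X.incl]
    abel
  have falg : ∀ a, f (algebraMap A _ a) = algebraMap A X.E a := fun a => by
    rw [pr_algebraMap, hf, hA, add_zero, map_zero, add_zero, AlgHom.commutes]
  let F : Exal.Ext.TrivCarrier A P.toExtension.Ring M →ₐ[A] X.E :=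
    { toFun := f
      map_one' := by have := falg 1; rwa [map_one, map_one] at this
      map_mul' := fmul
      map_zero' := by have := falg 0; rwa [map_zero, map_zero] at this
      map_add' := fadd
      commutes' := falg }
  have hK : ∀ z ∈ pushIdeal P φ, F z = 0 := by
    rintro z ⟨h, h'⟩
    change f z = 0
    simp only [f, h']
    rw [neg_add_eq_sub]
    exact hk ⟨_, h⟩
  refine equiv_of_hom (pushExt P φ) X (Ideal.Quotient.liftₐ (pushIdeal P φ) F hK) (fun x => ?_) fun z => ?_
  · obtain ⟨r, m, rfl⟩ := el_surjective P φ x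
    rw [proj_el]
    change X.proj (f (pr P r m)) = _
    rw [hf, map_add, hg, (X.isExtension.exact _).2 ⟨_, rfl⟩, add_zero]
  · change f (pr P 0 z) = _
    have hc0 : c 0 = 0 := by have := hA 0; rwa [map_zero] at this
    rw [hf, hc0, map_zero, add_zero, zero_add]

theorem exists_pushExt (X : Exal.Ext A B M) :
    ∃ φ : P.toExtension.Cotangent →ₗ[B] M, (pushExt P φ).cl = X.cl := by
  choose e he using fun i => X.isExtension.proj_surjective (P.val i)
  let θ : P.toExtension.Ring →ₐ[A] X.E := MvPolynomial.aeval e
  have hθ : ∀ r, X.proj (θ r) = algebraMap P.toExtension.Ring B r := fun r => by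
    have h : X.proj.comp θ = MvPolynomial.aeval P.val :=
      MvPolynomial.algHom_ext fun i =>
        (congrArg X.proj (MvPolynomial.aeval_X e i)).trans ((he i).trans (MvPolynomial.aeval_X P.val i).symm)
    exact (DFunLike.congr_fun h r).trans (algebraMap_toExtension P r).symm
  have h0 : ∀ x : P.toExtension.ker, X.proj (θ x) = 0 := fun x => (hθ x).trans x.2
  let L : P.toExtension.ker →ₗ[P.toExtension.Ring] M :=
    { toFun := fun x => X.kerLift (θ x) (h0 x)
      map_add' := fun x y => X.isExtension.incl_injective (by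
        rw [map_add, X.incl_kerLift, X.incl_kerLift, X.incl_kerLift, Submodule.coe_add, map_add])
      map_smul' := fun r x => X.isExtension.incl_injective (by
        have h1 : X.incl (algebraMap P.toExtension.Ring B r • X.kerLift (θ x) (h0 x)) = θ r * θ x := by
          rw [← hθ r, ← X.isExtension.mul_incl, X.incl_kerLift]
        rw [algebraMap_smul] at h1
        rw [X.incl_kerLift, RingHom.id_apply, h1, ← map_mul]
        rfl) }
  have hL : LinearMap.ker (Algebra.Extension.Cotangent.mk (P := P.toExtension)) ≤ LinearMap.ker L := by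
    rintro ⟨x, hx⟩ hm
    have h2 : x ∈ P.toExtension.ker ^ 2 := (Algebra.Extension.Cotangent.mk_eq_zero_iff _).1 hm
    refine X.isExtension.incl_injective ?_
    rw [map_zero]
    refine (X.incl_kerLift (θ x) (h0 ⟨x, hx⟩)).trans ?_
    rw [pow_two] at h2
    have key : ∀ y ∈ P.toExtension.ker * P.toExtension.ker, θ y = 0 := by
      intro y hy
      induction hy using Submodule.mul_induction_on' with
      | mem_mul_mem a ha b hb =>
        rw [map_mul, ← X.incl_kerLift (θ b) (h0 ⟨b, hb⟩), X.isExtension.mul_incl, h0 ⟨a, ha⟩, zero_smul, map_zero]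
      | add a _ b _ ha hb => rw [map_add, ha, hb, add_zero]
    exact key x h2
  let φ0 : P.toExtension.Cotangent →ₗ[P.toExtension.Ring] M :=
    (Submodule.liftQ _ L hL) ∘ₗ (LinearMap.quotKerEquivOfSurjective _ Algebra.Extension.Cotangent.mk_surjective).symm.toLinearMap
  have hφ0 : ∀ x, φ0 (Algebra.Extension.Cotangent.mk x) = L x := fun x => by
    have : (LinearMap.quotKerEquivOfSurjective _ Algebra.Extension.Cotangent.mk_surjective).symm
        (Algebra.Extension.Cotangent.mk (P := P.toExtension) x) = Submodule.Quotient.mk x := by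
      rw [LinearEquiv.symm_apply_eq]; rfl
    simp only [φ0, LinearMap.comp_apply, LinearEquiv.coe_coe, this, Submodule.liftQ_apply]
  let φ : P.toExtension.Cotangent →ₗ[B] M :=
    { toFun := φ0
      map_add' := φ0.map_add
      map_smul' := fun b x => by
        obtain ⟨r, rfl⟩ := P.toExtension.algebraMap_surjective b
        rw [RingHom.id_apply, algebraMap_smul, algebraMap_smul, φ0.map_smul] }
  refine ⟨φ, Quotient.sound (exists_hom P φ X θ 0 hθ (fun _ _ => (add_zero _).symm) (fun r r' => by simp) (fun _ => rfl)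
    fun x => ?_)⟩
  change θ x + X.incl (0 - φ0 (Algebra.Extension.Cotangent.mk x)) = 0
  rw [hφ0, zero_sub, map_neg]
  change θ x + -X.incl (X.kerLift (θ x) (h0 x)) = 0
  rw [X.incl_kerLift, add_neg_cancel]

theorem pushExt_eq_iff (φ ψ : P.toExtension.Cotangent →ₗ[B] M) :
    (pushExt P φ).cl = (pushExt P ψ).cl ↔
      φ - ψ ∈ LinearMap.range (LinearMap.lcomp B M P.toExtension.cotangentComplex) := by
  have hcc : ∀ x : P.toExtension.ker, P.toExtension.cotangentComplex (Algebra.Extension.Cotangent.mk x) =
      (1 : B) ⊗ₜ KaehlerDifferential.D A P.toExtension.Ring x := fun x =>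
    P.toExtension.cotangentComplex_mk x
  let g0 : P.toExtension.Ring →ₐ[A] (pushExt P ψ).E :=
    { toFun := fun r => el P ψ r 0
      map_one' := by
        have := el_algebraMap P ψ 1
        rw [map_one, map_one] at this
        exact this.symm
      map_mul' := fun r r' => by rw [el_mul, smul_zero, smul_zero, add_zero]
      map_zero' := by
        have := el_algebraMap P ψ 0
        rw [map_zero, map_zero] at this
        exact this.symm
      map_add' := fun r r' => by rw [el_add, add_zero]
      commutes' := fun a => (el_algebraMap P ψ a).symm }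
  have hg0 : ∀ r, g0 r = el P ψ r 0 := fun _ => rfl
  constructor
  · intro h
    obtain ⟨e⟩ := Quotient.exact h
    have hp : ∀ r, (pushExt P ψ).proj (e.toAlgEquiv (el P φ r 0) - el P ψ r 0) = 0 := fun r => by
      rw [map_sub, e.proj_apply, proj_el, proj_el, sub_self]
    let δ : P.toExtension.Ring → M := fun r => (pushExt P ψ).kerLift _ (hp r)
    have hδ : ∀ r, e.toAlgEquiv (el P φ r 0) = el P ψ r (δ r) := fun r => by
      have h1 := (pushExt P ψ).incl_kerLift _ (hp r)
      rw [incl_eq] at h1
      calc e.toAlgEquiv (el P φ r 0) = el P ψ r 0 + (e.toAlgEquiv (el P φ r 0) - el P ψ r 0) := by abel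
        _ = el P ψ r 0 + el P ψ 0 (δ r) := by rw [h1]
        _ = el P ψ r (δ r) := by rw [el_add, add_zero, zero_add]
    have elinj : ∀ r m m', el P ψ r m = el P ψ r m' → m = m' := fun r m m' hh => by
      refine (pushExt P ψ).isExtension.incl_injective ?_
      rw [incl_eq, incl_eq]
      have h2 := congrArg (fun x => x - el P ψ r 0) hh
      have h3 : ∀ n, el P ψ r n - el P ψ r 0 = el P ψ 0 n := fun n => by
        rw [sub_eq_iff_eq_add, el_add, zero_add, add_zero]
      simpa only [h3] using h2
    have hadd : ∀ r r', δ (r + r') = δ r + δ r' := fun r r' => elinj (r + r') _ _ (by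
      rw [← hδ, ← el_add, ← hδ, ← hδ, ← map_add, el_add, add_zero])
    have hmul : ∀ r r', δ (r * r') = algebraMap P.toExtension.Ring B r • δ r' + algebraMap P.toExtension.Ring B r' • δ r :=
      fun r r' => elinj (r * r') _ _ (by
        rw [← hδ, ← el_mul, ← hδ, ← hδ, ← map_mul, el_mul, smul_zero, smul_zero, add_zero])
    have halg : ∀ a, δ (algebraMap A P.toExtension.Ring a) = 0 := fun a => elinj _ _ _ (by
      rw [← hδ, ← el_algebraMap, ← el_algebraMap, AlgEquiv.commutes])
    refine ⟨P.cotangentSpaceBasis.constr B fun i => δ (MvPolynomial.X i), LinearMap.ext fun z => ?_⟩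
    obtain ⟨x, rfl⟩ := Algebra.Extension.Cotangent.mk_surjective z
    rw [LinearMap.lcomp_apply', LinearMap.comp_apply, hcc, LinearMap.sub_apply]
    set d := P.cotangentSpaceBasis.constr B fun i => δ (MvPolynomial.X i) with hd
    have hD : ∀ r, d
        ((1 : B) ⊗ₜ KaehlerDifferential.D A P.toExtension.Ring r) = δ r := by
      intro r
      induction r using MvPolynomial.induction_on with
      | C a =>
        change _ = δ (algebraMap A P.toExtension.Ring a)
        rw [halg]
        change d ((1 : B) ⊗ₜ KaehlerDifferential.D A P.toExtension.Ring (algebraMap A P.toExtension.Ring a)) = 0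
        rw [Derivation.map_algebraMap, TensorProduct.tmul_zero, map_zero]
      | add p q hp hq =>
        change d ((1 : B) ⊗ₜ KaehlerDifferential.D A P.toExtension.Ring
          (@HAdd.hAdd P.toExtension.Ring P.toExtension.Ring P.toExtension.Ring _ p q)) = _
        rw [map_add, TensorProduct.tmul_add, map_add, hp, hq]
        exact (hadd p q).symm
      | mul_X p i hp =>
        change d ((1 : B) ⊗ₜ KaehlerDifferential.D A P.toExtension.Ring
          (@HMul.hMul P.toExtension.Ring P.toExtension.Ring P.toExtension.Ring _ p (MvPolynomial.X i))) = _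
        rw [Derivation.leibniz, TensorProduct.tmul_add, TensorProduct.tmul_smul, TensorProduct.tmul_smul,
          ← algebraMap_smul (R := P.toExtension.Ring) B p, ← algebraMap_smul (R := P.toExtension.Ring) B (MvPolynomial.X i)
            ((1 : B) ⊗ₜ[P.toExtension.Ring] KaehlerDifferential.D A P.toExtension.Ring p),
          map_add, map_smul, map_smul, hp, ← basis_apply, hd, P.cotangentSpaceBasis.constr_basis]
        exact (hmul p (MvPolynomial.X i)).symm
    rw [hD]
    have h1 : e.toAlgEquiv (el P φ x 0) = el P ψ 0 (φ (Algebra.Extension.Cotangent.mk x)) := by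
      have h2 : el P φ (x : P.toExtension.Ring) 0 = (pushExt P φ).incl (φ (Algebra.Extension.Cotangent.mk x)) := by
        rw [incl_eq, ← sub_eq_zero, ← el_ker P φ x, sub_eq_iff_eq_add, el_add, add_zero, neg_add_cancel]
      rw [h2, e.apply_incl]; rfl
    rw [hδ] at h1
    have h3 : el P ψ (x : P.toExtension.Ring) (δ x) =
        el P ψ (x : P.toExtension.Ring) (φ (Algebra.Extension.Cotangent.mk x) - ψ (Algebra.Extension.Cotangent.mk x)) := by
      rw [h1]
      conv_lhs => rw [← add_zero (el P ψ 0 _), ← el_ker P ψ x, el_add, zero_add, ← sub_eq_add_neg]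
    exact elinj _ _ _ h3
  · rintro ⟨d, hd⟩
    refine Quotient.sound (exists_hom P φ (pushExt P ψ) g0 (fun r => d ((1 : B) ⊗ₜ KaehlerDifferential.D A P.toExtension.Ring r))
      (fun r => proj_el P ψ r 0) (fun r r' => by rw [map_add, TensorProduct.tmul_add, map_add]) (fun r r' => by
        rw [Derivation.leibniz, TensorProduct.tmul_add, TensorProduct.tmul_smul, TensorProduct.tmul_smul,
          ← algebraMap_smul B r, ← algebraMap_smul B r'
            ((1 : B) ⊗ₜ[P.toExtension.Ring] KaehlerDifferential.D A P.toExtension.Ring r), map_add, map_smul, map_smul])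
      (fun a => by rw [Derivation.map_algebraMap, TensorProduct.tmul_zero, map_zero]) fun x => ?_)
    have h1 := LinearMap.congr_fun hd (Algebra.Extension.Cotangent.mk x)
    rw [LinearMap.lcomp_apply', LinearMap.comp_apply, hcc, LinearMap.sub_apply] at h1
    rw [hg0, incl_eq, el_add, add_zero, zero_add, h1, sub_sub_cancel_left]
    exact el_ker P ψ x

theorem pushExt_zero : (pushExt P (0 : P.toExtension.Cotangent →ₗ[B] M)).cl = 0 := by
  have hf : ∀ r m, ((Exal.Ext.trivial A B M).proj
      (show (Exal.Ext.trivial A B M).E from (TrivSqZeroExt.inl r + TrivSqZeroExt.inr m : TrivSqZeroExt B M))) = r := by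
    intro r m
    change TrivSqZeroExt.fst (TrivSqZeroExt.inl r + TrivSqZeroExt.inr m) = r
    simp
  let g : P.toExtension.Ring →ₐ[A] (Exal.Ext.trivial A B M).E :=
    { toFun := fun r => (show (Exal.Ext.trivial A B M).E from TrivSqZeroExt.inl (algebraMap P.toExtension.Ring B r))
      map_one' := by rw [map_one]; exact TrivSqZeroExt.inl_one _
      map_mul' := fun r r' => by rw [map_mul]; exact TrivSqZeroExt.inl_mul _ _ _
      map_zero' := by rw [map_zero]; exact TrivSqZeroExt.inl_zero _
      map_add' := fun r r' => by rw [map_add]; exact TrivSqZeroExt.inl_add _ _ _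
      commutes' := fun a => by rw [← IsScalarTower.algebraMap_apply]; rfl }
  refine Quotient.sound (exists_hom P 0 (Exal.Ext.trivial A B M) g 0 (fun r => TrivSqZeroExt.fst_inl M (algebraMap P.toExtension.Ring B r))
    (fun _ _ => (add_zero _).symm) (fun r r' => by simp) (fun _ => rfl) fun x => ?_)
  have hx : algebraMap P.toExtension.Ring B (x : P.toExtension.Ring) = 0 := x.2
  change (show (Exal.Ext.trivial A B M).E from TrivSqZeroExt.inl (algebraMap P.toExtension.Ring B (x : P.toExtension.Ring))) +
    (Exal.Ext.trivial A B M).incl (0 - 0) = 0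
  rw [hx, sub_zero, map_zero, add_zero]
  exact TrivSqZeroExt.inl_zero _

end Push

/-- `T¹` classifies extensions. -/
theorem exists_exalcom_equiv (M : Type u) [AddCommGroup M] [Module B M] :
    ∃ e : Exal.Exalcom A B M ≃ T1 P M, e 0 = 0 := by
  letI : Module P.toExtension.Ring M := Module.compHom M (algebraMap P.toExtension.Ring B)
  haveI : IsScalarTower P.toExtension.Ring B M := IsScalarTower.of_compHom P.toExtension.Ring B M
  let Φ : (P.toExtension.Cotangent →ₗ[B] M) → Exal.Exalcom A B M := fun φ => (pushExt P φ).cl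
  have hΦ : ∀ c, ∃ φ, Φ φ = c := fun c => by
    induction c using Quotient.ind with
    | _ X => exact exists_pushExt P X
  choose s hs using hΦ
  have key : ∀ φ ψ, Φ φ = Φ ψ ↔ homToT1 P M φ = homToT1 P M ψ := fun φ ψ => by
    rw [pushExt_eq_iff, ← ker_homToT1, LinearMap.mem_ker, map_sub, sub_eq_zero]
  refine ⟨Equiv.ofBijective (fun c => homToT1 P M (s c)) ⟨fun a b h => ?_, fun t => ?_⟩, ?_⟩
  · rw [← hs a, ← hs b]
    exact (key _ _).2 h
  · obtain ⟨φ, rfl⟩ := homToT1_surjective P M t
    exact ⟨Φ φ, (key _ _).1 (hs _)⟩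
  · change homToT1 P M (s 0) = 0
    rw [(key (s 0) 0).1 ((hs 0).trans (pushExt_zero P).symm), map_zero]

end Groth.L12.CotTLib
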