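import Groth.Agent.L12.CotTVanish
import Groth.Agent.L07.QuasiRegular

/-!
# Polynomial rings, quotients by regular sequences, change of base to the polynomial ring
-/

universe u v w t m w' t'

open TensorProduct CotT

namespace Groth.L12.CotTLib

section
variable {A : Type u} {B : Type v} {ι : Type w} {σ : Type t}
variable [CommRing A] [CommRing B] [Algebra A B]
variable (P : Algebra.Presentation A B ι σ)

lemma subsingleton_L2_of_trivRel (h : ∀ q : relKer P, (Submodule.Quotient.mk (q : relMod P) : Gq P) = 0) :
    Subsingleton (L2 P) := by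
  refine subsingleton_of_forall_eq 0 fun z => ?_
  obtain ⟨q, rfl⟩ := relClass_surjective P z
  exact (relClass_eq_zero_iff P q).2 (h q)

lemma T2_subsingleton_of_L2 [Subsingleton (L2 P)] (M : Type m) [AddCommGroup M] [Module B M] :
    Subsingleton (T2 P M) := by
  rw [T2_subsingleton_iff]
  exact fun φ => ⟨0, LinearMap.ext fun z => by rw [Subsingleton.elim z 0]; simp⟩

end

/-- the tautological presentation of a polynomial algebra -/
noncomputable def polyPres {A B : Type u} [CommRing A] [CommRing B] [Algebra A B] {κ : Type u}
    (e : MvPolynomial κ A ≃ₐ[A] B) : Algebra.Presentation A B κ PEmpty.{u + 1} where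
  toGenerators := Algebra.Generators.ofSurjective (fun i => e (MvPolynomial.X i)) fun b => by
    refine ⟨e.symm b, ?_⟩
    rw [show MvPolynomial.aeval (fun i => e (MvPolynomial.X i)) = e.toAlgHom from
      MvPolynomial.algHom_ext fun i => MvPolynomial.aeval_X _ i]
    exact e.apply_symm_apply b
  relation := PEmpty.elim
  span_range_relation_eq_ker := by
    rw [Set.range_eq_empty, Ideal.span_empty, Algebra.Generators.ker_eq_ker_aeval_val, eq_comm,
      ← RingHom.injective_iff_ker_eq_bot]
    have : MvPolynomial.aeval (fun i => e (MvPolynomial.X i)) = e.toAlgHom :=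
      MvPolynomial.algHom_ext fun i => MvPolynomial.aeval_X _ i
    intro x y h
    exact e.injective (by
      have h' : MvPolynomial.aeval (fun i => e (MvPolynomial.X i)) x =
          MvPolynomial.aeval (fun i => e (MvPolynomial.X i)) y := h
      rwa [this] at h')

theorem polynomial_vanish {A B : Type u} [CommRing A] [CommRing B] [Algebra A B] (κ : Type u)
    (e : MvPolynomial κ A ≃ₐ[A] B) (M : Type u) [AddCommGroup M] [Module B M] :
    Subsingleton (T1 (canon A B) M) ∧ Subsingleton (T2 (canon A B) M) := by
  haveI : Algebra.FormallySmooth A B := Algebra.FormallySmooth.of_equiv e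
  refine ⟨T1_subsingleton_of_formallySmooth _ M, ?_⟩
  rw [T2_subsingleton_congr (canon A B) (polyPres e)]
  haveI : Subsingleton (L2 (polyPres e)) := subsingleton_L2_of_trivRel _ fun q => by
    rw [Subsingleton.elim (q : relMod (polyPres e)) 0]
    rfl
  exact T2_subsingleton_of_L2 _ M

/-- presentation of a quotient by generators of the kernel, no variables -/
noncomputable def quotPres {A : Type u} {B : Type v} [CommRing A] [CommRing B] [Algebra A B]
    (hs : Function.Surjective (algebraMap A B)) {σ : Type t} (f : σ → A)
    (hI : RingHom.ker (algebraMap A B) = Ideal.span (Set.range f)) :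
    Algebra.Presentation A B PEmpty.{w + 1} σ where
  toGenerators := Algebra.Generators.ofSurjective PEmpty.elim fun b => by
    obtain ⟨a, rfl⟩ := hs b
    exact ⟨MvPolynomial.C a, MvPolynomial.aeval_C _ a⟩
  relation s := MvPolynomial.C (f s)
  span_range_relation_eq_ker := by
    rw [Algebra.Generators.ker_eq_ker_aeval_val]
    ext p
    obtain ⟨a, rfl⟩ := MvPolynomial.C_surjective (R := A) PEmpty.{w + 1} p
    rw [RingHom.mem_ker, MvPolynomial.aeval_C, ← RingHom.mem_ker, hI]
    change MvPolynomial.C a ∈ Ideal.span (Set.range (MvPolynomial.C ∘ f)) ↔ _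
    rw [Set.range_comp, ← Ideal.map_span]
    refine ⟨fun h => ?_, Ideal.mem_map_of_mem _⟩
    obtain ⟨a', ha', he⟩ := (Ideal.mem_map_iff_of_surjective _ (MvPolynomial.C_surjective _)).1 h
    rwa [MvPolynomial.C_injective _ _ he] at ha'

theorem quotient_regular_vanish {A B : Type u} [CommRing A] [CommRing B] [Algebra A B]
    (hs : Function.Surjective (algebraMap A B)) {c : ℕ} (f : Fin c → A)
    (hI : RingHom.ker (algebraMap A B) = Ideal.span (Set.range f))
    (hK : CInt.KoszulH1Zero f A) (M : Type u) [AddCommGroup M] [Module B M] :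
    Subsingleton (T2 (canon A B) M) := by
  classical
  let P := quotPres.{u, u, u, 0} hs f hI
  rw [T2_subsingleton_congr (canon A B) P]
  haveI : Subsingleton (L2 P) := subsingleton_L2_of_trivRel _ fun q => by
    let C : A →+* P.toExtension.Ring := MvPolynomial.C
    have hC : Function.Surjective C := MvPolynomial.C_surjective PEmpty.{u + 1}
    have hCi : Function.Injective C := MvPolynomial.C_injective _ _
    choose z hz using fun k => hC ((q : relMod P) k)
    have h0 : ∑ k, f k • z k = 0 := hCi (by
      have hq : jmap P (q : relMod P) = 0 := q.2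
      rw [jmap, Finsupp.linearCombination_apply, Finsupp.sum_fintype] at hq
      swap
      · exact fun _ => zero_smul _ _
      rw [map_sum, map_zero]
      refine Eq.trans (Finset.sum_congr rfl fun k _ => ?_) hq
      rw [smul_eq_mul, map_mul, hz, mul_comm]
      rfl)
    have hv : ∀ k, gj P (Submodule.Quotient.mk (Finsupp.single k 1)) = C (f k) := fun k => by
      rw [gj_mk, jmap_single, one_mul]; rfl
    have hm : ∀ y ∈ Groth.L07.RegSeq.triv f A,
        (fun k => C (y k)) ∈ Groth.L07.RegSeq.triv (fun k => C (f k)) P.toExtension.Ring := by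
      intro y hy
      induction hy using Submodule.span_induction with
      | mem v hv =>
        obtain ⟨i, j, x, rfl⟩ := hv
        refine Submodule.subset_span ⟨i, j, C x, funext fun k => ?_⟩
        simp only [Pi.sub_apply, Pi.smul_apply, Pi.single_apply, smul_eq_mul, map_sub, map_mul,
          apply_ite C, map_zero]
      | zero =>
        have : (fun k : Fin c => C ((0 : Fin c → A) k)) = 0 := funext fun k => map_zero C
        rw [this]; exact zero_mem _
      | add a b _ _ ha hb =>
        have : (fun k : Fin c => C ((a + b) k)) = (fun k => C (a k)) + fun k => C (b k) := funext fun k => map_add C _ _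
        rw [this]; exact add_mem ha hb
      | smul r a _ ha =>
        have : (fun k : Fin c => C ((r • a) k)) = C r • fun k => C (a k) := funext fun k => map_mul C _ _
        rw [this]; exact Submodule.smul_mem _ _ ha
    have h1 := sum_smul_eq_zero_of_triv P (fun k => Submodule.Quotient.mk (Finsupp.single k 1))
      (fun k => C (f k)) hv _ (hm z (hK z h0))
    rw [mk_eq_sum]
    simp only [hz] at h1
    refine Eq.trans ?_ h1
    refine Finset.sum_subset (Finset.subset_univ _) fun k _ hk => ?_
    rw [Finsupp.notMem_support_iff.1 hk, zero_smul]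
  exact T2_subsingleton_of_L2 _ M

section BaseIso

variable {A A' B : Type*} [CommRing A] [CommRing A'] [CommRing B] [Algebra A B] [Algebra A' B] [Algebra A A']
  [IsScalarTower A A' B] {ι ι' σ : Type*}
  {P : Algebra.Presentation A B ι σ} {P' : Algebra.Presentation A' B ι' σ}

/-- If the polynomial rings agree and the relations correspond, the `T²` agree. -/
theorem T2pull_bijective_of_bijective (h : PresHom P P') (hr : Function.Bijective h.ringHom)
    (hv : ∀ s, h.relVal s = Finsupp.single s 1) (M : Type m) [AddCommGroup M] [Module B M] :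
    Function.Bijective (h.T2pull M) := by
  have hmap : ∀ (f : relMod P) (s : σ), h.relModMap f s = h.ringHom (f s) := by
    intro f s
    induction f using Finsupp.induction_linear with
    | zero => simp
    | add f g hf hg => simp [hf, hg]
    | single t a =>
      classical
      rw [PresHom.relModMap_single, hv, Finsupp.smul_single, smul_eq_mul, mul_one, Finsupp.single_apply,
        Finsupp.single_apply]
      split_ifs <;> simp
  have hsurj : Function.Surjective h.relModMap := fun g =>
    ⟨g.mapRange (Function.surjInv hr.2) (hr.1 (by rw [Function.surjInv_eq hr.2, map_zero])),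
      Finsupp.ext fun s => by rw [hmap, Finsupp.mapRange_apply, Function.surjInv_eq hr.2]⟩
  have hinj : Function.Injective h.relModMap := fun f g e => Finsupp.ext fun s => hr.1 (by rw [← hmap, ← hmap, e])
  have hker : ∀ q' : relKer P', ∃ q : relKer P, h.relKerMap q = q' := fun q' => by
    obtain ⟨f, hf⟩ := hsurj (q' : relMod P')
    refine ⟨⟨f, hr.1 ?_⟩, Subtype.ext hf⟩
    rw [map_zero, ← PresHom.jmap_relModMap, hf]
    exact q'.2
  have htriv : ∀ y ∈ trivRel P', ∀ f, h.relModMap f = y → f ∈ trivRel P := by
    intro y hy
    induction hy using Submodule.span_induction with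
    | mem y hy =>
      obtain ⟨a, b, rfl⟩ := hy
      intro f hf
      obtain ⟨a, rfl⟩ := hsurj a
      obtain ⟨b, rfl⟩ := hsurj b
      rw [PresHom.jmap_relModMap, PresHom.jmap_relModMap, ← LinearMap.map_smulₛₗ, ← LinearMap.map_smulₛₗ,
        ← map_sub] at hf
      rw [hinj hf]
      exact Submodule.subset_span ⟨a, b, rfl⟩
    | zero => intro f hf; rw [hinj (hf.trans (map_zero _).symm)]; exact zero_mem _
    | add u v _ _ hu hv =>
      intro f hf
      obtain ⟨fu, rfl⟩ := hsurj u
      obtain ⟨fv, rfl⟩ := hsurj v
      rw [← map_add] at hf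
      rw [hinj hf]; exact add_mem (hu fu rfl) (hv fv rfl)
    | smul r u _ hu =>
      intro f hf
      obtain ⟨fu, rfl⟩ := hsurj u
      obtain ⟨r, rfl⟩ := hr.2 r
      rw [← LinearMap.map_smulₛₗ] at hf
      rw [hinj hf]; exact Submodule.smul_mem _ _ (hu fu rfl)
  let L : L2 P →ₗ[B] L2 P' := PresHom.linOfSemilinear (L2 P') h.L2map
  have hL : Function.Bijective L := by
    refine ⟨(injective_iff_map_eq_zero L).2 fun z hz => ?_, fun z => ?_⟩
    · obtain ⟨q, rfl⟩ := relClass_surjective P z
      rw [PresHom.linOfSemilinear_apply, L2map_relClass, relClass_eq_zero_iff,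
        Submodule.Quotient.mk_eq_zero] at hz
      rw [relClass_eq_zero_iff, Submodule.Quotient.mk_eq_zero]
      exact htriv _ hz _ (PresHom.relKerMap_coe h q).symm
    · obtain ⟨q', rfl⟩ := relClass_surjective P' z
      obtain ⟨q, rfl⟩ := hker q'
      exact ⟨relClass P q, L2map_relClass h q⟩
  refine ⟨(injective_iff_map_eq_zero _).2 fun z hz => ?_, fun z => ?_⟩
  · obtain ⟨φ, rfl⟩ := Submodule.Quotient.mk_surjective _ z
    rw [T2pull_mk, Submodule.Quotient.mk_eq_zero] at hz
    obtain ⟨χ, hχ⟩ := hz
    rw [Submodule.Quotient.mk_eq_zero]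
    let χ' : L1 P' →ₗ[B] M := (L1basis P').constr B fun s => χ (L1basis P s)
    have h1 : h.pull1 M χ' = χ := (L1basis P).ext fun s => by
      rw [PresHom.pull1_apply, L1basis_apply, PresHom.L1map_tmul, PresHom.relModMap_single, map_one, map_one,
        one_smul, hv, ← L1basis_apply, ← L1basis_apply]
      exact (L1basis P').constr_basis B _ s
    refine ⟨χ', LinearMap.ext fun y => ?_⟩
    obtain ⟨x, rfl⟩ := hL.2 y
    rw [← h1, ← PresHom.pull2_d2Star] at hχ
    exact LinearMap.congr_fun hχ x
  · obtain ⟨φ, rfl⟩ := Submodule.Quotient.mk_surjective _ z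
    refine ⟨Submodule.Quotient.mk (φ ∘ₗ (LinearEquiv.ofBijective L hL).symm.toLinearMap), ?_⟩
    rw [T2pull_mk]
    refine congrArg Submodule.Quotient.mk (LinearMap.ext fun x => ?_)
    exact congrArg φ ((LinearEquiv.ofBijective L hL).symm_apply_apply x)

end BaseIso

theorem nonempty_T2_equiv_base {k : Type u} {B : Type v} [CommRing k] [CommRing B] [Algebra k B]
    {ι : Type w} {σ : Type t} {ι' : Type w'} {σ' : Type t'}
    (P : Algebra.Presentation k B ι σ) [IsEmpty ι']
    (P' : Algebra.Presentation P.toExtension.Ring B ι' σ')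
    (M : Type m) [AddCommGroup M] [Module B M] : Nonempty (T2 P' M ≃ₗ[B] T2 P M) := by
  let P'' := quotPres.{max u w, v, w', t} (A := P.toExtension.Ring) (B := B) P.toExtension.algebraMap_surjective
    (rel P) (P.span_range_relation_eq_ker).symm
  let hom : Algebra.Generators.Hom P.toGenerators P''.toGenerators :=
    { val := fun i => MvPolynomial.C (MvPolynomial.X i : P.toExtension.Ring)
      aeval_val := fun i => by
        rw [MvPolynomial.aeval_C]
        exact (algebraMap_toExtension P _).trans (MvPolynomial.aeval_X _ i) }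
  have hC : hom.toExtensionHom.toRingHom = (MvPolynomial.C : P.toExtension.Ring →+* P''.toExtension.Ring) := by
    refine MvPolynomial.ringHom_ext (fun a => ?_) fun i => ?_
    · exact MvPolynomial.aeval_C hom.val a
    · exact MvPolynomial.aeval_X hom.val i
  let h : PresHom P P'' :=
    { hom := hom
      relVal := fun s => Finsupp.single s 1
      jmap_relVal := fun s => by
        rw [jmap_single, one_mul, hC]; rfl }
  have hb : Function.Bijective h.ringHom := by
    rw [show h.ringHom = MvPolynomial.C from hC]
    exact ⟨MvPolynomial.C_injective _ _, MvPolynomial.C_surjective _⟩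
  obtain ⟨-, -, ⟨e⟩⟩ := nonempty_T_equiv P' P'' M
  exact ⟨e.trans (LinearEquiv.ofBijective _ (T2pull_bijective_of_bijective h hb (fun _ => rfl) M))⟩

end Groth.L12.CotTLib
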