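import Groth.Agent.L12.CotTBasic
import Mathlib.Algebra.Algebra.Unitization

/-!
# Homotopy invariance of the cotangent functors
-/

universe u v w t u' v' w' t' u'' v'' w'' t'' m

open TensorProduct CotT

namespace Groth.L12.CotTLib

section GRng

variable {A : Type u} {B : Type v} {ι : Type w} {σ : Type t}
variable [CommRing A] [CommRing B] [Algebra A B]
variable (P : Algebra.Presentation A B ι σ)

/-- `F/F₀` as a commutative non-unital ring, `u * v = j(u) v`. -/
noncomputable scoped instance gqRing : NonUnitalCommRing (Gq P) where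
  __ := (inferInstance : AddCommGroup (Gq P))
  mul u v := gj P u • v
  left_distrib u v w := smul_add (gj P u) v w
  right_distrib u v w := by
    change gj P (u + v) • w = gj P u • w + gj P v • w
    rw [map_add, add_smul]
  zero_mul u := by
    change gj P 0 • u = 0
    rw [map_zero, zero_smul]
  mul_zero u := smul_zero (gj P u)
  mul_assoc u v w := by
    change gj P (gj P u • v) • w = gj P u • (gj P v • w)
    rw [map_smul, smul_eq_mul, mul_smul]
  mul_comm u v := gj_comm P u v

scoped instance : IsScalarTower P.toExtension.Ring (Gq P) (Gq P) :=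
  ⟨fun r u v => by
    change gj P (r • u) • v = r • (gj P u • v)
    rw [map_smul, smul_eq_mul, mul_smul]⟩

scoped instance : SMulCommClass P.toExtension.Ring (Gq P) (Gq P) :=
  ⟨fun r u v => smul_comm r (gj P u) v⟩

/-- `(a, u) ↦ a + j u` -/
noncomputable def unitSum : Unitization P.toExtension.Ring (Gq P) →+* P.toExtension.Ring where
  toFun z := z.fst + gj P z.snd
  map_one' := by simp
  map_mul' x y := by
    rw [Unitization.fst_mul, Unitization.snd_mul]
    change x.fst * y.fst + gj P ((x.fst • y.snd + y.fst • x.snd) + gj P x.snd • y.snd) = _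
    rw [map_add, map_add, map_smul, map_smul, map_smul, smul_eq_mul, smul_eq_mul, smul_eq_mul]
    ring
  map_zero' := by simp
  map_add' x y := by
    rw [Unitization.fst_add, Unitization.snd_add, map_add]; ring

lemma ringHom_ext {T : Type*} [CommSemiring T] {f g : P.toExtension.Ring →+* T}
    (hC : ∀ a : A, f (MvPolynomial.C a : P.toExtension.Ring) = g (MvPolynomial.C a : P.toExtension.Ring))
    (hX : ∀ i : ι, f (MvPolynomial.X i : P.toExtension.Ring) = g (MvPolynomial.X i : P.toExtension.Ring)) :
    f = g :=
  MvPolynomial.ringHom_ext hC hX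

lemma ring_induction {motive : P.toExtension.Ring → Prop}
    (hC : ∀ a : A, motive (MvPolynomial.C a : P.toExtension.Ring))
    (hadd : ∀ p q : P.toExtension.Ring, motive p → motive q → motive (p + q))
    (hX : ∀ (p : P.toExtension.Ring) (i : ι), motive p → motive (@HMul.hMul P.toExtension.Ring P.toExtension.Ring P.toExtension.Ring _ p (MvPolynomial.X i)))
    (r : P.toExtension.Ring) : motive r :=
  MvPolynomial.induction_on r hC hadd hX

end GRng

variable {A : Type u} {B : Type v} {ι : Type w} {σ : Type t}
variable {A' : Type u'} {B' : Type v'} {ι' : Type w'} {σ' : Type t'}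
variable [CommRing A] [CommRing B] [Algebra A B] [CommRing A'] [CommRing B'] [Algebra A' B']
variable [Algebra A A'] [Algebra B B'] [Algebra A B'] [IsScalarTower A A' B'] [IsScalarTower A B B']
variable {P : Algebra.Presentation A B ι σ} {P' : Algebra.Presentation A' B' ι' σ'}

lemma ringHom_eq (h : PresHom P P') (x : P.toExtension.Ring) :
    h.ringHom x = MvPolynomial.aeval (R := A) h.hom.val x := rfl

lemma ringHom_C (h : PresHom P P') (a : A) :
    h.ringHom (MvPolynomial.C a : P.toExtension.Ring) = algebraMap A P'.toExtension.Ring a :=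
  MvPolynomial.aeval_C h.hom.val a

lemma exists_diff (h h' : PresHom P P') (i : ι) :
    ∃ f : relMod P', jmap P' f = h.ringHom (MvPolynomial.X i) - h'.ringHom (MvPolynomial.X i) := by
  have hm : h.ringHom (MvPolynomial.X i) - h'.ringHom (MvPolynomial.X i) ∈ LinearMap.range (jmap P') := by
    rw [range_jmap]
    change algebraMap P'.toExtension.Ring B' _ = 0
    rw [map_sub, PresHom.algebraMap_ringHom, PresHom.algebraMap_ringHom, sub_self]
  exact hm

noncomputable def diff (h h' : PresHom P P') (i : ι) : relMod P' := (exists_diff h h' i).choose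

lemma jmap_diff (h h' : PresHom P P') (i : ι) :
    jmap P' (diff h h' i) = h.ringHom (MvPolynomial.X i) - h'.ringHom (MvPolynomial.X i) :=
  (exists_diff h h' i).choose_spec

/-- the twisted derivation interpolating between two morphisms -/
noncomputable def twistHom (h h' : PresHom P P') :
    P.toExtension.Ring →+* Unitization P'.toExtension.Ring (Gq P') :=
  MvPolynomial.eval₂Hom
    ((Unitization.inlRingHom P'.toExtension.Ring (Gq P')).comp (algebraMap A P'.toExtension.Ring))
    fun i => Unitization.inl (h'.ringHom (MvPolynomial.X i)) +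
      ((Submodule.Quotient.mk (diff h h' i) : Gq P') : Unitization P'.toExtension.Ring (Gq P'))

noncomputable def twist (h h' : PresHom P P') (r : P.toExtension.Ring) : Gq P' := (twistHom h h' r).snd

lemma twistHom_C (h h' : PresHom P P') (a : A) :
    twistHom h h' (MvPolynomial.C a : P.toExtension.Ring) = Unitization.inl (algebraMap A P'.toExtension.Ring a) :=
  MvPolynomial.eval₂Hom_C _ _ a

lemma twistHom_X (h h' : PresHom P P') (i : ι) :
    twistHom h h' (MvPolynomial.X i : P.toExtension.Ring) = Unitization.inl (h'.ringHom (MvPolynomial.X i)) +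
      ((Submodule.Quotient.mk (diff h h' i) : Gq P') : Unitization P'.toExtension.Ring (Gq P')) :=
  MvPolynomial.eval₂Hom_X' _ _ i

lemma twistHom_fst (h h' : PresHom P P') (r : P.toExtension.Ring) : (twistHom h h' r).fst = h'.ringHom r := by
  have : (Unitization.fstHom P'.toExtension.Ring (Gq P')).toRingHom.comp (twistHom h h') = h'.ringHom := by
    refine ringHom_ext P (fun a => ?_) fun i => ?_
    · rw [ringHom_C]
      simp [twistHom_C]
    · simp [twistHom_X]
  exact RingHom.congr_fun this r

lemma gj_twist (h h' : PresHom P P') (r : P.toExtension.Ring) :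
    gj P' (twist h h' r) = h.ringHom r - h'.ringHom r := by
  have : (unitSum P').comp (twistHom h h') = h.ringHom := by
    refine ringHom_ext P (fun a => ?_) fun i => ?_
    · rw [ringHom_C, RingHom.comp_apply, twistHom_C]
      change algebraMap A P'.toExtension.Ring a + gj P' (0 : Gq P') = _
      rw [map_zero, add_zero]
    · rw [RingHom.comp_apply, twistHom_X]
      change (h'.ringHom (MvPolynomial.X i) + 0) + gj P' ((0 : Gq P') + Submodule.Quotient.mk (diff h h' i)) = _
      rw [add_zero, zero_add, gj_mk, jmap_diff]
      ring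
  have h2 := RingHom.congr_fun this r
  change (twistHom h h' r).fst + gj P' (twist h h' r) = h.ringHom r at h2
  rw [← h2, twistHom_fst]
  ring

lemma twist_C (h h' : PresHom P P') (a : A) : twist h h' (MvPolynomial.C a) = 0 := by
  rw [twist, twistHom_C]
  rfl

lemma twist_X (h h' : PresHom P P') (i : ι) :
    twist h h' (MvPolynomial.X i) = Submodule.Quotient.mk (diff h h' i) := by
  rw [twist, twistHom_X]
  exact zero_add _

lemma twist_add (h h' : PresHom P P') (a b : P.toExtension.Ring) :
    twist h h' (a + b) = twist h h' a + twist h h' b := by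
  rw [twist, map_add, Unitization.snd_add]
  rfl

lemma twist_zero (h h' : PresHom P P') : twist h h' 0 = 0 := by
  rw [twist, map_zero, Unitization.snd_zero]

lemma twist_mul (h h' : PresHom P P') (a b : P.toExtension.Ring) :
    twist h h' (a * b) = h.ringHom a • twist h h' b + h'.ringHom b • twist h h' a := by
  have h1 : twist h h' (a * b) =
      h'.ringHom a • twist h h' b + h'.ringHom b • twist h h' a + gj P' (twist h h' a) • twist h h' b := by
    rw [← twistHom_fst h h', ← twistHom_fst h h', twist, map_mul, Unitization.snd_mul]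
    rfl
  rw [h1, gj_twist, sub_smul]
  abel

/-- the chosen relations of the homotopy -/
lemma exists_hq (h h' : PresHom P P') (s : σ) :
    ∃ q : relKer P', (Submodule.Quotient.mk (q : relMod P') : Gq P') =
      Submodule.Quotient.mk (h.relVal s - h'.relVal s) - twist h h' (rel P s) := by
  obtain ⟨w, hw⟩ := Submodule.Quotient.mk_surjective _ (twist h h' (rel P s))
  refine ⟨⟨h.relVal s - h'.relVal s - w, ?_⟩, by rw [← hw]; rfl⟩
  change jmap P' (h.relVal s - h'.relVal s - w) = 0
  have : jmap P' w = h.ringHom (rel P s) - h'.ringHom (rel P s) := by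
    rw [← gj_mk, hw, gj_twist]
  rw [map_sub, map_sub, h.jmap_relVal, h'.jmap_relVal, this]
  exact sub_self _

noncomputable def hq (h h' : PresHom P P') (s : σ) : relKer P' := (exists_hq h h' s).choose

lemma hq_spec (h h' : PresHom P P') (s : σ) :
    (Submodule.Quotient.mk (hq h h' s : relMod P') : Gq P') =
      Submodule.Quotient.mk (h.relVal s - h'.relVal s) - twist h h' (rel P s) :=
  (exists_hq h h' s).choose_spec

noncomputable def qmap (h h' : PresHom P P') (f : relMod P) : relKer P' :=
  Finsupp.linearCombination P'.toExtension.Ring (hq h h') (Finsupp.mapRange h.ringHom (map_zero _) f)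

lemma qmap_add (h h' : PresHom P P') (f g : relMod P) : qmap h h' (f + g) = qmap h h' f + qmap h h' g := by
  rw [qmap, Finsupp.mapRange_add (map_add _), map_add]; rfl

lemma qmap_single (h h' : PresHom P P') (s : σ) (a : P.toExtension.Ring) :
    qmap h h' (Finsupp.single s a) = h.ringHom a • hq h h' s := by
  simp [qmap]

lemma qmap_zero (h h' : PresHom P P') : qmap h h' 0 = 0 := by
  simp [qmap]

/-- the homotopy identity on `F` -/
lemma relModMap_sub (h h' : PresHom P P') (f : relMod P) :
    (Submodule.Quotient.mk (h.relModMap f) : Gq P') - Submodule.Quotient.mk (h'.relModMap f) =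
      Submodule.Quotient.mk (qmap h h' f : relMod P') + twist h h' (jmap P f) := by
  induction f using Finsupp.induction_linear with
  | zero => simp [qmap_zero, twist_zero]
  | add f g hf hg =>
    rw [map_add, map_add, map_add, qmap_add, Submodule.coe_add, Submodule.Quotient.mk_add,
      Submodule.Quotient.mk_add, Submodule.Quotient.mk_add, twist_add, add_sub_add_comm, hf, hg]
    abel
  | single s a =>
    rw [PresHom.relModMap_single, PresHom.relModMap_single, qmap_single, Submodule.coe_smul,
      Submodule.Quotient.mk_smul, Submodule.Quotient.mk_smul, Submodule.Quotient.mk_smul, hq_spec,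
      jmap_single, twist_mul, Submodule.Quotient.mk_sub]
    have h1 : h'.ringHom (rel P s) • twist h h' a =
        (h.ringHom a - h'.ringHom a) • (Submodule.Quotient.mk (h'.relVal s) : Gq P') := by
      rw [← gj_twist, ← h'.jmap_relVal, ← gj_mk]
      exact gj_comm P' _ _
    rw [h1, sub_smul, smul_sub, smul_sub]
    abel

lemma relClass_relKerMap_sub (h h' : PresHom P P') (q : relKer P) :
    relClass P' (h.relKerMap q) - relClass P' (h'.relKerMap q) = relClass P' (qmap h h' (q : relMod P)) := by
  rw [← map_sub]
  refine relClass_congr P' ?_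
  rw [Submodule.coe_sub, Submodule.Quotient.mk_sub, PresHom.relKerMap_coe, PresHom.relKerMap_coe,
    relModMap_sub, show jmap P (q : relMod P) = 0 from q.2, twist_zero, add_zero]

lemma L2map_relClass (h : PresHom P P') (q : relKer P) :
    h.L2map (relClass P q) = relClass P' (h.relKerMap q) := by
  rw [relClass_apply, PresHom.L2map_mk_tmul, map_one]; rfl

variable (M : Type m) [AddCommGroup M] [Module B' M] [Module B M] [IsScalarTower B B' M]

theorem pull0_eq (h h' : PresHom P P') (ψ : T0 P' M) :
    h.pull0 M (ψ : L0 P' →ₗ[B'] M) = h'.pull0 M (ψ : L0 P' →ₗ[B'] M) := by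
  refine P.cotangentSpaceBasis.ext fun i => ?_
  rw [PresHom.pull0_apply, PresHom.pull0_apply, ← sub_eq_zero, ← map_sub, PresHom.L0map_apply,
    PresHom.L0map_apply, basis_apply, Algebra.Extension.CotangentSpace.map_tmul,
    Algebra.Extension.CotangentSpace.map_tmul, map_one, ← TensorProduct.tmul_sub, ← map_sub]
  change (ψ : L0 P' →ₗ[B'] M) (1 ⊗ₜ KaehlerDifferential.D A' P'.toExtension.Ring
    (h.ringHom (MvPolynomial.X i) - h'.ringHom (MvPolynomial.X i))) = 0
  rw [← jmap_diff]
  have := LinearMap.congr_fun (LinearMap.mem_ker.1 ψ.2) ((1 : B') ⊗ₜ diff h h' i)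
  rwa [d1Star_apply, LinearMap.comp_apply, d1_tmul, one_smul] at this

/-- the degree zero homotopy evaluated against a map on `L₁'` -/
noncomputable def u0 (h h' : PresHom P P') (c : L1 P' →ₗ[B'] M) : L0 P →ₗ[B] M :=
  P.cotangentSpaceBasis.constr B fun i => c (gL1 P' (twist h h' (MvPolynomial.X i)))

lemma u0_D (h h' : PresHom P P') (c : L1 P' →ₗ[B'] M) (r : P.toExtension.Ring) :
    u0 M h h' c (1 ⊗ₜ KaehlerDifferential.D A P.toExtension.Ring r) = c (gL1 P' (twist h h' r)) := by
  induction r using ring_induction P with
  | hC a =>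
    rw [twist_C, map_zero, map_zero]
    change u0 M h h' c (1 ⊗ₜ KaehlerDifferential.D A P.toExtension.Ring (algebraMap A P.toExtension.Ring a)) = 0
    rw [Derivation.map_algebraMap, TensorProduct.tmul_zero, map_zero]
  | hadd p q hp hq => rw [map_add, TensorProduct.tmul_add, map_add, hp, hq, twist_add, map_add, map_add]
  | hX p i hp =>
    change u0 M h h' c (1 ⊗ₜ KaehlerDifferential.D A P.toExtension.Ring
      (@HMul.hMul P.toExtension.Ring P.toExtension.Ring P.toExtension.Ring _ p (MvPolynomial.X i))) = _
    rw [Derivation.leibniz, TensorProduct.tmul_add, TensorProduct.tmul_smul, TensorProduct.tmul_smul,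
      ← algebraMap_smul B p, ← algebraMap_smul (R := P.toExtension.Ring) B (MvPolynomial.X i)
        ((1 : B) ⊗ₜ[P.toExtension.Ring] KaehlerDifferential.D A P.toExtension.Ring p),
      map_add, map_smul, map_smul, hp, twist_mul, map_add, map_add, gL1_smul, gL1_smul, map_smul, map_smul,
      PresHom.algebraMap_ringHom, PresHom.algebraMap_ringHom, algebraMap_smul B', algebraMap_smul B',
      ← basis_apply]
    congr 2
    exact P.cotangentSpaceBasis.constr_basis B _ i

theorem pull1_sub (h h' : PresHom P P') (c : L1 P' →ₗ[B'] M) (hc : c ∘ₗ d2 P' = 0) :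
    h.pull1 M c - h'.pull1 M c = d1Star P M (u0 M h h' c) := by
  refine (L1basis P).ext fun s => ?_
  rw [LinearMap.sub_apply, PresHom.pull1_apply, PresHom.pull1_apply, d1Star_apply, LinearMap.comp_apply,
    L1basis_apply, d1_tmul, one_smul, jmap_single, one_mul, u0_D, PresHom.L1map_tmul, PresHom.L1map_tmul,
    map_one, PresHom.relModMap_single, PresHom.relModMap_single]
  simp only [map_one, one_smul]
  have h1 : c (gL1 P' (Submodule.Quotient.mk (hq h h' s : relMod P'))) = 0 := by
    rw [gL1_mk, ← d2_relClass]
    exact LinearMap.congr_fun hc _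
  rw [hq_spec, map_sub, map_sub, Submodule.Quotient.mk_sub, map_sub, map_sub, gL1_mk, gL1_mk,
    sub_eq_zero] at h1
  exact h1

/-- the degree one homotopy evaluated against a map on `L₂'` -/
noncomputable def u1 (h h' : PresHom P P') (φ : L2 P' →ₗ[B'] M) : L1 P →ₗ[B] M :=
  (L1basis P).constr B fun s => φ (relClass P' (hq h h' s))

lemma u1_tmul (h h' : PresHom P P') (φ : L2 P' →ₗ[B'] M) (f : relMod P) :
    u1 M h h' φ (1 ⊗ₜ f) = φ (relClass P' (qmap h h' f)) := by
  induction f using Finsupp.induction_linear with
  | zero => simp [qmap_zero]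
  | add f g hf hg => rw [TensorProduct.tmul_add, map_add, hf, hg, qmap_add, map_add, map_add]
  | single s a =>
    rw [qmap_single, relClass_smul, map_smul, PresHom.algebraMap_ringHom, IsScalarTower.algebraMap_smul,
      ← mul_one a, ← smul_eq_mul, ← Finsupp.smul_single, TensorProduct.tmul_smul, ← algebraMap_smul B a,
      map_smul, smul_eq_mul, mul_one]
    congr 1
    rw [← L1basis_apply]
    exact (L1basis P).constr_basis B _ s

theorem pull2_sub (h h' : PresHom P P') (φ : L2 P' →ₗ[B'] M) :
    h.pull2 M φ - h'.pull2 M φ = d2Star P M (u1 M h h' φ) := by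
  refine L2_hom_ext P fun q => ?_
  rw [LinearMap.sub_apply, PresHom.pull2_apply, PresHom.pull2_apply, d2Star_apply, LinearMap.comp_apply,
    d2_relClass, u1_tmul, L2map_relClass, L2map_relClass, ← map_sub, relClass_relKerMap_sub]

lemma T0pull_coe (h : PresHom P P') (ψ : T0 P' M) :
    (h.T0pull M ψ : L0 P →ₗ[B] M) = h.pull0 M (ψ : L0 P' →ₗ[B'] M) := rfl

lemma T1pull_mk (h : PresHom P P') (c : cocycles1 P' M) :
    h.T1pull M (Submodule.Quotient.mk c) = Submodule.Quotient.mk (h.cocycles1Pull M c) := rfl

lemma T2pull_mk (h : PresHom P P') (φ : L2 P' →ₗ[B'] M) :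
    h.T2pull M (Submodule.Quotient.mk φ) = Submodule.Quotient.mk (h.pull2 M φ) := rfl

theorem T0pull_eq (h h' : PresHom P P') : h.T0pull M = h'.T0pull M :=
  LinearMap.ext fun ψ => Subtype.ext (pull0_eq M h h' ψ)

theorem T1pull_eq (h h' : PresHom P P') : h.T1pull M = h'.T1pull M := by
  refine LinearMap.ext fun z => ?_
  obtain ⟨c, rfl⟩ := Submodule.Quotient.mk_surjective _ z
  rw [T1pull_mk, T1pull_mk, Submodule.Quotient.eq]
  exact ⟨u0 M h h' c, (pull1_sub M h h' _ (LinearMap.mem_ker.1 c.2)).symm⟩

theorem T2pull_eq (h h' : PresHom P P') : h.T2pull M = h'.T2pull M := by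
  refine LinearMap.ext fun z => ?_
  obtain ⟨φ, rfl⟩ := Submodule.Quotient.mk_surjective _ z
  rw [T2pull_mk, T2pull_mk, Submodule.Quotient.eq]
  exact ⟨u1 M h h' φ, (pull2_sub M h h' _).symm⟩

/-- any two presentations over a commutative square admit a morphism -/
theorem nonempty_presHom (P : Algebra.Presentation A B ι σ) (P' : Algebra.Presentation A' B' ι' σ') :
    Nonempty (PresHom P P') := by
  let g : Algebra.Generators.Hom P.toGenerators P'.toGenerators := Algebra.Generators.defaultHom _ _
  have h : ∀ s, ∃ f : relMod P', jmap P' f = g.toExtensionHom.toRingHom (rel P s) := fun s => by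
    have hm : g.toExtensionHom.toRingHom (rel P s) ∈ LinearMap.range (jmap P') := by
      rw [range_jmap]
      change algebraMap P'.toExtension.Ring B' _ = 0
      rw [g.toExtensionHom.algebraMap_toRingHom, algebraMap_rel, map_zero]
    exact hm
  choose f hf using h
  exact ⟨⟨g, f, hf⟩⟩

end Groth.L12.CotTLib
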