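import Groth.Agent.L12.CotTComp
import Groth.Agent.L07.RegSeq
import Mathlib.RingTheory.Localization.Module
import Mathlib.RingTheory.Localization.Ideal

/-!
# Koszul relations and the injectivity of `d₂`
-/

universe u v w t m

open TensorProduct CotT

namespace Groth.L12.CotTLib

variable {A : Type u} {B : Type v} {ι : Type w} {σ : Type t}
variable [CommRing A] [CommRing B] [Algebra A B]
variable (P : Algebra.Presentation A B ι σ)

lemma smul_mk_eq_zero (q : relKer P) (x : P.toExtension.Ring) (hx : x ∈ P.toExtension.ker) :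
    x • (Submodule.Quotient.mk (q : relMod P) : Gq P) = 0 := by
  obtain ⟨w, hw⟩ := jker_surjective P ⟨x, hx⟩
  have : x = gj P (Submodule.Quotient.mk w) := (congrArg Subtype.val hw).symm
  rw [this, gj_comm, gj_mk, show jmap P (q : relMod P) = 0 from q.2, zero_smul]

lemma relClass_surjective : Function.Surjective (relClass P) := by
  intro z
  induction z using Submodule.Quotient.induction_on with
  | H z =>
    induction z using TensorProduct.induction_on with
    | zero => exact ⟨0, by rw [map_zero, Submodule.Quotient.mk_zero]⟩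
    | add x y hx hy =>
      obtain ⟨a, ha⟩ := hx
      obtain ⟨b, hb⟩ := hy
      exact ⟨a + b, by rw [map_add, ha, hb, Submodule.Quotient.mk_add]⟩
    | tmul b q =>
      obtain ⟨r, rfl⟩ := P.toExtension.algebraMap_surjective b
      exact ⟨r • q, by rw [relClass_smul, smul_relClass]⟩

/-- `L₂ = Q/F₀`. -/
lemma relClass_eq_zero_iff (q : relKer P) :
    relClass P q = 0 ↔ (Submodule.Quotient.mk (q : relMod P) : Gq P) = 0 := by
  refine ⟨fun h => ?_, fun h => relClass_eq_zero P ((Submodule.Quotient.mk_eq_zero _).1 h)⟩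
  let μ : relKer P →ₗ[P.toExtension.Ring] Gq P := (trivRel P).mkQ ∘ₗ (relKer P).subtype
  let e := LinearMap.quotKerEquivOfSurjective (Algebra.linearMap P.toExtension.Ring B)
    P.toExtension.algebraMap_surjective
  let Φ : B →ₗ[P.toExtension.Ring] relKer P →ₗ[P.toExtension.Ring] Gq P :=
    (Submodule.liftQ (LinearMap.ker (Algebra.linearMap P.toExtension.Ring B))
      (LinearMap.toSpanSingleton P.toExtension.Ring _ μ)
      (fun x hx => LinearMap.mem_ker.2 (LinearMap.ext fun q => smul_mk_eq_zero P q x (LinearMap.mem_ker.1 hx)))) ∘ₗ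
      e.symm.toLinearMap
  have hΦ : ∀ q : relKer P, Φ 1 q = μ q := fun q => by
    have : e.symm 1 = Submodule.Quotient.mk 1 := by
      rw [LinearEquiv.symm_apply_eq]; exact (map_one (algebraMap P.toExtension.Ring B)).symm
    simp only [Φ, LinearMap.comp_apply, LinearEquiv.coe_coe, this, Submodule.liftQ_apply, LinearMap.toSpanSingleton_apply, one_smul]
  have hk : ∀ z ∈ LinearMap.range ((trivRelKer P).subtype.baseChange B),
      TensorProduct.lift Φ z = 0 := by
    rintro _ ⟨z, rfl⟩
    induction z using TensorProduct.induction_on with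
    | zero => simp
    | add x y hx hy => rw [map_add, map_add, hx, hy, add_zero]
    | tmul b k =>
      obtain ⟨r, rfl⟩ := P.toExtension.algebraMap_surjective b
      rw [LinearMap.baseChange_tmul, TensorProduct.lift.tmul, Algebra.algebraMap_eq_smul_one, map_smul,
        LinearMap.smul_apply, hΦ]
      change r • (Submodule.Quotient.mk ((k : relKer P) : relMod P) : Gq P) = 0
      rw [(Submodule.Quotient.mk_eq_zero _).2 k.2, smul_zero]
  rw [relClass_apply, Submodule.Quotient.mk_eq_zero] at h
  have := hk _ h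
  rw [TensorProduct.lift.tmul, hΦ] at this
  exact this

lemma mem_ker_of_tmul_eq_zero (f : relMod P) (h : (1 : B) ⊗ₜ[P.toExtension.Ring] f = (0 : L1 P)) (s : σ) :
    f s ∈ P.toExtension.ker := by
  have h1 := congrArg (fun z => (L1basis P).repr z s) h
  simp only [L1basis, map_zero, Finsupp.zero_apply] at h1
  rw [Algebra.TensorProduct.basis_repr_tmul] at h1
  simpa using h1

lemma mk_eq_sum (q : relMod P) :
    (Submodule.Quotient.mk q : Gq P) = ∑ s ∈ q.support, q s • (Submodule.Quotient.mk (Finsupp.single s 1) : Gq P) := by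
  conv_lhs => rw [← Finsupp.sum_single q, Finsupp.sum]
  rw [← Submodule.mkQ_apply, map_sum]
  refine Finset.sum_congr rfl fun s _ => ?_
  rw [Submodule.mkQ_apply, ← Submodule.Quotient.mk_smul, Finsupp.smul_single, smul_eq_mul, mul_one]

/-- Koszul relations die in `F/F₀`. -/
lemma sum_smul_eq_zero_of_triv {c : ℕ} (v : Fin c → Gq P) (f : Fin c → P.toExtension.Ring)
    (hv : ∀ k, gj P (v k) = f k) (z : Fin c → P.toExtension.Ring)
    (hz : z ∈ Groth.L07.RegSeq.triv f P.toExtension.Ring) : ∑ k, z k • v k = 0 := by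
  classical
  induction hz using Submodule.span_induction with
  | mem y hy =>
    obtain ⟨i, j, x, rfl⟩ := hy
    simp only [Pi.sub_apply, Pi.smul_apply, smul_eq_mul, sub_smul, Finset.sum_sub_distrib, Pi.single_apply,
      mul_ite, mul_zero, ite_smul, zero_smul, Finset.sum_ite_eq', Finset.mem_univ, if_true]
    rw [mul_comm, mul_smul, mul_comm, mul_smul, ← hv, ← hv, gj_comm, sub_self]
  | zero => simp
  | add a b _ _ ha hb => simp only [Pi.add_apply, add_smul, Finset.sum_add_distrib, ha, hb, add_zero]
  | smul r a _ ha => simp only [Pi.smul_apply, smul_eq_mul, mul_smul, ← Finset.smul_sum, ha, smul_zero]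

/-- `d₂` is injective when the ideal is locally generated by sequences without Koszul homology. -/
theorem d2_injective
    (H : ∀ (S : Finset σ) (p : Ideal P.toExtension.Ring) [p.IsPrime], P.toExtension.ker ≤ p →
      ∃ (c : ℕ) (f : Fin c → P.toExtension.Ring) (u : P.toExtension.Ring), u ∉ p ∧
        (∀ k, f k ∈ P.toExtension.ker) ∧ (∀ s ∈ S, u * rel P s ∈ Ideal.span (Set.range f)) ∧
        ∀ z : Fin c → P.toExtension.Ring, ∑ k, z k * f k = 0 →
          ∃ u', u' ∉ p ∧ u' • z ∈ Groth.L07.RegSeq.triv f P.toExtension.Ring) :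
    Function.Injective (d2 P) := by
  classical
  rw [injective_iff_map_eq_zero]
  intro z hz
  obtain ⟨q, rfl⟩ := relClass_surjective P z
  rw [d2_relClass] at hz
  rw [relClass_eq_zero_iff]
  set g : Gq P := Submodule.Quotient.mk (q : relMod P) with hg
  let J : Ideal P.toExtension.Ring :=
    LinearMap.ker (LinearMap.toSpanSingleton P.toExtension.Ring (Gq P) g)
  suffices hJ : J = ⊤ by
    have h1 : (1 : P.toExtension.Ring) ∈ J := hJ ▸ Submodule.mem_top
    simpa [J] using h1
  by_contra hne
  obtain ⟨p, hp, hJp⟩ := Ideal.exists_le_maximal J hne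
  haveI := hp.isPrime
  have hIJ : P.toExtension.ker ≤ J := fun x hx => by
    simpa [J] using smul_mk_eq_zero P q x hx
  obtain ⟨c, f, u, hu, hf, hspan, hH1⟩ := H (q : relMod P).support p (hIJ.trans hJp)
  choose d hd using fun k => jker_surjective P ⟨f k, hf k⟩
  let v : Fin c → Gq P := fun k => Submodule.Quotient.mk (d k)
  have hv : ∀ k, gj P (v k) = f k := fun k => congrArg Subtype.val (hd k)
  have hsp : ∀ s : σ, ∃ cs : Fin c → P.toExtension.Ring,
      s ∈ (q : relMod P).support → ∑ k, cs k * f k = u * rel P s := fun s => by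
    by_cases hs : s ∈ (q : relMod P).support
    · obtain ⟨cs, hcs⟩ := Ideal.mem_span_range_iff_exists_fun.1 (hspan s hs)
      exact ⟨cs, fun _ => hcs⟩
    · exact ⟨0, fun h => absurd h hs⟩
  choose cs hcs using hsp
  let zz : Fin c → P.toExtension.Ring := fun k => ∑ s ∈ (q : relMod P).support, (q : relMod P) s * cs s k
  have hjq : ∑ s ∈ (q : relMod P).support, (q : relMod P) s * rel P s = 0 := by
    have : jmap P (q : relMod P) = 0 := q.2
    rwa [jmap, Finsupp.linearCombination_apply, Finsupp.sum] at this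
  have hrel : ∑ k, zz k * f k = 0 := by
    simp only [zz, Finset.sum_mul, mul_assoc]
    rw [Finset.sum_comm]
    calc ∑ s ∈ (q : relMod P).support, ∑ k, (q : relMod P) s * (cs s k * f k)
        = ∑ s ∈ (q : relMod P).support, (q : relMod P) s * (u * rel P s) :=
          Finset.sum_congr rfl fun s hs => by rw [← Finset.mul_sum, hcs s hs]
      _ = u * ∑ s ∈ (q : relMod P).support, (q : relMod P) s * rel P s := by
          rw [Finset.mul_sum]; exact Finset.sum_congr rfl fun s _ => by ring
      _ = 0 := by rw [hjq, mul_zero]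
  obtain ⟨u', hu', htriv⟩ := hH1 zz hrel
  have h2 : u' • ∑ k, zz k • v k = 0 := by
    rw [Finset.smul_sum]
    simp only [smul_smul]
    exact sum_smul_eq_zero_of_triv P v f hv _ htriv
  -- `u g` is the Koszul part
  have h3 : u • g = ∑ k, zz k • v k := by
    rw [hg, mk_eq_sum, Finset.smul_sum]
    simp only [zz, Finset.sum_smul]
    rw [Finset.sum_comm (s := Finset.univ), ← sub_eq_zero, ← Finset.sum_sub_distrib]
    refine Finset.sum_eq_zero fun s hs => ?_
    have hε : jmap P (u • Finsupp.single s 1 - ∑ k, cs s k • d k) = 0 := by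
      rw [map_sub, map_smul, jmap_single, one_mul, map_sum, smul_eq_mul, sub_eq_zero, ← hcs s hs]
      refine Finset.sum_congr rfl fun k _ => ?_
      rw [map_smul, smul_eq_mul]
      exact congrArg _ (congrArg Subtype.val (hd k)).symm
    have h4 := smul_mk_eq_zero P ⟨_, hε⟩ _ (mem_ker_of_tmul_eq_zero P _ hz s)
    rw [Submodule.Quotient.mk_sub, Submodule.Quotient.mk_smul, ← Submodule.mkQ_apply (p := trivRel P) (∑ k, cs s k • d k),
      map_sum, smul_sub, Finset.smul_sum] at h4
    rw [smul_comm]
    refine Eq.trans ?_ h4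
    congr 1
    exact Finset.sum_congr rfl fun k _ => by rw [map_smul, smul_smul]; rfl
  have h5 : u' * u ∈ J := by
    simp only [J, LinearMap.mem_ker, LinearMap.toSpanSingleton_apply, mul_smul, h3, h2]
  rcases hp.isPrime.mem_or_mem (hJp h5) with h | h
  · exact hu' h
  · exact hu h

/-- The Koszul condition from weak regularity at the prime. -/
theorem koszul_of_localization {R : Type u} [CommRing R] (p : Ideal R) [p.IsPrime] {c : ℕ} (f : Fin c → R)
    (h : CInt.KoszulH1Zero (fun k => algebraMap R (Localization.AtPrime p) (f k)) (Localization.AtPrime p))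
    (z : Fin c → R) (hz : ∑ k, z k * f k = 0) : ∃ u', u' ∉ p ∧ u' • z ∈ Groth.L07.RegSeq.triv f R := by
  classical
  set Rp := Localization.AtPrime p
  have hm := h (fun k => algebraMap R Rp (z k))
    ((Finset.sum_congr rfl fun k _ => (map_mul (algebraMap R Rp) (f k) (z k)).symm).trans (by
      rw [← map_sum, show ∑ k, f k * z k = 0 by simpa [mul_comm] using hz, map_zero]))
  have key : ∀ m ∈ Groth.L07.RegSeq.triv (fun k => algebraMap R Rp (f k)) Rp,
      ∃ (u : R) (t : Fin c → R), u ∉ p ∧ t ∈ Groth.L07.RegSeq.triv f R ∧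
        ∀ k, algebraMap R Rp u * m k = algebraMap R Rp (t k) := by
    intro m hm
    induction hm using Submodule.span_induction with
    | mem y hy =>
      obtain ⟨i, j, x, rfl⟩ := hy
      obtain ⟨⟨a, s⟩, hx⟩ := IsLocalization.surj p.primeCompl x
      refine ⟨s, f j • Pi.single i a - f i • Pi.single j a, s.2,
        Submodule.subset_span ⟨i, j, a, rfl⟩, fun k => ?_⟩
      simp only [Pi.sub_apply, Pi.smul_apply, Pi.single_apply, smul_eq_mul, mul_ite, mul_zero, map_sub]
      simp only [apply_ite (algebraMap R Rp), map_mul, map_zero, mul_sub, mul_ite, mul_zero]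
      rw [← hx]
      congr 1 <;> split_ifs <;> ring
    | zero => exact ⟨1, 0, fun h => ‹p.IsPrime›.ne_top ((Ideal.eq_top_iff_one p).2 h), zero_mem _, by simp⟩
    | add a b _ _ ha hb =>
      obtain ⟨u, t, hu, ht, h1⟩ := ha
      obtain ⟨u2, t2, hu2, ht2, h2⟩ := hb
      refine ⟨u * u2, u2 • t + u • t2, fun h => (‹p.IsPrime›.mem_or_mem h).elim hu hu2,
        add_mem (Submodule.smul_mem _ _ ht) (Submodule.smul_mem _ _ ht2), fun k => ?_⟩
      simp only [Pi.add_apply, Pi.smul_apply, smul_eq_mul, map_add, map_mul, ← h1 k, ← h2 k]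
      ring
    | smul r a _ ha =>
      obtain ⟨u, t, hu, ht, h1⟩ := ha
      obtain ⟨⟨r', s⟩, hr⟩ := IsLocalization.surj p.primeCompl r
      refine ⟨u * s, r' • t, fun h => (‹p.IsPrime›.mem_or_mem h).elim hu s.2, Submodule.smul_mem _ _ ht,
        fun k => ?_⟩
      simp only [Pi.smul_apply, smul_eq_mul, map_mul, ← h1 k, ← hr]
      ring
  obtain ⟨u, t, hu, ht, h1⟩ := key _ hm
  have h2 : ∀ k, ∃ w : p.primeCompl, (w : R) * (u * z k) = w * t k := fun k => by
    rw [← IsLocalization.eq_iff_exists p.primeCompl Rp, map_mul]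
    exact h1 k
  choose w hw using h2
  refine ⟨(∏ k, (w k : R)) * u, fun h => (‹p.IsPrime›.mem_or_mem h).elim (fun h => (∏ k, w k).2 (by simpa using h)) hu, ?_⟩
  have : ((∏ k, (w k : R)) * u) • z = (∏ k, (w k : R)) • t := by
    funext k
    rw [Pi.smul_apply, Pi.smul_apply, smul_eq_mul, smul_eq_mul, ← Finset.mul_prod_erase _ _ (Finset.mem_univ k)]
    linear_combination (∏ j ∈ Finset.univ.erase k, (w j : R)) * hw k
  rw [this]
  exact Submodule.smul_mem _ _ ht

/-- Scaling a sequence by units preserves the vanishing of `H₁`. -/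
theorem koszul_unit_mul {R : Type u} [CommRing R] {c : ℕ} (f : Fin c → R) (w : Fin c → R) (hw : ∀ k, IsUnit (w k))
    (h : CInt.KoszulH1Zero f R) : CInt.KoszulH1Zero (fun k => w k * f k) R := by
  classical
  choose w' hw' using fun k => (hw k).exists_left_inv
  intro m hm
  have h1 := h (fun k => w k * m k) (by
    rw [← hm]
    exact Finset.sum_congr rfl fun k _ => by simp only [smul_eq_mul]; ring)
  let D : (Fin c → R) →ₗ[R] (Fin c → R) := LinearMap.pi fun k => w' k • LinearMap.proj k
  have hDm : D (fun k => w k * m k) = m := by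
    funext k
    simp only [D, LinearMap.pi_apply, LinearMap.smul_apply, LinearMap.proj_apply, smul_eq_mul, ← mul_assoc, hw',
      one_mul]
  rw [← hDm]
  have h2 := Submodule.mem_map_of_mem (f := D) h1
  rw [Submodule.map_span] at h2
  refine Submodule.span_le.2 ?_ h2
  rintro _ ⟨_, ⟨i, j, x, rfl⟩, rfl⟩
  refine Submodule.subset_span ⟨i, j, x * w' i * w' j, funext fun k => ?_⟩
  simp only [D, LinearMap.pi_apply, LinearMap.smul_apply, LinearMap.proj_apply, Pi.sub_apply, Pi.smul_apply,
    Pi.single_apply, smul_eq_mul, mul_ite, mul_zero, mul_sub]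
  congr 1 <;> split_ifs with hk <;> subst_vars <;> try rfl
  · linear_combination -(f j * x * w' k) * hw' j
  · linear_combination -(f i * x * w' k) * hw' i

end Groth.L12.CotTLib
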