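import Groth.Agent.L12.CotTNineCanon
import Groth.Agent.L12.CotTExamples
import Mathlib.Algebra.Polynomial.Eval.Defs
import Mathlib.RingTheory.Localization.Basic

/-!
# `T²` of a localization vanishes
-/

universe u

open TensorProduct CotT

namespace Groth.L12.CotTLib

variable {S : Type u} [CommRing S] (M0 : Submonoid S) (T : Type u) [CommRing T] [Algebra S T] [IsLocalization M0 T]

/-- `s X_s - 1` -/
noncomputable def locRel (s : M0) : MvPolynomial M0 S := MvPolynomial.C (s : S) * MvPolynomial.X s - 1

lemma locRel_aeval (s : M0) :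
    MvPolynomial.aeval (fun s : M0 => IsLocalization.mk' T (1 : S) s) (locRel M0 s) = 0 := by
  rw [locRel, map_sub, map_mul, MvPolynomial.aeval_C, MvPolynomial.aeval_X, IsLocalization.mk'_spec'_mk,
    map_one, map_one, sub_self]

lemma ker_locRel : RingHom.ker (MvPolynomial.aeval (fun s : M0 => IsLocalization.mk' T (1 : S) s)) =
    Ideal.span (Set.range (locRel M0)) := by
  refine le_antisymm (fun p hp => ?_) (Ideal.span_le.2 (Set.range_subset_iff.2 fun s => locRel_aeval M0 T s))
  set K := Ideal.span (Set.range (locRel M0))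
  have hu : ∀ s : M0, IsUnit ((Ideal.Quotient.mk K).comp MvPolynomial.C (s : S)) := fun s =>
    IsUnit.of_mul_eq_one (Ideal.Quotient.mk K (MvPolynomial.X s)) (by
      rw [RingHom.comp_apply, ← map_mul, ← map_one (Ideal.Quotient.mk K), Ideal.Quotient.eq]
      exact Ideal.subset_span ⟨s, rfl⟩)
  let ψ : T →+* MvPolynomial M0 S ⧸ K := IsLocalization.lift hu
  have hψ : ψ.comp (MvPolynomial.aeval (fun s : M0 => IsLocalization.mk' T (1 : S) s)).toRingHom =
      Ideal.Quotient.mk K := by
    refine MvPolynomial.ringHom_ext (fun a => ?_) fun s => ?_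
    · exact (congrArg ψ (MvPolynomial.aeval_C _ a)).trans (IsLocalization.lift_eq hu a)
    · refine (congrArg ψ (MvPolynomial.aeval_X _ s)).trans ?_
      rw [IsLocalization.lift_mk'_spec, map_one, RingHom.comp_apply, ← map_mul, ← map_one (Ideal.Quotient.mk K),
        eq_comm, Ideal.Quotient.eq]
      exact Ideal.subset_span ⟨s, rfl⟩
  have h2 := RingHom.congr_fun hψ p
  rw [RingHom.comp_apply, show (MvPolynomial.aeval (fun s : M0 => IsLocalization.mk' T (1 : S) s)).toRingHom p = 0 from hp,
    map_zero] at h2
  exact Ideal.Quotient.eq_zero_iff_mem.1 h2.symm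

lemma loc_surjective (t : T) :
    ∃ p, MvPolynomial.aeval (R := S) (fun s : M0 => IsLocalization.mk' T (1 : S) s) p = t := by
  obtain ⟨a, s, rfl⟩ := IsLocalization.exists_mk'_eq M0 t
  exact ⟨MvPolynomial.C a * MvPolynomial.X s,
    by rw [map_mul, MvPolynomial.aeval_C, MvPolynomial.aeval_X, IsLocalization.mul_mk'_eq_mk'_of_mul, mul_one]⟩

/-- the presentation of a localization -/
noncomputable def locPres : Algebra.Presentation S T M0 M0 where
  toGenerators := Algebra.Generators.ofSurjective (fun s : M0 => IsLocalization.mk' T (1 : S) s) (loc_surjective M0 T)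
  relation := locRel M0
  span_range_relation_eq_ker := by
    rw [Algebra.Generators.ker_eq_ker_aeval_val]
    exact (ker_locRel M0 T).symm

/-- `s T - 1` is a non-zero-divisor of a polynomial ring -/
lemma eq_zero_of_mul_linear {W : Type*} [CommRing W] (c : W) (p : Polynomial W)
    (h : p * (Polynomial.C c * Polynomial.X - 1) = 0) : p = 0 := by
  have h' : p = Polynomial.C c * (p * Polynomial.X) := by linear_combination -h
  ext n
  induction n with
  | zero => rw [h']; simp
  | succ n ih => rw [h', Polynomial.coeff_C_mul, Polynomial.coeff_mul_X, ih]; simp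

lemma mem_of_mul_locRel_mem (F : Finset M0) {s : M0} (hs : s ∉ F) {a : MvPolynomial M0 S}
    (h : a * locRel M0 s ∈ Ideal.span (locRel M0 '' (F : Set M0))) :
    a ∈ Ideal.span (locRel M0 '' (F : Set M0)) := by
  classical
  set K := Ideal.span (locRel M0 '' (F : Set M0))
  let c : S →+* Polynomial (MvPolynomial M0 S ⧸ K) := Polynomial.C.comp ((Ideal.Quotient.mk K).comp MvPolynomial.C)
  let Φ : MvPolynomial M0 S →+* Polynomial (MvPolynomial M0 S ⧸ K) :=
    MvPolynomial.eval₂Hom c fun t => if t = s then Polynomial.X else Polynomial.C (Ideal.Quotient.mk K (MvPolynomial.X t))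
  have hback : (Polynomial.evalRingHom (Ideal.Quotient.mk K (MvPolynomial.X s))).comp Φ = Ideal.Quotient.mk K := by
    refine MvPolynomial.ringHom_ext (fun a => ?_) fun t => ?_
    · simp [Φ, c]
    · by_cases ht : t = s
      · subst ht; simp [Φ]
      · simp [Φ, ht]
  have hK : ∀ x ∈ K, Φ x = 0 := by
    intro x hx
    induction hx using Submodule.span_induction with
    | mem x hx =>
      obtain ⟨t, ht, rfl⟩ := hx
      have hne : t ≠ s := fun h => hs (h ▸ ht)
      have h0 : Ideal.Quotient.mk K (locRel M0 t) = 0 :=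
        Ideal.Quotient.eq_zero_iff_mem.2 (Ideal.subset_span ⟨t, ht, rfl⟩)
      have h1 : Φ (locRel M0 t) = Polynomial.C (Ideal.Quotient.mk K (locRel M0 t)) := by
        simp only [Φ, c, locRel, map_sub, map_mul, map_one, MvPolynomial.eval₂Hom_C, MvPolynomial.eval₂Hom_X', RingHom.comp_apply, if_neg hne]
      rw [h1, h0, map_zero]
    | zero => exact map_zero _
    | add x y _ _ hx hy => rw [map_add, hx, hy, add_zero]
    | smul r x _ hx => rw [smul_eq_mul, map_mul, hx, mul_zero]
  have h1 := hK _ h
  rw [map_mul, show Φ (locRel M0 s) = Polynomial.C (Ideal.Quotient.mk K (MvPolynomial.C (s : S))) * Polynomial.X - 1 by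
    simp only [Φ, c, locRel, map_sub, map_mul, map_one, MvPolynomial.eval₂Hom_C, MvPolynomial.eval₂Hom_X', RingHom.comp_apply, if_true]] at h1
  have h2 := RingHom.congr_fun hback a
  rw [RingHom.comp_apply, eq_zero_of_mul_linear _ _ h1, map_zero] at h2
  exact Ideal.Quotient.eq_zero_iff_mem.1 h2.symm

/-- the class of a relation generator -/
noncomputable abbrev eGen (s : M0) : Gq (locPres M0 T) := Submodule.Quotient.mk (Finsupp.single s 1)

lemma gj_eGen (s : M0) : gj (locPres M0 T) (eGen M0 T s) = locRel M0 s := by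
  rw [gj_mk, jmap_single, one_mul]; rfl

lemma relations_trivial (F : Finset M0) : ∀ b : M0 → (locPres M0 T).toExtension.Ring,
    gj (locPres M0 T) (∑ s ∈ F, b s • eGen M0 T s) = 0 → ∑ s ∈ F, b s • eGen M0 T s = 0 := by
  classical
  induction F using Finset.induction with
  | empty => intro b _; rfl
  | @insert s F hs ih =>
    intro b hb
    rw [Finset.sum_insert hs] at hb ⊢
    have hmem : (show MvPolynomial M0 S from b s) * locRel M0 s ∈ Ideal.span (locRel M0 '' (F : Set M0)) := by
      rw [map_add, map_smul, smul_eq_mul, gj_eGen, map_sum, add_eq_zero_iff_eq_neg] at hb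
      refine hb.symm ▸ neg_mem ?_
      refine Ideal.sum_mem _ fun t ht => ?_
      rw [map_smul, smul_eq_mul, gj_eGen]
      exact Ideal.mul_mem_left (α := MvPolynomial M0 S) _ _ (Ideal.subset_span ⟨t, ht, rfl⟩)
    have hs' : b s • eGen M0 T s ∈
        Submodule.span (locPres M0 T).toExtension.Ring (eGen M0 T '' (F : Set M0)) := by
      have h1 := mem_of_mul_locRel_mem M0 F hs hmem
      generalize b s = x at h1 ⊢
      change x ∈ Ideal.span (rel (locPres M0 T) '' (F : Set M0)) at h1
      induction h1 using Submodule.span_induction with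
      | mem x hx =>
        obtain ⟨t, ht, rfl⟩ := hx
        rw [show rel (locPres M0 T) t = gj (locPres M0 T) (eGen M0 T t) by rw [gj_mk, jmap_single, one_mul], gj_comm]
        exact Submodule.smul_mem _ _ (Submodule.subset_span ⟨t, ht, rfl⟩)
      | zero => rw [zero_smul]; exact zero_mem _
      | add u v _ _ hu hv => rw [add_smul]; exact add_mem hu hv
      | smul r u _ hu => rw [smul_eq_mul, mul_smul]; exact Submodule.smul_mem _ _ hu
    have hc' : b s • eGen M0 T s ∈ Submodule.span (locPres M0 T).toExtension.Ring (Set.range fun t : F => eGen M0 T t) := by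
      convert hs' using 2
      ext x; simp
    obtain ⟨d, hd⟩ := Submodule.mem_span_range_iff_exists_fun _ |>.1 hc'
    have hsum : ∑ t ∈ F, (if h : t ∈ F then d ⟨t, h⟩ else 0) • eGen M0 T t = b s • eGen M0 T s := by
      rw [← hd, ← Finset.sum_coe_sort F]
      exact Finset.sum_congr rfl fun t _ => by rw [dif_pos t.2]
    rw [← hsum, ← Finset.sum_add_distrib] at hb ⊢
    simp only [← add_smul] at hb ⊢
    exact ih _ hb

theorem subsingleton_L2_loc : Subsingleton (L2 (locPres M0 T)) := by
  refine subsingleton_L2_of_trivRel _ fun q => ?_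
  rw [mk_eq_sum]
  refine relations_trivial M0 T _ _ ?_
  rw [← mk_eq_sum, gj_mk]
  exact q.2

theorem T2_localization {S : Type u} [CommRing S] (M0 : Submonoid S) (T : Type u) [CommRing T] [Algebra S T]
    [IsLocalization M0 T] (M : Type u) [AddCommGroup M] [Module T M] : Subsingleton (T2 (canon S T) M) := by
  rw [T2_subsingleton_congr (canon S T) (locPres M0 T)]
  haveI := subsingleton_L2_loc M0 T
  exact T2_subsingleton_of_L2 _ M

/-- transitivity of vanishing along `A → B → C` -/
theorem T2_subsingleton_of_tower (A B C : Type u) [CommRing A] [CommRing B] [CommRing C] [Algebra A B] [Algebra B C]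
    [Algebra A C] [IsScalarTower A B C] (M : Type u) [AddCommGroup M] [Module C M] [Module B M] [IsScalarTower B C M]
    (h1 : Subsingleton (T2 (canon A B) M)) (h2 : Subsingleton (T2 (canon B C) M)) :
    Subsingleton (T2 (canon A C) M) := by
  obtain ⟨-, -, -, hex, -⟩ := nine_term_canon A B C M
  refine subsingleton_of_forall_eq 0 fun x => ?_
  obtain ⟨y, rfl⟩ := (hex x).1 (Subsingleton.elim _ _)
  rw [Subsingleton.elim y 0, map_zero]

theorem T2_iff_of_T1_T2 (A B C : Type u) [CommRing A] [CommRing B] [CommRing C] [Algebra A B] [Algebra B C]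
    [Algebra A C] [IsScalarTower A B C] (M : Type u) [AddCommGroup M] [Module C M] [Module B M] [IsScalarTower B C M]
    (h1 : Subsingleton (T1 (canon A B) M)) (h2 : Subsingleton (T2 (canon A B) M)) :
    Subsingleton (T2 (canon A C) M) ↔ Subsingleton (T2 (canon B C) M) := by
  obtain ⟨-, -, -, hex, δ₀, δ₁, -, -, -, hδ⟩ := nine_term_canon A B C M
  have hb : Function.Bijective ((canonHom A C B C).T2pull M) := by
    refine ⟨(injective_iff_map_eq_zero _).2 fun x hx => ?_, fun x => (hex x).1 (Subsingleton.elim _ _)⟩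
    obtain ⟨y, rfl⟩ := (hδ x).1 hx
    rw [Subsingleton.elim y 0, map_zero]
  exact (Equiv.ofBijective _ hb).subsingleton_congr.symm

end Groth.L12.CotTLib
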