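import Groth.Agent.L12.NineTerm
import Groth.Agent.L12.CotTComp

/-!
# Long exact sequence in the module; derivations
-/

universe u v w t m m'

open TensorProduct CotT

namespace Groth.L12.CotTLib

variable {A : Type u} {B : Type v} {ι : Type w} {σ : Type t}
variable [CommRing A] [CommRing B] [Algebra A B]
variable (P : Algebra.Presentation A B ι σ)
variable (M : Type m) [AddCommGroup M] [Module B M]

/-- The dual complex with its cohomology. -/
noncomputable def cx : NineTerm.Cx B (L0 P →ₗ[B] M) (L1 P →ₗ[B] M) (L2 P →ₗ[B] M) (T1 P M) (T2 P M) where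
  a := d1Star P M
  b := d2Star P M
  comp x := LinearMap.congr_fun (d2Star_comp_d1Star P M) x
  q1 := (coboundaries1 P M).mkQ
  q1_surj := Submodule.mkQ_surjective _
  q1_ker c := by rw [Submodule.mkQ_apply, Submodule.Quotient.mk_eq_zero]; rfl
  q2 := (LinearMap.range (d2Star P M)).mkQ
  q2_surj := Submodule.mkQ_surjective _
  q2_ker c := by rw [Submodule.mkQ_apply, Submodule.Quotient.mk_eq_zero]; rfl

variable {M} {N : Type m'} [AddCommGroup N] [Module B N]

/-- postcomposition -/
noncomputable abbrev post (X : Type*) [AddCommGroup X] [Module B X] {M : Type*} [AddCommGroup M] [Module B M]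
    {N : Type*} [AddCommGroup N] [Module B N] (g : M →ₗ[B] N) : (X →ₗ[B] M) →ₗ[B] (X →ₗ[B] N) :=
  LinearMap.llcomp B X M N g

noncomputable def mapMor (g : M →ₗ[B] N) : NineTerm.Mor (cx P M) (cx P N) where
  m0 := post (L0 P) g
  m1 := post (L1 P) g
  m2 := post (L2 P) g
  comm_a _ := rfl
  comm_b _ := rfl
  h0 := T0map P g
  h0_coe _ := rfl
  h1 := T1map P g
  h1_q c d h := congrArg (Submodule.Quotient.mk (p := coboundaries1 P N)) (Subtype.ext h.symm)
  h2 := T2map P g
  h2_q _ := rfl

lemma llcomp_injective {X : Type*} [AddCommGroup X] [Module B X] {f : M →ₗ[B] N} (hf : Function.Injective f) :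
    Function.Injective (post X f) :=
  fun _ _ h => LinearMap.ext fun x => hf (LinearMap.congr_fun h x)

lemma llcomp_exact {X : Type*} [AddCommGroup X] [Module B X] {M'' : Type*} [AddCommGroup M''] [Module B M'']
    {f : M →ₗ[B] N} {g : N →ₗ[B] M''} (hf : Function.Injective f) (h : Function.Exact f g) :
    Function.Exact (post X f) (post X g) := by
  intro φ
  refine ⟨fun hφ => ?_, ?_⟩
  · obtain ⟨l, hl⟩ := NineTerm.exists_pullback f hf φ fun x => (h _).1 (LinearMap.congr_fun hφ x)
    exact ⟨l, LinearMap.ext hl⟩
  · rintro ⟨l, rfl⟩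
    exact LinearMap.ext fun x => h.apply_apply_eq_zero (l x)

lemma llcomp_surjective {X : Type*} [AddCommGroup X] [Module B X] [Module.Projective B X] {g : M →ₗ[B] N}
    (hg : Function.Surjective g) : Function.Surjective (post X g) :=
  fun φ => Module.projective_lifting_property g φ hg

theorem long_exact {M' M'' : Type m} [AddCommGroup M'] [Module B M'] [AddCommGroup M''] [Module B M'']
    {M : Type m} [AddCommGroup M] [Module B M]
    (f : M' →ₗ[B] M) (g : M →ₗ[B] M'') (hf : Function.Injective f) (hg : Function.Surjective g)
    (hfg : Function.Exact f g) :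
    Function.Injective (T0map P f) ∧ Function.Exact (T0map P f) (T0map P g) ∧
      Function.Exact (T1map P f) (T1map P g) ∧ Function.Exact (T2map P f) (T2map P g) ∧
      ∃ (δ₀ : T0 P M'' →ₗ[B] T1 P M') (δ₁ : T1 P M'' →ₗ[B] T2 P M'),
        Function.Exact (T0map P g) δ₀ ∧ Function.Exact δ₀ (T1map P f) ∧
        Function.Exact (T1map P g) δ₁ ∧ Function.Exact δ₁ (T2map P f) := by
  haveI : Module.Projective B (L0 P) := Module.Projective.of_basis P.cotangentSpaceBasis
  haveI : Module.Projective B (L1 P) := Module.Projective.of_basis (L1basis P)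
  exact NineTerm.nine (mapMor P f) (mapMor P g) (llcomp_injective hf) (llcomp_injective hf)
    (llcomp_injective hf) (llcomp_exact hf hfg) (llcomp_exact hf hfg) (llcomp_exact hf hfg)
    (llcomp_surjective hg) (llcomp_surjective hg)

/-- `T⁰` is the module of derivations. -/
theorem derToT0_bijective (M : Type m) [AddCommGroup M] [Module B M] [Module A M] [IsScalarTower A B M] :
    Function.Bijective (derToT0 P M) := by
  constructor
  · intro D D' h
    refine Derivation.ext fun b => ?_
    obtain ⟨r, rfl⟩ := P.toExtension.algebraMap_surjective b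
    have := LinearMap.congr_fun (congrArg Subtype.val h) ((1 : B) ⊗ₜ KaehlerDifferential.D A P.toExtension.Ring r)
    simpa using this
  · intro ψ
    let d : P.toExtension.Ring → M := fun r =>
      (ψ : L0 P →ₗ[B] M) ((1 : B) ⊗ₜ KaehlerDifferential.D A P.toExtension.Ring r)
    have hd : ∀ r r', algebraMap P.toExtension.Ring B r = algebraMap P.toExtension.Ring B r' → d r = d r' := by
      intro r r' hr
      have hm : r - r' ∈ LinearMap.range (jmap P) := by
        rw [range_jmap]
        change algebraMap P.toExtension.Ring B (r - r') = 0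
        rw [map_sub, hr, sub_self]
      obtain ⟨f, hf⟩ := hm
      have := LinearMap.congr_fun (LinearMap.mem_ker.1 ψ.2) ((1 : B) ⊗ₜ f)
      rw [d1Star_apply, LinearMap.comp_apply, d1_tmul, one_smul, hf, map_sub, TensorProduct.tmul_sub, map_sub,
        LinearMap.zero_apply, sub_eq_zero] at this
      exact this
    choose s hs using P.toExtension.algebraMap_surjective
    have key : ∀ r, d (s (algebraMap P.toExtension.Ring B r)) = d r := fun r => hd _ _ (hs _)
    have dadd : ∀ x y, d (x + y) = d x + d y := fun x y => by
      simp only [d, map_add, TensorProduct.tmul_add]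
    have dmul : ∀ x y, d (x * y) = algebraMap P.toExtension.Ring B x • d y +
        algebraMap P.toExtension.Ring B y • d x := fun x y => by
      simp only [d]
      rw [Derivation.leibniz, TensorProduct.tmul_add, TensorProduct.tmul_smul, TensorProduct.tmul_smul,
        ← algebraMap_smul B x, ← algebraMap_smul B y ((1 : B) ⊗ₜ[P.toExtension.Ring] KaehlerDifferential.D A P.toExtension.Ring x),
        map_add, map_smul, map_smul]
    let D0 : B →ₗ[A] M :=
      { toFun := fun b => d (s b)
        map_add' := fun b b' => by rw [← dadd]; exact hd _ _ (by rw [map_add, hs, hs, hs])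
        map_smul' := fun a b => by
          rw [RingHom.id_apply, hd (s (a • b)) (algebraMap A P.toExtension.Ring a * s b)
            (by rw [map_mul, hs, hs, ← IsScalarTower.algebraMap_apply, Algebra.smul_def]), dmul]
          simp only [d, Derivation.map_algebraMap, TensorProduct.tmul_zero, map_zero, smul_zero, add_zero,
            ← IsScalarTower.algebraMap_apply]
          rw [algebraMap_smul] }
    let D : Derivation A B M := Derivation.mk' D0 fun b b' => by
      change d (s (b * b')) = b • d (s b') + b' • d (s b)
      rw [hd (s (b * b')) (s b * s b') (by rw [map_mul, hs, hs, hs]), dmul, hs, hs]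
    refine ⟨D, Subtype.ext (P.cotangentSpaceBasis.ext fun i => ?_)⟩
    rw [derToT0_apply, basis_apply, derLift_tmul_D, one_smul]
    exact key _

end Groth.L12.CotTLib
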