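import Groth.Agent.L12.CotTTri
import Groth.Agent.L12.CotTSeq

/-!
# The nine-term sequence of a pair of ring maps
-/

universe u v v' w t w' t' m

open TensorProduct CotT

namespace Groth.L12.CotTLib

section CxR

variable {A : Type u} {B : Type v} {ι : Type w} {σ : Type t}
variable [CommRing A] [CommRing B] [Algebra A B]
variable (P : Algebra.Presentation A B ι σ)
variable (S : Type v') [CommRing S] [Algebra S B]
variable (M : Type m) [AddCommGroup M] [Module B M] [Module S M] [IsScalarTower S B M]

/-- The dual complex over a ring of scalars. -/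
noncomputable def cxR : NineTerm.Cx S (L0 P →ₗ[B] M) (L1 P →ₗ[B] M) (L2 P →ₗ[B] M) (T1 P M) (T2 P M) where
  a := (d1Star P M).restrictScalars S
  b := (d2Star P M).restrictScalars S
  comp x := LinearMap.congr_fun (d2Star_comp_d1Star P M) x
  q1 :=
    { toFun := fun c => Submodule.Quotient.mk (⟨c.1, c.2⟩ : cocycles1 P M)
      map_add' := fun _ _ => rfl
      map_smul' := fun _ _ => rfl }
  q1_surj z := by
    obtain ⟨c, rfl⟩ := Submodule.Quotient.mk_surjective _ z
    exact ⟨⟨c.1, c.2⟩, rfl⟩
  q1_ker c := by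
    change (Submodule.Quotient.mk (⟨c.1, c.2⟩ : cocycles1 P M) : T1 P M) = 0 ↔ _
    rw [Submodule.Quotient.mk_eq_zero]; rfl
  q2 :=
    { toFun := fun c => Submodule.Quotient.mk c
      map_add' := fun _ _ => rfl
      map_smul' := fun _ _ => rfl }
  q2_surj := Submodule.Quotient.mk_surjective _
  q2_ker c := by
    change (Submodule.Quotient.mk c : T2 P M) = 0 ↔ _
    rw [Submodule.Quotient.mk_eq_zero]; rfl

end CxR

variable {A : Type u} {B : Type v} {C : Type v'} {ι : Type w} {σ : Type t} {ι' : Type w'} {σ' : Type t'}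
variable [CommRing A] [CommRing B] [CommRing C] [Algebra A B] [Algebra B C] [Algebra A C] [IsScalarTower A B C]
variable (Q : Algebra.Presentation B C ι' σ') (P : Algebra.Presentation A B ι σ)
variable (M : Type m) [AddCommGroup M] [Module C M] [Module B M] [IsScalarTower B C M]

/-- the morphism given by `α` -/
noncomputable def alphaMor : NineTerm.Mor (cxR (Q.comp P) B M) (cxR P B M) where
  m0 := (alpha Q P).pull0 M
  m1 := (alpha Q P).pull1 M
  m2 := (alpha Q P).pull2 M
  comm_a := (alpha Q P).pull1_d1Star M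
  comm_b := (alpha Q P).pull2_d2Star M
  h0 :=
    { toFun := fun x => ⟨(alpha Q P).pull0 M x.1, ((alpha Q P).T0pull M ⟨x.1, x.2⟩).2⟩
      map_add' := fun x y => Subtype.ext (map_add ((alpha Q P).pull0 M) x.1 y.1)
      map_smul' := fun b x => Subtype.ext (map_smul ((alpha Q P).pull0 M) b x.1) }
  h0_coe _ := rfl
  h1 := (alpha Q P).T1pull M
  h1_q c d h := (T1pull_mk M (alpha Q P) ⟨c.1, c.2⟩).trans (congrArg Submodule.Quotient.mk (Subtype.ext h.symm))
  h2 := (alpha Q P).T2pull M
  h2_q c := T2pull_mk M (alpha Q P) c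

/-- the morphism given by `β` -/
noncomputable def betaMor : NineTerm.Mor (cxR Q B M) (cxR (Q.comp P) B M) where
  m0 := ((beta Q P).pull0 M).restrictScalars B
  m1 := ((beta Q P).pull1 M).restrictScalars B
  m2 := ((beta Q P).pull2 M).restrictScalars B
  comm_a := (beta Q P).pull1_d1Star M
  comm_b := (beta Q P).pull2_d2Star M
  h0 :=
    { toFun := fun x => ⟨(beta Q P).pull0 M x.1, ((beta Q P).T0pull M ⟨x.1, x.2⟩).2⟩
      map_add' := fun x y => Subtype.ext (map_add ((beta Q P).pull0 M) x.1 y.1)
      map_smul' := fun b x => Subtype.ext (map_smul (((beta Q P).pull0 M).restrictScalars B) b x.1) }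
  h0_coe _ := rfl
  h1 := ((beta Q P).T1pull M).restrictScalars B
  h1_q c d h := (T1pull_mk M (beta Q P) ⟨c.1, c.2⟩).trans (congrArg Submodule.Quotient.mk (Subtype.ext h.symm))
  h2 := ((beta Q P).T2pull M).restrictScalars B
  h2_q c := T2pull_mk M (beta Q P) c

lemma alpha_L0map_basis (i : ι) :
    (alpha Q P).L0map (P.cotangentSpaceBasis i) = (Q.comp P).cotangentSpaceBasis (Sum.inr i) := by
  rw [PresHom.L0map_apply, basis_apply, basis_apply, Algebra.Extension.CotangentSpace.map_tmul, map_one]
  congr 2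
  exact (alpha_ringHom Q P _).trans (MvPolynomial.rename_X _ _)

lemma beta_L0map_inl (j : ι') :
    (beta Q P).L0map ((Q.comp P).cotangentSpaceBasis (Sum.inl j)) = Q.cotangentSpaceBasis j := by
  rw [PresHom.L0map_apply, basis_apply, basis_apply, Algebra.Extension.CotangentSpace.map_tmul, map_one]
  congr 2
  exact (betaHom_apply Q P _).trans (MvPolynomial.aeval_X _ _)

lemma beta_L0map_inr (i : ι) :
    (beta Q P).L0map ((Q.comp P).cotangentSpaceBasis (Sum.inr i)) = 0 := by
  rw [PresHom.L0map_apply, basis_apply, Algebra.Extension.CotangentSpace.map_tmul]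
  have h : (beta Q P).ringHom (MvPolynomial.X (Sum.inr i)) = algebraMap B Q.toExtension.Ring (P.val i) :=
    (betaHom_apply Q P _).trans (MvPolynomial.aeval_X _ _)
  change (algebraMap C C 1) ⊗ₜ KaehlerDifferential.D B Q.toExtension.Ring ((beta Q P).ringHom (MvPolynomial.X (Sum.inr i))) = _
  rw [h, Derivation.map_algebraMap, TensorProduct.tmul_zero]

lemma alpha_L1map_basis (s : σ) : (alpha Q P).L1map (L1basis P s) = L1basis (Q.comp P) (Sum.inr s) := by
  rw [L1basis_apply, L1basis_apply, PresHom.L1map_tmul, map_one, PresHom.relModMap_single, map_one, one_smul]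
  rfl

lemma beta_L1map_inl (s : σ') : (beta Q P).L1map (L1basis (Q.comp P) (Sum.inl s)) = L1basis Q s := by
  rw [L1basis_apply, L1basis_apply, PresHom.L1map_tmul, map_one, PresHom.relModMap_single, map_one, one_smul]
  rfl

lemma beta_L1map_inr (s : σ) : (beta Q P).L1map (L1basis (Q.comp P) (Sum.inr s)) = 0 := by
  rw [L1basis_apply, PresHom.L1map_tmul, PresHom.relModMap_single]
  simp only [map_one, one_smul]
  exact TensorProduct.tmul_zero _ _

theorem nine_term :
    Function.Injective ((beta Q P).T0pull M) ∧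
    Function.Exact ((beta Q P).T0pull M) ((alpha Q P).T0pull M) ∧
    Function.Exact ((beta Q P).T1pull M) ((alpha Q P).T1pull M) ∧
    Function.Exact ((beta Q P).T2pull M) ((alpha Q P).T2pull M) ∧
    ∃ (δ₀ : T0 P M →+ T1 Q M) (δ₁ : T1 P M →+ T2 Q M),
      Function.Exact ((alpha Q P).T0pull M) δ₀ ∧ Function.Exact δ₀ ((beta Q P).T1pull M) ∧
      Function.Exact ((alpha Q P).T1pull M) δ₁ ∧ Function.Exact δ₁ ((beta Q P).T2pull M) := by
  have b0 := (Q.comp P).cotangentSpaceBasis
  have i0 : Function.Injective (betaMor Q P M).m0 := fun φ ψ h => Q.cotangentSpaceBasis.ext fun j => by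
    rw [← beta_L0map_inl Q P j]
    exact LinearMap.congr_fun h _
  have i1 : Function.Injective (betaMor Q P M).m1 := fun φ ψ h => (L1basis Q).ext fun j => by
    rw [← beta_L1map_inl Q P j]
    exact LinearMap.congr_fun h _
  have i2 : Function.Injective (betaMor Q P M).m2 := fun φ ψ h => LinearMap.ext fun z => by
    obtain ⟨w, rfl⟩ := L2map_beta_surjective Q P z
    exact LinearMap.congr_fun h w
  have e0 : Function.Exact (betaMor Q P M).m0 (alphaMor Q P M).m0 := by
    intro φ
    refine ⟨fun h => ?_, ?_⟩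
    · let ψ0 : L0 Q →ₗ[C] M := Q.cotangentSpaceBasis.constr C fun j => φ ((Q.comp P).cotangentSpaceBasis (Sum.inl j))
      refine ⟨ψ0, (Q.comp P).cotangentSpaceBasis.ext ?_⟩
      rintro (j | i)
      · exact (congrArg ψ0 (beta_L0map_inl Q P j)).trans (Q.cotangentSpaceBasis.constr_basis C _ j)
      · refine (congrArg ψ0 (beta_L0map_inr Q P i)).trans ((map_zero ψ0).trans ?_)
        rw [← alpha_L0map_basis Q P i]
        exact (LinearMap.congr_fun h (P.cotangentSpaceBasis i)).symm
    · rintro ⟨ψ, rfl⟩
      refine P.cotangentSpaceBasis.ext fun i => ?_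
      change ψ ((beta Q P).L0map ((alpha Q P).L0map (P.cotangentSpaceBasis i))) = 0
      rw [alpha_L0map_basis, beta_L0map_inr, map_zero]
  have e1 : Function.Exact (betaMor Q P M).m1 (alphaMor Q P M).m1 := by
    intro φ
    refine ⟨fun h => ?_, ?_⟩
    · let ψ1 : L1 Q →ₗ[C] M := (L1basis Q).constr C fun j => φ (L1basis (Q.comp P) (Sum.inl j))
      refine ⟨ψ1, (L1basis (Q.comp P)).ext ?_⟩
      rintro (j | i)
      · exact (congrArg ψ1 (beta_L1map_inl Q P j)).trans ((L1basis Q).constr_basis C _ j)
      · refine (congrArg ψ1 (beta_L1map_inr Q P i)).trans ((map_zero ψ1).trans ?_)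
        rw [← alpha_L1map_basis Q P i]
        exact (LinearMap.congr_fun h (L1basis P i)).symm
    · rintro ⟨ψ, rfl⟩
      refine (L1basis P).ext fun i => ?_
      change ψ ((beta Q P).L1map ((alpha Q P).L1map (L1basis P i))) = 0
      rw [alpha_L1map_basis, beta_L1map_inr, map_zero]
  have e2 : Function.Exact (betaMor Q P M).m2 (alphaMor Q P M).m2 := by
    intro φ
    refine ⟨fun h => ?_, ?_⟩
    · let L : L2 (Q.comp P) →ₗ[C] L2 Q := PresHom.linOfSemilinear (L2 Q) (beta Q P).L2map
      have hL : Function.Surjective L := L2map_beta_surjective Q P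
      have hk : LinearMap.ker L ≤ LinearMap.ker φ := fun w hw => by
        have h1 := L2map_beta_eq_zero Q P w hw
        refine Submodule.span_le.2 ?_ h1
        rintro _ ⟨z, rfl⟩
        exact LinearMap.congr_fun h z
      refine ⟨(Submodule.liftQ _ φ hk) ∘ₗ (L.quotKerEquivOfSurjective hL).symm.toLinearMap, LinearMap.ext fun w => ?_⟩
      change (Submodule.liftQ _ φ hk) ((L.quotKerEquivOfSurjective hL).symm (L w)) = φ w
      rw [show (L.quotKerEquivOfSurjective hL).symm (L w) = Submodule.Quotient.mk w by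
        rw [LinearEquiv.symm_apply_eq]; rfl]
      rfl
    · rintro ⟨ψ, rfl⟩
      refine L2_hom_ext P fun q => ?_
      change ψ ((beta Q P).L2map ((alpha Q P).L2map (relClass P q))) = 0
      rw [L2map_relClass, L2map_relClass, relClass_eq_zero Q, map_zero]
      rw [PresHom.relKerMap_coe, PresHom.relKerMap_coe]
      have : (beta Q P).relModMap ((alpha Q P).relModMap (q : relMod P)) = 0 := Finsupp.ext fun t => by
        rw [beta_relModMap_apply]
        have h0 : (alpha Q P).relModMap (q : relMod P) (Sum.inl t) = 0 := by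
          induction (q : relMod P) using Finsupp.induction_linear with
          | zero => simp
          | add f g hf hg => rw [map_add, Finsupp.add_apply, hf, hg, add_zero]
          | single s a =>
            rw [PresHom.relModMap_single]
            change ((alpha Q P).ringHom a • Finsupp.single (Sum.inr s) (1 : (Q.comp P).toExtension.Ring)) (Sum.inl t) = 0
            simp
        rw [h0, map_zero, Finsupp.zero_apply]
      rw [this]
      exact zero_mem _
  have s0 : Function.Surjective (alphaMor Q P M).m0 := fun φ =>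
    ⟨(Q.comp P).cotangentSpaceBasis.constr C (Sum.elim 0 fun i => φ (P.cotangentSpaceBasis i)),
      P.cotangentSpaceBasis.ext fun i => (congrArg _ (alpha_L0map_basis Q P i)).trans
        ((Q.comp P).cotangentSpaceBasis.constr_basis C _ (Sum.inr i))⟩
  have s1 : Function.Surjective (alphaMor Q P M).m1 := fun φ =>
    ⟨(L1basis (Q.comp P)).constr C (Sum.elim 0 fun i => φ (L1basis P i)),
      (L1basis P).ext fun i => (congrArg _ (alpha_L1map_basis Q P i)).trans
        ((L1basis (Q.comp P)).constr_basis C _ (Sum.inr i))⟩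
  obtain ⟨hinj, h00, h11, h22, δ₀, δ₁, a1, a2, a3, a4⟩ :=
    NineTerm.nine (betaMor Q P M) (alphaMor Q P M) i0 i1 i2 e0 e1 e2 s0 s1
  exact ⟨hinj, h00, h11, h22, δ₀.toAddMonoidHom, δ₁.toAddMonoidHom, a1, a2, a3, a4⟩

end Groth.L12.CotTLib
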