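import Groth.Agent.L12.CotTNine

/-!
# The nine-term sequence for the choice-free presentations
-/

universe u m

open TensorProduct CotT

namespace Groth.L12.CotTLib

theorem exact_transfer {W X X' Y : Type*} [Zero X] [Zero X'] [Zero Y] (e : X → X')
    (he : Function.Bijective e) {f : W → X} {g : X → Y} {f' : W → X'} {g' : X' → Y}
    (hf : ∀ a, f' a = e (f a)) (hg : ∀ b, g b = g' (e b)) (h : Function.Exact f g) :
    Function.Exact f' g' := by
  intro y
  obtain ⟨b, rfl⟩ := he.2 y
  rw [← hg, h b]
  constructor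
  · rintro ⟨a, rfl⟩; exact ⟨a, hf a⟩
  · rintro ⟨a, ha⟩; exact ⟨a, he.1 ((hf a).symm.trans ha)⟩

theorem exact_transfer_right {W X Y Y' : Type*} [Zero Y] [Zero Y'] {f : W → X} {g : X → Y} {g' : X → Y'}
    (e : Y → Y') (he : Function.Injective e) (h0 : e 0 = 0) (hg : ∀ b, g' b = e (g b)) (h : Function.Exact f g) :
    Function.Exact f g' := by
  intro y
  rw [hg, ← h y]
  exact ⟨fun h' => he (h'.trans h0.symm), fun h' => by rw [h', h0]⟩

theorem exact_transfer_left {W W' X Y : Type*} [Zero Y] {f : W → X} {f' : W' → X} {g : X → Y}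
    (e : W → W') (he : Function.Surjective e) (hf : ∀ a, f a = f' (e a)) (h : Function.Exact f g) :
    Function.Exact f' g := by
  intro y
  rw [h y]
  constructor
  · rintro ⟨a, rfl⟩; exact ⟨e a, (hf a).symm⟩
  · rintro ⟨a, rfl⟩; obtain ⟨a, rfl⟩ := he a; exact ⟨a, hf a⟩

variable (A B C : Type u) [CommRing A] [CommRing B] [CommRing C] [Algebra A B] [Algebra B C] [Algebra A C]
  [IsScalarTower A B C] (M : Type u) [AddCommGroup M] [Module C M] [Module B M] [IsScalarTower B C M]

theorem nine_term_canon :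
    Function.Injective ((canonHom A C B C).T0pull M) ∧
    Function.Exact ((canonHom A C B C).T0pull M) ((canonHom A B A C).T0pull M) ∧
    Function.Exact ((canonHom A C B C).T1pull M) ((canonHom A B A C).T1pull M) ∧
    Function.Exact ((canonHom A C B C).T2pull M) ((canonHom A B A C).T2pull M) ∧
    ∃ (δ₀ : T0 (canon A B) M →+ T1 (canon B C) M)
      (δ₁ : T1 (canon A B) M →+ T2 (canon B C) M),
      Function.Exact ((canonHom A B A C).T0pull M) δ₀ ∧ Function.Exact δ₀ ((canonHom A C B C).T1pull M) ∧
      Function.Exact ((canonHom A B A C).T1pull M) δ₁ ∧ Function.Exact δ₁ ((canonHom A C B C).T2pull M) := by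
  obtain ⟨k⟩ := nonempty_presHom (canon A C) ((canon B C).comp (canon A B))
  obtain ⟨hinj, h0, h1, h2, δ₀, δ₁, a1, a2, a3, a4⟩ := nine_term (canon B C) (canon A B) M
  have b0 : ∀ a, (canonHom A C B C).T0pull M a = k.T0pull M ((beta (canon B C) (canon A B)).T0pull M a) :=
    fun a => T0pull_comp M (beta (canon B C) (canon A B)) k _ a
  have b1 : ∀ a, (canonHom A C B C).T1pull M a = k.T1pull M ((beta (canon B C) (canon A B)).T1pull M a) :=
    fun a => T1pull_comp M (beta (canon B C) (canon A B)) k _ a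
  have b2 : ∀ a, (canonHom A C B C).T2pull M a = k.T2pull M ((beta (canon B C) (canon A B)).T2pull M a) :=
    fun a => T2pull_comp M (beta (canon B C) (canon A B)) k _ a
  have c0 : ∀ a, (alpha (canon B C) (canon A B)).T0pull M a = (canonHom A B A C).T0pull M (k.T0pull M a) :=
    fun a => T0pull_comp M k (canonHom A B A C) _ a
  have c1 : ∀ a, (alpha (canon B C) (canon A B)).T1pull M a = (canonHom A B A C).T1pull M (k.T1pull M a) :=
    fun a => T1pull_comp M k (canonHom A B A C) _ a
  have c2 : ∀ a, (alpha (canon B C) (canon A B)).T2pull M a = (canonHom A B A C).T2pull M (k.T2pull M a) :=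
    fun a => T2pull_comp M k (canonHom A B A C) _ a
  have k0 := T0pull_bijective M k
  have k1 := T1pull_bijective M k
  have k2 := T2pull_bijective M k
  refine ⟨?_, exact_transfer _ k0 b0 c0 h0, exact_transfer _ k1 b1 c1 h1, exact_transfer _ k2 b2 c2 h2,
    δ₀, δ₁, exact_transfer_left _ k0.2 c0 a1, ?_, exact_transfer_left _ k1.2 c1 a3, ?_⟩
  · intro x y hxy
    rw [b0, b0] at hxy
    exact hinj (k0.1 hxy)
  · exact exact_transfer_right _ k1.1 (map_zero _) b1 a2
  · exact exact_transfer_right _ k2.1 (map_zero _) b2 a4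

end Groth.L12.CotTLib
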