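import Groth.Agent.L12.CotTKoszul

/-!
# The composite presentation
-/

universe u v v' w t w' t' m

open TensorProduct CotT

namespace Groth.L12.CotTLib

variable {A : Type u} {B : Type v} {C : Type v'} {ι : Type w} {σ : Type t} {ι' : Type w'} {σ' : Type t'}
variable [CommRing A] [CommRing B] [CommRing C] [Algebra A B] [Algebra B C] [Algebra A C] [IsScalarTower A B C]
variable (Q : Algebra.Presentation B C ι' σ') (P : Algebra.Presentation A B ι σ)

/-- variables to variables -/
noncomputable def alphaHom : Algebra.Generators.Hom P.toGenerators (Q.comp P).toGenerators :=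
  Q.toGenerators.toComp P.toGenerators

/-- the evaluation of the variables of `P` -/
noncomputable def betaHom : Algebra.Generators.Hom (Q.comp P).toGenerators Q.toGenerators :=
  Q.toGenerators.ofComp P.toGenerators

lemma alphaHom_apply (x : MvPolynomial ι A) :
    (alphaHom Q P).toAlgHom x = MvPolynomial.rename (R := A) (Sum.inr : ι → ι' ⊕ ι) x :=
  DFunLike.congr_fun (MvPolynomial.algHom_ext (fun i => by
    rw [MvPolynomial.rename_X]; exact MvPolynomial.aeval_X _ i) :
    (alphaHom Q P).toAlgHom = MvPolynomial.rename (R := A) (Sum.inr : ι → ι' ⊕ ι)) x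

/-- `P → Q ∘ P` -/
noncomputable def alpha : PresHom P (Q.comp P) where
  hom := alphaHom Q P
  relVal s := Finsupp.single (Sum.inr s) 1
  jmap_relVal s := by
    rw [jmap_single, one_mul]
    exact (alphaHom_apply Q P (P.relation s)).symm

lemma betaHom_apply (x : MvPolynomial (ι' ⊕ ι) A) :
    (betaHom Q P).toAlgHom x =
      MvPolynomial.aeval (R := A) (Sum.elim MvPolynomial.X (MvPolynomial.C ∘ P.val) : ι' ⊕ ι → MvPolynomial ι' B) x :=
  DFunLike.congr_fun (MvPolynomial.algHom_ext (fun i => by
    rw [MvPolynomial.aeval_X]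
    refine (MvPolynomial.aeval_X _ i).trans ?_
    cases i <;> rfl) :
    (betaHom Q P).toAlgHom =
      MvPolynomial.aeval (R := A) (Sum.elim MvPolynomial.X (MvPolynomial.C ∘ P.val) : ι' ⊕ ι → MvPolynomial ι' B)) x

lemma ofComp_rename (x : MvPolynomial ι A) :
    (betaHom Q P).toAlgHom (MvPolynomial.rename Sum.inr x) = MvPolynomial.C (MvPolynomial.aeval P.val x) := by
  rw [betaHom_apply, MvPolynomial.aeval_rename, Sum.elim_comp_inr]
  have : MvPolynomial.aeval (R := A) ((MvPolynomial.C : B →+* MvPolynomial ι' B) ∘ P.val) =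
      (IsScalarTower.toAlgHom A B (MvPolynomial ι' B)).comp (MvPolynomial.aeval P.val) :=
    MvPolynomial.algHom_ext fun i => by simp
  exact DFunLike.congr_fun this x

lemma relation_mem (s : σ) : MvPolynomial.aeval P.val (P.relation s) = 0 :=
  (algebraMap_toExtension P _).symm.trans (algebraMap_rel P s)

/-- `Q ∘ P → Q` -/
noncomputable def beta : PresHom (Q.comp P) Q where
  hom := betaHom Q P
  relVal := Sum.elim (fun t => Finsupp.single t 1) 0
  jmap_relVal := by
    rintro (t | s)
    · simp only [Sum.elim_inl, jmap_single, one_mul]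
      exact ((betaHom_apply Q P _).trans (Q.comp_aeval_relation_inl P t)).symm
    · rw [Sum.elim_inr, Pi.zero_apply, map_zero]
      refine Eq.symm ((ofComp_rename Q P (P.relation s)).trans ?_)
      rw [relation_mem, map_zero]
      rfl

lemma alpha_ringHom (x : P.toExtension.Ring) :
    (alpha Q P).ringHom x = MvPolynomial.rename (R := A) (Sum.inr : ι → ι' ⊕ ι) x :=
  alphaHom_apply Q P x

lemma beta_surjective : Function.Surjective (beta Q P).ringHom := by
  intro p
  induction p using ring_induction Q with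
  | hC b =>
    obtain ⟨r, rfl⟩ := P.toExtension.algebraMap_surjective b
    refine ⟨MvPolynomial.rename Sum.inr r, ?_⟩
    rw [algebraMap_toExtension]
    exact ofComp_rename Q P r
  | hadd p q hp hq =>
    obtain ⟨a, rfl⟩ := hp
    obtain ⟨b, rfl⟩ := hq
    exact ⟨a + b, map_add _ _ _⟩
  | hX p i hp =>
    obtain ⟨a, rfl⟩ := hp
    refine ⟨@HMul.hMul (Q.comp P).toExtension.Ring (Q.comp P).toExtension.Ring (Q.comp P).toExtension.Ring _ a
      (MvPolynomial.X (Sum.inl i)), ?_⟩
    rw [map_mul]
    exact congrArg (@HMul.hMul Q.toExtension.Ring Q.toExtension.Ring Q.toExtension.Ring _ _)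
      ((betaHom_apply Q P _).trans (MvPolynomial.aeval_X _ _))

lemma beta_ringHom_rename (x : MvPolynomial ι A) :
    (beta Q P).ringHom (MvPolynomial.rename Sum.inr x) = MvPolynomial.C (MvPolynomial.aeval P.val x) :=
  ofComp_rename Q P x

lemma beta_ker {x : (Q.comp P).toExtension.Ring} (hx : (beta Q P).ringHom x = 0) :
    x ∈ Ideal.span (Set.range fun s => rel (Q.comp P) (Sum.inr s)) := by
  set K : Ideal (Q.comp P).toExtension.Ring := Ideal.span (Set.range fun s => rel (Q.comp P) (Sum.inr s))
  let g : P.toExtension.Ring →+* (Q.comp P).toExtension.Ring ⧸ K :=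
    (Ideal.Quotient.mk K).comp (MvPolynomial.rename (R := A) (Sum.inr : ι → ι' ⊕ ι)).toRingHom
  have hg : RingHom.ker (algebraMap P.toExtension.Ring B) ≤ RingHom.ker g := by
    have h1 : RingHom.ker (algebraMap P.toExtension.Ring B) = Ideal.span (Set.range (rel P)) :=
      P.span_range_relation_eq_ker.symm
    rw [h1, Ideal.span_le]
    rintro _ ⟨s, rfl⟩
    exact Ideal.Quotient.eq_zero_iff_mem.2 (Ideal.subset_span ⟨s, rfl⟩)
  let gB : B →+* (Q.comp P).toExtension.Ring ⧸ K :=
    RingHom.liftOfSurjective (algebraMap P.toExtension.Ring B) P.toExtension.algebraMap_surjective ⟨g, hg⟩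
  have hgB : ∀ r, gB (algebraMap P.toExtension.Ring B r) = g r := fun r =>
    RingHom.liftOfRightInverse_comp_apply _ _ _ _ r
  let ψ : Q.toExtension.Ring →+* (Q.comp P).toExtension.Ring ⧸ K :=
    MvPolynomial.eval₂Hom gB fun j => Ideal.Quotient.mk K (MvPolynomial.X (Sum.inl j))
  have hψC : ∀ b, ψ (MvPolynomial.C b) = gB b := fun b => MvPolynomial.eval₂Hom_C _ _ b
  have hψ : ψ.comp (beta Q P).ringHom = Ideal.Quotient.mk K := by
    refine ringHom_ext (Q.comp P) (fun a => ?_) fun i => ?_
    · have h1 := beta_ringHom_rename Q P (MvPolynomial.C a)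
      rw [MvPolynomial.rename_C] at h1
      refine (congrArg ψ h1).trans ?_
      rw [hψC, ← algebraMap_toExtension, hgB]
      exact congrArg (Ideal.Quotient.mk K) (MvPolynomial.rename_C _ a)
    · cases i with
      | inl j =>
        refine (congrArg ψ ((betaHom_apply Q P _).trans (MvPolynomial.aeval_X _ _))).trans ?_
        exact MvPolynomial.eval₂Hom_X' _ _ j
      | inr i =>
        have h1 := beta_ringHom_rename Q P (MvPolynomial.X i)
        rw [MvPolynomial.rename_X] at h1
        refine (congrArg ψ h1).trans ?_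
        rw [hψC, ← algebraMap_toExtension, hgB]
        exact congrArg (Ideal.Quotient.mk K) (MvPolynomial.rename_X _ i)
  have h2 := RingHom.congr_fun hψ x
  rw [RingHom.comp_apply, hx, map_zero] at h2
  exact Ideal.Quotient.eq_zero_iff_mem.1 h2.symm

/-- the relations coming from `P` -/
noncomputable def emb : (σ →₀ (Q.comp P).toExtension.Ring) →ₗ[(Q.comp P).toExtension.Ring] Gq (Q.comp P) :=
  (trivRel (Q.comp P)).mkQ ∘ₗ Finsupp.lmapDomain _ _ Sum.inr

lemma emb_single (s : σ) (a : (Q.comp P).toExtension.Ring) :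
    emb Q P (Finsupp.single s a) = a • Submodule.Quotient.mk (Finsupp.single (Sum.inr s) 1) := by
  rw [emb, LinearMap.comp_apply, Finsupp.lmapDomain_apply, Finsupp.mapDomain_single, Submodule.mkQ_apply,
    ← Submodule.Quotient.mk_smul, Finsupp.smul_single, smul_eq_mul, mul_one]

lemma gj_emb (b : σ →₀ (Q.comp P).toExtension.Ring) :
    gj (Q.comp P) (emb Q P b) = b.sum fun s a => a * rel (Q.comp P) (Sum.inr s) := by
  induction b using Finsupp.induction_linear with
  | zero => simp
  | add f g hf hg =>
    rw [map_add, map_add, hf, hg, Finsupp.sum_add_index' (fun _ => zero_mul _) (fun _ _ _ => add_mul _ _ _)]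
  | single s a =>
    rw [emb_single, map_smul, gj_mk, jmap_single, one_mul, smul_eq_mul, Finsupp.sum_single_index (zero_mul _)]

lemma beta_relModMap_single_inl (t : σ') (a : (Q.comp P).toExtension.Ring) :
    (beta Q P).relModMap (Finsupp.single (Sum.inl t) a) = (beta Q P).ringHom a • Finsupp.single t 1 :=
  (beta Q P).relModMap_single _ _

lemma beta_relModMap_apply (f : relMod (Q.comp P)) (t : σ') :
    (beta Q P).relModMap f t = (beta Q P).ringHom (f (Sum.inl t)) := by
  classical
  induction f using Finsupp.induction_linear with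
  | zero => simp
  | add f g hf hg => simp [hf, hg]
  | single i a =>
    rw [PresHom.relModMap_single]
    cases i with
    | inl t' =>
      change ((beta Q P).ringHom a • Finsupp.single t' (1 : Q.toExtension.Ring)) t = _
      rw [Finsupp.smul_single, smul_eq_mul, mul_one, Finsupp.single_apply, Finsupp.single_apply]
      simp only [Sum.inl.injEq]
      split_ifs <;> simp
    | inr s =>
      change ((beta Q P).ringHom a • (0 : relMod Q)) t = _
      simp

lemma beta_relModMap_surjective : Function.Surjective (beta Q P).relModMap := fun f => by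
  induction f using Finsupp.induction_linear with
  | zero => exact ⟨0, map_zero _⟩
  | add f g hf hg =>
    obtain ⟨a, rfl⟩ := hf
    obtain ⟨b, rfl⟩ := hg
    exact ⟨a + b, map_add _ _ _⟩
  | single t p =>
    obtain ⟨a, rfl⟩ := beta_surjective Q P p
    exact ⟨Finsupp.single (Sum.inl t) a, (beta_relModMap_single_inl Q P t a).trans
      (by rw [Finsupp.smul_single, smul_eq_mul, mul_one])⟩

lemma exists_lift_trivRel {y : relMod Q} (hy : y ∈ trivRel Q) :
    ∃ z ∈ trivRel (Q.comp P), (beta Q P).relModMap z = y := by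
  induction hy using Submodule.span_induction with
  | mem y hy =>
    obtain ⟨a, b, rfl⟩ := hy
    obtain ⟨a, rfl⟩ := beta_relModMap_surjective Q P a
    obtain ⟨b, rfl⟩ := beta_relModMap_surjective Q P b
    exact ⟨_, Submodule.subset_span ⟨a, b, rfl⟩, by
      rw [map_sub, LinearMap.map_smulₛₗ, LinearMap.map_smulₛₗ, PresHom.jmap_relModMap, PresHom.jmap_relModMap]⟩
  | zero => exact ⟨0, zero_mem _, map_zero _⟩
  | add u v _ _ hu hv =>
    obtain ⟨a, ha, rfl⟩ := hu
    obtain ⟨b, hb, rfl⟩ := hv
    exact ⟨a + b, add_mem ha hb, map_add _ _ _⟩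
  | smul r u _ hu =>
    obtain ⟨a, ha, rfl⟩ := hu
    obtain ⟨r, rfl⟩ := beta_surjective Q P r
    exact ⟨r • a, Submodule.smul_mem _ _ ha, LinearMap.map_smulₛₗ _ _ _⟩

lemma mem_range_emb (f : relMod (Q.comp P)) (hf : (beta Q P).relModMap f = 0) :
    (Submodule.Quotient.mk f : Gq (Q.comp P)) ∈ LinearMap.range (emb Q P) := by
  rw [mk_eq_sum]
  refine Submodule.sum_mem _ fun i _ => ?_
  cases i with
  | inr s => exact ⟨Finsupp.single s (f (Sum.inr s)), emb_single Q P s _⟩
  | inl t =>
    have h0 : (beta Q P).ringHom (f (Sum.inl t)) = 0 := by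
      rw [← beta_relModMap_apply, hf, Finsupp.zero_apply]
    have h1 := beta_ker Q P h0
    clear h0
    generalize f (Sum.inl t) = a at h1 ⊢
    induction h1 using Submodule.span_induction with
    | mem x hx =>
      obtain ⟨s, rfl⟩ := hx
      refine ⟨Finsupp.single s (rel (Q.comp P) (Sum.inl t)), ?_⟩
      have h2 := gj_comm (Q.comp P) (Submodule.Quotient.mk (Finsupp.single (Sum.inl t) 1))
        (Submodule.Quotient.mk (Finsupp.single (Sum.inr s) 1))
      rw [gj_mk, gj_mk, jmap_single, jmap_single, one_mul, one_mul] at h2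
      rw [emb_single, h2]
    | zero => rw [zero_smul]; exact zero_mem _
    | add a b _ _ ha hb => rw [add_smul]; exact add_mem ha hb
    | smul r a _ ha => rw [smul_eq_mul, mul_smul]; exact Submodule.smul_mem _ r ha

/-- Relations among the relations of `P` over `A[Y, X]` are combinations of those over `A[X]`. -/
lemma emb_mem_span (b : σ →₀ (Q.comp P).toExtension.Ring)
    (hb : (b.sum fun s a => a * rel (Q.comp P) (Sum.inr s)) = 0) :
    emb Q P b ∈ Submodule.span (Q.comp P).toExtension.Ring
      (Set.range fun q : relKer P => (Submodule.Quotient.mk ((alpha Q P).relModMap (q : relMod P)) : Gq (Q.comp P))) := by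
  classical
  let e : MvPolynomial (ι' ⊕ ι) A ≃ₐ[A] MvPolynomial ι' (MvPolynomial ι A) := MvPolynomial.sumAlgEquiv A ι' ι
  let Bs : σ → MvPolynomial ι' (MvPolynomial ι A) := fun s => e (b s)
  have hren : ∀ r : MvPolynomial ι A, e (MvPolynomial.rename Sum.inr r) = MvPolynomial.C r := by
    intro r
    have : e.toAlgHom.comp (MvPolynomial.rename Sum.inr) =
        IsScalarTower.toAlgHom A (MvPolynomial ι A) (MvPolynomial ι' (MvPolynomial ι A)) :=
      MvPolynomial.algHom_ext fun i => by simp [e]
    exact DFunLike.congr_fun this r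
  let M : Finset (ι' →₀ ℕ) := b.support.biUnion fun s => (Bs s).support
  let q : (ι' →₀ ℕ) → relMod P := fun m => ∑ s ∈ b.support, Finsupp.single s ((Bs s).coeff m)
  have hq : ∀ m, jmap P (q m) = 0 := fun m => by
    have h0 : (∑ s ∈ b.support, Bs s * MvPolynomial.C (P.relation s)).coeff m = 0 := by
      have h1 : e (b.sum fun s a => a * rel (Q.comp P) (Sum.inr s)) = 0 := (congrArg e hb).trans (map_zero e)
      rw [show (∑ s ∈ b.support, Bs s * MvPolynomial.C (P.relation s)) = 0 from by
        refine Eq.trans ?_ h1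
        rw [Finsupp.sum]
        refine Eq.trans ?_ (map_sum e _ b.support).symm
        refine Finset.sum_congr rfl fun s _ => ?_
        rw [← hren]
        exact (map_mul e (b s) (MvPolynomial.rename Sum.inr (P.relation s))).symm]
      exact MvPolynomial.coeff_zero m
    rw [MvPolynomial.coeff_sum] at h0
    rw [map_sum]
    refine Eq.trans (Finset.sum_congr rfl fun s _ => ?_) h0
    rw [jmap_single, mul_comm (Bs s), MvPolynomial.coeff_C_mul, mul_comm (P.relation s)]
    rfl
  let Ym : (ι' →₀ ℕ) → (Q.comp P).toExtension.Ring := fun m => e.symm (MvPolynomial.monomial m 1)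
  have hdec : ∀ s ∈ b.support, b s = ∑ m ∈ M, Ym m * (alpha Q P).ringHom ((Bs s).coeff m) := fun s hs => by
    have h1 : Bs s = ∑ m ∈ M, MvPolynomial.monomial m 1 * MvPolynomial.C ((Bs s).coeff m) := by
      conv_lhs => rw [← (Bs s).support_sum_monomial_coeff]
      refine (Finset.sum_subset (Finset.subset_biUnion_of_mem (fun s => (Bs s).support) hs) fun m _ hm => by
        rw [MvPolynomial.notMem_support_iff.1 hm, map_zero]).trans ?_
      exact Finset.sum_congr rfl fun m _ => by rw [mul_comm, MvPolynomial.C_mul_monomial, mul_one]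
    have h2 := congrArg e.symm h1
    rw [show e.symm (Bs s) = b s from e.symm_apply_apply (b s), map_sum] at h2
    refine h2.trans (Finset.sum_congr rfl fun m _ => ?_)
    rw [map_mul, ← hren, e.symm_apply_apply, alpha_ringHom]
    rfl
  have hfin : emb Q P b =
      ∑ m ∈ M, Ym m • (Submodule.Quotient.mk ((alpha Q P).relModMap (q m)) : Gq (Q.comp P)) := by
    conv_lhs => rw [← Finsupp.sum_single b, Finsupp.sum, map_sum]
    have hmk : ∀ m, (Submodule.Quotient.mk ((alpha Q P).relModMap (q m)) : Gq (Q.comp P)) =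
        ∑ s ∈ b.support, (alpha Q P).ringHom ((Bs s).coeff m) • Submodule.Quotient.mk (Finsupp.single (Sum.inr s) 1) := by
      intro m
      rw [map_sum, ← Submodule.mkQ_apply, map_sum]
      refine Finset.sum_congr rfl fun s _ => ?_
      rw [PresHom.relModMap_single, map_smul]
      rfl
    simp only [hmk, Finset.smul_sum, smul_smul]
    rw [Finset.sum_comm]
    refine Finset.sum_congr rfl fun s hs => ?_
    rw [emb_single, hdec s hs, Finset.sum_smul]
  rw [hfin]
  exact Submodule.sum_mem _ fun m _ => Submodule.smul_mem _ _ (Submodule.subset_span ⟨⟨q m, hq m⟩, rfl⟩)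

lemma L2map_beta_surjective (z : L2 Q) : ∃ w : L2 (Q.comp P), (beta Q P).L2map w = z := by
  obtain ⟨q, rfl⟩ := relClass_surjective Q z
  obtain ⟨f, hf⟩ := beta_relModMap_surjective Q P (q : relMod Q)
  have h0 : (beta Q P).ringHom (jmap (Q.comp P) f) = 0 := by
    rw [← PresHom.jmap_relModMap, hf]; exact q.2
  have h1 := beta_ker Q P h0
  rw [Ideal.span, Finsupp.mem_span_range_iff_exists_finsupp] at h1
  obtain ⟨b, hb⟩ := h1
  let c : relMod (Q.comp P) := Finsupp.mapDomain Sum.inr b
  have hc : (beta Q P).relModMap c = 0 := Finsupp.ext fun t => by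
    rw [beta_relModMap_apply, Finsupp.mapDomain_notin_range _ _ (by simp), map_zero, Finsupp.zero_apply]
  have hj : jmap (Q.comp P) c = jmap (Q.comp P) f := by
    rw [jmap, Finsupp.linearCombination_mapDomain, Finsupp.linearCombination_apply]
    exact hb
  refine ⟨relClass (Q.comp P) ⟨f - c, ?_⟩, ?_⟩
  · change jmap (Q.comp P) (f - c) = 0
    rw [map_sub, hj, sub_self]
  · rw [L2map_relClass]
    refine congrArg (relClass Q) (Subtype.ext ?_)
    rw [PresHom.relKerMap_coe]
    change (beta Q P).relModMap (f - c) = _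
    rw [map_sub, hc, sub_zero, hf]

lemma L2map_beta_eq_zero (w : L2 (Q.comp P)) (hw : (beta Q P).L2map w = 0) :
    w ∈ Submodule.span C (Set.range fun z : L2 P => (alpha Q P).L2map z) := by
  obtain ⟨q, rfl⟩ := relClass_surjective (Q.comp P) w
  rw [L2map_relClass, relClass_eq_zero_iff, Submodule.Quotient.mk_eq_zero, PresHom.relKerMap_coe] at hw
  obtain ⟨z, hz, hzq⟩ := exists_lift_trivRel Q P hw
  have hker : (Submodule.Quotient.mk (q : relMod (Q.comp P)) : Gq (Q.comp P)) =
      Submodule.Quotient.mk ((q : relMod (Q.comp P)) - z) := by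
    rw [Submodule.Quotient.mk_sub, (Submodule.Quotient.mk_eq_zero _).2 hz, sub_zero]
  obtain ⟨b, hb⟩ := mem_range_emb Q P _ (show (beta Q P).relModMap ((q : relMod (Q.comp P)) - z) = 0 by
    rw [map_sub, hzq, sub_self])
  have hb0 : (b.sum fun s a => a * rel (Q.comp P) (Sum.inr s)) = 0 := by
    rw [← gj_emb, hb, ← hker, gj_mk]; exact q.2
  have hmem := emb_mem_span Q P b hb0
  rw [hb, ← hker, Finsupp.mem_span_range_iff_exists_finsupp] at hmem
  obtain ⟨c, hc⟩ := hmem
  have hrel : relClass (Q.comp P) q = relClass (Q.comp P) (c.sum fun i a => a • (alpha Q P).relKerMap i) := by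
    refine relClass_congr (Q.comp P) ?_
    rw [← hc, Finsupp.sum, Finsupp.sum, Submodule.coe_sum, ← Submodule.mkQ_apply (p := trivRel (Q.comp P)) (∑ _ ∈ _, _),
      map_sum]
    exact Finset.sum_congr rfl fun i _ => rfl
  rw [hrel, Finsupp.sum, map_sum]
  refine Submodule.sum_mem _ fun i _ => ?_
  rw [relClass_smul]
  exact Submodule.smul_mem _ _ (Submodule.subset_span ⟨relClass P i, L2map_relClass _ _⟩)

end Groth.L12.CotTLib
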