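import Groth.Agent.L12.CotTKoszul
import Mathlib.RingTheory.Smooth.Basic

/-!
# Vanishing of `T¹` and `T²`
-/

universe u v w t m

open TensorProduct CotT

namespace Groth.L12.CotTLib

theorem exists_factor {R : Type*} [CommRing R] {K : Type*} {X : Type*} {Y : Type*} [AddCommGroup K] [Module R K]
    [AddCommGroup X] [Module R X] [AddCommGroup Y] [Module R Y] (f : X →ₗ[R] Y) (hf : Function.Injective f)
    (g : K →ₗ[R] Y) (h : ∀ k, g k ∈ Set.range f) : ∃ l : K →ₗ[R] X, ∀ k, f (l k) = g k :=
  ⟨(LinearEquiv.ofInjective f hf).symm.toLinearMap ∘ₗ g.codRestrict (LinearMap.range f) h,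
    fun k => congrArg Subtype.val ((LinearEquiv.ofInjective f hf).apply_symm_apply ⟨g k, h k⟩)⟩

section

variable {A : Type u} {B : Type v} {ι : Type w} {σ : Type t}
variable [CommRing A] [CommRing B] [Algebra A B]
variable (P : Algebra.Presentation A B ι σ)

lemma formallySmooth_ring : Algebra.FormallySmooth A P.toExtension.Ring :=
  inferInstanceAs (Algebra.FormallySmooth A (MvPolynomial ι A))

/-- a splitting of the conormal sequence kills `T¹` -/
theorem T1_subsingleton_of_formallySmooth [Algebra.FormallySmooth A B] (M : Type m) [AddCommGroup M] [Module B M] :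
    Subsingleton (T1 P M) := by
  haveI := formallySmooth_ring P
  obtain ⟨l, hl⟩ := P.toExtension.formallySmooth_iff_split_injection.1 ‹_›
  rw [T1_subsingleton_iff]
  intro φ
  refine ⟨φ ∘ₗ l, ?_⟩
  rw [LinearMap.lcomp_apply', LinearMap.comp_assoc, hl, LinearMap.comp_id]

/-- vanishing of `T¹` against `I/I²` gives formal smoothness -/
theorem formallySmooth_of_T1 (h : Subsingleton (T1 P P.toExtension.Cotangent)) : Algebra.FormallySmooth A B := by
  haveI := formallySmooth_ring P
  rw [P.toExtension.formallySmooth_iff_split_injection]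
  obtain ⟨l, hl⟩ := (T1_subsingleton_iff P _).1 h LinearMap.id
  exact ⟨l, hl⟩

/-- `T²` vanishes when `d₂` is injective and `I/I²` is projective -/
theorem T2_subsingleton_of_injective (hinj : Function.Injective (d2 P))
    (hproj : Module.Projective B P.toExtension.Cotangent) (M : Type m) [AddCommGroup M] [Module B M] :
    Subsingleton (T2 P M) := by
  rw [T2_subsingleton_iff]
  intro φ
  obtain ⟨s, hs⟩ := Module.projective_lifting_property (toCot P) LinearMap.id (toCot_surjective P)
  obtain ⟨e, he⟩ := exists_factor (d2 P) hinj (LinearMap.id - s ∘ₗ toCot P) fun x =>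
    (exact_d2_toCot P _).1 (by
      rw [LinearMap.sub_apply, map_sub, LinearMap.comp_apply, LinearMap.id_apply, ← LinearMap.comp_apply, hs,
        LinearMap.id_apply, sub_self])
  refine ⟨φ ∘ₗ e, LinearMap.ext fun z => ?_⟩
  have h1 : d2 P (e (d2 P z)) = d2 P z := by
    rw [he, LinearMap.sub_apply, LinearMap.comp_apply, LinearMap.id_apply,
      (exact_d2_toCot P).apply_apply_eq_zero, map_zero, sub_zero]
  exact congrArg φ (hinj h1)

lemma projective_cotangent_of_formallySmooth [Algebra.FormallySmooth A B] :
    Module.Projective B P.toExtension.Cotangent := by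
  haveI := formallySmooth_ring P
  obtain ⟨l, hl⟩ := P.toExtension.formallySmooth_iff_split_injection.1 ‹_›
  haveI : Module.Projective B (L0 P) := Module.Projective.of_basis P.cotangentSpaceBasis
  exact Module.Projective.of_split P.toExtension.cotangentComplex l hl

/-- A `T²` that vanishes for all coefficients splits `d₂`. -/
theorem exists_retraction_of_T2 (h : Subsingleton (T2 P (L2 P))) :
    ∃ χ : L1 P →ₗ[B] L2 P, χ ∘ₗ d2 P = LinearMap.id :=
  (T2_subsingleton_iff P _).1 h LinearMap.id

end

end Groth.L12.CotTLib
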