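import Mathlib.GroupTheory.Coxeter.Basic
import Mathlib.Algebra.Group.Basic

/-!
The deletion property gives the Coxeter presentation.
-/

set_option autoImplicit false

universe u v w

namespace Groth.L12.CoxPres

variable {B : Type u} {W : Type v} [Group W] {G : Type w} [Group G]

/-- The product of a word. -/
abbrev pr (f : B → W) (l : List B) : W := (l.map f).prod

theorem pr_reverse (f : B → W) (hf : ∀ b, f b * f b = 1) (l : List B) : pr f l.reverse = (pr f l)⁻¹ := by
  induction l with
  | nil => simp [pr]
  | cons a l ih =>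
    have h1 : (f a)⁻¹ = f a := inv_eq_of_mul_eq_one_right (hf a)
    simp [pr] at ih ⊢
    rw [ih, h1]

/-- The segment `a i, …, a (i + n - 1)`. -/
def seg (a : ℕ → B) (i n : ℕ) : List B := (List.range' i n).map a

theorem seg_succ (a : ℕ → B) (i n : ℕ) : seg a i (n + 1) = a i :: seg a (i + 1) n := by
  simp [seg, List.range'_succ]

theorem seg_concat (a : ℕ → B) (i n : ℕ) : seg a i (n + 1) = seg a i n ++ [a (i + n)] := by
  simp [seg, List.range'_1_concat]

theorem seg_add (a : ℕ → B) (i m n : ℕ) : seg a i (m + n) = seg a i m ++ seg a (i + m) n := by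
  rw [seg, seg, seg, ← List.map_append, List.range'_append_1]

theorem length_seg (a : ℕ → B) (i n : ℕ) : (seg a i n).length = n := by simp [seg]

theorem pr_alt {H : Type*} [Group H] (f : B → H) (a : ℕ → B)
    (heven : ∀ j, a (2 * j) = a 0 ∧ a (2 * j + 1) = a 1) (j : ℕ) :
    ((seg a 0 (2 * j)).map f).prod = (f (a 0) * f (a 1)) ^ j := by
  induction j with
  | zero => simp [seg]
  | succ j hj =>
    rw [show 2 * (j + 1) = 2 * j + 1 + 1 by omega, seg_concat, seg_concat, List.append_assoc, List.map_append,
      List.prod_append, hj, pow_succ, Nat.zero_add, Nat.zero_add, (heven j).1, (heven j).2]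
    simp

/-- A group with involutive generators satisfying deletion is presented by the pairwise orders. -/
theorem pr_eq_one (s : B → W) (g : B → G) (hs2 : ∀ b, s b * s b = 1) (hg2 : ∀ b, g b * g b = 1)
    (hs : Function.Injective s)
    (hM : ∀ (a b : B) (n : ℕ), (s a * s b) ^ n = 1 → (g a * g b) ^ n = 1)
    (hdel : ∀ l l' : List B, pr s l' = pr s l → l'.length < l.length →
      ∃ a x m y c, l = a ++ x :: (m ++ y :: c) ∧ s x * pr s m = pr s m * s y)
    (hpar : ∀ l : List B, pr s l = 1 → Even l.length) :
    ∀ l : List B, pr s l = 1 → pr g l = 1 := by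
  intro l
  induction hn : l.length using Nat.strong_induction_on generalizing l with
  | _ n ih =>
  subst hn
  intro hl
  obtain ⟨q, hq⟩ := hpar l hl
  rcases Nat.eq_zero_or_pos q with rfl | hqpos
  · rw [List.length_eq_zero_iff.1 hq]; rfl
  obtain ⟨t, rfl⟩ : ∃ t, q = t + 1 := ⟨q - 1, by omega⟩
  have cancel : ∀ a b : List B, pr s a = pr s b → a.length + b.length < l.length → pr g a = pr g b := by
    intro a b hab hlt
    have h1 : pr s (a ++ b.reverse) = 1 := by
      rw [pr, List.map_append, List.prod_append]
      show pr s a * pr s b.reverse = 1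
      rw [pr_reverse s hs2, hab, mul_inv_cancel]
    have h2 := ih _ (by simpa using hlt) (a ++ b.reverse) rfl h1
    rw [pr, List.map_append, List.prod_append] at h2
    change pr g a * pr g b.reverse = 1 at h2
    rwa [pr_reverse g hg2, mul_inv_eq_one] at h2
  have mul_s : ∀ (f : B → W) (a b : List B), pr f (a ++ b) = pr f a * pr f b := fun f a b => by simp [pr]
  have mul_g : ∀ (a b : List B), pr g (a ++ b) = pr g a * pr g b := fun a b => by simp [pr]
  -- the key reduction
  have red : ∀ (x y : B) (m c : List B), m.length = t → c.length = t → pr s (x :: (m ++ y :: c)) = 1 →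
      pr g (x :: (m ++ y :: c)) = 1 ∨ s x * pr s m = pr s m * s y := by
    intro x y m c hm hc h1
    have h3 : pr s (x :: (m ++ [y])) * pr s c = 1 := by rw [← mul_s]; simpa using h1
    have h2 : pr s c.reverse = pr s (x :: (m ++ [y])) := by
      rw [pr_reverse s hs2, eq_inv_of_mul_eq_one_left h3]
    obtain ⟨a', x', m', y', c', he, hxy⟩ := hdel (x :: (m ++ [y])) c.reverse h2 (by simp; omega)
    have hlen := congrArg List.length he
    simp at hlen
    by_cases hbig : m'.length + 1 < t + 1
    · refine Or.inl ?_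
      have h4 : pr g (x' :: m') = pr g (m' ++ [y']) := cancel _ _ (by simpa [pr] using hxy) (by simp; omega)
      have h5 : pr g (x :: (m ++ [y])) = pr g (a' ++ m' ++ c') := by
        rw [he, show a' ++ x' :: (m' ++ y' :: c') = a' ++ ((x' :: m') ++ ([y'] ++ c')) by simp,
          mul_g, mul_g, h4, mul_g, mul_g, mul_g, mul_g]
        simp [pr, mul_assoc]
        rw [← mul_assoc (g y'), hg2, one_mul]
      have h6 : pr s (x :: (m ++ [y])) = pr s (a' ++ m' ++ c') := by
        rw [he, show a' ++ x' :: (m' ++ y' :: c') = a' ++ ((x' :: m') ++ ([y'] ++ c')) by simp,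
          mul_s, mul_s, show pr s (x' :: m') = pr s (m' ++ [y']) by simpa [pr] using hxy, mul_s, mul_s, mul_s, mul_s]
        simp [pr, mul_assoc]
        rw [← mul_assoc (s y'), hs2, one_mul]
      rw [show x :: (m ++ y :: c) = (x :: (m ++ [y])) ++ c by simp, mul_g, h5, ← mul_g]
      refine ih _ ?_ _ rfl ?_
      · simp; omega
      · rw [mul_s, ← h6, ← mul_s]; simpa using h1
    · have ha : a' = [] := List.length_eq_zero_iff.1 (by omega)
      have hc' : c' = [] := List.length_eq_zero_iff.1 (by omega)
      subst ha hc'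
      simp at he
      obtain ⟨rfl, he⟩ := he
      obtain ⟨rfl, rfl⟩ := he
      exact Or.inr hxy
  -- the word as a periodic sequence
  let d : ℕ := 2 * (t + 1)
  have hld : l.length = d := by omega
  let a : ℕ → B := fun i => l[i % d]'(by rw [hld]; exact Nat.mod_lt _ (by omega))
  have hper : ∀ i, a (i + d) = a i := fun i => by simp [a]
  have hl0 : seg a 0 d = l := by
    refine List.ext_getElem (by simp [seg, hld]) fun i h1 h2 => ?_
    simp [seg, a, Nat.mod_eq_of_lt (show i < d by omega)]
  have hrot : ∀ (f : B → W) (i : ℕ), pr f (seg a i d) = 1 → pr f (seg a (i + 1) d) = 1 := fun f i h => by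
    have h1 : pr f (seg a i (d + 1)) = pr f [a i] * pr f (seg a (i + 1) d) := by rw [seg_succ]; simp [pr]
    rw [seg_concat, mul_s, h, one_mul, hper] at h1
    exact mul_eq_left.1 h1.symm
  have hrotg : ∀ i, pr g (seg a (i + 1) d) = 1 → pr g (seg a i d) = 1 := fun i h => by
    have h1 : pr g (seg a i (d + 1)) = pr g [a i] * pr g (seg a (i + 1) d) := by rw [seg_succ]; simp [pr]
    rw [seg_concat, mul_g, h, mul_one, hper] at h1
    exact mul_eq_right.1 h1
  have hall : ∀ i, pr s (seg a i d) = 1 := fun i => by
    induction i with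
    | zero => rw [hl0]; exact hl
    | succ i hi => exact hrot s i hi
  by_contra hne
  have hallg : ∀ i, pr g (seg a i d) ≠ 1 := fun i => by
    induction i with
    | zero => rw [hl0]; exact hne
    | succ i hi => exact fun h => hi (hrotg i h)
  have hsplit : ∀ i, seg a i d = a i :: (seg a (i + 1) t ++ a (i + t + 1) :: seg a (i + t + 2) t) := fun i => by
    rw [show d = (t + (t + 1)) + 1 by omega, seg_succ, seg_add, seg_succ,
      show i + 1 + t = i + t + 1 by omega, show i + t + 1 + 1 = i + t + 2 by omega]
  have hE : ∀ i, s (a i) * pr s (seg a (i + 1) t) = pr s (seg a (i + 1) (t + 1)) := fun i => by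
    rw [seg_concat, mul_s, show pr s [a (i + 1 + t)] = s (a (i + 1 + t)) by simp [pr],
      show i + 1 + t = i + t + 1 by omega]
    refine (red (a i) (a (i + t + 1)) (seg a (i + 1) t) (seg a (i + t + 2) t) (length_seg a _ _) (length_seg a _ _) ?_).resolve_left ?_
    · rw [← hsplit]; exact hall i
    · rw [← hsplit]; exact hallg i
  have hstep : ∀ i, a i = a (i + 2) := fun i => by
    obtain ⟨y, hy⟩ : ∃ y, seg a (i + 1) (t + 1) = seg a (i + 1) t ++ [y] := ⟨_, seg_concat a _ _⟩
    have hy' : y = a (i + t + 1) := by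
      have := hy.symm.trans (seg_concat a (i + 1) t)
      simp at this
      rw [this]; congr 1; omega
    have hrev : (seg a (i + 3) t).reverse.length = t := by simp [length_seg]
    have h1 : pr s (a (i + 2) :: (seg a (i + 1) t ++ y :: (seg a (i + 3) t).reverse)) = 1 := by
      rw [show a (i + 2) :: (seg a (i + 1) t ++ y :: (seg a (i + 3) t).reverse) =
        [a (i + 2)] ++ (seg a (i + 1) t ++ [y]) ++ (seg a (i + 3) t).reverse by simp, mul_s, mul_s,
        pr_reverse s hs2, ← hy]
      have h2 := hE (i + 1)
      rw [show i + 1 + 1 = i + 2 by omega] at h2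
      have h2' : pr s (seg a (i + 1) (t + 1)) = pr s (seg a (i + 2) (t + 1)) := by
        rw [← h2, seg_succ]; simp [pr]
      rw [h2', seg_succ a (i + 2), show i + 2 + 1 = i + 3 by omega]
      simp [pr, ← mul_assoc, hs2]
    rcases red _ _ _ _ (length_seg a _ _) hrev h1 with h | h
    · exfalso
      rw [show a (i + 2) :: (seg a (i + 1) t ++ y :: (seg a (i + 3) t).reverse) =
        [a (i + 2)] ++ (seg a (i + 1) t ++ [y]) ++ (seg a (i + 3) t).reverse by simp, mul_g, mul_g,
        pr_reverse g hg2, ← hy, mul_inv_eq_one] at h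
      have h3 : pr g (seg a (i + 1) (t + 1)) = pr g (seg a (i + 2) (t + 1)) := by
        rw [seg_succ a (i + 2), show i + 2 + 1 = i + 3 by omega]
        have h5 : g (a (i + 2)) * pr g (seg a (i + 1) (t + 1)) = pr g (seg a (i + 3) t) := by simpa [pr] using h
        show _ = (List.map g (a (i + 2) :: seg a (i + 3) t)).prod
        rw [List.map_cons, List.prod_cons, ← pr, ← h5, ← mul_assoc, hg2, one_mul]
      refine hallg (i + 1) ?_
      rw [show d = (t + 1) + (t + 1) by omega, seg_add, mul_g, h3, seg_concat, mul_g,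
        show i + 1 + (t + 1) = i + 2 + t by omega, seg_succ, show i + 2 + t + 1 = i + t + 3 by omega]
      simp [pr, mul_assoc]
      rw [← mul_assoc (g (a (i + 2 + t))), hg2, one_mul]
      show pr g _ * pr g _ = 1
      rw [← mul_g]
      refine ih _ (by simp [length_seg]; omega) _ rfl ?_
      have h6 : pr s (seg a (i + 1) (t + 1)) = pr s (seg a (i + 2) (t + 1)) := by
        rw [← hE (i + 1), show i + 1 + 1 = i + 2 by omega, seg_succ a (i + 1) t,
          show i + 1 + 1 = i + 2 by omega]
        simp [pr]
      have h7 := hall (i + 1)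
      rw [show d = (t + 1) + (t + 1) by omega, seg_add, mul_s, h6, seg_concat, mul_s,
        show i + 1 + (t + 1) = i + 2 + t by omega, seg_succ, show i + 2 + t + 1 = i + t + 3 by omega] at h7
      simp [pr, mul_assoc] at h7
      rw [← mul_assoc (s (a (i + 2 + t))), hs2, one_mul] at h7
      rw [mul_s]
      exact h7
    · have h4 : s (a (i + 2)) * pr s (seg a (i + 1) t) = pr s (seg a (i + 1) (t + 1)) := by
        rw [h, hy, mul_s]; simp [pr]
      exact hs (mul_right_cancel ((hE i).trans h4.symm))
  have heven : ∀ j, a (2 * j) = a 0 ∧ a (2 * j + 1) = a 1 := fun j => by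
    induction j with
    | zero => exact ⟨rfl, rfl⟩
    | succ j hj => exact ⟨(hstep (2 * j)).symm.trans hj.1, (hstep (2 * j + 1)).symm.trans hj.2⟩
  have h8 := hall 0
  rw [pr, pr_alt s a heven (t + 1)] at h8
  refine hallg 0 ?_
  show (List.map g (seg a 0 (2 * (t + 1)))).prod = 1
  rw [pr_alt g a heven (t + 1)]
  exact hM _ _ _ h8

end Groth.L12.CoxPres
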