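import Groth.Agent.L12.HullCon
import Mathlib.RingTheory.Derivation.Basic

/-!
# Hull and pro-representability criteria
-/

universe u v w

open CategoryTheory ArtFun ArtFun.Art IsLocalRing

namespace Groth.L12

variable {Λ : Type u} {k : Type u} [CommRing Λ] [Field k] [Algebra Λ k] {F : Art Λ k ⥤ Type v}

lemma miniversal_surjective {R : Type u} [CommRing R] [Algebra Λ R] {resR : R →ₐ[Λ] k}
    (ξ : Family R resR F) (hξ : IsMiniversal ξ) (A : Art Λ k) : Function.Surjective (ξ.app A) :=
  family_surjective ξ hξ.1 (miniversal_h0 ξ hξ) A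

lemma miniversal_heps {R : Type u} [CommRing R] [Algebra Λ R] {resR : R →ₐ[Λ] k}
    (ξ : Family R resR F) (hξ : IsMiniversal ξ) : Heps F := by
  intro B A p' p'' h
  refine ⟨(cmp_inj_iff F h).2 fun z₁ z₂ e₁ e₂ => ?_,
    versal_s1 ξ hξ.1 (miniversal_surjective ξ hξ) p' p'' _ _ h (toBase_surjective _)⟩
  obtain ⟨φ, rfl⟩ := miniversal_surjective ξ hξ B z₁
  rw [← ξ.natural] at e₁ e₂
  obtain ⟨ψ, hψ₁, hψ₂⟩ := hξ.1 p' (IsFP.fst_surjective h (toBase_surjective _)) (HomSet.map p' φ) z₂ e₁.symm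
  rw [← hψ₂, ← ξ.natural] at e₂
  have he : HomSet.map p'' φ = HomSet.map p'' ψ := hξ.2.1 e₂
  rw [← hψ₂, show φ = ψ from
    (cmp_inj_iff (hR R resR) h).1 (hR_bijective_cmp h).1 φ ψ hψ₁.symm he]

lemma miniversal_hbar {R : Type u} [CommRing R] [Algebra Λ R] {resR : R →ₐ[Λ] k}
    (ξ : Family R resR F) (hξ : IsMiniversal ξ) : Hbar F :=
  fun _ _ _ _ p' p'' f' f'' h hs => versal_s1 ξ hξ.1 (miniversal_surjective ξ hξ) p' p'' f' f'' h hs.1

/-- tangent vectors of a coefficient ring are determined on finitely many elements -/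
lemma exists_tv_determining [Module.Finite Λ k] (R : CRing Λ k) :
    ∃ s : Finset R.carrier, ∀ ψ ψ' : HomSet R.carrier R.res (dual Λ k),
      (∀ x ∈ s, tv ψ x = tv ψ' x) → ψ = ψ' := by
  classical
  obtain ⟨n, c, hc⟩ := exists_generators (Λ := Λ) (k := k)
  choose x hx using fun i => R.res_surjective (c i)
  obtain ⟨g, hg⟩ := IsNoetherian.noetherian (maximalIdeal R.carrier)
  refine ⟨Finset.univ.image x ∪ g, fun ψ ψ' h => ?_⟩
  have hgm : ∀ y ∈ g, y ∈ maximalIdeal R.carrier := fun y hy => hg ▸ Submodule.subset_span hy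
  have hmax : ∀ y ∈ maximalIdeal R.carrier, ψ.1 y = ψ'.1 y := by
    intro y hy
    rw [← hg] at hy
    induction hy using Submodule.span_induction with
    | mem y hy =>
      exact dual_ext ((DFunLike.congr_fun ψ.2 y).trans (DFunLike.congr_fun ψ'.2 y).symm)
        (h y (Finset.mem_union_right _ hy))
    | zero => rw [map_zero, map_zero]
    | add a b _ _ ha hb => rw [map_add, map_add, ha, hb]
    | smul a y hy ha =>
      rw [smul_eq_mul, map_mul, map_mul, ha]
      have hy0 : ∀ φ : HomSet R.carrier R.res (dual Λ k), φ.1 y ∈ maximalIdeal (dual Λ k) := fun φ => by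
        refine homSet_map_max φ (Ideal.mem_map_of_mem _ ?_)
        exact (hg ▸ hy : y ∈ maximalIdeal R.carrier)
      refine mul_eq_of_res_eq ((DFunLike.congr_fun ψ.2 a).trans (DFunLike.congr_fun ψ'.2 a).symm) fun b hb => ?_
      have hb0 : TrivSqZeroExt.fst b = 0 := ((dual Λ k).mem_maximalIdeal_iff b).1 hb
      have hy1 : TrivSqZeroExt.fst (ψ'.1 y) = 0 := ((dual Λ k).mem_maximalIdeal_iff _).1 (hy0 ψ')
      refine dual_ext ?_ ?_
      · exact (TrivSqZeroExt.fst_mul (R := k) (M := k) _ _).trans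
          (mul_eq_zero_of_left hb0 _ |>.trans (TrivSqZeroExt.fst_zero (R := k) (M := k)).symm)
      · refine (TrivSqZeroExt.snd_mul (R := k) (M := k) _ _).trans ?_
        rw [hb0, hy1]
        simp
        rfl
  refine Subtype.ext (AlgHom.ext fun r => ?_)
  obtain ⟨p, hp⟩ := hc (R.res r)
  have hxp : ψ.1 (MvPolynomial.aeval x p) = ψ'.1 (MvPolynomial.aeval x p) := by
    rw [← AlgHom.comp_apply, ← AlgHom.comp_apply, MvPolynomial.comp_aeval, MvPolynomial.comp_aeval]
    refine congrArg (fun f => MvPolynomial.aeval f p) (funext fun i => ?_)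
    exact dual_ext ((DFunLike.congr_fun ψ.2 (x i)).trans (DFunLike.congr_fun ψ'.2 (x i)).symm)
      (h _ (Finset.mem_union_left _ (Finset.mem_image_of_mem x (Finset.mem_univ i))))
  have hd := hmax (r - MvPolynomial.aeval x p) (by
    rw [CRing.mem_maximalIdeal_iff, map_sub, ← AlgHom.comp_apply, MvPolynomial.comp_aeval,
      show (fun i => R.res (x i)) = c from funext hx, hp, sub_self])
  rw [map_sub, map_sub, hxp, sub_left_inj] at hd
  exact hd

lemma hfin_of_surjective [Module.Finite Λ k] [TangentStr F] (R : CRing Λ k)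
    (ξ : Family R.carrier R.res F) (hs : Function.Surjective (ξ.app (dual Λ k))) : Hfin F := by
  obtain ⟨T⟩ := nonempty_tangentStr (h0_hR R.res) (rs_hR R.res).heps
  letI := T
  obtain ⟨f, hf⟩ := exists_linearMap (h0_hR R.res) (rs_hR R.res).heps (NatMap.ofFamily ξ)
  obtain ⟨s, hs'⟩ := exists_tv_determining R
  let L : TangentSpace (hR R.carrier R.res) →ₗ[k] (s → k) :=
    { toFun := fun ψ i => tv (ψ : HomSet R.carrier R.res (dual Λ k)) i.1
      map_add' := fun ψ ψ' => by
        obtain ⟨z, h₁, h₂⟩ := exists_pair (h0_hR R.res) (rs_hR R.res).heps ψ ψ'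
        subst h₁ h₂
        funext i
        exact congrArg (fun a : (hR R.carrier R.res).obj (dual Λ k) =>
          tv (a : HomSet R.carrier R.res (dual Λ k)) i.1) (TangentStr.add_eq z)
      map_smul' := fun c ψ => by
        funext i
        exact congrArg (fun a : (hR R.carrier R.res).obj (dual Λ k) =>
          tv (a : HomSet R.carrier R.res (dual Λ k)) i.1) (TangentStr.smul_eq c ψ) }
  have hL : Function.Injective L := fun ψ ψ' e => hs' ψ ψ' fun x hx => congrFun e ⟨x, hx⟩
  haveI : Module.Finite k (TangentSpace (hR R.carrier R.res)) := Module.Finite.of_injective L hL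
  exact Module.Finite.of_surjective f fun y => by
    obtain ⟨x, hx⟩ := hs y
    exact ⟨x, (hf x).trans hx⟩

lemma family_universal (R : CRing Λ k) (ξ : Family R.carrier R.res F) (hv : IsVersal ξ) (h0 : H0 F)
    (h2 : Heps F) (h4 : HSq F) (hd : Function.Injective (ξ.app (dual Λ k))) : IsUniversal ξ :=
  fun A => (NatMap.ofFamily ξ).bijective_criterion ((isVersal_iff ξ).1 hv) (h0_hR R.res) h0
    (rs_hR R.res).hbar (rs_hR R.res).heps h2 h4 hd A

lemma der_injective_of_universal {R : Type u} [CommRing R] [Algebra Λ R] {resR : R →ₐ[Λ] k}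
    (ξ : Family R resR F) (hξ : IsUniversal ξ) (hres : Function.Surjective resR) (x₀ : F.obj (Art.base Λ k)) :
    Function.Injective fun σ : Art.base Λ k ⟶ dual Λ k => F.map σ x₀ := by
  intro σ τ e
  obtain ⟨φ, rfl⟩ := (hξ _).2 x₀
  have h : HomSet.map σ φ = HomSet.map τ φ := (hξ _).1 (by rw [ξ.natural, ξ.natural]; exact e)
  refine hom_ext fun c => ?_
  obtain ⟨r, hr⟩ := hres c
  have := DFunLike.congr_fun (congrArg Subtype.val h) r
  rw [basePt_eq φ] at this
  change σ (resR r) = τ (resR r) at this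
  rwa [hr] at this

theorem prorep_iff [IsNoetherianRing Λ] [Module.Finite Λ k] [TangentStr F] :
    IsProrepresentable F ↔ (H0 F ∧ RS F) ∧ Hfin F ∧
      ∀ x₀ : F.obj (Art.base Λ k), Function.Injective fun σ : Art.base Λ k ⟶ dual Λ k => F.map σ x₀ := by
  constructor
  · rintro ⟨P⟩
    obtain ⟨h0, hl⟩ := universal_app_bijective P.family P.universal
    exact ⟨⟨h0, fun B A A' A'' p' p'' f' f'' h _ => hl p' p'' f' f'' h⟩,
      hfin_of_surjective P.ring P.family (P.universal _).2,
      der_injective_of_universal P.family P.universal P.ring.res_surjective⟩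
  · rintro ⟨⟨h0, hrs⟩, hfin, hinj⟩
    obtain ⟨R, ξ, hv, hd⟩ := exists_versal h0 hrs.s1 hrs.heps hfin
    exact ⟨⟨R, ξ, family_universal R ξ hv h0 hrs.heps hrs.hsq (hd hinj)⟩⟩

lemma der_injective_of_subsingleton (hk : Subsingleton (Derivation Λ k k)) (F : Art Λ k ⥤ Type v)
    (x₀ : F.obj (Art.base Λ k)) : Function.Injective fun σ : Art.base Λ k ⟶ dual Λ k => F.map σ x₀ := by
  have : ∀ σ : Art.base Λ k ⟶ dual Λ k, σ = zeroHom _ := by
    intro σ
    refine dualHom_ext fun c => ?_
    have hres : ∀ b : Art.base Λ k, TrivSqZeroExt.fst (σ b) = (b : k) := fun b => Art.res_app σ b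
    let D : Derivation Λ k k := Derivation.mk'
      { toFun := fun b => TrivSqZeroExt.snd (σ (b : Art.base Λ k))
        map_add' := fun a b => (congrArg TrivSqZeroExt.snd (map_add σ.toAlgHom a b)).trans (TrivSqZeroExt.snd_add _ _)
        map_smul' := fun r b => (congrArg TrivSqZeroExt.snd (map_smul σ.toAlgHom r (b : Art.base Λ k))).trans
          (TrivSqZeroExt.snd_smul _ _) }
      fun a b => by
        refine ((congrArg TrivSqZeroExt.snd (map_mul σ.toAlgHom (a : Art.base Λ k) b)).trans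
          (TrivSqZeroExt.snd_mul _ _)).trans ?_
        exact congrArg₂ (· + ·) (congrArg (fun t : k => t • _) (hres a))
          ((op_smul_eq_smul _ _).trans (congrArg (fun t : k => t • _) (hres b)))
    exact (DFunLike.congr_fun (Subsingleton.elim D 0) c : D c = 0).trans (snd_zeroHom c).symm
  intro σ τ _
  rw [this σ, this τ]

lemma subsingleton_derivation_of_surjective (hk : Function.Surjective (algebraMap Λ k)) :
    Subsingleton (Derivation Λ k k) :=
  ⟨fun D D' => Derivation.ext fun c => by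
    obtain ⟨l, rfl⟩ := hk c
    rw [D.map_algebraMap, D'.map_algebraMap]⟩

theorem hasHull_of [IsNoetherianRing Λ] [Module.Finite Λ k] [TangentStr F] (h0 : H0 F) (h1 : S1 F)
    (h2 : Heps F) (h3 : Hfin F)
    (hinj : ∀ x₀ : F.obj (Art.base Λ k), Function.Injective fun σ : Art.base Λ k ⟶ dual Λ k => F.map σ x₀) :
    HasHull F := by
  obtain ⟨R, ξ, hv, hd⟩ := exists_versal h0 h1 h2 h3
  exact ⟨⟨R, ξ, hv, hd hinj, family_surjective ξ hv h0 _⟩⟩

end Groth.L12
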