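import Mathlib.RingTheory.Smooth.Basic
import Mathlib.RingTheory.LocalRing.Module
import Mathlib.RingTheory.Artinian.Ring
import Mathlib.RingTheory.Nakayama
import Mathlib.RingTheory.HopkinsLevitzki
import Mathlib.RingTheory.TensorProduct.Free
import Mathlib.RingTheory.Ideal.Quotient.Nilpotent

/-!
# Deformations of formally smooth algebras over local Artinian rings are trivial
-/

universe u

open IsLocalRing TensorProduct

namespace Groth.L12

variable {k : Type u} [Field k] {A : Type u} [CommRing A] [Algebra k A] [IsLocalRing A] [IsArtinianRing A]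
  {B : Type u} [CommRing B] [Algebra A B] [Module.Flat A B] [Algebra k B] [IsScalarTower k A B]

lemma isNilpotent_map_maximalIdeal : IsNilpotent ((maximalIdeal A).map (algebraMap A B)) := by
  obtain ⟨n, hn⟩ := (isArtinianRing_iff_isNilpotent_maximalIdeal A).1 inferInstance
  exact ⟨n, by rw [← Ideal.map_pow, hn, Ideal.zero_eq_bot, Ideal.map_bot]; rfl⟩

/-- a deformation of a formally smooth algebra is trivial -/
theorem exists_trivialisation (hres : ∀ a : A, ∃ c : k, a - algebraMap k A c ∈ maximalIdeal A)
    (hsm : Algebra.FormallySmooth k (B ⧸ (maximalIdeal A).map (algebraMap A B))) :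
    ∃ e : A ⊗[k] (B ⧸ (maximalIdeal A).map (algebraMap A B)) ≃ₐ[A] B,
      ∀ x, Ideal.Quotient.mk ((maximalIdeal A).map (algebraMap A B)) (e (1 ⊗ₜ x)) = x := by
  set I := (maximalIdeal A).map (algebraMap A B) with hI
  obtain ⟨g, hg⟩ := Algebra.FormallySmooth.exists_lift I isNilpotent_map_maximalIdeal (AlgHom.id k (B ⧸ I))
  have hg' : ∀ x, Ideal.Quotient.mk I (g x) = x := fun x => DFunLike.congr_fun hg x
  let Φ : A ⊗[k] (B ⧸ I) →ₐ[A] B :=
    Algebra.TensorProduct.lift (Algebra.ofId A B) g fun a x => mul_comm _ _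
  have hΦ : ∀ a x, Φ (a ⊗ₜ x) = algebraMap A B a * g x := fun a x => rfl
  have hsmul : ∀ (a : A) (c : k) (x : B ⧸ I), a - algebraMap k A c ∈ maximalIdeal A → a • x = c • x := fun a c x h => by
    rw [← algebraMap_smul A c x, ← sub_eq_zero, ← sub_smul, Algebra.smul_def]
    rw [IsScalarTower.algebraMap_apply A B (B ⧸ I), Ideal.Quotient.algebraMap_eq,
      Ideal.Quotient.eq_zero_iff_mem.2 (Ideal.mem_map_of_mem _ h), zero_mul]
  let b := Module.Free.chooseBasis k (B ⧸ I)
  have hli : LinearIndependent A (fun i => g (b i)) := by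
    refine Module.IsLocalRing.linearIndependent_of_flat _ (linearIndependent_iff'.2 fun s c hc i hi => ?_)
    choose a ha using fun j => Ideal.Quotient.mk_surjective (c j)
    choose r hr using fun j => hres (a j)
    let χ : ResidueField A ⊗[A] B →ₗ[A] B ⧸ I :=
      TensorProduct.lift
        (Submodule.liftQ (maximalIdeal A)
          ((LinearMap.lsmul A (B →ₗ[A] B ⧸ I)).flip (IsScalarTower.toAlgHom A B (B ⧸ I)).toLinearMap)
          (fun x hx => LinearMap.ext fun y => by
            change x • (Ideal.Quotient.mk I y) = 0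
            rw [Algebra.smul_def, IsScalarTower.algebraMap_apply A B (B ⧸ I), Ideal.Quotient.algebraMap_eq,
              Ideal.Quotient.eq_zero_iff_mem.2 (Ideal.mem_map_of_mem _ hx), zero_mul]))
    have hχ : ∀ (x : A) (y : B), χ (Ideal.Quotient.mk (maximalIdeal A) x ⊗ₜ y) = x • Ideal.Quotient.mk I y :=
      fun x y => rfl
    have h1 : ∑ j ∈ s, r j • b j = 0 := by
      have h2 := congrArg χ hc
      rw [map_sum, map_zero] at h2
      rw [← h2]
      refine Finset.sum_congr rfl fun j _ => ?_
      have h3 : c j • (TensorProduct.mk A (ResidueField A) B 1 ∘ fun i => g (b i)) j =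
          Ideal.Quotient.mk (maximalIdeal A) (a j) ⊗ₜ g (b j) := by
        change c j • (1 ⊗ₜ[A] g (b j)) = _
        rw [TensorProduct.smul_tmul', smul_eq_mul, mul_one, ← ha j]
        rfl
      refine Eq.trans ?_ ((congrArg χ h3).trans (hχ _ _)).symm
      rw [hg']
      exact (hsmul _ _ _ (hr j)).symm
    have h4 := linearIndependent_iff'.1 b.linearIndependent s r h1 i hi
    rw [← ha i]
    refine Ideal.Quotient.eq_zero_iff_mem.2 ?_
    simpa [h4] using hr i
  have hinj : Function.Injective Φ := by
    have h : Φ.toLinearMap = (Finsupp.linearCombination A (fun i => g (b i))).comp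
        (Algebra.TensorProduct.basis A b).repr.toLinearMap := by
      refine (Algebra.TensorProduct.basis A b).ext fun i => ?_
      rw [LinearMap.comp_apply, LinearEquiv.coe_toLinearMap, Module.Basis.repr_self,
        Finsupp.linearCombination_single, one_smul, Algebra.TensorProduct.basis_apply]
      change Φ (1 ⊗ₜ b i) = _
      rw [hΦ, map_one, one_mul]
    intro x y hxy
    refine (Algebra.TensorProduct.basis A b).repr.injective (hli ?_)
    exact (DFunLike.congr_fun h x).symm.trans (hxy.trans (DFunLike.congr_fun h y))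
  have hsurj : Function.Surjective Φ := by
    have h1 : ∀ n, ∀ y : B, ∃ z, y - Φ z ∈ (maximalIdeal A ^ n).map (algebraMap A B) := by
      intro n
      induction n with
      | zero => exact fun y => ⟨0, by simp [Ideal.map_top]⟩
      | succ n ih =>
        intro y
        obtain ⟨z, hz⟩ := ih y
        have key : ∀ w ∈ (maximalIdeal A ^ n).map (algebraMap A B),
            ∃ z, w - Φ z ∈ (maximalIdeal A ^ (n + 1)).map (algebraMap A B) := by
          intro w hw
          rw [Ideal.map] at hw
          refine Submodule.span_induction ?_ ⟨0, by simp⟩ ?_ ?_ hw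
          · rintro - ⟨r, hr, rfl⟩
            exact ⟨r ⊗ₜ 1, by simp [hΦ]⟩
          · rintro x y - - ⟨zx, hx⟩ ⟨zy, hy⟩
            exact ⟨zx + zy, by rw [map_add, add_sub_add_comm]; exact add_mem hx hy⟩
          · rintro c x hxs ⟨zx, hx⟩
            refine ⟨(1 ⊗ₜ Ideal.Quotient.mk I c) * zx, ?_⟩
            rw [smul_eq_mul, map_mul, hΦ, map_one, one_mul,
              show c * x - g (Ideal.Quotient.mk I c) * Φ zx =
                (c - g (Ideal.Quotient.mk I c)) * x + g (Ideal.Quotient.mk I c) * (x - Φ zx) by ring]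
            refine add_mem ?_ (Ideal.mul_mem_left _ _ hx)
            rw [pow_succ', Ideal.map_mul]
            exact Ideal.mul_mem_mul (Ideal.Quotient.eq.1 (hg' _).symm) hxs
        obtain ⟨z', hz'⟩ := key _ hz
        exact ⟨z + z', by rwa [map_add, ← sub_sub]⟩
    obtain ⟨n, hn⟩ := (isArtinianRing_iff_isNilpotent_maximalIdeal A).1 inferInstance
    intro y
    obtain ⟨z, hz⟩ := h1 n y
    rw [hn, Ideal.zero_eq_bot, Ideal.map_bot, Ideal.mem_bot, sub_eq_zero] at hz
    exact ⟨z, hz.symm⟩
  refine ⟨AlgEquiv.ofBijective Φ ⟨hinj, hsurj⟩, fun x => ?_⟩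
  change Ideal.Quotient.mk I (Φ (1 ⊗ₜ x)) = x
  rw [hΦ, map_one, one_mul, hg']

/-- a flat algebra with formally smooth closed fibre is formally smooth -/
theorem formallySmooth_of_flat_fibre (hres : ∀ a : A, ∃ c : k, a - algebraMap k A c ∈ maximalIdeal A)
    (hsm : Algebra.FormallySmooth k (B ⧸ (maximalIdeal A).map (algebraMap A B))) :
    Algebra.FormallySmooth A B := by
  obtain ⟨e, -⟩ := exists_trivialisation hres hsm
  exact Algebra.FormallySmooth.of_equiv e

end Groth.L12

namespace Groth.L12

variable {A : Type u} [CommRing A] {B : Type u} [CommRing B] [Algebra A B]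

/-- an endomorphism congruent to the identity modulo `t`, with `t² = 0`, is bijective -/
theorem bijective_of_congr_id (t : A) (ht : t * t = 0) (h : B →ₐ[A] B)
    (hh : ∀ b, h b - b ∈ Ideal.span {algebraMap A B t}) : Function.Bijective h := by
  have key : ∀ b, h (h b - b) = h b - b := fun b => by
    obtain ⟨c, hc⟩ := Ideal.mem_span_singleton'.1 (hh b)
    obtain ⟨d, hd⟩ := Ideal.mem_span_singleton'.1 (hh c)
    rw [← hc, map_mul, AlgHom.commutes, ← sub_eq_zero, ← sub_mul, ← hd, mul_assoc, ← map_mul, ht, map_zero, mul_zero]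
  refine Function.bijective_iff_has_inverse.2 ⟨fun b => b + b - h b, fun b => ?_, fun b => ?_⟩
  · change h b + h b - h (h b) = b
    linear_combination -(key b) + map_sub h (h b) b
  · change h (b + b - h b) = b
    rw [map_sub, map_add]
    linear_combination -(key b) + map_sub h (h b) b

/-- lifts of automorphisms along `B → B/tB` are automorphisms -/
theorem exists_aut_lift (t : A) (ht : t * t = 0)
    (σ : (B ⧸ Ideal.span {algebraMap A B t}) ≃ₐ[A] (B ⧸ Ideal.span {algebraMap A B t})) [Algebra.FormallySmooth A B] :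
    ∃ τ : B ≃ₐ[A] B, ∀ b, Ideal.Quotient.mk (Ideal.span {algebraMap A B t}) (τ b) =
      σ (Ideal.Quotient.mk (Ideal.span {algebraMap A B t}) b) := by
  have hI : IsNilpotent (Ideal.span {algebraMap A B t}) := ⟨2, by
    rw [pow_two, Ideal.span_singleton_mul_span_singleton, ← map_mul, ht, map_zero, Set.singleton_zero, Ideal.span_zero]
    rfl⟩
  obtain ⟨f, hf⟩ := Algebra.FormallySmooth.exists_lift (Ideal.span {algebraMap A B t}) hI (σ.toAlgHom.comp (Ideal.Quotient.mkₐ A (Ideal.span {algebraMap A B t})))
  obtain ⟨g, hg⟩ := Algebra.FormallySmooth.exists_lift (Ideal.span {algebraMap A B t}) hI (σ.symm.toAlgHom.comp (Ideal.Quotient.mkₐ A (Ideal.span {algebraMap A B t})))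
  have hf' : ∀ b, Ideal.Quotient.mk (Ideal.span {algebraMap A B t}) (f b) = σ (Ideal.Quotient.mk (Ideal.span {algebraMap A B t}) b) := fun b => DFunLike.congr_fun hf b
  have hg' : ∀ b, Ideal.Quotient.mk (Ideal.span {algebraMap A B t}) (g b) = σ.symm (Ideal.Quotient.mk (Ideal.span {algebraMap A B t}) b) := fun b => DFunLike.congr_fun hg b
  have h1 := bijective_of_congr_id t ht (g.comp f) fun b => Ideal.Quotient.eq.1 (by
    rw [AlgHom.comp_apply, hg', hf', AlgEquiv.symm_apply_apply])
  have h2 := bijective_of_congr_id t ht (f.comp g) fun b => Ideal.Quotient.eq.1 (by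
    rw [AlgHom.comp_apply, hf', hg', AlgEquiv.apply_symm_apply])
  exact ⟨AlgEquiv.ofBijective f ⟨Function.Injective.of_comp (f := g) h1.1, Function.Surjective.of_comp (g := g) h2.2⟩, hf'⟩

end Groth.L12
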