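import Groth.Agent.L17.Duality
import Groth.Agent.L17.ProjFormula
import Groth.Agent.L17.SheafHomCoh
import Groth.Agent.L17.PushQCoh
import Groth.Agent.L20.ResDescent
import Groth.Agent.L29.DCoh.PullTensor
import Groth.Agent.L00.KFlatBasic
import Groth.Agent.L22.PDual.ExtSheafHom

/-!
# Duals of vector bundles: pullback and short exact sequences
-/

set_option autoImplicit false
set_option maxHeartbeats 400000
set_option linter.style.haveILetI false
set_option linter.unusedSectionVars false
set_option backward.isDefEq.respectTransparency false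
set_option backward.isDefEq.respectTransparency.types false

universe u

open CategoryTheory CategoryTheory.Limits AlgebraicGeometry Opposite

noncomputable section

namespace Groth.L12.DualVb

open Groth.L00.Tensor

variable {X Z : Scheme.{u}}

local notation "Dl" => RefHull.dual

/-- The dual of the prelude is the dual of the duality library. -/
theorem nonempty_dual_iso (E : X.Modules) [ModSite.HasSheafHom (O := X.sheaf) E] :
    Nonempty (Groth.L17.Duality.dual E ≅ Dl E) := by
  haveI : DCoh.HasSheafHom E := ⟨_, ⟨(Groth.L16.HomSh.tensorHomAdj E).ofNatIsoLeft (Groth.L22.PDual.biIso E)⟩⟩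
  exact ⟨((Groth.L22.PDual.homIso E).app (Coh.structureModule X)).symm ≪≫
    Groth.L17.SheafHomCoh.isoHomSh E (Coh.structureModule X)⟩

/-- `- ⊗ E^∨ ⊣ - ⊗ E`. -/
theorem nonempty_adj {E : X.Modules} (hE : FlatMod.IsFinLocFree E) :
    Nonempty (tensorRightF (Dl E) ⊣ tensorRightF E) := by
  haveI := Groth.L17.Duality.hasSheafHom E
  obtain ⟨e⟩ := nonempty_dual_iso E
  exact ⟨(Groth.L17.Duality.dualAdj E hE).ofNatIsoLeft
    (NatIso.ofComponents (fun M => tensorIso (Iso.refl M) e) fun {M N} g => by
      show tensorMap g (𝟙 _) ≫ tensorMap (𝟙 N) e.hom = tensorMap (𝟙 M) e.hom ≫ tensorMap g (𝟙 _)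
      rw [← tensorMap_comp, ← tensorMap_comp, Category.comp_id, Category.id_comp, Category.id_comp, Category.comp_id])⟩

theorem isFinLocFree_dual {E : X.Modules} (hE : FlatMod.IsFinLocFree E) : FlatMod.IsFinLocFree (Dl E) := by
  haveI := Groth.L17.Duality.hasSheafHom E
  obtain ⟨e⟩ := nonempty_dual_iso E
  exact Groth.L29.LocFree.of_iso e (Groth.L20.ResDescent.isFinLocFree_dual E hE)

/-- The dual of a bundle commutes with pullback. -/
theorem nonempty_dual_pullback (f : Z ⟶ X) {E : X.Modules} (hE : FlatMod.IsFinLocFree E) :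
    Nonempty (Dl ((Scheme.Modules.pullback f).obj E) ≅ (Scheme.Modules.pullback f).obj (Dl E)) := by
  let E' := (Scheme.Modules.pullback f).obj E
  obtain ⟨a⟩ := nonempty_adj hE
  obtain ⟨a'⟩ := nonempty_adj (Groth.L29.LocFree.pullback f hE)
  let G : Scheme.Modules.pushforward f ⋙ tensorRightF E ≅ tensorRightF E' ⋙ Scheme.Modules.pushforward f :=
    Functor.isoWhiskerLeft _ (tensorFlipIso E) ≪≫ Groth.L17.ProjFormula.projIso f E hE ≪≫
      Functor.isoWhiskerRight (tensorFlipIso E').symm _
  let F : tensorRightF (Dl E) ⋙ Scheme.Modules.pullback f ≅ Scheme.Modules.pullback f ⋙ tensorRightF (Dl E') :=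
    ((a.comp (Scheme.Modules.pullbackPushforwardAdjunction f)).ofNatIsoRight G).leftAdjointUniq
      ((Scheme.Modules.pullbackPushforwardAdjunction f).comp a')
  exact ⟨(tensorUnitLeft _).symm ≪≫ tensorIso (Groth.L29.LocFree.pullbackUnitIso f).symm (Iso.refl _) ≪≫
    (F.app (Coh.structureModule X)).symm ≪≫ (Scheme.Modules.pullback f).mapIso (tensorUnitLeft _)⟩

/-- Dualising a short exact sequence of bundles. -/
theorem exists_dual_shortExact {S : ShortComplex X.Modules} (hS : S.ShortExact) (h₁ : FlatMod.IsFinLocFree S.X₁)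
    (h₂ : FlatMod.IsFinLocFree S.X₂) (h₃ : FlatMod.IsFinLocFree S.X₃) :
    ∃ T : ShortComplex X.Modules, T.ShortExact ∧ Nonempty (T.X₁ ≅ Dl S.X₃) ∧ Nonempty (T.X₂ ≅ Dl S.X₂) ∧
      Nonempty (T.X₃ ≅ Dl S.X₁) := by
  obtain ⟨a₁⟩ := nonempty_adj h₁
  obtain ⟨a₂⟩ := nonempty_adj h₂
  obtain ⟨a₃⟩ := nonempty_adj h₃
  haveI := Groth.L17.Duality.hasSheafHom S.X₁
  haveI := grothendieckAbelian_modules X
  let O := Coh.structureModule X
  let η : ∀ {A B : X.Modules} (_ : A ⟶ B), tensorRightF A ⟶ tensorRightF B := fun {A B} g =>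
    { app := fun G => tensorMap (𝟙 G) g
      naturality := fun M N h => by
        show tensorMap h (𝟙 A) ≫ tensorMap (𝟙 N) g = tensorMap (𝟙 M) g ≫ tensorMap h (𝟙 B)
        rw [← tensorMap_comp, ← tensorMap_comp, Category.comp_id, Category.id_comp, Category.id_comp,
          Category.comp_id] }
  have hG : ∀ G : X.Modules, ∃ w : tensorMap (𝟙 G) S.f ≫ tensorMap (𝟙 G) S.g = 0,
      (ShortComplex.mk (tensorMap (𝟙 G) S.f) (tensorMap (𝟙 G) S.g) w).ShortExact := fun G => by
    have h := Groth.L00.KFlat.shortExact_tensor_of_flat G S hS (Groth.L29.DC.isFlat_of_isFinLocFree h₃)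
    haveI : (tensorLeftF G).Additive := Functor.additive_of_iso (Groth.L22.PDual.biIso G).symm
    exact ⟨((tensorLeftF G).map_comp S.f S.g).symm.trans (by rw [S.zero, Functor.map_zero]),
      ShortComplex.shortExact_of_iso (S.mapNatIso (Groth.L22.PDual.biIso G)).symm h⟩
  let s := (a₃.homEquiv O _).symm (a₂.unit.app O ≫ (η S.g).app _)
  let t := (a₂.homEquiv O _).symm (a₁.unit.app O ≫ (η S.f).app _)
  have hs : ∀ {G : X.Modules} (k : (tensorRightF (Dl S.X₂)).obj O ⟶ G),
      a₃.homEquiv O G (s ≫ k) = a₂.homEquiv O G k ≫ (η S.g).app G := fun k => by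
    rw [a₃.homEquiv_naturality_right, Equiv.apply_symm_apply, Category.assoc, a₂.homEquiv_unit,
      Category.assoc]
    exact congrArg (fun z => a₂.unit.app O ≫ z) ((η S.g).naturality k).symm
  have ht : ∀ {G : X.Modules} (k : (tensorRightF (Dl S.X₁)).obj O ⟶ G),
      a₂.homEquiv O G (t ≫ k) = a₁.homEquiv O G k ≫ (η S.f).app G := fun k => by
    rw [a₂.homEquiv_naturality_right, Equiv.apply_symm_apply, Category.assoc, a₁.homEquiv_unit,
      Category.assoc]
    exact congrArg (fun z => a₁.unit.app O ≫ z) ((η S.f).naturality k).symm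
  have hsub : ∀ {A : X.Modules} (a : tensorRightF (Dl A) ⊣ tensorRightF A) (G : X.Modules),
      a.homEquiv O G 0 = 0 := fun {A} a G => by
    haveI : (tensorLeftF O).Additive := Functor.additive_of_iso (Groth.L22.PDual.biIso O).symm
    haveI : (tensorRightF A).IsRightAdjoint := a.isRightAdjoint
    haveI := preservesBinaryBiproducts_of_preservesBinaryProducts (tensorRightF A)
    haveI : (tensorRightF A).Additive := Functor.additive_of_preservesBinaryBiproducts _
    rw [a.homEquiv_unit, Functor.map_zero, comp_zero]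
  have w : s ≫ t = 0 := by
    apply (a₃.homEquiv O _).injective
    obtain ⟨w', -⟩ := hG ((tensorRightF (Dl S.X₁)).obj O)
    rw [hs, hsub, show a₂.homEquiv O _ t = a₁.unit.app O ≫ (η S.f).app _ from Equiv.apply_symm_apply _ _,
      Category.assoc]
    exact (congrArg (fun z => a₁.unit.app O ≫ z) w').trans comp_zero
  have hepi : Epi t := Preadditive.epi_of_cancel_zero _ fun {G} k hk => by
    obtain ⟨w', hGs⟩ := hG G
    haveI := hGs.mono_f
    apply (a₁.homEquiv O G).injective
    have h0 := congrArg (a₂.homEquiv O G) hk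
    rw [ht, hsub] at h0
    rw [hsub]
    exact zero_of_comp_mono (tensorMap (𝟙 G) S.f) h0
  have hmono : Mono s := Preadditive.mono_of_cancel_zero _ fun {P} k hk => by
    let I := Injective.under ((tensorRightF (Dl S.X₃)).obj O)
    obtain ⟨w', hIs⟩ := hG I
    haveI : Injective ((tensorRightF S.X₁).obj I) :=
      Groth.L17.Duality.injective_tensorRight S.X₁ h₁ I
    haveI : Injective (ShortComplex.mk (tensorMap (𝟙 I) S.f) (tensorMap (𝟙 I) S.g) w').X₁ := by assumption
    let sp := hIs.splittingOfInjective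
    let v := a₃.homEquiv O I (Injective.ι _)
    let m := (a₂.homEquiv O I).symm (v ≫ sp.s)
    have hm : s ≫ m = Injective.ι _ := by
      apply (a₃.homEquiv O I).injective
      rw [hs, Equiv.apply_symm_apply, Category.assoc]
      exact (congrArg (fun z => v ≫ z) sp.s_g).trans (Category.comp_id v)
    rw [← cancel_mono (Injective.ι ((tensorRightF (Dl S.X₃)).obj O)), ← hm, reassoc_of% hk, zero_comp, zero_comp]
  refine ⟨ShortComplex.mk s t w, ?_, ⟨tensorUnitLeft _⟩, ⟨tensorUnitLeft _⟩, ⟨tensorUnitLeft _⟩⟩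
  haveI := hepi
  haveI := hmono
  have hex : (ShortComplex.mk s t w).Exact := by
    refine ShortComplex.exact_of_g_is_cokernel _ (CokernelCofork.IsColimit.ofπ' _ _ fun {G} k hk => ?_)
    have hGs := (hG G).choose_spec
    haveI := hGs.mono_f
    have h0 : a₂.homEquiv O G k ≫ tensorMap (𝟙 G) S.g = 0 :=
      (hs k).symm.trans ((congrArg (a₃.homEquiv O G) hk).trans (hsub a₃ G))
    refine ⟨(a₁.homEquiv O G).symm (hGs.exact.lift _ h0), (a₂.homEquiv O G).injective ?_⟩
    rw [ht, Equiv.apply_symm_apply]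
    exact hGs.exact.lift_f _ h0
  exact { exact := hex, mono_f := hmono, epi_g := hepi }

end Groth.L12.DualVb
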