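import Groth.Agent.L12.EssSurj
import Mathlib.RingTheory.Kaehler.Basic
import Mathlib.RingTheory.Unramified.Basic
import Mathlib.LinearAlgebra.TensorProduct.Tower
import Mathlib.RingTheory.Finiteness.Cardinality
import Mathlib.LinearAlgebra.Dimension.RankNullity
import Mathlib.FieldTheory.Separable
import Mathlib.RingTheory.Etale.Field

/-!
# Surjections and differentials
-/

universe u

open CategoryTheory ArtFun ArtFun.Art IsLocalRing TensorProduct

namespace Groth.L12

variable {Λ : Type u} {k : Type u} [CommRing Λ] [Field k] [Algebra Λ k]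

theorem surjective_iff_kaehler {A B : Art Λ k} (f : B ⟶ A) :
    letI : Algebra B A := f.toAlgHom.toRingHom.toAlgebra
    letI : Algebra A k := A.res.toRingHom.toAlgebra
    Function.Surjective f ↔ Subsingleton (k ⊗[A] Ω[A⁄B]) := by
  letI : Algebra B A := f.toAlgHom.toRingHom.toAlgebra
  letI : Algebra A k := A.res.toRingHom.toAlgebra
  letI : Algebra B k := ((algebraMap A k).comp (algebraMap B A)).toAlgebra
  haveI : IsScalarTower B A k := IsScalarTower.of_algebraMap_eq fun _ => rfl
  constructor
  · intro hf
    haveI : Algebra.FormallyUnramified B A := Algebra.FormallyUnramified.of_surjective (Algebra.ofId B A) hf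
    infer_instance
  · intro hsub
    by_contra hns
    obtain ⟨g, hg, a, -, hga⟩ := exists_sep_functional f hns
    have hb : ∀ b : B, sndHom g (f b) = 0 := fun b => by
      change TrivSqZeroExt.snd ((f ≫ g) b) = 0
      rw [hg]
      rfl
    have hmul : ∀ x y : A, sndHom g (x * y) = x • sndHom g y + y • sndHom g x := fun x y => by
      rw [sndHom_mul, Algebra.smul_def, Algebra.smul_def]
      rfl
    let dl : A →ₗ[B] k :=
      { toFun := sndHom g
        map_add' := map_add _
        map_smul' := fun b x => by
          rw [RingHom.id_apply, Algebra.smul_def, hmul, show algebraMap B A b = f b from rfl, hb, smul_zero, add_zero,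
            ← algebraMap_smul A b (sndHom g x)]
          rfl }
    let D : Derivation B A k := Derivation.mk' dl hmul
    let φ : k ⊗[A] Ω[A⁄B] →ₗ[A] k := TensorProduct.lift ((LinearMap.mul A k).compl₂ D.liftKaehlerDifferential)
    have h1 : φ (1 ⊗ₜ KaehlerDifferential.D B A a) = 1 := by
      simp only [φ, TensorProduct.lift.tmul, LinearMap.compl₂_apply, LinearMap.mul_apply',
        Derivation.liftKaehlerDifferential_comp_D, one_mul]
      exact hga
    rw [Subsingleton.elim ((1 : k) ⊗ₜ[A] KaehlerDifferential.D B A a) 0, map_zero] at h1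
    exact zero_ne_one h1

/-- the functional associated with a tangent vector -/
lemma exists_functional {B : Art Λ k} (g : B ⟶ dual Λ k) :
    letI : Algebra B k := B.res.toRingHom.toAlgebra
    ∃ l : k ⊗[B] Ω[B⁄Λ] →ₗ[k] k, ∀ b, l (1 ⊗ₜ KaehlerDifferential.D Λ B b) = sndHom g b := by
  letI : Algebra B k := B.res.toRingHom.toAlgebra
  haveI : IsScalarTower Λ B k := IsScalarTower.of_algebraMap_eq fun l => (B.res.commutes l).symm
  have hmul : ∀ x y : B, sndHom g (x * y) = x • sndHom g y + y • sndHom g x := fun x y => by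
    rw [sndHom_mul, Algebra.smul_def, Algebra.smul_def]
    rfl
  have h0 : ∀ r : Λ, sndHom g (algebraMap Λ B r) = 0 := fun r => by
    rw [sndHom_apply]
    refine (congrArg TrivSqZeroExt.snd (g.toAlgHom.commutes r)).trans ?_
    change TrivSqZeroExt.snd (algebraMap Λ (TrivSqZeroExt k k) r) = 0
    rw [TrivSqZeroExt.algebraMap_eq_inl', TrivSqZeroExt.snd_inl]
  let dl : B →ₗ[Λ] k :=
    { toFun := sndHom g
      map_add' := map_add _
      map_smul' := fun r x => by
        rw [RingHom.id_apply, Algebra.smul_def, hmul, h0, smul_zero, add_zero, algebraMap_smul] }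
  let D : Derivation Λ B k := Derivation.mk' dl hmul
  refine ⟨D.liftKaehlerDifferential.liftBaseChange k, fun b => ?_⟩
  rw [LinearMap.liftBaseChange_tmul, one_smul, Derivation.liftKaehlerDifferential_comp_D]
  rfl

/-- the tangent vector associated with a functional -/
lemma exists_tangent {B : Art Λ k} :
    letI : Algebra B k := B.res.toRingHom.toAlgebra
    ∀ l : k ⊗[B] Ω[B⁄Λ] →ₗ[k] k, ∃ g : B ⟶ dual Λ k, ∀ b, sndHom g b = l (1 ⊗ₜ KaehlerDifferential.D Λ B b) := by
  letI : Algebra B k := B.res.toRingHom.toAlgebra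
  haveI : IsScalarTower Λ B k := IsScalarTower.of_algebraMap_eq fun l => (B.res.commutes l).symm
  intro l
  let d : B → k := fun b => l (1 ⊗ₜ KaehlerDifferential.D Λ B b)
  have hadd : ∀ x y, d (x + y) = d x + d y := fun x y => by
    simp only [d]
    rw [map_add, TensorProduct.tmul_add, map_add]
  have hmul : ∀ x y, d (x * y) = B.res x * d y + B.res y * d x := fun x y => by
    simp only [d]
    rw [Derivation.leibniz, TensorProduct.tmul_add, map_add, ← TensorProduct.smul_tmul, ← TensorProduct.smul_tmul,
      Algebra.smul_def, Algebra.smul_def, ← smul_eq_mul (algebraMap B k x) (1 : k),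
      ← smul_eq_mul (algebraMap B k y) (1 : k), ← TensorProduct.smul_tmul', ← TensorProduct.smul_tmul', map_smul,
      map_smul]
    rfl
  have halg : ∀ r : Λ, d (algebraMap Λ B r) = 0 := fun r => by
    simp only [d]
    rw [Derivation.map_algebraMap, TensorProduct.tmul_zero, map_zero]
  let φ : B →ₐ[Λ] dual Λ k :=
    { toFun := fun b => ((B.res b, d b) : k × k)
      map_one' := TrivSqZeroExt.ext (map_one B.res) (by
        change d 1 = 0
        rw [← map_one (algebraMap Λ B), halg])
      map_mul' := fun a b => TrivSqZeroExt.ext (map_mul B.res a b) (by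
        change d (a * b) = B.res a • d b + MulOpposite.op (B.res b) • d a
        rw [hmul, op_smul_eq_smul, smul_eq_mul, smul_eq_mul])
      map_zero' := TrivSqZeroExt.ext (map_zero B.res) (by
        change d 0 = 0
        rw [← map_zero (algebraMap Λ B), halg])
      map_add' := fun a b => TrivSqZeroExt.ext (map_add B.res a b) (hadd a b)
      commutes' := fun r => TrivSqZeroExt.ext (by
          change B.res (algebraMap Λ B r) = TrivSqZeroExt.fst (algebraMap Λ (DualNumber k) r)
          rw [AlgHom.commutes, TrivSqZeroExt.algebraMap_eq_inl', TrivSqZeroExt.fst_inl]) (by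
          change d (algebraMap Λ B r) = TrivSqZeroExt.snd (algebraMap Λ (DualNumber k) r)
          rw [halg, TrivSqZeroExt.algebraMap_eq_inl', TrivSqZeroExt.snd_inl]) }
  exact ⟨⟨φ, AlgHom.ext fun _ => rfl⟩, fun b => rfl⟩

theorem finrank_kaehler_eq_iff [IsNoetherianRing Λ] [Module.Finite Λ k] {A B : Art Λ k} (f : B ⟶ A)
    (hf : Function.Surjective f) :
    letI : Algebra A k := A.res.toRingHom.toAlgebra
    letI : Algebra B k := B.res.toRingHom.toAlgebra
    Module.finrank k (k ⊗[B] Ω[B⁄Λ]) = Module.finrank k (k ⊗[A] Ω[A⁄Λ]) ↔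
      ∀ g : B ⟶ dual Λ k, ∀ b, f b = 0 → TrivSqZeroExt.snd (g b) = 0 := by
  letI : Algebra A k := A.res.toRingHom.toAlgebra
  letI : Algebra B k := B.res.toRingHom.toAlgebra
  letI : Algebra B A := f.toAlgHom.toRingHom.toAlgebra
  haveI : IsScalarTower B A k := IsScalarTower.of_algebraMap_eq fun b => (Art.res_app f b).symm
  haveI : IsScalarTower Λ B A := IsScalarTower.of_algebraMap_eq fun l => (f.toAlgHom.commutes l).symm
  haveI : Module.Finite Λ B := by
    haveI := (isFiniteLength_iff_isNoetherian_isArtinian.1 (isFiniteLength_art B)).1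
    infer_instance
  haveI : Module.Finite Λ A := by
    haveI := (isFiniteLength_iff_isNoetherian_isArtinian.1 (isFiniteLength_art A)).1
    infer_instance
  let Φ : k ⊗[B] Ω[B⁄Λ] →ₗ[k] k ⊗[A] Ω[A⁄Λ] :=
    (((TensorProduct.mk A k Ω[A⁄Λ] 1).restrictScalars B).comp (KaehlerDifferential.map Λ Λ B A)).liftBaseChange k
  have hΦD : ∀ b, Φ (1 ⊗ₜ KaehlerDifferential.D Λ B b) = 1 ⊗ₜ KaehlerDifferential.D Λ A (f b) := fun b => by
    simp only [Φ, LinearMap.liftBaseChange_tmul, one_smul, LinearMap.comp_apply, KaehlerDifferential.map_D]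
    rfl
  have hspan : Submodule.span k (Set.range fun x : A => (1 : k) ⊗ₜ[A] KaehlerDifferential.D Λ A x) = ⊤ := by
    rw [eq_top_iff]
    intro z hz
    clear hz
    induction z using TensorProduct.induction_on with
    | zero => exact zero_mem _
    | tmul c w =>
      have hw : w ∈ Submodule.span A (Set.range (KaehlerDifferential.D Λ A)) := by
        rw [KaehlerDifferential.span_range_derivation]; trivial
      induction hw using Submodule.span_induction generalizing c with
      | mem x hx =>
        obtain ⟨x, rfl⟩ := hx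
        have hr : (1 : k) ⊗ₜ[A] KaehlerDifferential.D Λ A x ∈
            Submodule.span k (Set.range fun x : A => (1 : k) ⊗ₜ[A] KaehlerDifferential.D Λ A x) :=
          Submodule.subset_span ⟨x, rfl⟩
        have := Submodule.smul_mem _ c hr
        rwa [TensorProduct.smul_tmul', smul_eq_mul, mul_one] at this
      | zero => rw [TensorProduct.tmul_zero]; exact zero_mem _
      | add x y _ _ hx hy => rw [TensorProduct.tmul_add]; exact add_mem (hx c) (hy c)
      | smul r x _ hx => rw [← TensorProduct.smul_tmul]; exact hx _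
    | add x y hx hy => exact add_mem hx hy
  have hsurj : Function.Surjective Φ := by
    rw [← LinearMap.range_eq_top, eq_top_iff, ← hspan, Submodule.span_le]
    rintro - ⟨x, rfl⟩
    obtain ⟨b, rfl⟩ := hf x
    exact ⟨_, hΦD b⟩
  have hrn := LinearMap.finrank_range_add_finrank_ker Φ
  rw [LinearMap.range_eq_top.2 hsurj, finrank_top] at hrn
  constructor
  · intro heq g b hb
    obtain ⟨l, hl⟩ := exists_functional g
    have hinj : LinearMap.ker Φ = ⊥ := Submodule.finrank_eq_zero.1 (by omega)
    have h1 : (1 : k) ⊗ₜ[B] KaehlerDifferential.D Λ B b = 0 := by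
      refine (LinearMap.ker_eq_bot.1 hinj) ?_
      rw [hΦD, hb, map_zero, TensorProduct.tmul_zero, map_zero]
    rw [← sndHom_apply, ← hl, h1, map_zero]
  · intro hker
    suffices LinearMap.ker Φ = ⊥ by rw [this, finrank_bot] at hrn; omega
    refine (Submodule.eq_bot_iff _).2 fun z hz => ?_
    by_contra hz0
    obtain ⟨l, hl⟩ := Module.Projective.exists_dual_ne_zero k hz0
    obtain ⟨g, hg⟩ := exists_tangent l
    obtain ⟨q, hq⟩ := exists_desc f hf g fun b hb => dual_ext
      ((Art.res_app g b).trans (by rw [← Art.res_app f, hb, map_zero]; rfl)) (hker g b hb)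
    obtain ⟨l', hl'⟩ := exists_functional q
    have hcomp : ∀ w, l w = l' (Φ w) := by
      intro w
      induction w using TensorProduct.induction_on with
      | zero => simp
      | tmul c w =>
        have hw : w ∈ Submodule.span B (Set.range (KaehlerDifferential.D Λ B)) := by
          rw [KaehlerDifferential.span_range_derivation]; trivial
        induction hw using Submodule.span_induction generalizing c with
        | mem x hx =>
          obtain ⟨x, rfl⟩ := hx
          have hc : c ⊗ₜ[B] KaehlerDifferential.D Λ B x = c • ((1 : k) ⊗ₜ[B] KaehlerDifferential.D Λ B x) := by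
            rw [TensorProduct.smul_tmul', smul_eq_mul, mul_one]
          rw [hc, map_smul, map_smul, map_smul, hΦD, hl', ← hg, ← hq]
          rfl
        | zero => simp
        | add x y _ _ hx hy => rw [TensorProduct.tmul_add, map_add, map_add, map_add, hx c, hy c]
        | smul r x _ hx => rw [← TensorProduct.smul_tmul]; exact hx _
      | add x y hx hy => rw [map_add, map_add, map_add, hx, hy]
    exact hl (by rw [hcomp, LinearMap.mem_ker.1 hz, map_zero])

/-- sections over a separable residue field -/
theorem exists_section_of_separable [Module.Finite Λ k] [Algebra.IsSeparable (↥(algebraMap Λ k).range) k]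
    {E : Art Λ k} (hE : RingHom.ker (algebraMap Λ k) ≤ RingHom.ker (algebraMap Λ E)) :
    Nonempty (Art.base Λ k ⟶ E) := by
  let k0 := (algebraMap Λ k).range
  haveI : Module.Finite k0 k := by
    letI : Algebra Λ k0 := (algebraMap Λ k).rangeRestrict.toAlgebra
    haveI : IsScalarTower Λ k0 k := IsScalarTower.of_algebraMap_eq fun _ => rfl
    exact Module.Finite.of_restrictScalars_finite Λ k0 k
  haveI : Algebra.IsIntegral k0 k := Algebra.IsIntegral.of_finite k0 k
  have hfield : IsField k0 := isField_of_isIntegral_of_isField (R := k0) (S := k) Subtype.val_injective (Field.toIsField k)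
  letI : Field k0 := hfield.toField
  let e : k0 →+* E := RingHom.liftOfSurjective (algebraMap Λ k).rangeRestrict
    (RingHom.rangeRestrict_surjective _) ⟨algebraMap Λ E, fun l hl => by
      refine hE (RingHom.mem_ker.2 ?_)
      exact congrArg Subtype.val (RingHom.mem_ker.1 hl)⟩
  have he : ∀ l, e ((algebraMap Λ k).rangeRestrict l) = algebraMap Λ E l := fun l =>
    RingHom.liftOfSurjective_comp_apply _ _ _ l
  letI : Algebra k0 E := e.toAlgebra
  let resE : E →ₐ[k0] k :=
    { E.res.toRingHom with
      commutes' := fun x => by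
        obtain ⟨l, rfl⟩ := RingHom.rangeRestrict_surjective _ x
        change E.res (e _) = _
        rw [he, AlgHom.commutes]
        rfl }
  haveI hes : Algebra.FormallyEtale k0 k := Algebra.FormallyEtale.of_isSeparable k0 k
  haveI : Algebra.FormallySmooth k0 k := inferInstance
  have hnil : IsNilpotent (RingHom.ker (resE : E →+* k)) := by
    have : RingHom.ker (resE : E →+* k) = maximalIdeal E := Ideal.ext fun x => (E.mem_maximalIdeal_iff x).symm
    rw [this]
    exact isNilpotent_maximalIdeal E
  let s := Algebra.FormallySmooth.liftOfSurjective (AlgHom.id k0 k) resE E.res_surjective hnil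
  have hs : ∀ c, E.res (s c) = c := fun c => Algebra.FormallySmooth.liftOfSurjective_apply (AlgHom.id k0 k) resE E.res_surjective hnil c
  exact ⟨⟨{ s.toRingHom with
    commutes' := fun l => by
      change s ((algebraMap Λ k).rangeRestrict l : k) = _
      exact (s.commutes _).trans (he l) }, AlgHom.ext hs⟩⟩

theorem ker_le_cotangent_of_essSurj [IsNoetherianRing Λ] [Module.Finite Λ k]
    [Algebra.IsSeparable (↥(algebraMap Λ k).range) k] {A B : Art Λ k} (f : B ⟶ A)
    (h : ∀ g : B ⟶ dual Λ k, ∀ b, f b = 0 → TrivSqZeroExt.snd (g b) = 0) (a : B) (ha : f a = 0) :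
    a ∈ Ideal.map (algebraMap Λ B) (RingHom.ker (algebraMap Λ k)) ⊔ maximalIdeal B ^ 2 := by
  set J := Ideal.map (algebraMap Λ B) (RingHom.ker (algebraMap Λ k)) ⊔ maximalIdeal B ^ 2 with hJ
  have hJm : J ≤ maximalIdeal B := sup_le (Ideal.map_le_iff_le_comap.2 fun l hl => by
    rw [Ideal.mem_comap, B.mem_maximalIdeal_iff, AlgHom.commutes]
    exact hl) (Ideal.pow_le_self two_ne_zero)
  by_contra haJ
  obtain ⟨σ⟩ := exists_section_of_separable (E := quot B J hJm) (fun l hl => by
    refine RingHom.mem_ker.2 (((quotMk B J hJm).toAlgHom.commutes l).symm.trans ?_)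
    exact Ideal.Quotient.eq_zero_iff_mem.2 (Ideal.mem_sup_left (Ideal.mem_map_of_mem _ hl)))
  have hE : maximalIdeal (quot B J hJm) ^ 2 = ⊥ := by
    rw [eq_bot_iff, pow_two, Ideal.mul_le]
    intro x hx y hy
    obtain ⟨x, rfl⟩ := quotMk_surjective B J hJm x
    obtain ⟨y, rfl⟩ := quotMk_surjective B J hJm y
    rw [(quot B J hJm).mem_maximalIdeal_iff, Art.res_app, ← B.mem_maximalIdeal_iff] at hx hy
    rw [Submodule.mem_bot]
    refine ((map_mul (quotMk B J hJm).toAlgHom x y).symm).trans (Ideal.Quotient.eq_zero_iff_mem.2 (Ideal.mem_sup_right ?_))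
    rw [pow_two]
    exact Ideal.mul_mem_mul hx hy
  obtain ⟨g, hg, -⟩ := exists_dual_functional hE σ (e₀ := quotMk B J hJm a)
    ((mem_maximalIdeal_iff _ _).2 ((Art.res_app _ a).trans (by rw [← Art.res_app f, ha, map_zero])))
    (fun h0 => haJ (Ideal.Quotient.eq_zero_iff_mem.1 h0))
  exact one_ne_zero (hg.symm.trans (h (quotMk B J hJm ≫ g) a ha))

lemma snd_eq_zero_of_mem_cotangent {B : Art Λ k} (g : B ⟶ dual Λ k) {a : B}
    (ha : a ∈ Ideal.map (algebraMap Λ B) (RingHom.ker (algebraMap Λ k)) ⊔ maximalIdeal B ^ 2) :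
    TrivSqZeroExt.snd (g a) = 0 := by
  obtain ⟨x, hx, y, hy, rfl⟩ := Submodule.mem_sup.1 ha
  clear ha
  rw [← sndHom_apply, map_add]
  have h1 : sndHom g x = 0 ∧ B.res x = 0 := by
    rw [Ideal.map] at hx
    induction hx using Submodule.span_induction with
    | mem z hz =>
      obtain ⟨l, hl, rfl⟩ := hz
      refine ⟨?_, (B.res.commutes l).trans hl⟩
      rw [sndHom_apply]
      refine (congrArg TrivSqZeroExt.snd (g.toAlgHom.commutes l)).trans ?_
      change TrivSqZeroExt.snd (algebraMap Λ (TrivSqZeroExt k k) l) = 0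
      rw [TrivSqZeroExt.algebraMap_eq_inl', TrivSqZeroExt.snd_inl]
    | zero => exact ⟨map_zero _, map_zero _⟩
    | add p q _ _ hp hq => exact ⟨by rw [map_add, hp.1, hq.1, add_zero], by rw [map_add, hp.2, hq.2, add_zero]⟩
    | smul r z _ hz => exact ⟨by rw [smul_eq_mul, sndHom_mul, hz.1, hz.2, mul_zero, zero_mul, add_zero],
        by rw [smul_eq_mul, map_mul, hz.2, mul_zero]⟩
  have h2 : sndHom g y = 0 := by
    rw [pow_two] at hy
    refine Submodule.mul_induction_on hy (fun p hp q hq => ?_) fun p q hp hq => by rw [map_add, hp, hq, add_zero]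
    rw [sndHom_mul, (B.mem_maximalIdeal_iff p).1 hp, (B.mem_maximalIdeal_iff q).1 hq, zero_mul, zero_mul, add_zero]
  rw [h1.1, h2, add_zero]

end Groth.L12
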