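import Groth.Agent.S12708
import Groth.Agent.L12.PSSmooth

/-!
# Minimal versal families
-/

universe u v

open CategoryTheory ArtFun ArtFun.Art IsLocalRing

namespace Groth.L12

variable {Λ : Type u} {k : Type u} [CommRing Λ] [Field k] [Algebra Λ k]

lemma length_residue_ne_top [Module.Finite Λ k] : Module.length Λ k ≠ ⊤ := by
  let K := (algebraMap Λ k).range
  letI : Algebra Λ K := (algebraMap Λ k).rangeRestrict.toAlgebra
  haveI : IsScalarTower Λ K k := IsScalarTower.of_algebraMap_eq fun _ => rfl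
  haveI : Module.Finite K k := Module.Finite.of_restrictScalars_finite Λ K k
  haveI : Algebra.IsIntegral K k := Algebra.IsIntegral.of_finite K k
  have hK : IsField K := isField_of_isIntegral_of_isField (R := K) (S := k) Subtype.coe_injective (Field.toIsField k)
  haveI : IsArtinianRing K := by
    letI := hK.toField
    infer_instance
  rw [Module.length_eq_of_surjective (S := Λ) (R := K) (M := k) (algebraMap Λ k).rangeRestrict_surjective]
  exact Module.length_ne_top_iff.2 (isFiniteLength_iff_isNoetherian_isArtinian.2 ⟨inferInstance, inferInstance⟩)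

lemma isFiniteLength_art [IsNoetherianRing Λ] [Module.Finite Λ k] (A : Art Λ k) : IsFiniteLength Λ A := by
  letI : Algebra A k := A.res.toRingHom.toAlgebra
  haveI : IsScalarTower Λ A k := IsScalarTower.of_algebraMap_eq fun l => (A.res.commutes l).symm
  rw [← Module.length_ne_top_iff, ← Groth.Agent.S12708.result (Λ := Λ) (k := k) A A.res_surjective A]
  exact WithTop.mul_ne_top length_residue_ne_top Module.length_ne_top

/-- the stable retraction attached to an endomorphism of an object -/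
theorem exists_retraction [IsNoetherianRing Λ] [Module.Finite Λ k] (A : Art Λ k) (e : A →ₐ[Λ] A)
    (he : A.res.comp e = A.res) :
    ∃ (p : A ⟶ A) (N : ℕ), ∀ M, N ≤ M → (∀ x, p x ∈ Set.range (e ^ M : A →ₐ[Λ] A)) ∧
      (∀ x, (e ^ M : A →ₐ[Λ] A) (p x) = (e ^ M : A →ₐ[Λ] A) x) ∧
      (∀ y ∈ Set.range (e ^ M : A →ₐ[Λ] A), p y = y) ∧
      (∀ x, ∀ y ∈ Set.range (e ^ M : A →ₐ[Λ] A),
        (e ^ M : A →ₐ[Λ] A) y = (e ^ M : A →ₐ[Λ] A) x → p x = y) := by
  obtain ⟨hn, ha⟩ := isFiniteLength_iff_isNoetherian_isArtinian.1 (isFiniteLength_art A)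
  obtain ⟨N, hN⟩ := Filter.eventually_atTop.1 (LinearMap.eventually_isCompl_ker_pow_range_pow e.toLinearMap)
  obtain ⟨N', hN'⟩ := IsArtinian.monotone_stabilizes (e.toLinearMap.iterateRange)
  set M₀ := max N N' with hM₀
  have hpow : ∀ (M : ℕ) (x : A), (e.toLinearMap ^ M) x = (e ^ M : A →ₐ[Λ] A) x := fun M x => by
    induction M generalizing x with
    | zero => rfl
    | succ M ih => rw [pow_succ, pow_succ]; exact ih (e x)
  have hc := hN M₀ (le_max_left _ _)
  have hinj : ∀ y z : A, y ∈ Set.range (e ^ M₀ : A →ₐ[Λ] A) → z ∈ Set.range (e ^ M₀ : A →ₐ[Λ] A) →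
      (e ^ M₀ : A →ₐ[Λ] A) y = (e ^ M₀ : A →ₐ[Λ] A) z → y = z := by
    rintro y z ⟨y, rfl⟩ ⟨z, rfl⟩ h
    refine sub_eq_zero.1 ((Submodule.mem_bot Λ).1 (hc.disjoint.le_bot ⟨?_, ?_⟩))
    · change (e.toLinearMap ^ M₀) _ = 0
      rw [hpow, map_sub, h, sub_self]
    · exact ⟨y - z, by rw [hpow, map_sub]⟩
  have hex : ∀ x : A, ∃ y, y ∈ Set.range (e ^ M₀ : A →ₐ[Λ] A) ∧ (e ^ M₀ : A →ₐ[Λ] A) y = (e ^ M₀ : A →ₐ[Λ] A) x := by
    intro x
    obtain ⟨a, ha', b, hb', hab⟩ := Submodule.mem_sup.1 (hc.sup_eq_top.ge (Submodule.mem_top (x := x)))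
    obtain ⟨b', rfl⟩ := LinearMap.mem_range.1 hb'
    refine ⟨_, ⟨b', (hpow M₀ b').symm⟩, ?_⟩
    rw [← hab, map_add, ← hpow M₀ a, LinearMap.mem_ker.1 ha', zero_add]
  choose p hp₁ hp₂ using hex
  have hfix : ∀ y ∈ Set.range (e ^ M₀ : A →ₐ[Λ] A), p y = y := fun y hy => hinj _ _ (hp₁ y) hy (hp₂ y)
  let P : A →ₐ[Λ] A :=
    { toFun := p
      map_one' := hfix 1 ⟨1, map_one _⟩
      map_mul' := fun a b => hinj _ _ (hp₁ _) (by
        obtain ⟨a', ha'⟩ := hp₁ a
        obtain ⟨b', hb'⟩ := hp₁ b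
        exact ⟨a' * b', by rw [map_mul, ha', hb']⟩) (by rw [hp₂, map_mul, map_mul, hp₂, hp₂])
      map_zero' := hfix 0 ⟨0, map_zero _⟩
      map_add' := fun a b => hinj _ _ (hp₁ _) (by
        obtain ⟨a', ha'⟩ := hp₁ a
        obtain ⟨b', hb'⟩ := hp₁ b
        exact ⟨a' + b', by rw [map_add, ha', hb']⟩) (by rw [hp₂, map_add, map_add, hp₂, hp₂])
      commutes' := fun l => hfix _ ⟨algebraMap Λ A l, AlgHom.commutes _ l⟩ }
  have hres : ∀ (M : ℕ) (x : A), A.res ((e ^ M : A →ₐ[Λ] A) x) = A.res x := fun M => by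
    induction M with
    | zero => exact fun x => rfl
    | succ M ih =>
      intro x
      rw [pow_succ]
      exact (ih (e x)).trans (DFunLike.congr_fun he x)
  refine ⟨⟨P, AlgHom.ext fun x => ?_⟩, M₀, fun M hM => ?_⟩
  · change A.res (p x) = A.res x
    rw [← hres M₀ (p x), hp₂, hres]
  have hrange : Set.range (e ^ M : A →ₐ[Λ] A) = Set.range (e ^ M₀ : A →ₐ[Λ] A) := by
    have h1 : LinearMap.range (e.toLinearMap ^ M) = LinearMap.range (e.toLinearMap ^ M₀) :=
      ((hN' M ((le_max_right _ _).trans hM)).symm.trans (hN' M₀ (le_max_right _ _)) :)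
    ext y
    have := SetLike.ext_iff.1 h1 y
    simpa [LinearMap.mem_range, hpow] using this
  have hp₂' : ∀ x, (e ^ M : A →ₐ[Λ] A) (p x) = (e ^ M : A →ₐ[Λ] A) x := fun x => by
    rw [← Nat.sub_add_cancel hM, pow_add]
    exact congrArg (e ^ (M - M₀) : A →ₐ[Λ] A) (hp₂ x)
  refine ⟨fun x => hrange ▸ hp₁ x, hp₂', fun y hy => hfix y (hrange ▸ hy), fun x y hy e' => ?_⟩
  obtain ⟨y', hy'⟩ := hy
  obtain ⟨z, hz⟩ : p x ∈ Set.range (e ^ M : A →ₐ[Λ] A) := hrange ▸ hp₁ x
  change p x = y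
  rw [← hy', ← hz]
  refine sub_eq_zero.1 ((Submodule.mem_bot Λ).1 ((hN M ((le_max_left _ _).trans hM)).disjoint.le_bot ⟨?_, ?_⟩))
  · change (e.toLinearMap ^ M) _ = 0
    rw [hpow, map_sub, hz, hp₂', hy', e', sub_self]
  · exact ⟨z - y', by rw [hpow, map_sub]⟩

variable [IsNoetherianRing Λ] [Module.Finite Λ k] {F : Art Λ k ⥤ Type v}

/-- the endomorphism of a truncation induced by an endomorphism of the coefficient ring -/
noncomputable abbrev endoTrunc {R : CRing Λ k} (g : R.carrier →ₐ[Λ] R.carrier) (hg : R.res.comp g = R.res) (n : ℕ) :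
    R.trunc n →ₐ[Λ] R.trunc n := (CRing.truncMapOfHom g hg n).toAlgHom

/-- an endomorphism fixing a family yields an idempotent endomorphism fixing it, with smaller image mod `m²` -/
theorem exists_idempotent (R : CRing Λ k) (ξ : Family R.carrier R.res F) (g : R.carrier →ₐ[Λ] R.carrier)
    (hg : R.res.comp g = R.res) (hgξ : (ξ.along g hg).toFormalElt = ξ.toFormalElt) :
    ∃ (p : R.carrier →ₐ[Λ] R.carrier) (hp : R.res.comp p = R.res), p.comp p = p ∧
      (ξ.along p hp).toFormalElt = ξ.toFormalElt ∧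
      LinearMap.range (endoTrunc p hp 1).toLinearMap ≤ LinearMap.range (endoTrunc g hg 1).toLinearMap := by
  choose q N hq using fun n => exists_retraction (R.trunc n) (endoTrunc g hg n) (CRing.truncMapOfHom g hg n).res_comp
  have hcomm : ∀ n M (x : R.trunc (n + 1)), R.truncMap n ((endoTrunc g hg (n + 1) ^ M : _ →ₐ[Λ] _) x) =
      (endoTrunc g hg n ^ M : _ →ₐ[Λ] _) (R.truncMap n x) := fun n M => by
    induction M with
    | zero => exact fun x => rfl
    | succ M ih =>
      intro x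
      rw [pow_succ, pow_succ]
      refine (ih _).trans (congrArg (endoTrunc g hg n ^ M : _ →ₐ[Λ] _) ?_)
      exact congrArg (fun w : R.trunc (n + 1) ⟶ R.trunc n => w x) (CRing.truncMapOfHom_truncMap g hg n)
  have hcompat : ∀ n, q (n + 1) ≫ R.truncMap n = R.truncMap n ≫ q n := fun n => hom_ext fun x => by
    obtain ⟨h1, h2, -⟩ := hq (n + 1) (max (N n) (N (n + 1))) (le_max_right _ _)
    obtain ⟨-, -, -, h4⟩ := hq n (max (N n) (N (n + 1))) (le_max_left _ _)
    refine (h4 _ _ ?_ ?_).symm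
    · obtain ⟨z, hz⟩ := h1 x
      exact ⟨R.truncMap n z, (hcomm _ _ _).symm.trans (congrArg (R.truncMap n).toAlgHom hz)⟩
    · exact ((hcomm _ _ _).symm.trans (congrArg (R.truncMap n).toAlgHom (h2 x))).trans (hcomm _ _ _)
  obtain ⟨p, hp, hpn⟩ := exists_lift_cring R.carrier R.res R (fun n => HomSet.map (q n) (R.truncHom n)) fun n => by
    rw [HomSet.map_map, hcompat, ← HomSet.map_map, CRing.truncMap_truncHom]
  have hpq : ∀ n (x : R.trunc n), endoTrunc p hp n x = q n x := fun n x => by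
    obtain ⟨a, rfl⟩ := truncHom_surjective R n x
    exact hpn n a
  have hfixM : ∀ n M, F.map (⟨(endoTrunc g hg n ^ M : _ →ₐ[Λ] _), AlgHom.ext fun a => by
      induction M generalizing a with
      | zero => rfl
      | succ M ih =>
        rw [pow_succ]
        exact (ih _).trans (DFunLike.congr_fun (CRing.truncMapOfHom g hg n).res_comp a)⟩ : R.trunc n ⟶ R.trunc n)
      (ξ.toFormalElt.elt n) = ξ.toFormalElt.elt n := fun n M => by
    induction M with
    | zero => exact map_id' F _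
    | succ M ih =>
      have h1 : F.map (CRing.truncMapOfHom g hg n) (ξ.toFormalElt.elt n) = ξ.toFormalElt.elt n := by
        refine Eq.trans ?_ (congrArg (fun u : FormalElt F R => u.elt n) hgξ)
        rw [toFormalElt_along]
        rfl
      conv_rhs => rw [← ih, ← h1, map_map]
      refine map_congr F (hom_ext fun a => ?_) _
      exact congrArg (fun w : R.trunc n →ₐ[Λ] R.trunc n => w a) (pow_succ (endoTrunc g hg n) M)
  refine ⟨p, hp, ?_, ?_, ?_⟩
  · refine cring_hom_ext fun n a => ?_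
    rw [AlgHom.comp_apply, hpn, hpn]
    change q n ((R.truncHom n).1 (p a)) = q n ((R.truncHom n).1 a)
    rw [hpn]
    exact (hq n (N n) le_rfl).2.2.1 _ ((hq n (N n) le_rfl).1 _)
  · rw [toFormalElt_along]
    refine FormalElt.ext' fun n => ?_
    change F.map (CRing.truncMapOfHom p hp n) (ξ.toFormalElt.elt n) = _
    conv_lhs => rw [← hfixM n (N n), map_map]
    conv_rhs => rw [← hfixM n (N n)]
    refine map_congr F (hom_ext fun a => ?_) _
    exact (hpq n _).trans ((hq n (N n) le_rfl).2.2.1 _ ⟨a, rfl⟩)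
  · rintro y ⟨x, rfl⟩
    obtain ⟨z, hz⟩ := (hq 1 (N 1 + 1) (Nat.le_succ _)).1 x
    refine ⟨(endoTrunc g hg 1 ^ N 1 : _ →ₐ[Λ] _) z, ?_⟩
    rw [pow_succ'] at hz
    exact hz.trans (hpq 1 x).symm

/-- every versal family contains a minimal versal family, of which it is a retract -/
theorem exists_minimal (h0 : H0 F) (R : CRing Λ k) (ξ : Family R.carrier R.res F) (hξ : IsVersal ξ) :
    ∃ (R' : CRing Λ k) (ξ' : Family R'.carrier R'.res F) (i : R'.carrier →ₐ[Λ] R.carrier)
      (hi : R.res.comp i = R'.res) (q : R.carrier →ₐ[Λ] R'.carrier) (_ : R'.res.comp q = R.res),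
      ξ'.IsMinimalVersal ∧ q.comp i = AlgHom.id Λ R'.carrier ∧
      (ξ'.along i hi).toFormalElt = ξ.toFormalElt := by
  classical
  obtain ⟨hn, ha⟩ := isFiniteLength_iff_isNoetherian_isArtinian.1 (isFiniteLength_art (R.trunc 1))
  let C : Set (Submodule Λ (R.trunc 1)) := {S | ∃ (g : R.carrier →ₐ[Λ] R.carrier) (hg : R.res.comp g = R.res),
    (ξ.along g hg).toFormalElt = ξ.toFormalElt ∧ S = LinearMap.range (endoTrunc g hg 1).toLinearMap}
  obtain ⟨S, ⟨g, hg, hgξ, rfl⟩, hmin⟩ := wellFounded_lt.has_min C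
    ⟨_, AlgHom.id Λ R.carrier, AlgHom.comp_id _, along_id ξ, rfl⟩
  obtain ⟨p, hp, hpp, hpξ, hple⟩ := exists_idempotent R ξ g hg hgξ
  have hker : RingHom.ker p ≤ maximalIdeal R.carrier := fun a ha' => by
    rw [CRing.mem_maximalIdeal_iff, ← hp, AlgHom.comp_apply, RingHom.mem_ker.1 ha', map_zero]
  obtain ⟨R', q, hq, hqs, hqker⟩ := exists_cring_quot R _ hker
  obtain ⟨i, hi, hiq⟩ := exists_desc_cring q hqs hq p hp hqker.le
  have hqi : q.comp i = AlgHom.id Λ R'.carrier := AlgHom.ext fun a => by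
    obtain ⟨a, rfl⟩ := hqs a
    rw [AlgHom.comp_apply, ← AlgHom.comp_apply i, hiq, AlgHom.id_apply, ← sub_eq_zero, ← map_sub,
      ← RingHom.mem_ker, hqker, RingHom.mem_ker, map_sub, ← AlgHom.comp_apply, hpp, sub_self]
  have hξ'ξ : ((ξ.along q hq).along i hi).toFormalElt = ξ.toFormalElt := by
    rw [toFormalElt_along _ i hi, ← toFormalElt_along_comp ξ q hq i hi]
    refine Eq.trans ?_ hpξ
    congr 1
    congr 1
  have hξfam := family_eq_of_toFormalElt hpξ
  have hv' : IsVersal (ξ.along q hq) := by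
    intro B A μ hμ φ y hy
    obtain ⟨ψ, h₁, h₂⟩ := hξ μ hμ ⟨φ.1.comp q, by rw [← AlgHom.comp_assoc, φ.2, hq]⟩ y hy
    refine ⟨⟨ψ.1.comp i, by rw [← AlgHom.comp_assoc, ψ.2, hi]⟩, Subtype.ext (AlgHom.ext fun a => ?_), ?_⟩
    · exact (DFunLike.congr_fun (congrArg Subtype.val h₁) (i a)).trans
        (congrArg φ.1 (DFunLike.congr_fun hqi a))
    · refine Eq.trans ?_ h₂
      refine Eq.trans ?_ (congrArg (fun ζ : Family R.carrier R.res F => ζ.app B ψ) hξfam)
      exact congrArg (ξ.app B) (Subtype.ext (AlgHom.ext fun a => congrArg ψ.1 (DFunLike.congr_fun hiq a)))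
  refine ⟨R', ξ.along q hq, i, hi, q, hq, ⟨hv', fun T u f hf hu => ?_⟩, hqi, hξ'ξ⟩
  obtain ⟨g', hg', hg'u⟩ := exists_along_eq h0 ξ hξ T u
  set h := i.comp (f.comp g') with hh
  have hhres : R.res.comp h = R.res := by rw [hh, ← AlgHom.comp_assoc, hi, ← AlgHom.comp_assoc, hf, hg']
  have hfg : R'.res.comp (f.comp g') = R.res := by rw [← AlgHom.comp_assoc, hf, hg']
  have hhξ : (ξ.along h hhres).toFormalElt = ξ.toFormalElt := by
    refine Eq.trans (toFormalElt_along_comp ξ (f.comp g') hfg i hi) ?_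
    rw [toFormalElt_along_comp ξ g' hg' f hf, hg'u, hu, ← toFormalElt_along, hξ'ξ]
  have hle : LinearMap.range (endoTrunc h hhres 1).toLinearMap ≤ LinearMap.range (endoTrunc p hp 1).toLinearMap := by
    rintro y ⟨x, rfl⟩
    obtain ⟨a, rfl⟩ := truncHom_surjective R 1 x
    obtain ⟨b, hb⟩ := hqs (f (g' a))
    refine ⟨(R.truncHom 1).1 b, ?_⟩
    change (R.truncHom 1).1 (p b) = (R.truncHom 1).1 (i (f (g' a)))
    rw [← hb, ← AlgHom.comp_apply i, hiq]
  have heq : LinearMap.range (endoTrunc h hhres 1).toLinearMap = LinearMap.range (endoTrunc g hg 1).toLinearMap :=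
    (hle.trans hple).eq_of_not_lt (hmin _ ⟨h, hhres, hhξ, rfl⟩)
  refine surjective_of_cotangent f T.res_surjective (fun s => (CRing.mem_maximalIdeal_iff R' s).symm) hf
    fun y hy => ?_
  obtain ⟨a, rfl⟩ := hqs y
  obtain ⟨x, hx⟩ : (R.truncHom 1).1 (p a) ∈ LinearMap.range (endoTrunc h hhres 1).toLinearMap :=
    heq ▸ hple ⟨(R.truncHom 1).1 a, rfl⟩
  obtain ⟨x, rfl⟩ := truncHom_surjective R 1 x
  have hd : h x - p a ∈ maximalIdeal R.carrier ^ 2 := Ideal.Quotient.eq.1 hx
  have hd' : f (g' x) - q a ∈ maximalIdeal R'.carrier ^ 2 := by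
    have h1 : q (h x - p a) ∈ maximalIdeal R'.carrier ^ 2 :=
      Ideal.pow_right_mono (cringHom_map_max hq) 2 (by rw [← Ideal.map_pow]; exact Ideal.mem_map_of_mem _ hd)
    rwa [map_sub, hh, AlgHom.comp_apply, ← AlgHom.comp_apply q i, hqi, AlgHom.id_apply, ← hiq, AlgHom.comp_apply i q,
      ← AlgHom.comp_apply q i, hqi, AlgHom.id_apply] at h1
  have hgx : g' x ∈ maximalIdeal T.carrier := by
    rw [CRing.mem_maximalIdeal_iff, ← AlgHom.comp_apply, hg', ← hhres, AlgHom.comp_apply]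
    have h2 : R.res (h x - p a) = 0 := (CRing.mem_maximalIdeal_iff R _).1 (Ideal.pow_le_self two_ne_zero hd)
    rw [map_sub, sub_eq_zero] at h2
    rw [h2, ← AlgHom.comp_apply, hp, ← hq, AlgHom.comp_apply]
    exact (CRing.mem_maximalIdeal_iff R' _).1 hy
  rw [← sub_sub_cancel (f (g' x)) (q a)]
  exact sub_mem (Ideal.mem_sup_left (Ideal.mem_map_of_mem _ hgx)) (Ideal.mem_sup_right hd')

/-- a versal family is a power series extension of a minimal one -/
theorem exists_psEquiv_minimal (h0 : H0 F) (R : CRing Λ k) (ξ : Family R.carrier R.res F) (hξ : IsVersal ξ) :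
    ∃ (R' : CRing Λ k) (ξ' : Family R'.carrier R'.res F), ξ'.IsMinimalVersal ∧
      ∃ (g : R'.carrier →ₐ[Λ] R.carrier) (hg : R.res.comp g = R'.res)
        (n : ℕ) (e : (psRing R' (Fin n)).carrier ≃ₐ[Λ] R.carrier),
        e.toAlgHom.comp (psC R' (Fin n)) = g ∧ (ξ'.along g hg).toFormalElt = ξ.toFormalElt := by
  obtain ⟨R', ξ', i, hi, q, hq, hmin, hqi, hξ'⟩ := exists_minimal h0 R ξ hξ
  set J := (maximalIdeal R'.carrier).map i ⊔ maximalIdeal R.carrier ^ 2 with hJ
  obtain ⟨n, s₀, hs₀, hgen, hind⟩ := exists_minimal_gens J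
  have hqm : ∀ j, q (s₀ j) ∈ maximalIdeal R'.carrier := fun j =>
    cringHom_map_max hq (Ideal.mem_map_of_mem _ (hs₀ j))
  let s : Fin n → R.carrier := fun j => s₀ j - i (q (s₀ j))
  have hsJ : ∀ j, i (q (s₀ j)) ∈ J := fun j => Ideal.mem_sup_left (Ideal.mem_map_of_mem _ (hqm j))
  have hs : ∀ j, s j ∈ maximalIdeal R.carrier := fun j =>
    sub_mem (hs₀ j) (cringHom_map_max hi (Ideal.mem_map_of_mem _ (hqm j)))
  have hqs : ∀ j, q (s j) = 0 := fun j => by
    change q (s₀ j - i (q (s₀ j))) = 0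
    rw [map_sub, ← AlgHom.comp_apply q i, hqi, AlgHom.id_apply, sub_self]
  set P := psRing R' (Fin n) with hP
  obtain ⟨φ, hφC, hφX⟩ := exists_psLift R' i s hs
  have hφres : R.res.comp φ = P.res := by
    haveI : IsAdicComplete (maximalIdeal k) k := (artCRing (Art.base Λ k)).isAdicComplete
    refine psHom_ext R' (S := k) (fun j => ?_) ?_ fun j => ?_
    · change R.res (φ _) ∈ _
      rw [hφX, (CRing.mem_maximalIdeal_iff R _).1 (hs j)]
      exact zero_mem _
    · rw [AlgHom.comp_assoc, hφC, psC_res, hi]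
    · change R.res (φ _) = P.res _
      rw [hφX, (CRing.mem_maximalIdeal_iff R _).1 (hs j)]
      exact (psX_res R' (Fin n) j).symm
  let X' : Fin n → P.carrier := fun j => (MvPowerSeries.X j : MvPowerSeries (Fin n) R'.carrier)
  have hX' : ∀ j, φ (X' j) = s j := hφX
  have hXm : ∀ j, X' j ∈ maximalIdeal P.carrier := X_mem_maximalIdeal
  have hmR : maximalIdeal R.carrier ≤ (maximalIdeal P.carrier).map φ ⊔ maximalIdeal R.carrier ^ 2 := by
    have hiC : ∀ a ∈ maximalIdeal R'.carrier, i a ∈ (maximalIdeal P.carrier).map φ := fun a ha => by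
      rw [← hφC, AlgHom.comp_apply]
      exact Ideal.mem_map_of_mem _ (C_mem_maximalIdeal ha)
    refine hgen.trans (sup_le (Ideal.span_le.2 ?_) (sup_le ?_ le_sup_right))
    · rintro - ⟨j, rfl⟩
      rw [show s₀ j = φ (X' j) + i (q (s₀ j)) from by rw [hX']; exact (sub_add_cancel _ _).symm]
      exact Ideal.mem_sup_left (add_mem (Ideal.mem_map_of_mem _ (hXm j)) (hiC _ (hqm j)))
    · exact le_sup_of_le_left (Ideal.map_le_iff_le_comap.2 hiC)
  have hφs : Function.Surjective φ :=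
    surjective_of_cotangent φ P.res_surjective (fun x => (CRing.mem_maximalIdeal_iff R x).symm) hφres hmR
  have hcot : ∀ w ∈ maximalIdeal P.carrier, φ w ∈ maximalIdeal R.carrier ^ 2 →
      w ∈ maximalIdeal P.carrier ^ 2 := by
    intro w hw hφw
    obtain ⟨c, hc⟩ := Ideal.mem_span_range_iff_exists_fun.1 (sub_C_mem_span_X (w : MvPowerSeries (Fin n) R'.carrier))
    set a := MvPowerSeries.constantCoeff (w : MvPowerSeries (Fin n) R'.carrier)
    let c' : Fin n → P.carrier := c
    have hw' : w = psC R' (Fin n) a + ∑ j, c' j * X' j := eq_add_of_sub_eq' hc.symm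
    have hφe : φ w = i a + ∑ j, φ (c' j) * s j := by
      rw [hw', map_add, map_sum, ← AlgHom.comp_apply, hφC]
      simp only [map_mul, hX']
    have ha : a ∈ maximalIdeal R'.carrier ^ 2 := by
      have h1 : q (φ w) ∈ maximalIdeal R'.carrier ^ 2 :=
        Ideal.pow_right_mono (cringHom_map_max hq) 2 (by rw [← Ideal.map_pow]; exact Ideal.mem_map_of_mem _ hφw)
      rw [hφe, map_add, map_sum, ← AlgHom.comp_apply q i, hqi] at h1
      simpa [map_mul, hqs] using h1
    have hsum : ∑ j, φ (c' j) * s₀ j ∈ J := by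
      have h1 : ∑ j, φ (c' j) * s j ∈ J := by
        have h2 : φ w - i a ∈ J :=
          sub_mem (Ideal.mem_sup_right hφw) (Ideal.mem_sup_left (Ideal.mem_map_of_mem _ (Ideal.pow_le_self two_ne_zero ha)))
        rwa [hφe, add_sub_cancel_left] at h2
      have h3 : ∑ j, φ (c' j) * s₀ j = ∑ j, φ (c' j) * s j + ∑ j, φ (c' j) * i (q (s₀ j)) := by
        rw [← Finset.sum_add_distrib]
        exact Finset.sum_congr rfl fun j _ => by rw [← mul_add]; exact congrArg _ (sub_add_cancel _ _).symm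
      rw [h3]
      exact add_mem h1 (Ideal.sum_mem _ fun j _ => Ideal.mul_mem_left _ _ (hsJ j))
    rw [hw']
    refine add_mem ?_ (Ideal.sum_mem _ fun j _ => ?_)
    · refine Ideal.pow_right_mono (Ideal.map_le_iff_le_comap.2 fun r hr => C_mem_maximalIdeal (σ := Fin n) (R := R'.carrier) hr :
        (maximalIdeal R'.carrier).map (psC R' (Fin n)) ≤ maximalIdeal P.carrier) 2
        (?_ : psC R' (Fin n) a ∈ ((maximalIdeal R'.carrier).map (psC R' (Fin n))) ^ 2)
      rw [← Ideal.map_pow]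
      exact Ideal.mem_map_of_mem _ ha
    · rw [pow_two]
      refine Ideal.mul_mem_mul ((CRing.mem_maximalIdeal_iff P _).2 ?_) (hXm j)
      rw [← hφres, AlgHom.comp_apply]
      exact (CRing.mem_maximalIdeal_iff R _).1 (hind _ hsum j)
  have hinj : Function.Injective φ := fun a b e => eq_of_forall_sub_mem_pow (maximalIdeal P.carrier) fun N => by
    set m := N + 1
    let φm : P.trunc m ⟶ R.trunc m := CRing.truncMapOfHom φ hφres m
    have hφm : Function.Surjective φm := fun z => by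
      obtain ⟨r, rfl⟩ := truncHom_surjective R m z
      obtain ⟨u, rfl⟩ := hφs r
      exact ⟨(P.truncHom m).1 u, rfl⟩
    let Cm : HomSet R'.carrier R'.res (P.trunc m) :=
      ⟨(P.truncHom m).1.comp (psC R' (Fin n)), by rw [← AlgHom.comp_assoc, (P.truncHom m).2]; exact psC_res R' _⟩
    obtain ⟨ψ, h₁, -⟩ := hξ φm hφm (R.truncHom m) (ξ'.app _ Cm) (by
      rw [← ξ'.natural]
      refine Eq.trans ?_ (congrArg (fun u : FormalElt F R => u.elt m) hξ')
      refine congrArg (ξ'.app _) (Subtype.ext (AlgHom.ext fun r => ?_))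
      exact congrArg (R.truncHom m).1 (DFunLike.congr_fun hφC r))
    have hψ : ∀ r, φm (ψ.1 r) = (R.truncHom m).1 r := fun r => DFunLike.congr_fun (congrArg Subtype.val h₁) r
    have hψs : Function.Surjective ψ.1 := by
      refine surjective_of_cotangent ψ.1 R.res_surjective (fun x => ((P.trunc m).mem_maximalIdeal_iff x).symm) ψ.2 ?_
      intro z hz
      obtain ⟨w, rfl⟩ := truncHom_surjective P m z
      have hwm : w ∈ maximalIdeal P.carrier := by
        rw [CRing.mem_maximalIdeal_iff, ← (P.truncHom m).2, AlgHom.comp_apply]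
        exact ((P.trunc m).mem_maximalIdeal_iff _).1 hz
      obtain ⟨w', hw'⟩ := truncHom_surjective P m (ψ.1 (φ w))
      have hφwm : φ w ∈ maximalIdeal R.carrier := cringHom_map_max hφres (Ideal.mem_map_of_mem _ hwm)
      have h1 : (R.truncHom m).1 (φ w') = (R.truncHom m).1 (φ w) :=
        (congrArg φm.toAlgHom hw').trans (hψ (φ w))
      have hd : φ (w - w') ∈ maximalIdeal R.carrier ^ 2 := by
        rw [map_sub]
        exact Ideal.pow_le_pow_right (show 2 ≤ m + 1 by omega) (Ideal.Quotient.eq.1 h1.symm)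
      have hwm' : w' ∈ maximalIdeal P.carrier := by
        rw [CRing.mem_maximalIdeal_iff, ← (P.truncHom m).2, AlgHom.comp_apply, hw', ← AlgHom.comp_apply, ψ.2]
        exact (CRing.mem_maximalIdeal_iff R _).1 hφwm
      have h2 : (P.truncHom m).1 (w - w') ∈ maximalIdeal (P.trunc m) ^ 2 :=
        Ideal.pow_right_mono (homSet_map_max (P.truncHom m)) 2 (by
          rw [← Ideal.map_pow]; exact Ideal.mem_map_of_mem _ (hcot _ (sub_mem hwm hwm') hd))
      rw [← sub_add_cancel w w', map_add, hw']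
      exact add_mem (Ideal.mem_sup_right h2) (Ideal.mem_sup_left (Ideal.mem_map_of_mem _ hφwm))
    have hm : (P.truncHom m).1 a = (P.truncHom m).1 b := by
      obtain ⟨r, hr⟩ := hψs ((P.truncHom m).1 a)
      obtain ⟨r', hr'⟩ := hψs ((P.truncHom m).1 b)
      have h3 : (R.truncHom m).1 r = (R.truncHom m).1 r' := by
        rw [← hψ, ← hψ, hr, hr']
        exact congrArg (R.truncHom m).1 e
      obtain ⟨ψ', hψ'⟩ := exists_desc_homSet (R.truncHom m) (truncHom_surjective R m) ψ (by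
        intro x hx
        obtain ⟨t, ht⟩ : ∃ t, ψ.1 x = (P.truncHom m).1 t := ⟨_, (truncHom_surjective P m _).choose_spec.symm⟩
        rw [RingHom.mem_ker]
        have h4 : ψ.1 x ∈ maximalIdeal (P.trunc m) ^ (m + 1) :=
          Ideal.pow_right_mono (homSet_map_max ψ) _ (by
            rw [← Ideal.map_pow]; exact Ideal.mem_map_of_mem _ (Ideal.Quotient.eq_zero_iff_mem.1 (RingHom.mem_ker.1 hx)))
        have h5 : maximalIdeal (P.trunc m) ^ (m + 1) = ⊥ :=
          le_bot_iff.1 ((Ideal.pow_right_mono (CRing.maximalIdeal_quot_le P m) _).trans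
            (le_of_eq ((Ideal.map_pow _ _ _).symm.trans (Ideal.map_quotient_self _))))
        rw [h5] at h4
        exact h4)
      rw [← hr, ← hr', ← hψ']
      exact congrArg ψ'.toAlgHom h3
    exact Ideal.pow_le_pow_right (show N ≤ m + 1 by omega) (Ideal.Quotient.eq.1 hm)
  exact ⟨R', ξ', hmin, i, hi, n, AlgEquiv.ofBijective φ ⟨hinj, hφs⟩, hφC, hξ'⟩

end Groth.L12
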