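import Groth.Agent.L12.SurjCrit
import Groth.Agent.L12.Minimal

/-!
# Essential surjections
-/

universe u

open CategoryTheory ArtFun ArtFun.Art IsLocalRing

namespace Groth.L12

variable {Λ : Type u} {k : Type u} [CommRing Λ] [Field k] [Algebra Λ k]

lemma comp_zeroHom {C B : Art Λ k} (h : C ⟶ B) : h ≫ zeroHom B = zeroHom C := by
  rw [zeroHom, zeroHom, ← Category.assoc, toBase_comp]

/-- a map which is not surjective is killed by a non-zero tangent functional -/
theorem exists_sep_functional {C B : Art Λ k} (h : C ⟶ B) (hns : ¬ Function.Surjective h) :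
    ∃ g : B ⟶ dual Λ k, h ≫ g = zeroHom C ∧ ∃ a ∈ maximalIdeal B, TrivSqZeroExt.snd (g a) = 1 := by
  set N := (maximalIdeal C).map h.toAlgHom ⊔ maximalIdeal B ^ 2 with hN
  have hNm : N ≤ maximalIdeal B := sup_le (map_max_le_of_comp (R := C) h.toAlgHom
    (fun r hr => (C.mem_maximalIdeal_iff r).1 hr) (fun r => (B.mem_maximalIdeal_iff r).symm) h.res_comp)
    (Ideal.pow_le_self two_ne_zero)
  obtain ⟨a, ha, haN⟩ : ∃ a ∈ maximalIdeal B, a ∉ N := by
    by_contra hcon
    push Not at hcon
    exact hns (((art_surjective_tfae h).out 1 0).1 (le_antisymm hNm hcon))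
  let E := quot B N hNm
  let π : B ⟶ E := quotMk B N hNm
  obtain ⟨σ, hσ⟩ := exists_desc (toBase C) (toBase_surjective C) (h ≫ π) fun c hc =>
    Ideal.Quotient.eq_zero_iff_mem.2 (Ideal.mem_sup_left (Ideal.mem_map_of_mem _ ((C.mem_maximalIdeal_iff c).2 hc)))
  have hE : maximalIdeal E ^ 2 = ⊥ := by
    rw [eq_bot_iff, pow_two, Ideal.mul_le]
    intro x hx y hy
    obtain ⟨x, rfl⟩ := quotMk_surjective B N hNm x
    obtain ⟨y, rfl⟩ := quotMk_surjective B N hNm y
    rw [E.mem_maximalIdeal_iff, Art.res_app, ← B.mem_maximalIdeal_iff] at hx hy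
    rw [Submodule.mem_bot]
    refine ((map_mul π.toAlgHom x y).symm).trans (Ideal.Quotient.eq_zero_iff_mem.2 (Ideal.mem_sup_right ?_))
    rw [pow_two]
    exact Ideal.mul_mem_mul hx hy
  obtain ⟨g, hg, hgσ⟩ := exists_dual_functional hE σ (e₀ := π a)
    ((E.mem_maximalIdeal_iff _).2 ((Art.res_app π a).trans ((B.mem_maximalIdeal_iff a).1 ha)))
    (fun h0 => haN (Ideal.Quotient.eq_zero_iff_mem.1 h0))
  refine ⟨π ≫ g, ?_, a, ha, hg⟩
  rw [← Category.assoc, ← hσ, Category.assoc, hgσ]
  rfl

/-- the tangent functional of a map to the dual numbers -/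
noncomputable def sndHom {B : Art Λ k} (g : B ⟶ dual Λ k) : B →+ k :=
  (AddMonoidHom.mk' (fun x : TrivSqZeroExt k k => x.snd) TrivSqZeroExt.snd_add).comp g.toAlgHom.toRingHom.toAddMonoidHom

lemma sndHom_apply {B : Art Λ k} (g : B ⟶ dual Λ k) (b : B) : sndHom g b = TrivSqZeroExt.snd (g b) := rfl

lemma sndHom_mul {B : Art Λ k} (g : B ⟶ dual Λ k) (x y : B) :
    sndHom g (x * y) = B.res x * sndHom g y + B.res y * sndHom g x := by
  let G : B →+* TrivSqZeroExt k k := g.toAlgHom.toRingHom
  have hfst : ∀ b, (G b).fst = B.res b := fun b => Art.res_app g b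
  change (G (x * y)).snd = B.res x * (G y).snd + B.res y * (G x).snd
  rw [map_mul, TrivSqZeroExt.snd_mul, hfst, hfst, op_smul_eq_smul, smul_eq_mul, smul_eq_mul]

/-- a map to the dual numbers that is non-zero on the maximal ideal is surjective -/
lemma surjective_to_dual {B : Art Λ k} (g : B ⟶ dual Λ k) {a : B} (ha : B.res a = 0)
    (hga : TrivSqZeroExt.snd (g a) ≠ 0) : Function.Surjective g := fun y => by
  obtain ⟨u, hu⟩ := B.res_surjective (TrivSqZeroExt.fst y)
  obtain ⟨x, hx⟩ := B.res_surjective ((TrivSqZeroExt.snd y - TrivSqZeroExt.snd (g u)) / TrivSqZeroExt.snd (g a))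
  have hfst : ∀ b : B, TrivSqZeroExt.fst (g b) = B.res b := fun b => Art.res_app g b
  refine ⟨u + x * a, dual_ext ((hfst _).trans ?_) ?_⟩
  · rw [map_add, map_mul, ha, mul_zero, add_zero, hu]
  · rw [← sndHom_apply, map_add, sndHom_mul, ha, hx, sndHom_apply, sndHom_apply]
    field_simp
    ring

/-- tiny characterisation of essential surjections -/
theorem essSurj_iff [IsNoetherianRing Λ] [Module.Finite Λ k] {A B : Art Λ k} (f : B ⟶ A) :
    (Function.Surjective f ∧ ∀ (C : Art Λ k) (g : C ⟶ B), Function.Surjective (g ≫ f) → Function.Surjective g) ↔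
      (Function.Surjective f ∧ ∀ g : B ⟶ dual Λ k, ∀ b, f b = 0 → TrivSqZeroExt.snd (g b) = 0) := by
  refine and_congr_right fun hf => ⟨fun hess g a ha => ?_, fun hker C h hhf => ?_⟩
  · by_contra hga
    have hres : B.res a = 0 := by rw [← Art.res_app f, ha, map_zero]
    obtain ⟨P, p₁, p₂, hP⟩ := exists_isFibreProd_of_surjective_left g (baseToDual : Art.base Λ k ⟶ dual Λ k)
      (surjective_to_dual g hres hga)
    have hs : Function.Surjective (p₁ ≫ f) := fun y => by
      obtain ⟨b, rfl⟩ := hf y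
      obtain ⟨x, hx⟩ := B.res_surjective (TrivSqZeroExt.snd (g b) / TrivSqZeroExt.snd (g a))
      have hfst : ∀ b : B, TrivSqZeroExt.fst (g b) = B.res b := fun b => Art.res_app g b
      have hb : g (b - x * a) = (baseToDual : Art.base Λ k ⟶ dual Λ k) (B.res b) := by
        refine dual_ext ((hfst _).trans ?_) ?_
        · rw [map_sub, map_mul, hres, mul_zero, sub_zero]
          rfl
        · rw [← sndHom_apply, map_sub, sndHom_mul, hres, hx, sndHom_apply, sndHom_apply]
          change _ = (0 : k)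
          field_simp
          ring
      obtain ⟨z, hz, -⟩ := hP.surj (b - x * a) (B.res b) hb
      refine ⟨z, (congrArg f hz).trans ?_⟩
      change f.toAlgHom (b - x * a) = f b
      rw [map_sub, map_mul, show f.toAlgHom a = 0 from ha, mul_zero, sub_zero]
    obtain ⟨z, hz⟩ := hess P p₁ hs a
    have h1 : g a = (baseToDual : Art.base Λ k ⟶ dual Λ k) (p₂ z) := hz ▸ hP.w_apply z
    exact hga (by rw [h1]; rfl)
  · by_contra hns
    obtain ⟨g, hg, a, -, hga⟩ := exists_sep_functional h hns
    obtain ⟨q, hq⟩ := exists_desc f hf g fun b hb => dual_ext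
      ((Art.res_app g b).trans (by rw [← Art.res_app f, hb, map_zero]; rfl)) (hker g b hb)
    have hq0 : q = zeroHom A := hom_ext fun y => by
      obtain ⟨c, rfl⟩ := hhf y
      change (h ≫ (f ≫ q)) c = ((h ≫ f) ≫ zeroHom A) c
      rw [hq, hg, comp_zeroHom]
    have : TrivSqZeroExt.snd (g a) = 0 := by rw [← hq, hq0, comp_zeroHom]; rfl
    exact one_ne_zero (hga.symm.trans this)

end Groth.L12
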