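import Groth.Agent.S1402
import Groth.Agent.S0065
import Groth.Agent.S2821
import Groth.Agent.L09.HartogsSch
import Mathlib.AlgebraicGeometry.Morphisms.Etale
import Mathlib.RingTheory.Ideal.Height
import Mathlib.RingTheory.Ideal.MinimalPrime.Noetherian

/-! # Opens of regular affine schemes and their affine hulls -/

set_option autoImplicit false
set_option linter.style.haveILetI false
set_option backward.isDefEq.respectTransparency.types false

universe u

open CategoryTheory CategoryTheory.Limits AlgebraicGeometry TopologicalSpace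

noncomputable section

namespace Groth.L12.EtHullReg

variable {B : Type u} [CommRing B]

/-- The complement of the zero locus of a locally principal ideal. -/
theorem isAffineOpen_compl_zeroLocus (P : Ideal B) (hfg : P.FG)
    (h : ∀ (Q : Ideal B) [Q.IsPrime], ∃ a ∈ P, P.map (algebraMap B (Localization.AtPrime Q)) =
      Ideal.span {algebraMap B (Localization.AtPrime Q) a})
    (D : (Spec (CommRingCat.of B)).Opens)
    (hD : ∀ x : PrimeSpectrum B, x ∈ D ↔ ¬ P ≤ x.asIdeal) : IsAffineOpen D := by
  classical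
  have hloc : ∀ Q : PrimeSpectrum B, ∃ a ∈ P, ∃ s : B, s ∉ Q.asIdeal ∧ ∀ p ∈ P, ∃ c, s * p = c * a := by
    intro Q
    obtain ⟨a, haP, ha⟩ := h Q.asIdeal
    obtain ⟨T, hT⟩ := hfg
    have hs : ∀ p ∈ P, ∃ s : B, s ∉ Q.asIdeal ∧ ∃ c, s * p = c * a := by
      intro p hp
      have h1 : algebraMap B (Localization.AtPrime Q.asIdeal) p ∈
          Ideal.span {algebraMap B (Localization.AtPrime Q.asIdeal) a} := ha ▸ Ideal.mem_map_of_mem _ hp
      obtain ⟨z, hz⟩ := Ideal.mem_span_singleton'.1 h1
      obtain ⟨⟨r, t⟩, hr⟩ := IsLocalization.surj Q.asIdeal.primeCompl z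
      have h2 : algebraMap B (Localization.AtPrime Q.asIdeal) (↑t * p) = algebraMap B _ (r * a) := by
        rw [map_mul, map_mul, ← hz, ← hr]; ring
      obtain ⟨w, hw⟩ := (IsLocalization.eq_iff_exists Q.asIdeal.primeCompl _).1 h2
      exact ⟨w * t, Q.asIdeal.primeCompl.mul_mem w.2 t.2, w * r, by rw [mul_assoc, hw, mul_assoc]⟩
    choose s hsQ hsc using fun p : T => hs p.1 (hT ▸ Ideal.subset_span p.2)
    refine ⟨a, haP, ∏ p, s p, Q.asIdeal.primeCompl.prod_mem fun p _ => hsQ p, fun p hp => ?_⟩
    rw [← hT] at hp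
    induction hp using Submodule.span_induction with
    | mem p hp =>
      obtain ⟨c, hc⟩ := hsc ⟨p, hp⟩
      obtain ⟨d, hd⟩ := Finset.dvd_prod_of_mem s (Finset.mem_univ (⟨p, hp⟩ : T))
      exact ⟨d * c, by rw [hd, mul_comm (s _) d, mul_assoc, hc, mul_assoc]⟩
    | zero => exact ⟨0, by simp⟩
    | add x y _ _ hx hy =>
      obtain ⟨c, hc⟩ := hx
      obtain ⟨d, hd⟩ := hy
      exact ⟨c + d, by rw [mul_add, hc, hd, add_mul]⟩
    | smul r x _ hx =>
      obtain ⟨c, hc⟩ := hx
      exact ⟨r * c, by rw [smul_eq_mul, mul_left_comm, hc, mul_assoc]⟩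
  choose a haP s hsQ hsc using hloc
  let S := Spec (CommRingCat.of B)
  let N : PrimeSpectrum B → S.Opens := fun Q => (PrimeSpectrum.basicOpen (s Q) : Opens (PrimeSpectrum B))
  have hN : ⨆ Q, N Q = ⊤ := top_le_iff.1 fun Q _ => Opens.mem_iSup.2 ⟨Q, hsQ Q⟩
  haveI : IsAffineHom D.ι := by
    refine IsZariskiLocalAtTarget.of_iSup_eq_top (P := @IsAffineHom) N hN fun Q => ?_
    haveI : IsAffine (N Q).toScheme := IsAffineOpen.Spec_basicOpen (R := CommRingCat.of B) (s Q)
    have h1 : IsAffineOpen (D.ι ''ᵁ (D.ι ⁻¹ᵁ N Q)) := by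
      have e : D.ι ''ᵁ (D.ι ⁻¹ᵁ N Q) = (PrimeSpectrum.basicOpen (s Q * a Q) : Opens (PrimeSpectrum B)) := by
        refine Opens.ext (Set.ext fun x => ?_)
        rw [Scheme.Hom.coe_image, Scheme.Hom.coe_preimage, Set.image_preimage_eq_inter_range, Scheme.Opens.range_ι]
        show (s Q ∉ (x : PrimeSpectrum B).asIdeal ∧ x ∈ D) ↔ s Q * a Q ∉ (x : PrimeSpectrum B).asIdeal
        rw [show x ∈ D ↔ ¬ P ≤ (x : PrimeSpectrum B).asIdeal from hD x]
        constructor
        · rintro ⟨hs, hP⟩ hsa
          refine hP fun p hp => ?_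
          obtain ⟨c, hc⟩ := hsc Q p hp
          have ha := ((x : PrimeSpectrum B).isPrime.mem_or_mem hsa).resolve_left hs
          exact ((x : PrimeSpectrum B).isPrime.mem_or_mem (hc ▸ Ideal.mul_mem_left _ c ha :
            s Q * p ∈ (x : PrimeSpectrum B).asIdeal)).resolve_left hs
        · intro hsa
          exact ⟨fun hs => hsa (Ideal.mul_mem_right _ _ hs), fun hP => hsa (Ideal.mul_mem_left _ _ (hP (haP Q)))⟩
      rw [e]
      exact IsAffineOpen.Spec_basicOpen (R := CommRingCat.of B) _
    haveI : IsAffine (D.ι ⁻¹ᵁ N Q).toScheme := (D.ι.isAffineOpen_iff_of_isOpenImmersion).1 h1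
    infer_instance
  exact isAffine_of_isAffineHom D.ι

/-- A prime of height at most one of a regular ring is locally principal. -/
theorem exists_locally_principal (P : Ideal B) [P.IsPrime] [IsNoetherianRing B] (hP : P.height ≤ 1)
    (Q : Ideal B) [Q.IsPrime] (hQ : IsRegularLocalRing (Localization.AtPrime Q)) :
    ∃ a ∈ P, P.map (algebraMap B (Localization.AtPrime Q)) = Ideal.span {algebraMap B (Localization.AtPrime Q) a} := by
  let L := Localization.AtPrime Q
  by_cases hle : P ≤ Q
  · obtain ⟨hdom, hufd⟩ := Groth.Agent.S2821.result L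
    haveI := hdom
    haveI := hufd
    have hdisj : Disjoint (Q.primeCompl : Set B) (P : Set B) :=
      Set.disjoint_left.2 fun z hz hz' => hz (hle hz')
    haveI hP' : (P.map (algebraMap B L)).IsPrime :=
      IsLocalization.isPrime_of_isPrime_disjoint Q.primeCompl L _ ‹P.IsPrime› hdisj
    have hht : (P.map (algebraMap B L)).height ≤ 1 := by
      rw [IsLocalization.height_map_of_disjoint Q.primeCompl P hdisj]
      exact hP
    by_cases h0 : P.map (algebraMap B L) = ⊥
    · exact ⟨0, P.zero_mem, by rw [map_zero, h0, Ideal.span_singleton_eq_bot.2 rfl]⟩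
    · obtain ⟨π, hπP, hπ⟩ := Ideal.IsPrime.exists_mem_prime_of_ne_bot hP' h0
      haveI : (Ideal.span {π}).IsPrime := (Ideal.span_singleton_prime hπ.ne_zero).2 hπ
      have e : Ideal.span {π} = P.map (algebraMap B L) := by
        by_contra hne
        have h1 : Ideal.span {π} < P.map (algebraMap B L) :=
          lt_of_le_of_ne ((Ideal.span_singleton_le_iff_mem _).2 hπP) hne
        have h2 := Ideal.height_add_one_le_of_lt_of_isPrime h1
        have h3 : (Ideal.span {π}).height + 1 ≤ 1 := h2.trans hht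
        have h4 : (Ideal.span {π}).height = 0 := by
          rcases eq_or_ne (Ideal.span {π}).height ⊤ with ht | ht
          · rw [ht] at h3; exact absurd h3 (by simp)
          · obtain ⟨m, hm⟩ := ENat.ne_top_iff_exists.1 ht
            rw [← hm] at h3 ⊢
            norm_cast at h3 ⊢
            omega
        exact hπ.ne_zero (Ideal.span_singleton_eq_bot.1 (Ideal.height_eq_zero_iff_eq_bot.1 h4))
      obtain ⟨⟨r, t⟩, hr⟩ := IsLocalization.surj Q.primeCompl π
      have hu : IsUnit (algebraMap B L t) := IsLocalization.map_units L t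
      refine ⟨r, ?_, ?_⟩
      · have h1 : algebraMap B L r ∈ P.map (algebraMap B L) := hr ▸ Ideal.mul_mem_right _ _ hπP
        rw [← IsLocalization.comap_map_of_isPrime_disjoint Q.primeCompl L ‹P.IsPrime› hdisj]
        exact h1
      · rw [← e, ← hr, Ideal.span_singleton_mul_right_unit hu]
  · obtain ⟨a, haP, haQ⟩ := SetLike.not_le_iff_exists.1 hle
    have hu : IsUnit (algebraMap B L a) := IsLocalization.map_units L (⟨a, haQ⟩ : Q.primeCompl)
    exact ⟨a, haP, (Ideal.eq_top_of_isUnit_mem _ (Ideal.mem_map_of_mem _ haP) hu).trans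
      (Ideal.span_singleton_eq_top.2 hu).symm⟩

open Groth.L09.HartogsSch in
/-- An open of a regular affine scheme lies in an affine open with the same functions. -/
theorem exists_affine_open (B : Type u) [CommRing B] [IsNoetherianRing B]
    (hreg : ∀ x : Spec (CommRingCat.of B), IsRegularLocalRing ((Spec (CommRingCat.of B)).presheaf.stalk x))
    (U : (Spec (CommRingCat.of B)).Opens) :
    ∃ V : (Spec (CommRingCat.of B)).Opens, IsAffineOpen V ∧ ∃ h : U ≤ V,
      Function.Bijective ((Spec (CommRingCat.of B)).presheaf.map (homOfLE h).op) := by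
  classical
  let S := Spec (CommRingCat.of B)
  obtain ⟨I, hI⟩ : ∃ I : Ideal B, ∀ x : PrimeSpectrum B, x ∈ U ↔ ¬ I ≤ x.asIdeal := by
    obtain ⟨t, ht⟩ := (PrimeSpectrum.isOpen_iff (R := B) U.carrier).1 U.2
    refine ⟨Ideal.span t, fun x => ?_⟩
    rw [Ideal.span_le, ← PrimeSpectrum.mem_zeroLocus, ← ht]
    exact not_not.symm
  have hloc : ∀ x : PrimeSpectrum B, IsRegularLocalRing (Localization.AtPrime x.asIdeal) ∧
      ringKrullDim (S.presheaf.stalk x) = x.asIdeal.height := fun x => by
    let e : S.presheaf.stalk x ≃+* Localization.AtPrime x.asIdeal :=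
      (StructureSheaf.stalkIso B x).toCommRingCatIso.commRingCatIsoToRingEquiv.symm
    haveI : IsRegularLocalRing (S.presheaf.stalk x) := hreg x
    exact ⟨IsRegularLocalRing.of_ringEquiv e,
      (ringKrullDim_eq_of_ringEquiv e).trans (IsLocalization.AtPrime.ringKrullDim_eq_height x.asIdeal _)⟩
  have hfin : (I.minimalPrimes).Finite := Ideal.finite_minimalPrimes_of_isNoetherianRing B I
  let T := {P : Ideal B | P ∈ I.minimalPrimes ∧ P.height ≤ 1}
  have hT : T.Finite := hfin.subset fun P hP => hP.1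
  let D : Ideal B → S.Opens := fun P =>
    (⟨(PrimeSpectrum.zeroLocus (P : Set B))ᶜ, (PrimeSpectrum.isClosed_zeroLocus _).isOpen_compl⟩ : Opens (PrimeSpectrum B))
  let V : S.Opens := hT.toFinset.inf D
  have hVmem : ∀ x : PrimeSpectrum B, x ∈ V ↔ ∀ P ∈ T, ¬ P ≤ x.asIdeal := fun x => by
    have key : ∀ F : Finset (Ideal B), x ∈ F.inf D ↔ ∀ P ∈ F, ¬ P ≤ x.asIdeal := fun F => by
      induction F using Finset.induction_on with
      | empty => exact iff_of_true trivial (fun P hP => absurd hP (Finset.notMem_empty P))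
      | @insert P F _ ih =>
        rw [Finset.inf_insert, Finset.forall_mem_insert, ← ih]
        exact Iff.rfl
    simpa using key hT.toFinset
  have hUV : U ≤ V := fun x hx => (hVmem x).2 fun P hP hle => (hI x).1 hx (hP.1.1.2.trans hle)
  have hV : IsAffineOpen V := by
    have key : ∀ F : Finset (Ideal B), (∀ P ∈ F, P ∈ T) → IsAffineOpen (F.inf D) := fun F => by
      induction F using Finset.induction_on with
      | empty => exact fun _ => isAffineOpen_top S
      | @insert P F _ ih =>
        intro hF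
        rw [Finset.inf_insert]
        haveI := (hF P (Finset.mem_insert_self P F)).1.1.1
        refine IsAffineOpen.inf (isAffineOpen_compl_zeroLocus P (IsNoetherian.noetherian P) (fun Q hQ => ?_) _
          fun x => Iff.rfl) (ih fun R hR => hF R (Finset.mem_insert_of_mem hR))
        exact exists_locally_principal P (hF P (Finset.mem_insert_self P F)).2 Q (hloc ⟨Q, hQ⟩).1
    exact key _ fun P hP => hT.mem_toFinset.1 hP
  refine ⟨V, hV, hUV, ?_⟩
  haveI : IsLocallyNoetherian S := inferInstance
  let U' : V.toScheme.Opens := V.ι ⁻¹ᵁ U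
  have hU' : ∀ s : V.toScheme, s ∉ U' → IsRegularLocalRing (V.toScheme.presheaf.stalk s) ∧
      (2 : WithBot ℕ∞) ≤ ringKrullDim (V.toScheme.presheaf.stalk s) := by
    intro s hs
    let x : PrimeSpectrum B := V.ι s
    let e := (asIso (V.ι.stalkMap s)).commRingCatIsoToRingEquiv
    haveI := hreg (V.ι s)
    refine ⟨IsRegularLocalRing.of_ringEquiv e, ?_⟩
    rw [← ringKrullDim_eq_of_ringEquiv e, (hloc x).2]
    have hxI : I ≤ x.asIdeal := by
      by_contra hcon
      exact hs ((hI x).2 hcon)
    obtain ⟨P, hP, hle⟩ := Ideal.exists_minimalPrimes_le hxI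
    haveI := hP.1.1
    have h1 : ¬ P.height ≤ 1 := fun h => (hVmem x).1 s.2 P ⟨hP, h⟩ hle
    have h2 : (2 : ℕ∞) ≤ x.asIdeal.height :=
      le_trans (Order.add_one_le_of_lt (not_le.1 h1)) (Ideal.height_mono hle)
    exact WithBot.coe_le_coe.2 h2
  haveI : QuasiCompact U'.ι := inferInstance
  have hb := res_bijective (𝟙 V.toScheme) U' hU' (V := ⊤) (@isAffineOpen_top _ hV)
  have hb' : Function.Bijective (V.toScheme.presheaf.map
      (homOfLE (inf_le_left : (⊤ : V.toScheme.Opens) ⊓ U' ≤ ⊤)).op) := hb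
  have hW : V.ι ''ᵁ ((⊤ : V.toScheme.Opens) ⊓ U') = U := by
    rw [top_inf_eq, Scheme.Hom.image_preimage_eq_opensRange_inf, Scheme.Opens.opensRange_ι]
    exact inf_eq_right.2 hUV
  have hW' : V.ι ''ᵁ (⊤ : V.toScheme.Opens) = V := by simp
  have key : ∀ (A A' : S.Opens) (h : A ≤ A') (hA : A = U) (hA' : A' = V),
      Function.Bijective (S.presheaf.map (homOfLE h).op) → Function.Bijective (S.presheaf.map (homOfLE hUV).op) := by
    intro A A' h hA hA' hbij
    subst hA hA'
    exact hbij
  exact key _ _ (V.ι.image_mono inf_le_left) hW hW' hb'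

end Groth.L12.EtHullReg
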