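import Mathlib.FieldTheory.JacobsonNoether
import Mathlib.RingTheory.SimpleModule.WedderburnArtin
import Mathlib.RingTheory.Unramified.Field
import Mathlib.RingTheory.Unramified.Finite
import Mathlib.FieldTheory.IsAlgClosed.AlgebraicClosure
import Mathlib.FieldTheory.Perfect
import Mathlib.RingTheory.HopkinsLevitzki

/-!
# Maximal étale subalgebras of absolutely semisimple algebras
-/

set_option autoImplicit false
set_option linter.style.haveILetI false

universe u v

open TensorProduct

namespace Groth.L12.EtaleSubalg

variable {k : Type u} [Field k]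

section Unramified

variable {B : Type v} [CommRing B] [Algebra k B]

theorem D_eq_zero_of_isSeparable {x : B} (hx : IsSeparable k x) :
    KaehlerDifferential.D k B x = 0 := by
  obtain ⟨a, b, hab⟩ := (hx : (minpoly k x).Separable)
  have h1 : Polynomial.aeval x b * Polynomial.aeval x (Polynomial.derivative (minpoly k x)) = 1 := by
    have := congrArg (Polynomial.aeval x) hab
    simpa [minpoly.aeval] using this
  have h2 := (KaehlerDifferential.D k B).map_aeval (minpoly k x) x
  rw [minpoly.aeval, map_zero] at h2
  calc KaehlerDifferential.D k B x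
      = (Polynomial.aeval x b * Polynomial.aeval x (Polynomial.derivative (minpoly k x))) •
          KaehlerDifferential.D k B x := by rw [h1, one_smul]
    _ = 0 := by rw [mul_smul, ← h2, smul_zero]

theorem formallyUnramified_of_generators {s : Set B} (hs : Algebra.adjoin k s = ⊤)
    (h : ∀ x ∈ s, IsSeparable k x) : Algebra.FormallyUnramified k B := by
  have hD : ∀ x : B, KaehlerDifferential.D k B x = 0 := fun x =>
    Derivation.eqOn_adjoin (R := k) (D1 := KaehlerDifferential.D k B) (D2 := 0)
      (fun y hy => D_eq_zero_of_isSeparable (h y hy)) (hs ▸ Algebra.mem_top : x ∈ Algebra.adjoin k s)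
  rw [Algebra.formallyUnramified_iff]
  refine subsingleton_of_forall_eq 0 fun w => ?_
  have hw : w ∈ Submodule.span B (Set.range (KaehlerDifferential.D k B)) := by
    rw [KaehlerDifferential.span_range_derivation]; trivial
  refine Submodule.span_induction ?_ rfl (fun a b _ _ ha hb => by rw [ha, hb, add_zero])
    (fun c a _ ha => by rw [ha, smul_zero]) hw
  rintro _ ⟨x, rfl⟩
  exact hD x

theorem isSeparable_of_isReduced [FiniteDimensional k B]
    [IsReduced (AlgebraicClosure k ⊗[k] B)] (x : B) : IsSeparable k x := by
  set m := minpoly k x with hm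
  have hx : IsIntegral k x := IsIntegral.of_finite k x
  by_contra hsep
  have hsep' : ¬ (m.map (algebraMap k (AlgebraicClosure k))).Separable := by
    rw [Polynomial.separable_map]; exact hsep
  rw [PerfectField.separable_iff_squarefree] at hsep'
  obtain ⟨q, ⟨h, hq⟩, hqu⟩ : ∃ q, q * q ∣ m.map (algebraMap k (AlgebraicClosure k)) ∧ ¬ IsUnit q := by
    rw [Squarefree] at hsep'
    simpa only [not_forall, exists_prop] using hsep'
  let t : AlgebraicClosure k ⊗[k] B := 1 ⊗ₜ x
  have ht : Polynomial.aeval t (m.map (algebraMap k (AlgebraicClosure k))) = 0 := by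
    rw [Polynomial.aeval_map_algebraMap]
    have := Polynomial.aeval_algHom_apply
      (Algebra.TensorProduct.includeRight (R := k) (A := AlgebraicClosure k) (B := B)) x m
    rw [minpoly.aeval, map_zero] at this
    exact this
  have hn : Polynomial.aeval t (q * h) = 0 := by
    refine eq_zero_of_pow_eq_zero (n := 2) ?_
    rw [← map_pow]
    have : (q * h) ^ 2 = (q * q * h) * h := by ring
    rw [this, ← hq, map_mul, ht, zero_mul]
  have hm0 : m.map (algebraMap k (AlgebraicClosure k)) ≠ 0 :=
    Polynomial.map_ne_zero (minpoly.ne_zero hx)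
  have hq0 : q ≠ 0 := by rintro rfl; exact hm0 (by rw [hq]; simp)
  have hh0 : h ≠ 0 := by rintro rfl; exact hm0 (by rw [hq]; simp)
  have hdeg : (q * h).natDegree < m.natDegree := by
    rw [← Polynomial.natDegree_map (algebraMap k (AlgebraicClosure k)) (p := m), hq,
      mul_assoc, Polynomial.natDegree_mul hq0 (mul_ne_zero hq0 hh0)]
    have : 0 < q.natDegree := by
      rw [Nat.pos_iff_ne_zero]
      intro h0
      rw [Polynomial.eq_C_of_natDegree_eq_zero h0] at hqu hq0
      exact hqu (Polynomial.isUnit_C.2 (isUnit_iff_ne_zero.2 fun h1 => hq0 (by rw [h1, map_zero])))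
    omega
  obtain ⟨i, hi⟩ : ∃ i, (q * h).coeff i ≠ 0 := by
    by_contra hall
    push Not at hall
    exact mul_ne_zero hq0 hh0 (Polynomial.ext (by simpa using hall))
  obtain ⟨φ, hφ⟩ : ∃ φ : Module.Dual k (AlgebraicClosure k), φ ((q * h).coeff i) ≠ 0 := by
    by_contra hall
    push Not at hall
    exact hi ((Module.forall_dual_apply_eq_zero_iff k _).1 hall)
  let ψ : AlgebraicClosure k ⊗[k] B →ₗ[k] B := (TensorProduct.lid k B).toLinearMap ∘ₗ φ.rTensor B
  let r : Polynomial k := ∑ j ∈ Finset.range ((q * h).natDegree + 1), Polynomial.monomial j (φ ((q * h).coeff j))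
  have hr : Polynomial.aeval x r = 0 := by
    have := congrArg ψ hn
    rw [map_zero, Polynomial.aeval_eq_sum_range, map_sum] at this
    rw [← this, map_sum]
    refine Finset.sum_congr rfl fun j _ => ?_
    rw [Polynomial.aeval_monomial, Algebra.TensorProduct.tmul_pow, one_pow]
    simp [ψ, TensorProduct.smul_tmul', Algebra.smul_def]
  have hri : r.coeff i = φ ((q * h).coeff i) := by
    have hi' : i < (q * h).natDegree + 1 := Nat.lt_succ_of_le (Polynomial.le_natDegree_of_ne_zero hi)
    simp only [r, Polynomial.finsetSum_coeff, Polynomial.coeff_monomial]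
    rw [Finset.sum_ite_eq' (Finset.range ((q * h).natDegree + 1)) i, if_pos (Finset.mem_range.2 hi')]
  have hr0 : r ≠ 0 := fun h0 => hφ (by rw [← hri, h0, Polynomial.coeff_zero])
  have h2 : m.natDegree ≤ r.natDegree :=
    Polynomial.natDegree_le_of_dvd (minpoly.dvd k x hr) hr0
  have h3 : r.natDegree ≤ (q * h).natDegree :=
    Polynomial.natDegree_sum_le_of_forall_le _ _ fun j hj =>
      (Polynomial.natDegree_monomial_le _).trans (Nat.le_of_lt_succ (Finset.mem_range.1 hj))
  omega

theorem isSeparable_of_formallyUnramified [FiniteDimensional k B]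
    [Algebra.FormallyUnramified k B] (x : B) : IsSeparable k x := by
  haveI : IsReduced (AlgebraicClosure k ⊗[k] B) :=
    Algebra.FormallyUnramified.isReduced_of_field (AlgebraicClosure k) _
  exact isSeparable_of_isReduced x

end Unramified

/-- Every element has a quasi-inverse in a semisimple ring. -/
theorem exists_regular {R : Type v} [Ring R] [IsSemisimpleRing R] (a : R) : ∃ y, a * y * a = a := by
  obtain ⟨e, he, hspan⟩ := IsSemisimpleRing.ideal_eq_span_idempotent (Ideal.span {a})
  obtain ⟨s, hs⟩ := Ideal.mem_span_singleton'.1 (hspan ▸ Ideal.mem_span_singleton_self a : a ∈ Ideal.span {e})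
  obtain ⟨r, hr⟩ := Ideal.mem_span_singleton'.1 (hspan.symm ▸ Ideal.mem_span_singleton_self e : e ∈ Ideal.span {a})
  refine ⟨r, ?_⟩
  rw [mul_assoc, hr, ← hs, mul_assoc, he]

theorem isSemisimpleRing_of_regular {R : Type v} [Ring R] [Algebra k R] [FiniteDimensional k R]
    (h : ∀ a : R, ∃ y, a * y * a = a) : IsSemisimpleRing R := by
  haveI : IsArtinianRing R := IsArtinianRing.of_finite k R
  rw [IsArtinianRing.isSemisimpleRing_iff_jacobson, eq_bot_iff]
  intro a ha
  obtain ⟨y, hy⟩ := h a
  rw [← Ideal.jacobson_bot] at ha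
  have hay : a * y ∈ Ideal.jacobson (⊥ : Ideal R) := Ideal.IsTwoSided.mul_mem_of_left _ ha
  obtain ⟨z, hz⟩ := Ideal.mem_jacobson_iff.1 hay (-1)
  rw [Ideal.mem_bot, sub_eq_zero, mul_neg, mul_one, neg_mul] at hz
  rw [Ideal.mem_bot]
  calc a = (-(z * (a * y)) + z) * a := by rw [hz, one_mul]
    _ = 0 := by rw [add_mul, neg_mul, mul_assoc, hy, neg_add_cancel]

section Main

variable {A : Type v} [Ring A] [Algebra k A] (L : Subalgebra k A)

/-- The centraliser. -/
abbrev Z : Subalgebra k A := Subalgebra.centralizer k (L : Set A)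

theorem mem_Z_iff {z : A} : z ∈ Z L ↔ ∀ l ∈ L, l * z = z * l :=
  Subalgebra.mem_centralizer_iff k

/-- `a ⊗ b ↦ (x ↦ a x b)`. -/
noncomputable def sandwich : L ⊗[k] L →ₗ[k] Module.End k A :=
  TensorProduct.lift
    (LinearMap.mk₂ k (fun (a b : L) => LinearMap.mulLeft k (a : A) ∘ₗ LinearMap.mulRight k (b : A))
      (fun a a' b => by ext x; simp [add_mul])
      (fun c a b => by ext x; simp)
      (fun a b b' => by ext x; simp [mul_add])
      (fun c a b => by ext x; simp))

theorem sandwich_tmul (a b : L) (x : A) : sandwich L (a ⊗ₜ b) x = a * (x * b) := rfl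

variable {L} (hL : ∀ x ∈ L, ∀ y ∈ L, x * y = y * x)
include hL

theorem exists_proj [FiniteDimensional k A] (hsep : Algebra.IsSeparable k L) :
    ∃ P : A →ₗ[k] Z L, (∀ z : Z L, P z = z) ∧
      ∀ (z w : Z L) (x : A), P ((z : A) * x * w) = z * P x * w := by
  letI : CommRing L := { (inferInstance : Ring L) with
    mul_comm := fun a b => Subtype.ext (hL a a.2 b b.2) }
  haveI : Algebra.FormallyUnramified k L :=
    formallyUnramified_of_generators (s := Set.univ) (Algebra.adjoin_univ k L)
      fun x _ => Algebra.IsSeparable.isSeparable k x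
  haveI : Algebra.EssFiniteType k L := inferInstance
  let t : L ⊗[k] L := Algebra.FormallyUnramified.elem k L
  let P₀ : A →ₗ[k] A := sandwich L t
  have hlin : ∀ (s : L ⊗[k] L) (z w : Z L) (x : A),
      sandwich L s ((z : A) * x * w) = z * sandwich L s x * w := by
    intro s z w x
    induction s using TensorProduct.induction_on with
    | zero => simp
    | tmul a b =>
      have hza := (mem_Z_iff L).1 z.2 a a.2
      have hwb := (mem_Z_iff L).1 w.2 b b.2
      rw [sandwich_tmul, sandwich_tmul]
      calc (a : A) * ((z : A) * x * w * b) = ((a : A) * z) * x * (w * b) := by simp only [mul_assoc]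
        _ = ((z : A) * a) * x * (b * w) := by rw [hza, hwb]
        _ = (z : A) * (a * (x * b)) * w := by simp only [mul_assoc]
    | add s s' hs hs' => simp only [map_add, LinearMap.add_apply, hs, hs', mul_add, add_mul]
  have hcomm : ∀ x : A, P₀ x ∈ Z L := by
    intro x
    rw [mem_Z_iff]
    intro l hl
    have e1 : ∀ s : L ⊗[k] L, sandwich L ((⟨l, hl⟩ ⊗ₜ 1) * s) x = l * sandwich L s x := by
      intro s
      induction s using TensorProduct.induction_on with
      | zero => simp
      | tmul a b => simp [sandwich_tmul, mul_assoc]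
      | add s s' hs hs' => simp only [mul_add, map_add, LinearMap.add_apply, hs, hs']
    have e2 : ∀ s : L ⊗[k] L, sandwich L ((1 ⊗ₜ ⟨l, hl⟩) * s) x = sandwich L s x * l := by
      intro s
      induction s using TensorProduct.induction_on with
      | zero => simp
      | tmul a b =>
        simp only [Algebra.TensorProduct.tmul_mul_tmul, one_mul, sandwich_tmul]
        rw [show ((⟨l, hl⟩ * b : L) : A) = (b : A) * l from hL l hl b b.2]
        simp only [mul_assoc]
      | add s s' hs hs' => simp only [mul_add, map_add, LinearMap.add_apply, hs, hs', add_mul]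
    show l * sandwich L t x = sandwich L t x * l
    rw [← e1, ← e2, Algebra.FormallyUnramified.one_tmul_mul_elem]
  refine ⟨P₀.codRestrict (Subalgebra.toSubmodule (Z L)) hcomm, fun z => Subtype.ext ?_,
    fun z w x => Subtype.ext (hlin t z w x)⟩
  have e3 : ∀ s : L ⊗[k] L, sandwich L s (z : A) = (Algebra.TensorProduct.lmul' k s : L) * (z : A) := by
    intro s
    induction s using TensorProduct.induction_on with
    | zero => simp
    | tmul a b =>
      rw [sandwich_tmul, Algebra.TensorProduct.lmul'_apply_tmul]
      show (a : A) * ((z : A) * b) = (a : A) * b * z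
      rw [← (mem_Z_iff L).1 z.2 b b.2, mul_assoc]
    | add s s' hs hs' => simp only [map_add, LinearMap.add_apply, hs, hs', AddMemClass.coe_add, add_mul]
  show sandwich L t (z : A) = z
  rw [e3, Algebra.FormallyUnramified.lmul_elem]
  exact one_mul _

/-- The geometric centraliser is regular. -/
theorem regular_baseChange [FiniteDimensional k A] (hsep : Algebra.IsSeparable k L)
    (hss : IsSemisimpleRing (AlgebraicClosure k ⊗[k] A)) (a : AlgebraicClosure k ⊗[k] Z L) :
    ∃ y, a * y * a = a := by
  obtain ⟨P, hP1, hP2⟩ := exists_proj hL hsep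
  let ι := Algebra.TensorProduct.map (AlgHom.id k (AlgebraicClosure k)) (Z L).val
  let P' := P.lTensor (AlgebraicClosure k)
  have h1 : ∀ a, P' (ι a) = a := by
    intro a
    induction a using TensorProduct.induction_on with
    | zero => simp
    | tmul c z => simp [ι, P', hP1]
    | add a b ha hb => simp only [map_add, ha, hb]
  have h2 : ∀ a b x, P' (ι a * x * ι b) = a * P' x * b := by
    intro a b x
    induction x using TensorProduct.induction_on with
    | zero => simp
    | add x y hx hy => simp only [mul_add, add_mul, map_add, hx, hy]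
    | tmul c x =>
      induction a using TensorProduct.induction_on with
      | zero => simp
      | add a a' ha ha' => simp only [map_add, add_mul, ha, ha']
      | tmul e z =>
        induction b using TensorProduct.induction_on with
        | zero => simp
        | add b b' hb hb' => simp only [map_add, mul_add, hb, hb']
        | tmul g w =>
          simp [ι, P', hP2]
  obtain ⟨y, hy⟩ := exists_regular (ι a)
  exact ⟨P' y, by rw [← h2, hy, h1]⟩

theorem regular_centralizer [FiniteDimensional k A] (hsep : Algebra.IsSeparable k L)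
    (hss : IsSemisimpleRing (AlgebraicClosure k ⊗[k] A)) (a : Z L) : ∃ y, a * y * a = a := by
  obtain ⟨Y, hY⟩ := regular_baseChange hL hsep hss (1 ⊗ₜ a)
  obtain ⟨φ, hφ⟩ : ∃ φ : Module.Dual k (AlgebraicClosure k), φ 1 = 1 := by
    obtain ⟨φ, hφ⟩ : ∃ φ : Module.Dual k (AlgebraicClosure k), φ 1 ≠ 0 := by
      by_contra hall
      push Not at hall
      exact one_ne_zero ((Module.forall_dual_apply_eq_zero_iff k _).1 hall)
    exact ⟨(φ 1)⁻¹ • φ, by simp [hφ]⟩
  let ψ : AlgebraicClosure k ⊗[k] Z L →ₗ[k] Z L :=
    (TensorProduct.lid k (Z L)).toLinearMap ∘ₗ φ.rTensor (Z L)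
  have key : ∀ Y, ψ ((1 ⊗ₜ a) * Y * (1 ⊗ₜ a)) = a * ψ Y * a := by
    intro Y
    induction Y using TensorProduct.induction_on with
    | zero => simp
    | tmul c z => simp [ψ, mul_assoc]
    | add x y hx hy => simp only [mul_add, add_mul, map_add, hx, hy]
  refine ⟨ψ Y, ?_⟩
  rw [← key, hY]
  simp [ψ, hφ]

theorem isSeparable_center [FiniteDimensional k A] (hsep : Algebra.IsSeparable k L)
    (hss : IsSemisimpleRing (AlgebraicClosure k ⊗[k] A))
    (c : Subalgebra.center k (Z L)) : IsSeparable k c := by
  haveI : FiniteDimensional k (Z L) := inferInstance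
  haveI : IsReduced (AlgebraicClosure k ⊗[k] Subalgebra.center k (Z L)) := by
    let j := Algebra.TensorProduct.map (AlgHom.id k (AlgebraicClosure k)) (Subalgebra.center k (Z L)).val
    have hj : Function.Injective j := by
      show Function.Injective ((Subalgebra.center k (Z L)).val.toLinearMap.lTensor (AlgebraicClosure k))
      exact Module.Flat.lTensor_preserves_injective_linearMap _ Subtype.val_injective
    have hcen : ∀ n y, Commute (j n) y := by
      intro n y
      induction n using TensorProduct.induction_on with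
      | zero => rw [map_zero]; exact Commute.zero_left _
      | add n n' hn hn' => rw [map_add]; exact hn.add_left hn'
      | tmul e z =>
        induction y using TensorProduct.induction_on with
        | zero => exact Commute.zero_right _
        | add y y' hy hy' => exact hy.add_right hy'
        | tmul g w =>
          show (e ⊗ₜ[k] (z : Z L)) * (g ⊗ₜ[k] w) = (g ⊗ₜ[k] w) * (e ⊗ₜ[k] (z : Z L))
          rw [Algebra.TensorProduct.tmul_mul_tmul, Algebra.TensorProduct.tmul_mul_tmul, mul_comm e g,
            Subalgebra.mem_center_iff.1 z.2 w]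
    refine ⟨fun n hn => hj ?_⟩
    rw [map_zero]
    obtain ⟨y, hy⟩ := regular_baseChange hL hsep hss (j n)
    obtain ⟨N, hN⟩ := hn.map j
    have hpow : ∀ i : ℕ, j n = (j n) ^ (i + 1) * y ^ i := by
      intro i
      induction i with
      | zero => simp
      | succ i ih =>
        calc j n = j n * y * j n := hy.symm
          _ = j n * j n * y := by rw [mul_assoc, ← (hcen n y).eq, ← mul_assoc]
          _ = j n * ((j n) ^ (i + 1) * y ^ i) * y := by rw [← ih]
          _ = (j n) ^ (i + 1 + 1) * y ^ (i + 1) := by rw [pow_succ' (j n) (i + 1), pow_succ y i]; simp only [mul_assoc]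
    rw [hpow N, pow_succ, hN, zero_mul, zero_mul]
  exact isSeparable_of_isReduced c

omit hL in
/-- Jacobson–Noether, relative to a subfield with separable centre. -/
theorem exists_separable_of_division {D : Type v} [DivisionRing D] [Algebra k D] [FiniteDimensional k D]
    (hC : ∀ c ∈ Subring.center D, IsSeparable k c) (hne : ∃ a b : D, a * b ≠ b * a) :
    ∃ x : D, IsSeparable k x ∧ ∃ y, x * y ≠ y * x := by
  classical
  let F := Subring.center D
  letI : Algebra k F := ((algebraMap k D).codRestrict F fun c =>
    Subring.mem_center_iff.2 fun y => (Algebra.commutes c y).symm).toAlgebra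
  haveI : IsScalarTower k F D := IsScalarTower.of_algebraMap_eq fun _ => rfl
  have hne' : Subring.center D ≠ ⊤ := by
    intro h
    obtain ⟨a, b, hab⟩ := hne
    exact hab (Subring.mem_center_iff.1 (h ▸ Subring.mem_top a) b).symm
  haveI : Algebra.IsAlgebraic (Subring.center D) D := ⟨fun x => ⟨(minpoly k x).map (algebraMap k F),
    Polynomial.map_ne_zero (minpoly.ne_zero (IsIntegral.of_finite k x)), by
      rw [Polynomial.aeval_def, Polynomial.eval₂_map]
      exact minpoly.aeval k x⟩⟩
  obtain ⟨x, hxF, hx⟩ := JacobsonNoether.exists_separable_and_not_isCentral D hne'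
  let B := Algebra.adjoin F ({x} : Set D)
  letI : CommRing B := { (inferInstance : Ring B) with
    mul_comm := fun p q => Subtype.ext
      ((Algebra.adjoinCommRingOfComm F (s := ({x} : Set D)) (by simp)).mul_comm p q |> congrArg Subtype.val) }
  haveI : Algebra.FormallyUnramified k F :=
    formallyUnramified_of_generators (s := Set.univ) (Algebra.adjoin_univ k F) fun c _ => by
      have h := hC c c.2
      unfold IsSeparable at h ⊢
      rwa [← minpoly.algHom_eq (IsScalarTower.toAlgHom k F D) Subtype.val_injective]
  let xB : B := ⟨x, Algebra.self_mem_adjoin_singleton F x⟩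
  haveI : Algebra.FormallyUnramified F B := by
    refine formallyUnramified_of_generators (s := {xB}) ?_ ?_
    · refine Subalgebra.map_injective (f := B.val) Subtype.val_injective ?_
      rw [AlgHom.map_adjoin, Algebra.map_top, Subalgebra.range_val, Set.image_singleton]
      rfl
    · rintro y rfl
      unfold IsSeparable
      rw [← minpoly.algHom_eq B.val Subtype.val_injective]
      exact hx
  haveI : Algebra.FormallyUnramified k B := Algebra.FormallyUnramified.comp k F B
  haveI : FiniteDimensional k B :=
    Module.Finite.of_injective (B.val.restrictScalars k).toLinearMap Subtype.val_injective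
  refine ⟨x, ?_, ?_⟩
  · have := isSeparable_of_formallyUnramified (k := k) xB
    unfold IsSeparable at this ⊢
    rw [← minpoly.algHom_eq (B.val.restrictScalars k) Subtype.val_injective] at this
    exact this
  · by_contra hall
    push Not at hall
    exact hxF (Subring.mem_center_iff.2 fun y => (hall y).symm)

omit hL in
theorem isSeparable_single {ι : Type*} [DecidableEq ι] {S : ι → Type v} [∀ j, Ring (S j)]
    [∀ j, Algebra k (S j)] (i : ι) (u : S i) (hu : IsSeparable k u)
    (h0 : (minpoly k u).coeff 0 ≠ 0) : IsSeparable k (Pi.single i u : (j : ι) → S j) := by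
  refine Polynomial.Separable.of_dvd ?_ (minpoly.dvd k (Pi.single i u : (j : ι) → S j)
    (p := Polynomial.X * minpoly k u) ?_)
  · refine Polynomial.Separable.mul Polynomial.separable_X hu ?_
    exact (Polynomial.irreducible_X.coprime_iff_not_dvd).2 fun hdvd => h0 (Polynomial.X_dvd_iff.1 hdvd)
  · funext j
    refine (Polynomial.aeval_algHom_apply (Pi.evalAlgHom k S j) (Pi.single i u) _).symm.trans ?_
    rcases eq_or_ne j i with rfl | hj
    · simp only [Pi.evalAlgHom_apply, Pi.single_eq_same, map_mul, minpoly.aeval, mul_zero, Pi.zero_apply]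
    · simp only [Pi.evalAlgHom_apply, Pi.single_eq_of_ne hj, map_mul, Polynomial.aeval_X, zero_mul, Pi.zero_apply]

omit hL in
/-- A finite-dimensional semisimple algebra with separable centre which is not commutative has a
noncentral separable element. -/
theorem exists_separable_noncentral {R : Type v} [Ring R] [Algebra k R] [FiniteDimensional k R]
    [IsSemisimpleRing R] (hC : ∀ c ∈ Subalgebra.center k R, IsSeparable k c)
    (hne : ∃ a b : R, a * b ≠ b * a) :
    ∃ z : R, IsSeparable k z ∧ ∃ w, z * w ≠ w * z := by
  classical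
  obtain ⟨n, D, d, _, _, hd, ⟨e⟩⟩ := IsSemisimpleRing.exists_algEquiv_pi_matrix_divisionRing k R
  have hsep_e : ∀ {x}, IsSeparable k (e.symm x) → IsSeparable k x := fun {x} h => by
    unfold IsSeparable at h ⊢
    rwa [minpoly.algEquiv_eq] at h
  have hsep_e' : ∀ {x}, IsSeparable k x → IsSeparable k (e.symm x) := fun {x} h => by
    unfold IsSeparable at h ⊢
    rwa [minpoly.algEquiv_eq]
  suffices ∃ z : (i : Fin n) → Matrix (Fin (d i)) (Fin (d i)) (D i),
      IsSeparable k z ∧ ∃ w, z * w ≠ w * z by
    obtain ⟨z, hz, w, hw⟩ := this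
    exact ⟨e.symm z, hsep_e' hz, e.symm w, fun h => hw (e.symm.injective (by simpa using h))⟩
  obtain ⟨a, b, hab⟩ := hne
  obtain ⟨i, hi⟩ : ∃ i, e a i * e b i ≠ e b i * e a i := by
    by_contra hall
    push Not at hall
    exact hab (e.injective (by rw [map_mul, map_mul]; exact funext hall))
  by_cases h2 : 2 ≤ d i
  · let o : Fin (d i) := ⟨0, by omega⟩
    let p : Fin (d i) := ⟨1, by omega⟩
    let z : (j : Fin n) → Matrix (Fin (d j)) (Fin (d j)) (D j) :=
      Pi.single i (Matrix.single o o 1)
    refine ⟨z, ?_, Pi.single i (Matrix.single o p 1), fun h => ?_⟩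
    · have hzz : z * z = z := by
        simp only [z, ← Pi.single_mul, Matrix.single_mul_single_same, mul_one]
      refine Polynomial.Separable.of_dvd ?_ (minpoly.dvd k z
        (p := Polynomial.X * (Polynomial.X - Polynomial.C 1)) (by simp [mul_sub, hzz]))
      refine Polynomial.Separable.mul Polynomial.separable_X Polynomial.separable_X_sub_C ?_
      exact ⟨1, -1, by simp⟩
    · have h' := congrFun (congrFun (congrFun h i) o) p
      simp [z, o, p, Matrix.single_mul_single_same, Matrix.single_mul_single_of_ne] at h'
  haveI : Subsingleton (Fin (d i)) := Fin.subsingleton_iff_le_one.2 (by omega)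
  have o : Fin (d i) := ⟨0, Nat.pos_of_ne_zero (hd i).out⟩
  haveI : FiniteDimensional k (D i) := by
    let f : R →ₗ[k] D i :=
      { toFun := fun r => e r i o o
        map_add' := fun x y => by simp
        map_smul' := fun c x => by simp }
    refine Module.Finite.of_surjective f fun x => ?_
    exact ⟨e.symm (Pi.single i (Matrix.of fun _ _ => x)), by simp [f]⟩
  obtain ⟨ev, hev⟩ : ∃ ev : Matrix (Fin (d i)) (Fin (d i)) (D i) ≃ₐ[k] D i, ∀ M, ev M = M o o := by
    haveI : Unique (Fin (d i)) := uniqueOfSubsingleton o
    refine ⟨AlgEquiv.ofBijective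
      { toFun := fun M => M o o
        map_one' := Matrix.one_apply_eq o
        map_mul' := fun M N => by rw [Matrix.mul_apply, Fintype.sum_subsingleton _ o]
        map_zero' := rfl
        map_add' := fun _ _ => rfl
        commutes' := fun c => by simp [Matrix.algebraMap_matrix_apply] } ⟨fun M N h => ?_, fun x => ?_⟩,
      fun M => rfl⟩
    · ext r s; rw [Subsingleton.elim r o, Subsingleton.elim s o]; exact h
    · exact ⟨Matrix.of fun _ _ => x, rfl⟩
  have hFsep : ∀ c ∈ Subring.center (D i), IsSeparable k c := by
    intro c hc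
    let c' : (j : Fin n) → Matrix (Fin (d j)) (Fin (d j)) (D j) := Pi.single i (ev.symm c)
    have hc' : e.symm c' ∈ Subalgebra.center k R := by
      rw [Subalgebra.mem_center_iff]
      intro r
      apply e.injective
      rw [map_mul, map_mul, AlgEquiv.apply_symm_apply]
      funext j
      rcases eq_or_ne j i with rfl | hj
      · simp only [Pi.mul_apply, c', Pi.single_eq_same]
        apply ev.injective
        rw [map_mul, map_mul, AlgEquiv.apply_symm_apply]
        exact Subring.mem_center_iff.1 hc _
      · simp [c', Pi.single_eq_of_ne hj]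
    have h1 : IsSeparable k c' := hsep_e (hC _ hc')
    refine Polynomial.Separable.of_dvd h1 (minpoly.dvd k c ?_)
    have h3 := congrArg (fun x : (j : Fin n) → Matrix (Fin (d j)) (Fin (d j)) (D j) => ev (x i))
      (minpoly.aeval k c')
    simp only [Pi.zero_apply, map_zero] at h3
    rw [← h3]
    have e1 : Polynomial.aeval c' (minpoly k c') i = Polynomial.aeval (c' i) (minpoly k c') :=
      (Polynomial.aeval_algHom_apply (Pi.evalAlgHom k _ i) c' _).symm
    rw [e1]
    refine Eq.trans ?_ (Polynomial.aeval_algHom_apply
      (ev : Matrix (Fin (d i)) (Fin (d i)) (D i) →ₐ[k] D i) _ _)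
    simp [c']
  obtain ⟨x, hxk, y, hy⟩ := exists_separable_of_division (k := k) hFsep
    ⟨ev (e a i), ev (e b i), fun h => hi (ev.injective (by rw [map_mul, map_mul]; exact h))⟩
  have hx0 : x ≠ 0 := by rintro rfl; simp at hy
  have hu : IsSeparable k (ev.symm x) := by
    unfold IsSeparable
    rw [minpoly.algEquiv_eq]
    exact hxk
  have hu0 : (minpoly k (ev.symm x)).coeff 0 ≠ 0 := by
    rw [minpoly.algEquiv_eq]
    exact minpoly.coeff_zero_ne_zero (IsIntegral.of_finite k x) hx0
  have hsingle : IsSeparable k
      (Pi.single i (ev.symm x) : (j : Fin n) → Matrix (Fin (d j)) (Fin (d j)) (D j)) :=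
    isSeparable_single (S := fun j => Matrix (Fin (d j)) (Fin (d j)) (D j)) i _ hu hu0
  refine ⟨Pi.single i (ev.symm x), hsingle, Pi.single i (ev.symm y), fun h => hy ?_⟩
  have := congrArg ev (congrFun h i)
  simpa using this

/-- Maximality gives self-centralisation. -/
theorem centralizer_eq [FiniteDimensional k A] (hsep : Algebra.IsSeparable k L)
    (hss : IsSemisimpleRing (AlgebraicClosure k ⊗[k] A))
    (hmax : ∀ L' : Subalgebra k A, (∀ x ∈ L', ∀ y ∈ L', x * y = y * x) →
      Algebra.IsSeparable k L' → L ≤ L' → L' = L) : Z L = L := by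
  have hLZ : L ≤ Z L := fun x hx => (mem_Z_iff L).2 fun l hl => hL l hl x hx
  have hLc : ∀ (l : A) (hl : l ∈ L), (⟨l, hLZ hl⟩ : Z L) ∈ Subalgebra.center k (Z L) := fun l hl =>
    Subalgebra.mem_center_iff.2 fun w => Subtype.ext ((mem_Z_iff L).1 w.2 l hl).symm
  have hC : (Subalgebra.center k (Z L)).map (Z L).val = L := by
    refine hmax _ ?_ ⟨fun c => ?_⟩ fun l hl => ⟨⟨l, hLZ hl⟩, hLc l hl, rfl⟩
    · rintro _ ⟨a, ha, rfl⟩ _ ⟨b, -, rfl⟩
      exact congrArg Subtype.val (Subalgebra.mem_center_iff.1 ha b).symm
    · obtain ⟨a, ha, hac⟩ := c.2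
      have h1 := isSeparable_center hL hsep hss ⟨a, ha⟩
      unfold IsSeparable at h1 ⊢
      rw [← minpoly.algHom_eq (((Z L).val).comp (Subalgebra.center k (Z L)).val)
        (Subtype.val_injective.comp Subtype.val_injective)] at h1
      rw [← minpoly.algHom_eq (((Subalgebra.center k (Z L)).map (Z L).val).val) Subtype.val_injective]
      have e : ((Subalgebra.center k (Z L)).map (Z L).val).val c = (Z L).val a := hac.symm
      rw [e]
      exact h1
  refine le_antisymm (fun z hz => ?_) hLZ
  haveI : IsSemisimpleRing (Z L) := isSemisimpleRing_of_regular (k := k) (regular_centralizer hL hsep hss)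
  by_cases hcomm : ∃ a b : Z L, a * b ≠ b * a
  swap
  · push Not at hcomm
    have : (⟨z, hz⟩ : Z L) ∈ Subalgebra.center k (Z L) :=
      Subalgebra.mem_center_iff.2 fun b => hcomm b _
    rw [← hC]
    exact ⟨⟨z, hz⟩, this, rfl⟩
  exfalso
  obtain ⟨s, hs, w, hw⟩ := exists_separable_noncentral (R := Z L)
    (fun c hc => by
      have h1 := isSeparable_center hL hsep hss ⟨c, hc⟩
      unfold IsSeparable at h1 ⊢
      rwa [← minpoly.algHom_eq (Subalgebra.center k (Z L)).val Subtype.val_injective] at h1) hcomm
  let gen : Set A := (L : Set A) ∪ {(s : A)}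
  have hgen : ∀ a ∈ gen, ∀ b ∈ gen, a * b = b * a := by
    rintro a (ha | ha) b (hb | hb)
    · exact hL a ha b hb
    · rw [Set.mem_singleton_iff] at hb; subst hb; exact (mem_Z_iff L).1 s.2 a ha
    · rw [Set.mem_singleton_iff] at ha; subst ha; exact ((mem_Z_iff L).1 s.2 b hb).symm
    · rw [Set.mem_singleton_iff] at ha hb; rw [ha, hb]
  let L' := Algebra.adjoin k gen
  letI : CommRing L' := { (inferInstance : Ring L') with
    mul_comm := fun p q => (Algebra.adjoinCommRingOfComm k (s := gen) hgen).mul_comm p q }
  haveI : Algebra.FormallyUnramified k L' := by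
    refine formallyUnramified_of_generators (s := L'.val ⁻¹' gen) ?_ fun y hy => ?_
    · refine Subalgebra.map_injective (f := L'.val) Subtype.val_injective ?_
      rw [AlgHom.map_adjoin, Algebra.map_top, Subalgebra.range_val, Set.image_preimage_eq_of_subset]
      intro a ha
      exact ⟨⟨a, Algebra.subset_adjoin ha⟩, rfl⟩
    · unfold IsSeparable
      rw [← minpoly.algHom_eq L'.val Subtype.val_injective]
      rcases hy with hy | hy
      · have h1 := Algebra.IsSeparable.isSeparable k (⟨_, hy⟩ : L)
        unfold IsSeparable at h1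
        rwa [← minpoly.algHom_eq L.val Subtype.val_injective] at h1
      · rw [Set.mem_singleton_iff] at hy
        rw [show L'.val y = (Z L).val s from hy, minpoly.algHom_eq (Z L).val Subtype.val_injective]
        exact hs
  have hL' := hmax L' (fun a ha b hb => congrArg Subtype.val (mul_comm (⟨a, ha⟩ : L') ⟨b, hb⟩))
    ⟨fun y => isSeparable_of_formallyUnramified y⟩
    (fun l hl => Algebra.subset_adjoin (Or.inl hl))
  have hsL : (s : A) ∈ L := hL'.le (Algebra.subset_adjoin (Or.inr rfl))
  exact hw (Subtype.ext ((mem_Z_iff L).1 w.2 _ hsL))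

end Main

end Groth.L12.EtaleSubalg
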