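import Groth.Prelude.Def_W4c5t1liftcy3defoArt
import Groth.Agent.L12.ArtPullback
import Mathlib.RingTheory.Flat.Basic
import Mathlib.Tactic

/-!
The T¹-lifting criterion along `k[t]/(t^(n+2)) → k[t]/(t^(n+1))`.
-/

universe u v

open CategoryTheory Polynomial ArtFun ArtFun.Art

namespace Groth.L12.T1LiftCrit

open T1Lift

variable (k : Type u) [Field k]

lemma α_surjective (m : ℕ) : Function.Surjective (αAlg k m) := by
  intro a
  induction a using AdjoinRoot.induction_on with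
  | ih p =>
    refine ⟨AdjoinRoot.mk _ p, ?_⟩
    induction p using Polynomial.induction_on' with
    | add p q hp hq => rw [map_add, map_add, hp, hq, map_add]
    | monomial j c =>
      rw [← C_mul_X_pow_eq_monomial, map_mul, map_mul, map_pow, map_pow, AdjoinRoot.mk_C, AdjoinRoot.mk_X,
        αAlg_t, map_mul, map_pow, AdjoinRoot.mk_C, AdjoinRoot.mk_X]
      congr 1
      exact (αAlg k m).commutes c

lemma αAlg_mk (m : ℕ) (p : k[X]) : αAlg k m (AdjoinRoot.mk _ p) = AdjoinRoot.mk _ p := by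
  induction p using Polynomial.induction_on' with
  | add p q hp hq => rw [map_add, map_add, hp, hq, map_add]
  | monomial j c =>
    rw [← C_mul_X_pow_eq_monomial, map_mul, map_mul, map_pow, map_pow, AdjoinRoot.mk_C, AdjoinRoot.mk_X,
      αAlg_t, map_mul, map_pow, AdjoinRoot.mk_C, AdjoinRoot.mk_X]
    congr 1
    exact (αAlg k m).commutes c

lemma ker_αAlg (m : ℕ) (a : Tr k (m + 1)) (ha : αAlg k m a = 0) :
    ∃ c : k, a = algebraMap k _ c * t k (m + 1) ^ (m + 1) := by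
  obtain ⟨p, rfl⟩ := AdjoinRoot.mk_surjective a
  rw [αAlg_mk, AdjoinRoot.mk_eq_zero] at ha
  obtain ⟨q, rfl⟩ := ha
  obtain ⟨b, hb⟩ := eq_algebraMap_add_t_mul k (m + 1) (AdjoinRoot.mk _ q)
  refine ⟨resA k (m + 1) (AdjoinRoot.mk _ q), ?_⟩
  have ht : t k (m + 1) ^ (m + 1 + 1) = 0 := t_pow k (m + 1)
  rw [map_mul, map_pow, AdjoinRoot.mk_X]
  conv_lhs => rw [hb]
  change t k (m + 1) ^ (m + 1) * _ = _
  linear_combination b * ht

lemma t_pow_ne_zero (m : ℕ) : t k (m + 1) ^ (m + 1) ≠ 0 := by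
  rw [t, ← AdjoinRoot.mk_X, ← map_pow, Ne, AdjoinRoot.mk_eq_zero, pow_dvd_pow_iff Polynomial.X_ne_zero Polynomial.not_isUnit_X]
  omega

lemma mul_t_pow_eq_zero (m : ℕ) (a : Tr k (m + 1)) (ha : resA k (m + 1) a = 0) (c : k) :
    a * (algebraMap k _ c * t k (m + 1) ^ (m + 1)) = 0 := by
  obtain ⟨b, hb⟩ := eq_algebraMap_add_t_mul k (m + 1) a
  rw [ha, map_zero, zero_add] at hb
  have ht : t k (m + 1) ^ (m + 1 + 1) = 0 := t_pow k (m + 1)
  rw [hb]
  linear_combination b * algebraMap k _ c * ht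

lemma β_comp_ε (m : ℕ) : T1Lift.ε k m ≫ T1Lift.β k m = T1Lift.α k m :=
  Groth.L12.hom_ext fun a => DFunLike.congr_fun
    (AdjoinRoot.algHom_ext (show (TrivSqZeroExt.fstHom k (Tr k m) (Tr k m)).comp (εAlg k m) (t k (m + 1)) = αAlg k m (t k (m + 1)) by
      rw [AlgHom.comp_apply, εAlg_t, αAlg_t]
      simp) : (TrivSqZeroExt.fstHom k (Tr k m) (Tr k m)).comp (εAlg k m) = αAlg k m) a

lemma ξ_comp_ε (m : ℕ) : T1Lift.ε k (m + 1) ≫ T1Lift.ξ k m = T1Lift.α k (m + 1) ≫ T1Lift.ε k m :=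
  Groth.L12.hom_ext fun a => DFunLike.congr_fun
    (AdjoinRoot.algHom_ext (show (dualMap k (αAlg k m)).comp (εAlg k (m + 1)) (t k (m + 2)) =
        (εAlg k m).comp (αAlg k (m + 1)) (t k (m + 2)) by
      rw [AlgHom.comp_apply, AlgHom.comp_apply, εAlg_t, αAlg_t, εAlg_t]
      refine TrivSqZeroExt.ext ?_ ?_
      · change αAlg k m _ = _
        simp
      · change αAlg k m _ = _
        simp) : (dualMap k (αAlg k m)).comp (εAlg k (m + 1)) = (εAlg k m).comp (αAlg k (m + 1))) a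

lemma εAlg_pow (n : ℕ) (c : k) :
    εAlg k (n + 1) (algebraMap k _ c * t k (n + 2) ^ (n + 2)) =
      TrivSqZeroExt.inr (algebraMap k _ c * ((n + 2 : ℕ) : Tr k (n + 1)) * t k (n + 1) ^ (n + 1)) := by
  rw [map_mul, map_pow, εAlg_t, AlgHom.commutes]
  refine TrivSqZeroExt.ext ?_ ?_
  · simp [TrivSqZeroExt.algebraMap_eq_inl', t_pow k (n + 1)]
  · simp [TrivSqZeroExt.algebraMap_eq_inl', TrivSqZeroExt.snd_pow, nsmul_eq_mul]
    ring

theorem lift_iff [CharZero k] (F : Art k k ⥤ Type v)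
    (hRS : ∀ ⦃P A A' A'' : Art k k⦄ (p' : P ⟶ A') (p'' : P ⟶ A'') (f' : A' ⟶ A) (f'' : A'' ⟶ A)
      (h : IsFibreProd p' p'' f' f''), Function.Surjective f'' → Function.Bijective (cmp F h))
    (V : Type u) [AddCommGroup V] [Module k V] (O : ObsTheory F V)
    (hnat : ∀ ⦃A' A C' C : Art k k⦄ (φ : A' ⟶ A) (hφ : IsSemismallExt φ)
      (ψ : C' ⟶ C) (hψ : IsSemismallExt ψ) (g' : A' ⟶ C') (g : A ⟶ C), φ ≫ g = g' ≫ ψ →
      ∀ (ℓ : ↥(RingHom.ker φ.toAlgHom) →ₗ[k] ↥(RingHom.ker ψ.toAlgHom)),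
        (∀ j : ↥(RingHom.ker φ.toAlgHom), ((ℓ j : ↥(RingHom.ker ψ.toAlgHom)) : C') = g' (j : A')) →
        ∀ u : F.obj A, O.obs ψ hψ (F.map g u) = LinearMap.lTensor V ℓ (O.obs φ hφ u))
    (n : ℕ) (X : F.obj (T1Lift.A k (n + 1))) :
    (∃ X' : F.obj (T1Lift.A k (n + 2)), F.map (T1Lift.α k (n + 1)) X' = X) ↔
      ∃ Y : F.obj (T1Lift.B k (n + 1)), F.map (T1Lift.β k (n + 1)) Y = X ∧
        F.map (T1Lift.ξ k n) Y = F.map (T1Lift.ε k n) X := by
  constructor
  · rintro ⟨X', rfl⟩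
    refine ⟨F.map (T1Lift.ε k (n + 1)) X', ?_, ?_⟩
    · rw [← FunctorToTypes.map_comp_apply, β_comp_ε]
    · rw [← FunctorToTypes.map_comp_apply, ← FunctorToTypes.map_comp_apply, ξ_comp_ε]
  rintro ⟨Y, hY1, hY2⟩
  obtain ⟨P, p', p'', hP⟩ := exists_isFibreProd_of_surjective (T1Lift.β k n) (T1Lift.α k n) (α_surjective k n)
  have hsq : T1Lift.ξ k n ≫ T1Lift.β k n = T1Lift.β k (n + 1) ≫ T1Lift.α k n :=
    Groth.L12.hom_ext fun b => rfl
  obtain ⟨φ, hφ1, hφ2⟩ := IsFP.exists_lift hP (T1Lift.ξ k n) (T1Lift.β k (n + 1)) hsq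
  obtain ⟨g, hg1, hg2⟩ := IsFP.exists_lift hP (T1Lift.ε k n) (𝟙 (T1Lift.A k (n + 1)))
    (by rw [β_comp_ε, Category.id_comp])
  have hcomm : T1Lift.α k (n + 1) ≫ g = T1Lift.ε k (n + 1) ≫ φ := by
    refine IsFP.hom_ext hP ?_ ?_
    · rw [Category.assoc, hg1, Category.assoc, hφ1, ξ_comp_ε]
    · rw [Category.assoc, hg2, Category.comp_id, Category.assoc, hφ2, β_comp_ε]
  have hp1 : ∀ b, p' (φ b) = T1Lift.ξ k n b := fun b => congrArg (fun (h : T1Lift.B k (n + 1) ⟶ T1Lift.B k n) => h b) hφ1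
  have hp2 : ∀ b, p'' (φ b) = T1Lift.β k (n + 1) b := fun b => congrArg (fun (h : T1Lift.B k (n + 1) ⟶ T1Lift.A k (n + 1)) => h b) hφ2
  have hφs : IsSemismallExt φ := by
    refine ⟨fun z => ?_, ?_⟩
    · obtain ⟨s, hs⟩ := α_surjective k n (TrivSqZeroExt.snd (p' z : DualNumber (Tr k n)))
      refine ⟨((p'' z : Tr k (n + 1)), s), hP.inj _ _ ?_ ?_⟩
      · rw [hp1]
        exact TrivSqZeroExt.ext (hP.w_apply z).symm hs
      · rw [hp2]; rfl
    · rw [eq_bot_iff, Ideal.mul_le]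
      intro a ha j hj
      have hj' : φ j = 0 := RingHom.mem_ker.mp hj
      have h1 : T1Lift.ξ k n j = 0 := by rw [← hp1, hj', map_zero]
      have h2 : TrivSqZeroExt.fst (j : DualNumber (Tr k (n + 1))) = 0 := by
        have := hp2 j
        rw [hj', map_zero] at this
        exact this.symm
      obtain ⟨c, hc⟩ := ker_αAlg k n (TrivSqZeroExt.snd (j : DualNumber (Tr k (n + 1))))
        (congrArg TrivSqZeroExt.snd h1)
      have ha' : resA k (n + 1) (TrivSqZeroExt.fst (a : DualNumber (Tr k (n + 1)))) = 0 :=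
        ((T1Lift.B k (n + 1)).mem_maximalIdeal_iff a).mp ha
      rw [Ideal.mem_bot]
      refine TrivSqZeroExt.ext ?_ ?_
      · change TrivSqZeroExt.fst (a : DualNumber (Tr k (n + 1))) * TrivSqZeroExt.fst (j : DualNumber (Tr k (n + 1))) = 0
        rw [h2, mul_zero]
      · have := DualNumber.snd_mul (a : DualNumber (Tr k (n + 1))) j
        refine this.trans ?_
        rw [h2, mul_zero, add_zero, hc]
        exact mul_t_pow_eq_zero k n _ ha' c
  have hαs : IsSemismallExt (T1Lift.α k (n + 1)) := by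
    refine ⟨α_surjective k (n + 1), ?_⟩
    rw [eq_bot_iff, Ideal.mul_le]
    intro a ha j hj
    obtain ⟨c, hc⟩ := ker_αAlg k (n + 1) j (RingHom.mem_ker.mp hj)
    rw [Ideal.mem_bot, hc]
    exact mul_t_pow_eq_zero k (n + 1) _ (((T1Lift.A k (n + 2)).mem_maximalIdeal_iff a).mp ha) c
  let ℓ : ↥(RingHom.ker (T1Lift.α k (n + 1)).toAlgHom) →ₗ[k] ↥(RingHom.ker φ.toAlgHom) :=
    { toFun := fun j => ⟨T1Lift.ε k (n + 1) j.1, RingHom.mem_ker.mpr (by
        have h := congrArg (fun (h : T1Lift.A k (n + 2) ⟶ P) => h j.1) hcomm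
        simp only [ArtFun.Art.comp_apply] at h
        exact (h.symm.trans (by rw [RingHom.mem_ker.mp j.2, map_zero])))⟩
      map_add' := fun a b => Subtype.ext (map_add (T1Lift.ε k (n + 1)).toAlgHom a.1 b.1)
      map_smul' := fun c a => Subtype.ext (map_smul (T1Lift.ε k (n + 1)).toAlgHom c a.1) }
  have hℓinj : Function.Injective ℓ := by
    rw [injective_iff_map_eq_zero]
    intro j hj
    obtain ⟨c, hc⟩ := ker_αAlg k (n + 1) j.1 (RingHom.mem_ker.mp j.2)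
    have h : εAlg k (n + 1) j.1 = 0 := congrArg Subtype.val hj
    rw [hc, εAlg_pow] at h
    have h' := congrArg TrivSqZeroExt.snd h
    rw [TrivSqZeroExt.snd_inr, TrivSqZeroExt.snd_zero, ← map_natCast (algebraMap k (Tr k (n + 1))), ← map_mul,
      ← Algebra.smul_def, smul_eq_zero, or_iff_left (t_pow_ne_zero k n), mul_eq_zero,
      or_iff_left (Nat.cast_ne_zero.mpr (by omega))] at h'
    refine Subtype.ext ?_
    rw [hc, h', map_zero, zero_mul]; rfl
  have hgY : F.map φ Y = F.map g X := by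
    refine (hRS p' p'' (T1Lift.β k n) (T1Lift.α k n) hP (α_surjective k n)).1 (FibProd.ext ?_ ?_)
    · change F.map p' (F.map φ Y) = F.map p' (F.map g X)
      rw [← FunctorToTypes.map_comp_apply, ← FunctorToTypes.map_comp_apply, hφ1, hg1, hY2]
    · change F.map p'' (F.map φ Y) = F.map p'' (F.map g X)
      rw [← FunctorToTypes.map_comp_apply, ← FunctorToTypes.map_comp_apply, hφ2, hg2, hY1, FunctorToTypes.map_id_apply]
  have h0 : LinearMap.lTensor V ℓ (O.obs (T1Lift.α k (n + 1)) hαs X) = 0 := by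
    rw [← hnat (T1Lift.α k (n + 1)) hαs φ hφs (T1Lift.ε k (n + 1)) g hcomm ℓ (fun j => rfl) X]
    exact (O.obs_eq_zero_iff φ hφs _).mpr ⟨Y, hgY⟩
  have hinj : Function.Injective (LinearMap.lTensor V ℓ) :=
    Module.Flat.lTensor_preserves_injective_linearMap ℓ hℓinj
  exact (O.obs_eq_zero_iff _ hαs X).mp (hinj (h0.trans (map_zero _).symm))

end Groth.L12.T1LiftCrit
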