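import Groth.Agent.L12.ExalSmall
import Groth.Agent.L12.T1LiftCrit
import Mathlib.RingTheory.Ideal.Cotangent

/-!
A local Artinian algebra other than the ground field has a non-trivial extension by its residue field.
-/

universe u

open IsLocalRing Polynomial

namespace Groth.L12.ExalArtin

open T1Lift

lemma isSimpleModule_residueField (R : Type u) [CommRing R] [IsLocalRing R] : IsSimpleModule R (ResidueField R) :=
  isSimpleModule_iff_isCoatom.2 (maximalIdeal.isMaximal R).out

variable {k : Type u} [Field k]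

lemma span_t_eq_ker (j : ℕ) : Ideal.span {t k (j + 1) ^ (j + 1)} = RingHom.ker (αAlg k j) := by
  refine le_antisymm ?_ fun a ha => ?_
  · rw [Ideal.span_le, Set.singleton_subset_iff, SetLike.mem_coe, RingHom.mem_ker, map_pow, αAlg_t]
    exact t_pow k j
  · obtain ⟨c, rfl⟩ := Groth.L12.T1LiftCrit.ker_αAlg k j a ha
    exact Ideal.mul_mem_left _ _ (Ideal.mem_span_singleton_self _)

theorem lift_step {A : Type u} [CommRing A] [Algebra k A] [IsLocalRing A]
    (h : ∀ X : Exal.Ext k A (ResidueField A), X.IsTrivial) (m : ℕ) (ψ : A →ₐ[k] Tr k m) :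
    ∃ ψ' : A →ₐ[k] Tr k (m + 1), ∀ a, αAlg k m (ψ' a) = ψ a := by
  have hsurj := Groth.L12.T1LiftCrit.α_surjective k m
  let e₂ : (Tr k (m + 1) ⧸ Ideal.span {t k (m + 1) ^ (m + 1)}) ≃ₐ[k] Tr k m :=
    (Ideal.quotientEquivAlgOfEq k (span_t_eq_ker m)).trans (Ideal.quotientKerAlgEquivOfSurjective hsurj)
  have hmem : t k (m + 1) ∈ maximalIdeal (Tr k (m + 1)) :=
    ((T1Lift.A k (m + 1)).mem_maximalIdeal_iff _).2 (resA_t k (m + 1))
  obtain ⟨ψ', hψ'⟩ := Groth.L12.ExalSmall.lift_of_trivial h (Tr k (m + 1))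
    (fun b => ⟨resA k (m + 1) b, by
      obtain ⟨u, hu⟩ := eq_algebraMap_add_t_mul k (m + 1) b
      have he : b - algebraMap k _ (resA k (m + 1) b) = t k (m + 1) * u := sub_eq_iff_eq_add'.2 hu
      exact he ▸ Ideal.mul_mem_right _ _ hmem⟩)
    (t k (m + 1) ^ (m + 1)) (Ideal.pow_mem_of_mem _ hmem _ m.succ_pos)
    (fun b hb => by
      have h1 := Groth.L12.T1LiftCrit.mul_t_pow_eq_zero k m b (((T1Lift.A k (m + 1)).mem_maximalIdeal_iff b).1 hb) 1
      rwa [map_one, one_mul] at h1)
    (e₂.symm.toAlgHom.comp ψ)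
  refine ⟨ψ', fun a => ?_⟩
  exact (congrArg e₂ (DFunLike.congr_fun hψ' a)).trans (e₂.apply_symm_apply _)

theorem exists_not_trivial {A : Type u} [CommRing A] [Algebra k A] [IsLocalRing A] [IsArtinianRing A]
    (hres : ∀ a : A, ∃ c : k, a - algebraMap k A c ∈ maximalIdeal A)
    (hA : maximalIdeal A ≠ ⊥) :
    ∃ X : Exal.Ext k A (ResidueField A), ¬ X.IsTrivial := by
  by_contra hcon
  push Not at hcon
  -- the residue map and a tangent vector
  choose c hc using hres
  have hnt : Nontrivial (CotangentSpace A) := by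
    by_contra hn
    rw [not_nontrivial_iff_subsingleton, CotangentSpace, Ideal.cotangent_subsingleton_iff] at hn
    obtain ⟨n, hpow⟩ := (isArtinianRing_iff_isNilpotent_maximalIdeal A).1 ‹_›
    have hidem : ∀ i, maximalIdeal A ^ (i + 1) = maximalIdeal A := by
      intro i
      induction i with
      | zero => simp
      | succ i ih => rw [pow_succ, ih]; exact hn
    refine hA (le_bot_iff.1 ?_)
    rw [← hidem n, pow_succ, hpow, zero_mul, Ideal.zero_eq_bot]
  obtain ⟨v, hv⟩ := exists_ne (0 : CotangentSpace A)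
  obtain ⟨a₀, ha₀⟩ := Ideal.toCotangent_surjective (maximalIdeal A) v
  obtain ⟨l, hl⟩ : ∃ l : Module.Dual (ResidueField A) (CotangentSpace A), l v ≠ 0 := by
    by_contra h; push Not at h; exact hv ((Module.forall_dual_apply_eq_zero_iff _ v).1 h)
  have hbij : Function.Bijective (algebraMap k (ResidueField A)) := by
    refine ⟨(algebraMap k (ResidueField A)).injective, fun x => ?_⟩
    obtain ⟨a, rfl⟩ := residue_surjective x
    refine ⟨c a, ?_⟩
    rw [IsScalarTower.algebraMap_apply k A (ResidueField A), ResidueField.algebraMap_eq, ← sub_eq_zero, ← map_sub,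
      residue_eq_zero_iff, ← neg_sub]
    exact neg_mem (hc a)
  let e : k ≃ₐ[k] ResidueField A := AlgEquiv.ofBijective (Algebra.ofId k _) hbij
  let ρ : A →ₐ[k] k := e.symm.toAlgHom.comp (IsScalarTower.toAlgHom k A (ResidueField A))
  have hρ : ∀ a, a - algebraMap k A (ρ a) ∈ maximalIdeal A := fun a => by
    rw [← residue_eq_zero_iff, map_sub, sub_eq_zero]
    exact (e.apply_symm_apply (residue A a)).symm
  let d : A → k := fun a => e.symm (l ((maximalIdeal A).toCotangent ⟨a - algebraMap k A (ρ a), hρ a⟩))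
  have hd0 : ∀ x (hx : x ∈ maximalIdeal A), d x = e.symm (l ((maximalIdeal A).toCotangent ⟨x, hx⟩)) := fun x hx => by
    have h0 : ρ x = 0 := by
      show e.symm (residue A x) = 0
      rw [(residue_eq_zero_iff x).2 hx, map_zero]
    simp only [d, h0, map_zero, sub_zero]
  have hd_add : ∀ a b, d (a + b) = d a + d b := fun a b => by
    show e.symm _ = e.symm _ + e.symm _
    rw [← map_add e.symm, ← map_add l, ← map_add (maximalIdeal A).toCotangent]
    refine congrArg e.symm (congrArg l (congrArg _ (Subtype.ext ?_)))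
    simp only [map_add, Submodule.coe_add]; ring
  have hd_mul : ∀ a b, d (a * b) = ρ a * d b + ρ b * d a := fun a b => by
    have key : (⟨a * b - algebraMap k A (ρ (a * b)), hρ _⟩ : maximalIdeal A) =
        algebraMap k A (ρ a) • ⟨b - algebraMap k A (ρ b), hρ b⟩ +
          algebraMap k A (ρ b) • ⟨a - algebraMap k A (ρ a), hρ a⟩ +
          (a - algebraMap k A (ρ a)) • ⟨b - algebraMap k A (ρ b), hρ b⟩ := by
      refine Subtype.ext ?_
      simp only [map_mul, Submodule.coe_add, Submodule.coe_smul, smul_eq_mul]; ring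
    have h0 : (maximalIdeal A).toCotangent ((a - algebraMap k A (ρ a)) • (⟨b - algebraMap k A (ρ b), hρ b⟩ : maximalIdeal A)) = 0 := by
      rw [Ideal.toCotangent_eq_zero, Submodule.coe_smul, smul_eq_mul, pow_two]
      exact Ideal.mul_mem_mul (hρ a) (hρ b)
    have hsc : ∀ (r : k) (y : CotangentSpace A), e.symm (l (algebraMap k A r • y)) = r * e.symm (l y) := fun r y => by
      rw [← algebraMap_smul (ResidueField A) (algebraMap k A r) y, map_smul, smul_eq_mul, map_mul,
        ← IsScalarTower.algebraMap_apply k A (ResidueField A), AlgEquiv.commutes, Algebra.algebraMap_self_apply]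
    show e.symm (l ((maximalIdeal A).toCotangent _)) = _
    rw [key, (maximalIdeal A).toCotangent.map_add, (maximalIdeal A).toCotangent.map_add, h0, add_zero, map_smul, map_smul, map_add, map_add, hsc, hsc]
  have hd_one : d 1 = 0 := by
    have h := hd_mul 1 1
    rw [one_mul, map_one, one_mul] at h
    exact left_eq_add.1 h
  have ht2 : t k 1 * t k 1 = 0 := by rw [← pow_two]; exact t_pow k 1
  let ψ₁ : A →ₐ[k] Tr k 1 :=
    AlgHom.mk' { toFun := fun a => algebraMap k _ (ρ a) + algebraMap k _ (d a) * t k 1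
                 map_one' := by rw [map_one, hd_one, map_one, map_zero, zero_mul, add_zero]
                 map_mul' := fun a b => by
                   rw [map_mul, hd_mul, map_mul, map_add, map_mul, map_mul]
                   linear_combination (-(algebraMap k (Tr k 1) (d a) * algebraMap k (Tr k 1) (d b))) * ht2
                 map_zero' := by
                   have h0 : d 0 = 0 := by have h := hd_add 0 0; rw [add_zero] at h; exact left_eq_add.1 h
                   rw [map_zero, h0, map_zero, zero_mul, add_zero]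
                 map_add' := fun a b => by rw [map_add, hd_add, map_add, map_add]; ring }
      (fun r a => by
        show algebraMap k _ (ρ (r • a)) + algebraMap k _ (d (r • a)) * t k 1 =
          r • (algebraMap k _ (ρ a) + algebraMap k _ (d a) * t k 1)
        have hdr : d (algebraMap k A r) = 0 := by
          show e.symm _ = 0
          have : (⟨algebraMap k A r - algebraMap k A (ρ (algebraMap k A r)), hρ _⟩ : maximalIdeal A) = 0 :=
            Subtype.ext (show algebraMap k A r - algebraMap k A (ρ (algebraMap k A r)) = 0 by rw [AlgHom.commutes]; simp)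
          rw [this, map_zero, map_zero, map_zero]
        rw [Algebra.smul_def, map_mul, hd_mul, hdr, mul_zero, add_zero, AlgHom.commutes, map_mul,
          Algebra.algebraMap_self_apply, Algebra.smul_def, map_mul]
        ring)
  -- lift step by step
  have step : ∀ j, ∃ (ψ : A →ₐ[k] Tr k (j + 1)) (w : Tr k (j + 1)),
      ψ a₀.1 = algebraMap k _ (d a₀.1) * t k (j + 1) + t k (j + 1) ^ 2 * w := by
    intro j
    induction j with
    | zero =>
      refine ⟨ψ₁, 0, ?_⟩
      show algebraMap k _ (ρ a₀.1) + algebraMap k _ (d a₀.1) * t k 1 = _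
      rw [show ρ a₀.1 = 0 from (congrArg e.symm ((residue_eq_zero_iff _).2 a₀.2)).trans (map_zero _)]
      simp
    | succ j ih =>
      obtain ⟨ψ, w, hw⟩ := ih
      obtain ⟨ψ', hα'⟩ := lift_step hcon (j + 1) ψ
      have hα : αAlg k (j + 1) (ψ' a₀.1) = ψ a₀.1 := hα' _
      obtain ⟨w', hw'⟩ := Groth.L12.T1LiftCrit.α_surjective k (j + 1) w
      obtain ⟨s, hs⟩ := Groth.L12.T1LiftCrit.ker_αAlg k (j + 1)
        (ψ' a₀.1 - (algebraMap k _ (d a₀.1) * t k (j + 2) + t k (j + 2) ^ 2 * w')) (by
          rw [map_sub, hα, hw, map_add, map_mul, map_mul, map_pow, hw', αAlg_t, AlgHom.commutes, sub_self])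
      refine ⟨ψ', w' + algebraMap k _ s * t k (j + 2) ^ j, ?_⟩
      rw [show t k (j + 2) ^ (j + 2) = t k (j + 2) ^ 2 * t k (j + 2) ^ j by ring] at hs
      linear_combination hs
  obtain ⟨N, hN⟩ := (isArtinianRing_iff_isNilpotent_maximalIdeal A).1 ‹_›
  have hN0 : a₀.1 ^ N = 0 := by
    have h := Ideal.pow_mem_pow a₀.2 N
    rwa [hN, Ideal.zero_eq_bot, Ideal.mem_bot] at h
  obtain ⟨ψ, w, hw⟩ := step N
  have hd : d a₀.1 ≠ 0 := by
    rw [hd0 _ a₀.2, ha₀]
    exact fun h => hl (e.symm.map_eq_zero_iff.1 h)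
  have hunit : IsUnit (algebraMap k (Tr k (N + 1)) (d a₀.1) + t k (N + 1) * w) :=
    IsNilpotent.isUnit_add_left_of_commute ((Commute.all _ _).isNilpotent_mul_right ⟨N + 1 + 1, t_pow k (N + 1)⟩)
      ((Ne.isUnit hd).map _) (Commute.all _ _)
  have h0 : t k (N + 1) ^ N * (algebraMap k (Tr k (N + 1)) (d a₀.1) + t k (N + 1) * w) ^ N = 0 := by
    rw [← mul_pow, show t k (N + 1) * (algebraMap k (Tr k (N + 1)) (d a₀.1) + t k (N + 1) * w) = ψ a₀.1 by rw [hw]; ring,
      ← map_pow, hN0, map_zero]
  have h1 : t k (N + 1) ^ N = 0 := (hunit.pow N).mul_left_eq_zero.1 h0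
  exact Groth.L12.T1LiftCrit.t_pow_ne_zero k N (by rw [pow_succ, h1, zero_mul])

end Groth.L12.ExalArtin
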