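import Groth.Prelude.Def_Exal2
import Groth.Agent.L12.RegLift
import Mathlib.RingTheory.Filtration
import Mathlib.RingTheory.SimpleModule.Basic
import Mathlib.RingTheory.LocalRing.ResidueField.Basic
import Mathlib.Tactic

/-!
Extensions of a Noetherian local algebra by a simple module: descent from one Artinian level, and the
equivalence between triviality and lifting along small extensions.
-/

universe u v w

open IsLocalRing

namespace Groth.L12.ExalLift

variable {Λ : Type w} [CommRing Λ] {R L : Type u} [CommRing R] [Algebra Λ R] [AddCommGroup L] [Module R L]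
  (X : Exal.Ext Λ R L)

lemma proj_surjective : Function.Surjective X.proj := X.isExtension.proj_surjective

lemma proj_incl (z : L) : X.proj (X.incl z) = 0 := (X.isExtension.exact _).2 ⟨z, rfl⟩

lemma exists_incl {x : X.E} (h : X.proj x = 0) : ∃ z, X.incl z = x := (X.isExtension.exact x).1 h

lemma incl_mul_incl (z w : L) : X.incl z * X.incl w = 0 := by
  rw [X.isExtension.mul_incl, proj_incl, zero_smul, map_zero]

lemma incl_smul (x : X.E) (z : L) : X.incl (X.proj x • z) = x * X.incl z := (X.isExtension.mul_incl x z).symm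

lemma isLocalHom_proj : IsLocalHom (X.proj : X.E →+* R) := by
  refine ⟨fun x hx => ?_⟩
  obtain ⟨y, hy⟩ := hx.exists_left_inv
  obtain ⟨y, rfl⟩ := proj_surjective X y
  obtain ⟨z, hz⟩ := exists_incl X (x := y * x - 1) (by
    rw [map_sub, map_mul, map_one]; exact sub_eq_zero.2 hy)
  refine IsUnit.of_mul_eq_one (y * (1 - X.incl z)) ?_
  have h2 := incl_mul_incl X z z
  linear_combination (-(1 - X.incl z)) * hz - h2

/-- A lift of `f` into one level where `L` injects gives a lift into the extension. -/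
theorem exists_lift_of_level {P : Type v} [CommRing P] [Algebra Λ P] (f : P →ₐ[Λ] R) (I : Ideal X.E)
    (hI : ∀ z, X.incl z ∈ I → z = 0) (σ : P →ₐ[Λ] X.E ⧸ I)
    (hσ : ∀ p e, X.proj e = f p → ∃ z, σ p = Ideal.Quotient.mk I (e + X.incl z)) :
    ∃ u : P →ₐ[Λ] X.E, X.proj.comp u = f ∧ (Ideal.Quotient.mkₐ Λ I).comp u = σ := by
  have hex : ∀ p, ∃ e, X.proj e = f p ∧ Ideal.Quotient.mk I e = σ p := fun p => by
    obtain ⟨e, he⟩ := proj_surjective X (f p)
    obtain ⟨z, hz⟩ := hσ p e he
    exact ⟨e + X.incl z, by rw [map_add, proj_incl, add_zero, he], hz.symm⟩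
  choose e he he' using hex
  have huniq : ∀ a b : X.E, X.proj a = X.proj b → Ideal.Quotient.mk I a = Ideal.Quotient.mk I b → a = b := by
    intro a b h1 h2
    obtain ⟨z, hz⟩ := exists_incl X (x := a - b) (by rw [map_sub, h1, sub_self])
    have : z = 0 := hI z (hz ▸ Ideal.Quotient.eq.1 h2)
    rw [this, map_zero] at hz
    exact sub_eq_zero.1 hz.symm
  refine ⟨{ toFun := e, map_one' := ?_, map_mul' := ?_, map_zero' := ?_, map_add' := ?_, commutes' := ?_ },
    AlgHom.ext he, AlgHom.ext he'⟩
  · exact huniq _ _ (by rw [he, map_one, map_one]) (by rw [he', map_one, map_one])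
  · intro a b; exact huniq _ _ (by rw [he, map_mul, map_mul, he, he]) (by rw [he', map_mul, map_mul, he', he'])
  · exact huniq _ _ (by rw [he, map_zero, map_zero]) (by rw [he', map_zero, map_zero])
  · intro a b; exact huniq _ _ (by rw [he, map_add, map_add, he, he]) (by rw [he', map_add, map_add, he', he'])
  · intro c
    exact huniq _ _ (by rw [he, AlgHom.commutes, AlgHom.commutes]) (by
      rw [he', AlgHom.commutes, ← Ideal.Quotient.mkₐ_eq_mk Λ, AlgHom.commutes])

section Local

variable [IsLocalRing R]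

lemma isLocalRing_E : IsLocalRing X.E := by
  haveI := isLocalHom_proj X
  exact (X.proj : X.E →+* R).domain_isLocalRing

variable [IsSimpleModule R L]

lemma smul_L_eq_zero {r : R} (hr : r ∈ maximalIdeal R) (z : L) : r • z = 0 := by
  by_cases hz : z = 0
  · rw [hz, smul_zero]
  have hmax : Ideal.IsMaximal (LinearMap.ker (LinearMap.toSpanSingleton R L z)) := by
    rw [Ideal.isMaximal_def, ← isSimpleModule_iff_isCoatom]
    have hs : Function.Surjective (LinearMap.toSpanSingleton R L z) := fun w => by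
      obtain ⟨c, hc⟩ := Submodule.mem_span_singleton.1 (show w ∈ Submodule.span R {z} by
        rw [IsSimpleModule.span_singleton_eq_top R hz]; trivial)
      exact ⟨c, hc⟩
    exact IsSimpleModule.congr ((LinearMap.toSpanSingleton R L z).quotKerEquivOfSurjective hs)
  rw [← IsLocalRing.eq_maximalIdeal hmax] at hr
  exact LinearMap.mem_ker.1 hr

variable [IsNoetherianRing R]

lemma isNoetherianRing_E : IsNoetherianRing X.E := by
  haveI := isLocalRing_E X
  let K : Ideal X.E := RingHom.ker X.proj
  have hK2 : IsNilpotent K := ⟨2, by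
    rw [pow_two, Ideal.zero_eq_bot, eq_bot_iff, Ideal.mul_le]
    intro a ha b hb
    obtain ⟨z, rfl⟩ := exists_incl X ha
    obtain ⟨w, rfl⟩ := exists_incl X hb
    rw [incl_mul_incl]; exact zero_mem _⟩
  have hfg : K.FG := by
    by_cases hL : ∀ z : L, z = 0
    · have : K = ⊥ := eq_bot_iff.2 fun a ha => by
        obtain ⟨z, rfl⟩ := exists_incl X ha
        rw [hL z, map_zero]; exact zero_mem _
      rw [this]; exact Submodule.fg_bot
    push Not at hL
    obtain ⟨z, hz⟩ := hL
    refine ⟨{X.incl z}, le_antisymm ?_ ?_⟩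
    · rw [Submodule.span_le, Finset.coe_singleton, Set.singleton_subset_iff]
      exact proj_incl X z
    · intro a ha
      obtain ⟨w, rfl⟩ := exists_incl X ha
      obtain ⟨c, hc⟩ := Submodule.mem_span_singleton.1 (show w ∈ Submodule.span R {z} by
        rw [IsSimpleModule.span_singleton_eq_top R hz]; trivial)
      obtain ⟨e, rfl⟩ := proj_surjective X c
      rw [Finset.coe_singleton, Submodule.mem_span_singleton]
      exact ⟨e, by rw [smul_eq_mul, ← incl_smul, hc]⟩
  haveI : IsNoetherianRing (X.E ⧸ K) :=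
    isNoetherianRing_of_ringEquiv R (RingHom.quotientKerEquivOfSurjective (f := (X.proj : X.E →+* R)) (proj_surjective X)).symm
  exact RegLift.isNoetherianRing_of_nilpotent K hfg hK2

lemma exists_level [IsLocalRing X.E] : ∃ M : ℕ, 0 < M ∧ ∀ z, X.incl z ∈ maximalIdeal X.E ^ M → z = 0 := by
  haveI := isNoetherianRing_E X
  by_contra hc
  push Not at hc
  obtain ⟨z0, -, hz0⟩ := hc 1 one_pos
  have hall : ∀ M, X.incl z0 ∈ maximalIdeal X.E ^ M := fun M => by
    obtain ⟨z, hz, hzn⟩ := hc (M + 1) M.succ_pos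
    obtain ⟨c, hc'⟩ := Submodule.mem_span_singleton.1 (show z0 ∈ Submodule.span R {z} by
      rw [IsSimpleModule.span_singleton_eq_top R hzn]; trivial)
    obtain ⟨e, rfl⟩ := proj_surjective X c
    rw [← hc', incl_smul]
    exact Ideal.mul_mem_left _ _ (Ideal.pow_le_pow_right M.le_succ hz)
  have h0 : X.incl z0 ∈ (⨅ M : ℕ, maximalIdeal X.E ^ M) := Ideal.mem_iInf.2 hall
  rw [Ideal.iInf_pow_eq_bot_of_isLocalRing _ (maximalIdeal.isMaximal X.E).ne_top, Ideal.mem_bot] at h0
  exact hz0 (X.isExtension.incl_injective (h0.trans (map_zero _).symm))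

lemma incl_mem_maximalIdeal [IsLocalRing X.E] (z : L) : X.incl z ∈ maximalIdeal X.E := by
  rw [mem_maximalIdeal, mem_nonunits_iff]
  intro h
  have h1 : IsUnit (0 : R) := proj_incl X z ▸ h.map X.proj
  exact not_isUnit_zero h1

lemma mul_incl_of_mem [IsLocalRing X.E] {x : X.E} (hx : x ∈ maximalIdeal X.E) (z : L) : x * X.incl z = 0 := by
  rw [← incl_smul, smul_L_eq_zero, map_zero]
  haveI := isLocalHom_proj X
  rw [mem_maximalIdeal, mem_nonunits_iff] at hx ⊢
  exact fun h => hx (isUnit_of_map_unit (X.proj : X.E →+* R) x h)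

theorem isArtinianRing_level [IsLocalRing X.E] {M : ℕ} (hM : 0 < M) :
    IsArtinianRing (X.E ⧸ maximalIdeal X.E ^ M) := by
  haveI := isNoetherianRing_E X
  have hne : maximalIdeal X.E ^ M ≠ ⊤ :=
    ne_top_of_le_ne_top (maximalIdeal.isMaximal X.E).ne_top (Ideal.pow_le_self hM.ne')
  haveI : Nontrivial (X.E ⧸ maximalIdeal X.E ^ M) := Ideal.Quotient.nontrivial_iff.2 hne
  haveI : IsLocalRing (X.E ⧸ maximalIdeal X.E ^ M) :=
    IsLocalRing.of_surjective' _ Ideal.Quotient.mk_surjective
  refine (isArtinianRing_iff_isNilpotent_maximalIdeal _).2 ⟨M, ?_⟩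
  have hle : maximalIdeal (X.E ⧸ maximalIdeal X.E ^ M) ≤
      (maximalIdeal X.E).map (Ideal.Quotient.mk (maximalIdeal X.E ^ M)) := by
    intro x hx
    obtain ⟨x, rfl⟩ := Ideal.Quotient.mk_surjective x
    refine Ideal.mem_map_of_mem _ ?_
    rw [mem_maximalIdeal, mem_nonunits_iff] at hx ⊢
    exact fun h => hx (h.map _)
  rw [Ideal.zero_eq_bot, eq_bot_iff]
  refine (Ideal.pow_right_mono hle M).trans ?_
  rw [← Ideal.map_pow]
  exact (Ideal.map_quotient_self _).le

end Local

end Groth.L12.ExalLift
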