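import Groth.Agent.L12.ExalLift
import Mathlib.RingTheory.Derivation.Basic

/-!
`Ex_Λ(R, L) = 0` iff derivations extend and inverse image along `Λ → R` is injective.
-/

universe u

namespace Groth.L12.ExalObstr

open Groth.L12.ExalLift
attribute [local instance] Exal.opModule Exal.isCentralScalar_opModule

variable {k : Type u} [CommRing k] {Λ : Type u} [CommRing Λ] [Algebra k Λ]
  {R : Type u} [CommRing R] [Algebra Λ R] [Algebra k R] [IsScalarTower k Λ R]
  {L : Type u} [AddCommGroup L] [Module R L]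

theorem bijective_of_compat {A : Type u} [CommRing A] {B : Type u} [CommRing B] [Algebra A B]
    {M : Type u} [AddCommGroup M] [Module B M] {X Y : Exal.Ext A B M} (f : X.E →ₐ[A] Y.E)
    (hp : ∀ x, Y.proj (f x) = X.proj x) (hi : ∀ z, f (X.incl z) = Y.incl z) : Function.Bijective f := by
  refine ⟨(injective_iff_map_eq_zero f).2 fun x hx => ?_, fun y => ?_⟩
  · obtain ⟨z, rfl⟩ := exists_incl X (x := x) (by rw [← hp, hx, map_zero])
    rw [hi] at hx
    rw [show z = 0 from Y.isExtension.incl_injective (hx.trans (map_zero _).symm), map_zero]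
  · obtain ⟨x, hx⟩ := proj_surjective X (Y.proj y)
    obtain ⟨z, hz⟩ := exists_incl Y (x := y - f x) (by rw [map_sub, hp, hx, sub_self])
    exact ⟨x + X.incl z, by rw [map_add, hi, hz, add_sub_cancel]⟩

theorem exists_factor {A B C : Type u} [CommRing A] [CommRing B] [CommRing C] [Algebra k A] [Algebra k B] [Algebra k C]
    (f : A →ₐ[k] B) (hf : Function.Surjective f) (g : A →ₐ[k] C) (H : ∀ a, f a = 0 → g a = 0) :
    ∃ θ : B →ₐ[k] C, ∀ a, θ (f a) = g a :=
  ⟨AlgHom.liftOfSurjective f hf g fun a ha => RingHom.mem_ker.2 (H a (RingHom.mem_ker.1 ha)),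
    fun a => AlgHom.liftOfSurjective_apply _ hf _ _ a⟩

section Baer

variable [Module Λ L] [IsScalarTower Λ R L] (Y Y' : Exal.Ext k R L)

theorem injective_of_trivial (h : ∀ X : Exal.Ext Λ R L, X.IsTrivial)
    (e : (Y.pullback Λ).Equiv (Y'.pullback Λ)) : Nonempty (Y.Equiv Y') := by
  classical
  let P : Subalgebra k (Y.E × Y'.E) :=
    AlgHom.equalizer (Y.proj.comp (AlgHom.fst k Y.E Y'.E)) (Y'.proj.comp (AlgHom.snd k Y.E Y'.E))
  have hP : ∀ x : Y.E × Y'.E, x ∈ P ↔ Y.proj x.1 = Y'.proj x.2 := fun x => Iff.rfl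
  have hiP : ∀ z w, (Y.incl z, Y'.incl w) ∈ P := fun z w => by rw [hP]; simp only [proj_incl]
  let K : Ideal P :=
    { carrier := {x | ∃ z, (x.1 : Y.E × Y'.E) = (Y.incl z, Y'.incl z)}
      zero_mem' := ⟨0, Prod.ext (map_zero _).symm (map_zero _).symm⟩
      add_mem' := by
        rintro a b ⟨z, hz⟩ ⟨w, hw⟩
        exact ⟨z + w, by rw [Subalgebra.coe_add, hz, hw, map_add, map_add]; rfl⟩
      smul_mem' := by
        rintro c x ⟨z, hz⟩
        refine ⟨Y.proj c.1.1 • z, ?_⟩
        rw [smul_eq_mul, Subalgebra.coe_mul, hz]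
        refine Prod.ext ?_ ?_
        · exact (incl_smul Y _ _).symm
        · show c.1.2 * Y'.incl z = Y'.incl (Y.proj c.1.1 • z)
          rw [(hP c.1).1 c.2, incl_smul] }
  have hK : ∀ x : P, x ∈ K ↔ ∃ z, (x.1 : Y.E × Y'.E) = (Y.incl z, Y'.incl z) := fun x => Iff.rfl
  have he2 : ∀ p : (Y.pullback Λ).E, ((e.toAlgEquiv p) : Y'.fiberProd Λ).1.2 = (p : Y.fiberProd Λ).1.2 :=
    fun p => e.proj_apply p
  let pr : (Y.pullback Λ).E →ₐ[k] P :=
    { toFun := fun p => ⟨((p : Y.fiberProd Λ).1.1, ((e.toAlgEquiv p) : Y'.fiberProd Λ).1.1), (hP _).2 (by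
        have h1 : Y.proj (p : Y.fiberProd Λ).1.1 = algebraMap Λ R (p : Y.fiberProd Λ).1.2 := (p : Y.fiberProd Λ).2
        have h2 : Y'.proj ((e.toAlgEquiv p) : Y'.fiberProd Λ).1.1 = algebraMap Λ R ((e.toAlgEquiv p) : Y'.fiberProd Λ).1.2 :=
          ((e.toAlgEquiv p) : Y'.fiberProd Λ).2
        rw [he2] at h2
        exact h1.trans h2.symm)⟩
      map_one' := Subtype.ext (Prod.ext rfl (congrArg (fun q => (q : Y'.fiberProd Λ).1.1) (map_one e.toAlgEquiv)))
      map_mul' := fun a b => Subtype.ext (Prod.ext rfl (congrArg (fun q => (q : Y'.fiberProd Λ).1.1) (map_mul e.toAlgEquiv a b)))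
      map_zero' := Subtype.ext (Prod.ext rfl (congrArg (fun q => (q : Y'.fiberProd Λ).1.1) (map_zero e.toAlgEquiv)))
      map_add' := fun a b => Subtype.ext (Prod.ext rfl (congrArg (fun q => (q : Y'.fiberProd Λ).1.1) (map_add e.toAlgEquiv a b)))
      commutes' := fun c => Subtype.ext (Prod.ext rfl (congrArg (fun q => (q : Y'.fiberProd Λ).1.1) (AlgEquiv.commutes e.toAlgEquiv c))) }
  let π : (Y.pullback Λ).E →ₐ[k] P ⧸ K := (Ideal.Quotient.mkₐ k K).comp pr
  have hπ0 : ∀ p, (Y.pullback Λ).proj p = 0 → π p = 0 := by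
    intro p hp
    obtain ⟨z, rfl⟩ := exists_incl (Y.pullback Λ) hp
    refine Ideal.Quotient.eq_zero_iff_mem.2 ((hK _).2 ⟨z, Prod.ext ?_ ?_⟩)
    · rfl
    · show ((e.toAlgEquiv ((Y.pullback Λ).incl z)) : Y'.fiberProd Λ).1.1 = Y'.incl z
      rw [e.apply_incl]; rfl
  obtain ⟨θ, hθ⟩ := exists_factor (C := P ⧸ K) (Y.pullback Λ).proj (proj_surjective (Y.pullback Λ)) π hπ0
  letI : Algebra Λ (P ⧸ K) := θ.toRingHom.toAlgebra
  let q0 : P →+* R := (Y.proj.comp ((AlgHom.fst k Y.E Y'.E).comp P.val)).toRingHom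
  let qR : P ⧸ K →+* R := Ideal.Quotient.lift K q0 fun x hx => by
    obtain ⟨z, hz⟩ := hx
    show Y.proj x.1.1 = 0
    rw [hz, proj_incl]
  let q : P ⧸ K →ₐ[Λ] R :=
    { qR with
      commutes' := fun a => by
        obtain ⟨p, rfl⟩ := proj_surjective (Y.pullback Λ) a
        show qR (θ _) = _
        rw [hθ]
        exact ((p : Y.fiberProd Λ).2 : Y.proj (p : Y.fiberProd Λ).1.1 = algebraMap Λ R (p : Y.fiberProd Λ).1.2) }
  let ι : L →+ P ⧸ K :=
    { toFun := fun z => Ideal.Quotient.mk K ⟨(Y.incl z, 0), by simpa using hiP z 0⟩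
      map_zero' := by
        rw [← map_zero (Ideal.Quotient.mk K)]
        exact congrArg _ (Subtype.ext (Prod.ext (map_zero _) rfl))
      map_add' := fun z w => by
        rw [← map_add (Ideal.Quotient.mk K)]
        exact congrArg _ (Subtype.ext (Prod.ext (map_add _ _ _) (add_zero 0).symm)) }
  let X : Exal.Ext Λ R L :=
    { E := P ⧸ K
      proj := q
      incl := ι
      isExtension :=
        { proj_surjective := fun r => by
            obtain ⟨y, hy⟩ := proj_surjective Y r
            obtain ⟨y', hy'⟩ := proj_surjective Y' r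
            exact ⟨Ideal.Quotient.mk K ⟨(y, y'), (hP _).2 (hy.trans hy'.symm)⟩, hy⟩
          incl_injective := by
            rw [injective_iff_map_eq_zero]
            intro z hz
            obtain ⟨w, hw⟩ := Ideal.Quotient.eq_zero_iff_mem.1 hz
            have h2 : Y'.incl w = 0 := (congrArg Prod.snd hw).symm
            have h0 : w = 0 := Y'.isExtension.incl_injective (h2.trans (map_zero _).symm)
            have h1 : Y.incl z = Y.incl w := congrArg Prod.fst hw
            exact (Y.isExtension.incl_injective h1).trans h0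
          exact := fun x => by
            obtain ⟨⟨⟨y, y'⟩, hx⟩, rfl⟩ := Ideal.Quotient.mk_surjective x
            constructor
            · intro (hr : Y.proj y = 0)
              obtain ⟨z, rfl⟩ := exists_incl Y hr
              obtain ⟨z', rfl⟩ := exists_incl Y' (x := y') (((hP _).1 hx).symm.trans hr)
              refine ⟨z - z', Ideal.Quotient.eq.2 ((hK _).2 ⟨-z', Prod.ext ?_ ?_⟩)⟩
              · show Y.incl (z - z') - Y.incl z = Y.incl (-z')
                rw [map_sub, map_neg]; ring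
              · show 0 - Y'.incl z' = Y'.incl (-z')
                rw [map_neg, zero_sub]
            · rintro ⟨z, hz⟩
              rw [← hz]
              exact proj_incl Y z
          mul_incl := fun x z => by
            obtain ⟨⟨⟨y, y'⟩, hx⟩, rfl⟩ := Ideal.Quotient.mk_surjective x
            show Ideal.Quotient.mk K _ * Ideal.Quotient.mk K _ = ι (Y.proj y • z)
            rw [← map_mul]
            exact congrArg _ (Subtype.ext (Prod.ext (incl_smul Y y z).symm (mul_zero _))) } }
  obtain ⟨s, hs⟩ := h X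
  have hex : ∀ y : Y.E, ∃ (y' : Y'.E) (hy : (y, y') ∈ P), Ideal.Quotient.mk K ⟨(y, y'), hy⟩ = s (Y.proj y) := by
    intro y
    obtain ⟨⟨⟨a, a'⟩, ha⟩, he⟩ := Ideal.Quotient.mk_surjective (s (Y.proj y) : P ⧸ K)
    have hpa : Y.proj a = Y.proj y := by
      have := hs (Y.proj y)
      rw [← he] at this
      exact this
    obtain ⟨z, hz⟩ := exists_incl Y (x := a - y) (by rw [map_sub, hpa, sub_self])
    refine ⟨a' - Y'.incl z, (hP _).2 ?_, ?_⟩
    · rw [map_sub, proj_incl, sub_zero]; exact hpa.symm.trans ((hP _).1 ha)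
    · rw [← he, Ideal.Quotient.eq, hK]
      refine ⟨-z, Prod.ext ?_ ?_⟩
      · show y - a = Y.incl (-z)
        rw [map_neg, hz]; ring
      · show a' - Y'.incl z - a' = Y'.incl (-z)
        rw [map_neg]; ring
  choose f hf hfe using hex
  have huniq : ∀ (y : Y.E) (a b : Y'.E) (ha : (y, a) ∈ P) (hb : (y, b) ∈ P),
      Ideal.Quotient.mk K ⟨(y, a), ha⟩ = Ideal.Quotient.mk K ⟨(y, b), hb⟩ → a = b := by
    intro y a b ha hb h'
    obtain ⟨z, hz⟩ := (hK _).1 (Ideal.Quotient.eq.1 h')
    have h1 : y - y = Y.incl z := congrArg Prod.fst hz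
    rw [sub_self] at h1
    rw [show z = 0 from Y.isExtension.incl_injective (h1.symm.trans (map_zero _).symm)] at hz
    have h2 : a - b = Y'.incl 0 := congrArg Prod.snd hz
    rw [map_zero, sub_eq_zero] at h2
    exact h2
  let F : Y.E →ₐ[k] Y'.E :=
    { toFun := f
      map_one' := huniq 1 _ _ (hf 1) (one_mem P) (by rw [hfe, map_one, map_one]; exact (map_one (Ideal.Quotient.mk K)).symm)
      map_mul' := fun a b => huniq (a * b) _ _ (hf _) (mul_mem (hf a) (hf b)) (by
        rw [hfe, map_mul, map_mul, ← hfe a, ← hfe b, ← map_mul]; rfl)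
      map_zero' := huniq 0 _ _ (hf 0) (zero_mem P) (by rw [hfe, map_zero, map_zero]; exact (map_zero (Ideal.Quotient.mk K)).symm)
      map_add' := fun a b => huniq (a + b) _ _ (hf _) (add_mem (hf a) (hf b)) (by
        rw [hfe, map_add, map_add, ← hfe a, ← hfe b, ← map_add]; rfl)
      commutes' := fun c => huniq (algebraMap k Y.E c) _ _ (hf _) (P.algebraMap_mem c) (by
        rw [hfe, AlgHom.commutes, IsScalarTower.algebraMap_apply k Λ R, AlgHom.commutes]
        show θ (algebraMap k Λ c) = _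
        rw [AlgHom.commutes]
        rfl) }
  have hFi : ∀ z, F (Y.incl z) = Y'.incl z := fun z => huniq (Y.incl z) _ _ (hf _) (hiP z z) (by
    refine (hfe _).trans ?_
    rw [proj_incl, map_zero]
    exact ((Ideal.Quotient.eq_zero_iff_mem).2 ((hK _).2 ⟨z, rfl⟩)).symm)
  have hFp : ∀ y, Y'.proj (F y) = Y.proj y := fun y => ((hP _).1 (hf y)).symm
  exact ⟨⟨AlgEquiv.ofBijective F (bijective_of_compat F hFp hFi), hFp, hFi⟩⟩

end Baer

section Deriv

variable [Module Λ L] [IsScalarTower Λ R L] [Module k L] [IsScalarTower k Λ L] [IsScalarTower k R L]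

theorem derivation_extends (h : ∀ X : Exal.Ext Λ R L, X.IsTrivial) (D : Derivation k Λ L) :
    ∃ D' : Derivation k R L, ∀ a : Λ, D' (algebraMap Λ R a) = D a := by
  let X : Exal.Ext Λ R L := Exal.Ext.ofDerivation (C := R) D
  obtain ⟨s, hs⟩ := h X
  have hfst : ∀ r, (s r : TrivSqZeroExt R L).fst = r := hs
  let f : R → TrivSqZeroExt R L := fun r => s r
  have fmul : ∀ a b, f (a * b) = f a * f b := fun a b => map_mul s a b
  have fadd : ∀ a b, f (a + b) = f a + f b := fun a b => map_add s a b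
  have ffst : ∀ r, (f r).fst = r := hfst
  let d : R → L := fun r => (f r).snd
  have hd : ∀ a, d (algebraMap Λ R a) = D a := fun a => by
    have h1 : f (algebraMap Λ R a) =
        TrivSqZeroExt.inl (algebraMap Λ R a) + TrivSqZeroExt.inr (D a) := s.commutes a
    show (f (algebraMap Λ R a)).snd = D a
    rw [h1]; simp
  have hmul : ∀ a b, d (a * b) = a • d b + b • d a := fun a b => by
    show (f (a * b)).snd = a • (f b).snd + b • (f a).snd
    rw [fmul, TrivSqZeroExt.snd_mul, ffst, ffst, op_smul_eq_smul]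
  have hadd : ∀ a b, d (a + b) = d a + d b := fun a b => by
    show (f (a + b)).snd = (f a).snd + (f b).snd
    rw [fadd, TrivSqZeroExt.snd_add]
  refine ⟨Derivation.mk'
    { toFun := d
      map_add' := hadd
      map_smul' := fun c r => by
        rw [RingHom.id_apply, Algebra.smul_def, hmul, IsScalarTower.algebraMap_apply k Λ R, hd, Derivation.map_algebraMap,
          smul_zero, add_zero, ← IsScalarTower.algebraMap_apply k Λ R, algebraMap_smul] }
    (fun a b => hmul a b), hd⟩

theorem trivial_of_injective (hD : ∀ D : Derivation k Λ L, ∃ D' : Derivation k R L, ∀ a : Λ, D' (algebraMap Λ R a) = D a)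
    (hI : ∀ Y Y' : Exal.Ext k R L, Nonempty ((Y.pullback Λ).Equiv (Y'.pullback Λ)) → Nonempty (Y.Equiv Y'))
    (X : Exal.Ext Λ R L) : X.IsTrivial := by
  let Y : Exal.Ext k R L := X.restrictBase k
  let T : Exal.Ext k R L := Exal.Ext.trivial k R L
  -- the pullbacks to `Λ` agree
  have hmulF : ∀ (a b : Λ) (x y : TrivSqZeroExt R L), x.fst = algebraMap Λ R a → y.fst = algebraMap Λ R b →
      algebraMap Λ X.E (a * b) + X.incl (x * y).snd =
        (algebraMap Λ X.E a + X.incl x.snd) * (algebraMap Λ X.E b + X.incl y.snd) := by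
    intro a b x y hx hy
    have e1 : ∀ (a : Λ) (z : L), X.incl (algebraMap Λ R a • z) = algebraMap Λ X.E a * X.incl z := fun a z => by
      rw [← incl_smul, AlgHom.commutes]
    rw [TrivSqZeroExt.snd_mul, op_smul_eq_smul, hx, hy, map_mul, map_add, e1, e1]
    linear_combination (-1 : X.E) * incl_mul_incl X x.snd y.snd
  have haddF : ∀ (a b : Λ) (x y : TrivSqZeroExt R L),
      algebraMap Λ X.E (a + b) + X.incl (x + y).snd =
        (algebraMap Λ X.E a + X.incl x.snd) + (algebraMap Λ X.E b + X.incl y.snd) := by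
    intro a b x y
    rw [TrivSqZeroExt.snd_add, map_add, map_add]; abel
  let F : (T.pullback Λ).E →ₐ[k] (Y.pullback Λ).E :=
    { toFun := fun p => (⟨((algebraMap Λ X.E (p : T.fiberProd Λ).1.2 + X.incl ((p : T.fiberProd Λ).1.1 : TrivSqZeroExt R L).snd : X.E),
          (p : T.fiberProd Λ).1.2), by
        show X.proj (algebraMap Λ X.E (p : T.fiberProd Λ).1.2 + X.incl ((p : T.fiberProd Λ).1.1 : TrivSqZeroExt R L).snd) =
          algebraMap Λ R (p : T.fiberProd Λ).1.2
        rw [map_add, proj_incl, add_zero, AlgHom.commutes]⟩ : Y.fiberProd Λ)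
      map_one' := Subtype.ext (Prod.ext (by
        show algebraMap Λ X.E 1 + X.incl (1 : TrivSqZeroExt R L).snd = 1
        rw [map_one, TrivSqZeroExt.snd_one, map_zero, add_zero]) rfl)
      map_mul' := fun p q => Subtype.ext (Prod.ext (by
        have hp : ((p : T.fiberProd Λ).1.1 : TrivSqZeroExt R L).fst = algebraMap Λ R (p : T.fiberProd Λ).1.2 := (p : T.fiberProd Λ).2
        have hq : ((q : T.fiberProd Λ).1.1 : TrivSqZeroExt R L).fst = algebraMap Λ R (q : T.fiberProd Λ).1.2 := (q : T.fiberProd Λ).2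
        show algebraMap Λ X.E ((p : T.fiberProd Λ).1.2 * (q : T.fiberProd Λ).1.2) +
            X.incl (((p : T.fiberProd Λ).1.1 : TrivSqZeroExt R L) * (q : T.fiberProd Λ).1.1).snd =
          (algebraMap Λ X.E (p : T.fiberProd Λ).1.2 + X.incl ((p : T.fiberProd Λ).1.1 : TrivSqZeroExt R L).snd) *
          (algebraMap Λ X.E (q : T.fiberProd Λ).1.2 + X.incl ((q : T.fiberProd Λ).1.1 : TrivSqZeroExt R L).snd)
        exact hmulF _ _ _ _ hp hq) rfl)
      map_zero' := Subtype.ext (Prod.ext (by
        show algebraMap Λ X.E 0 + X.incl (0 : TrivSqZeroExt R L).snd = 0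
        rw [map_zero, TrivSqZeroExt.snd_zero, map_zero, add_zero]) rfl)
      map_add' := fun p q => Subtype.ext (Prod.ext (by
        show algebraMap Λ X.E ((p : T.fiberProd Λ).1.2 + (q : T.fiberProd Λ).1.2) +
            X.incl (((p : T.fiberProd Λ).1.1 : TrivSqZeroExt R L) + (q : T.fiberProd Λ).1.1).snd =
          (algebraMap Λ X.E (p : T.fiberProd Λ).1.2 + X.incl ((p : T.fiberProd Λ).1.1 : TrivSqZeroExt R L).snd) +
          (algebraMap Λ X.E (q : T.fiberProd Λ).1.2 + X.incl ((q : T.fiberProd Λ).1.1 : TrivSqZeroExt R L).snd)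
        exact haddF _ _ _ _) rfl)
      commutes' := fun c => Subtype.ext (Prod.ext (by
        show algebraMap Λ X.E (algebraMap k Λ c) + X.incl (TrivSqZeroExt.inl (algebraMap k R c) : TrivSqZeroExt R L).snd =
          algebraMap Λ X.E (algebraMap k Λ c)
        rw [TrivSqZeroExt.snd_inl, map_zero, add_zero]) rfl) }
  have hFp : ∀ p, (Y.pullback Λ).proj (F p) = (T.pullback Λ).proj p := fun p => rfl
  have hFi : ∀ z, F ((T.pullback Λ).incl z) = (Y.pullback Λ).incl z := fun z => Subtype.ext (Prod.ext (by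
    show algebraMap Λ X.E 0 + X.incl (TrivSqZeroExt.inr z : TrivSqZeroExt R L).snd = X.incl z
    rw [map_zero, zero_add, TrivSqZeroExt.snd_inr]) rfl)
  obtain ⟨e⟩ := hI T Y ⟨⟨AlgEquiv.ofBijective F (bijective_of_compat F hFp hFi), hFp, hFi⟩⟩
  let s0 : R →+* X.E :=
    (show T.E →+* X.E from (e.toAlgEquiv.toAlgHom : T.E →ₐ[k] Y.E).toRingHom).comp (TrivSqZeroExt.inlHom R L)
  have hs0 : ∀ r, X.proj (s0 r) = r := fun r => e.proj_apply (TrivSqZeroExt.inl r : TrivSqZeroExt R L)
  have hs0k : ∀ c : k, s0 (algebraMap k R c) = algebraMap Λ X.E (algebraMap k Λ c) := fun c => e.toAlgEquiv.commutes c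
  have hex : ∀ a : Λ, ∃ z, X.incl z = s0 (algebraMap Λ R a) - algebraMap Λ X.E a := fun a =>
    exists_incl X (by rw [map_sub, hs0, AlgHom.commutes, sub_self])
  choose dd hdd using hex
  have dadd : ∀ a b, dd (a + b) = dd a + dd b := fun a b => X.isExtension.incl_injective (by
    simp only [map_add, hdd]; ring)
  have dmul : ∀ a b : Λ, dd (a * b) = a • dd b + b • dd a := fun a b => X.isExtension.incl_injective (by
    have e1 : ∀ (a : Λ) (z : L), X.incl (a • z) = algebraMap Λ X.E a * X.incl z := fun a z => by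
      rw [← algebraMap_smul R a z, ← incl_smul X, AlgHom.commutes]
    rw [map_add, e1, e1, hdd, map_mul, map_mul, map_mul, hdd, hdd]
    have h2 := incl_mul_incl X (dd a) (dd b)
    rw [hdd, hdd] at h2
    linear_combination h2)
  have dk : ∀ c : k, dd (algebraMap k Λ c) = 0 := fun c => X.isExtension.incl_injective (by
    rw [hdd, map_zero, ← IsScalarTower.algebraMap_apply k Λ R, hs0k, sub_self])
  obtain ⟨D', hD'⟩ := hD (Derivation.mk'
    { toFun := dd
      map_add' := dadd
      map_smul' := fun c a => by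
        rw [RingHom.id_apply, Algebra.smul_def, dmul, dk, smul_zero, add_zero, algebraMap_smul] }
    (fun a b => dmul a b))
  have hmulD : ∀ a b, X.incl (D' (a * b)) = s0 a * X.incl (D' b) + s0 b * X.incl (D' a) := fun a b => by
    rw [← incl_smul, ← incl_smul, hs0, hs0, D'.leibniz, map_add]
  refine ⟨{ toFun := fun r => s0 r - X.incl (D' r), map_one' := ?_, map_mul' := ?_, map_zero' := ?_,
            map_add' := ?_, commutes' := ?_ }, fun r => ?_⟩
  · rw [map_one, Derivation.map_one_eq_zero, map_zero, sub_zero]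
  · intro a b
    rw [map_mul, hmulD]
    linear_combination (-1 : X.E) * incl_mul_incl X (D' a) (D' b)
  · rw [map_zero, map_zero, map_zero, sub_zero]
  · intro a b
    rw [map_add, map_add, map_add]; ring
  · intro a
    show s0 (algebraMap Λ R a) - X.incl (D' (algebraMap Λ R a)) = algebraMap Λ X.E a
    rw [hD']
    show s0 (algebraMap Λ R a) - X.incl (dd a) = _
    rw [hdd]; ring
  · show X.proj (s0 r - X.incl (D' r)) = r
    rw [map_sub, proj_incl, sub_zero, hs0]

end Deriv

end Groth.L12.ExalObstr
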