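import Groth.Agent.L12.ExalLift
import Groth.Agent.L12.ExalObstr
import Groth.Agent.L12.PSRing
import Mathlib.RingTheory.MvPowerSeries.Equiv

/-!
Extensions of a quotient of a power series ring by a simple module.
-/

universe u

open IsLocalRing

namespace Groth.L12.ExalPS

open Groth.L12.ExalLift
attribute [local instance] Exal.opModule Exal.isCentralScalar_opModule

theorem isAdicComplete_of_pow_eq_bot {S : Type u} [CommRing S] (J : Ideal S) {N : ℕ} (hN : J ^ N = ⊥) :
    IsAdicComplete J S := by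
  have hbot : ∀ n, N ≤ n → (J ^ n • ⊤ : Submodule S S) = ⊥ := fun n hn => by
    rw [smul_eq_mul, Ideal.mul_top]
    exact le_bot_iff.1 ((Ideal.pow_le_pow_right hn).trans hN.le)
  refine { haus' := fun x hx => ?_, prec' := fun f hf => ⟨f N, fun n => ?_⟩ }
  · have h := hx N
    rw [hbot N le_rfl, SModEq.bot] at h
    exact h
  · rcases le_total n N with h | h
    · exact hf h
    · have h' := hf h
      rw [hbot N le_rfl, SModEq.bot] at h'
      rw [← h']

theorem exists_lift {Λ : Type u} [CommRing Λ] {σ : Type} [Finite σ] {R : Type u} [CommRing R] [Algebra Λ R]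
    [IsLocalRing R] [IsNoetherianRing R] {L : Type u} [AddCommGroup L] [Module R L] [IsSimpleModule R L]
    (f : MvPowerSeries σ Λ →ₐ[Λ] R) (hf : ∀ i, f (MvPowerSeries.X i) ∈ maximalIdeal R)
    (X : Exal.Ext Λ R L) :
    ∃ u : MvPowerSeries σ Λ →ₐ[Λ] X.E, ∀ p, X.proj (u p) = f p := by
  classical
  haveI := isLocalRing_E X
  haveI := isLocalHom_proj X
  obtain ⟨M, hM, hinj⟩ := exists_level X
  set I := maximalIdeal X.E ^ M with hI
  choose x hx using fun i => proj_surjective X (f (MvPowerSeries.X i))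
  have hxm : ∀ i, x i ∈ maximalIdeal X.E := fun i => by
    rw [mem_maximalIdeal, mem_nonunits_iff]
    intro h
    exact (mem_maximalIdeal _).1 (hf i) (hx i ▸ h.map X.proj)
  let J : Ideal (X.E ⧸ I) := (maximalIdeal X.E).map (Ideal.Quotient.mk I)
  have hJ : J ^ M = ⊥ := by rw [← Ideal.map_pow]; exact Ideal.map_quotient_self _
  haveI := isAdicComplete_of_pow_eq_bot J hJ
  obtain ⟨σ', hσ'⟩ := Groth.L12.exists_evalPS (R := Λ) J (fun i => Ideal.Quotient.mk I (x i))
    (fun i => Ideal.mem_map_of_mem _ (hxm i))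
  -- compare the two maps into `R ⧸ m ^ M`
  let J' : Ideal (R ⧸ maximalIdeal R ^ M) := (maximalIdeal R).map (Ideal.Quotient.mk _)
  have hJ' : J' ^ M = ⊥ := by rw [← Ideal.map_pow]; exact Ideal.map_quotient_self _
  haveI := isAdicComplete_of_pow_eq_bot J' hJ'
  have hmap : (maximalIdeal X.E).map X.proj = maximalIdeal R := by
    refine le_antisymm (Ideal.map_le_iff_le_comap.2 fun e he => ?_) fun r hr => ?_
    · rw [Ideal.mem_comap, mem_maximalIdeal, mem_nonunits_iff]
      exact fun h => (mem_maximalIdeal _).1 he (isUnit_of_map_unit (X.proj : X.E →+* R) e h)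
    · obtain ⟨e, rfl⟩ := proj_surjective X r
      refine Ideal.mem_map_of_mem _ ?_
      rw [mem_maximalIdeal, mem_nonunits_iff] at hr ⊢
      exact fun h => hr (h.map X.proj)
  have hle : I ≤ RingHom.ker ((Ideal.Quotient.mkₐ Λ (maximalIdeal R ^ M)).comp X.proj) := fun e he =>
    Ideal.Quotient.eq_zero_iff_mem.2 (by
      rw [← hmap, ← Ideal.map_pow]; exact Ideal.mem_map_of_mem _ he)
  let q : X.E ⧸ I →ₐ[Λ] R ⧸ maximalIdeal R ^ M :=
    Ideal.Quotient.liftₐ I ((Ideal.Quotient.mkₐ Λ (maximalIdeal R ^ M)).comp X.proj) fun e he => RingHom.mem_ker.1 (hle he)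
  have hq : ∀ e, q (Ideal.Quotient.mk I e) = Ideal.Quotient.mk _ (X.proj e) := fun e => rfl
  have heq : q.comp σ' = (Ideal.Quotient.mkₐ Λ (maximalIdeal R ^ M)).comp f := by
    refine Groth.L12.evalPS_ext J' (fun i => ?_) (fun i => ?_)
    · show q (σ' (MvPowerSeries.X i)) ∈ J'
      rw [hσ', hq, hx]
      exact Ideal.mem_map_of_mem _ (hf i)
    · show q (σ' (MvPowerSeries.X i)) = Ideal.Quotient.mk _ (f (MvPowerSeries.X i))
      rw [hσ', hq, hx]
  obtain ⟨u, hu, -⟩ := exists_lift_of_level X f I hinj σ' fun p e he => by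
    obtain ⟨d, hd⟩ := Ideal.Quotient.mk_surjective (σ' p)
    have h1 : X.proj (d - e) ∈ (maximalIdeal X.E ^ M).map X.proj := by
      rw [Ideal.map_pow, hmap, map_sub, ← Ideal.Quotient.eq, ← hq, hd, he]
      exact DFunLike.congr_fun heq p
    obtain ⟨w, hw, hwe⟩ := (Ideal.mem_map_iff_of_surjective _ (proj_surjective X)).1 h1
    obtain ⟨z, hz⟩ := exists_incl X (x := d - e - w) (by rw [map_sub, hwe, sub_self])
    refine ⟨z, ?_⟩
    rw [← hd, Ideal.Quotient.eq]
    have : d - (e + X.incl z) = w := by rw [hz]; ring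
    exact this ▸ hw
  exact ⟨u, fun p => DFunLike.congr_fun hu p⟩

variable {Λ : Type u} [CommRing Λ] {P : Type u} [CommRing P] [Algebra Λ P] (J : Ideal P)
  {L : Type u} [AddCommGroup L] [Module (P ⧸ J) L] [Module P L] [IsScalarTower P (P ⧸ J) L]

omit [IsScalarTower P (P ⧸ J) L] [Module P L] in
theorem equiv_iff (K : Ideal P) (hK : J ≤ K ^ 2) (hKL : ∀ a ∈ K, ∀ z : L, Ideal.Quotient.mk J a • z = 0)
    (X X' : Exal.Ext Λ (P ⧸ J) L) (u : P →ₐ[Λ] X.E) (u' : P →ₐ[Λ] X'.E)
    (hu : ∀ p, X.proj (u p) = Ideal.Quotient.mk J p) (hu' : ∀ p, X'.proj (u' p) = Ideal.Quotient.mk J p) :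
    Nonempty (X.Equiv X') ↔ ∀ j ∈ J, ∃ z : L, X.incl z = u j ∧ X'.incl z = u' j := by
  constructor
  · rintro ⟨e⟩ j hj
    obtain ⟨z, hz⟩ := exists_incl X (x := u j) (by rw [hu, Ideal.Quotient.eq_zero_iff_mem.2 hj])
    refine ⟨z, hz, ?_⟩
    rw [← e.apply_incl, hz, ← sub_eq_zero]
    refine Submodule.mul_induction_on (show j ∈ K * K from pow_two K ▸ hK hj) (fun a ha b hb => ?_) fun a b ha hb => ?_
    · obtain ⟨w, hw⟩ := exists_incl X' (x := e.toAlgEquiv (u b) - u' b) (by rw [map_sub, e.proj_apply, hu, hu', sub_self])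
      obtain ⟨v, hv⟩ := exists_incl X' (x := e.toAlgEquiv (u a) - u' a) (by rw [map_sub, e.proj_apply, hu, hu', sub_self])
      have h1 : e.toAlgEquiv (u a) * X'.incl w = 0 := by
        rw [← incl_smul, e.proj_apply, hu, hKL a ha, map_zero]
      have h2 : u' b * X'.incl v = 0 := by rw [← incl_smul, hu', hKL b hb, map_zero]
      rw [map_mul, map_mul, map_mul]
      rw [hw] at h1; rw [hv] at h2
      linear_combination h1 + h2
    · rw [map_add, map_add, map_add]
      linear_combination ha + hb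
  · intro h
    let G : Subalgebra Λ (X.E × X'.E) :=
      { carrier := {x | ∃ (p : P) (z : L), x.1 = u p + X.incl z ∧ x.2 = u' p + X'.incl z}
        mul_mem' := by
          rintro a b ⟨p, z, h1, h2⟩ ⟨q, w, h3, h4⟩
          refine ⟨p * q, Ideal.Quotient.mk J p • w + Ideal.Quotient.mk J q • z, ?_, ?_⟩
          · rw [Prod.fst_mul, h1, h3, map_mul, map_add, ← hu p, ← hu q, incl_smul, incl_smul]
            linear_combination incl_mul_incl X z w
          · rw [Prod.snd_mul, h2, h4, map_mul, map_add, ← hu' p, ← hu' q, incl_smul, incl_smul]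
            linear_combination incl_mul_incl X' z w
        add_mem' := by
          rintro a b ⟨p, z, h1, h2⟩ ⟨q, w, h3, h4⟩
          refine ⟨p + q, z + w, ?_, ?_⟩
          · rw [Prod.fst_add, h1, h3, map_add, map_add]; ring
          · rw [Prod.snd_add, h2, h4, map_add, map_add]; ring
        algebraMap_mem' := fun c => ⟨algebraMap Λ P c, 0, by simp, by simp⟩ }
    have hG : ∀ x : X.E × X'.E, x ∈ G ↔ ∃ (p : P) (z : L), x.1 = u p + X.incl z ∧ x.2 = u' p + X'.incl z :=
      fun x => Iff.rfl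
    have hex : ∀ x : X.E, ∃ y, (x, y) ∈ G := fun x => by
      obtain ⟨p, hp⟩ := Ideal.Quotient.mk_surjective (X.proj x)
      obtain ⟨z, hz⟩ := exists_incl X (x := x - u p) (by rw [map_sub, hu, hp, sub_self])
      exact ⟨u' p + X'.incl z, (hG _).2 ⟨p, z, by rw [hz]; ring, rfl⟩⟩
    choose f hf using hex
    have hu0 : ∀ x y y', (x, y) ∈ G → (x, y') ∈ G → y = y' := by
      intro x y y' h1 h2
      obtain ⟨p, z, e1, e2⟩ := (hG _).1 (sub_mem h1 h2)
      simp only [Prod.fst_sub, sub_self, Prod.snd_sub] at e1 e2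
      have hpJ : p ∈ J := by
        rw [← Ideal.Quotient.eq_zero_iff_mem, ← hu, show u p = -X.incl z by linear_combination -e1, map_neg, proj_incl,
          neg_zero]
      obtain ⟨w, hw, hw'⟩ := h p hpJ
      rw [← hw, ← map_add] at e1
      rw [← hw', ← map_add, X.isExtension.incl_injective (e1.symm.trans (map_zero _).symm), map_zero] at e2
      exact sub_eq_zero.1 e2
    let F : X.E →ₐ[Λ] X'.E :=
      { toFun := f
        map_one' := hu0 _ _ _ (hf 1) (one_mem G)
        map_mul' := fun a b => hu0 _ _ _ (hf _) (mul_mem (hf a) (hf b))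
        map_zero' := hu0 _ _ _ (hf 0) (zero_mem G)
        map_add' := fun a b => hu0 _ _ _ (hf _) (add_mem (hf a) (hf b))
        commutes' := fun c => hu0 _ _ _ (hf _) (G.algebraMap_mem c) }
    have hFi : ∀ z, F (X.incl z) = X'.incl z := fun z =>
      hu0 _ _ _ (hf _) ((hG _).2 ⟨0, z, by simp, by simp⟩)
    have hFp : ∀ x, X'.proj (F x) = X.proj x := fun x => by
      obtain ⟨p, z, e1, e2⟩ := (hG _).1 (hf x)
      have e1' : x = u p + X.incl z := e1
      have e2' : F x = u' p + X'.incl z := e2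
      rw [e2', e1', map_add, map_add, proj_incl, proj_incl, hu, hu']
    exact ⟨⟨AlgEquiv.ofBijective F (Groth.L12.ExalObstr.bijective_of_compat F hFp hFi), hFp, hFi⟩⟩

theorem exists_ext (K : Ideal P) (hK : J ≤ K) (hKL : ∀ a ∈ K, ∀ z : L, Ideal.Quotient.mk J a • z = 0)
    (δ : J →ₗ[P] L) :
    ∃ (X : Exal.Ext Λ (P ⧸ J) L) (u : P →ₐ[Λ] X.E),
      (∀ p, X.proj (u p) = Ideal.Quotient.mk J p) ∧ ∀ j : J, X.incl (δ j) = u j := by
  let S := TrivSqZeroExt P L
  let N : Ideal S :=
    { carrier := {x | ∃ j : J, x.fst = j ∧ x.snd = -δ j}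
      zero_mem' := ⟨0, rfl, by simp⟩
      add_mem' := by
        rintro a b ⟨i, h1, h2⟩ ⟨j, h3, h4⟩
        exact ⟨i + j, by rw [TrivSqZeroExt.fst_add, h1, h3]; rfl, by rw [TrivSqZeroExt.snd_add, h2, h4, map_add]; abel⟩
      smul_mem' := by
        rintro c a ⟨j, h1, h2⟩
        refine ⟨c.fst • j, ?_, ?_⟩
        · rw [smul_eq_mul, TrivSqZeroExt.fst_mul, h1]; rfl
        · rw [smul_eq_mul, TrivSqZeroExt.snd_mul, h2, h1, map_smul, op_smul_eq_smul, smul_neg,
            ← algebraMap_smul (P ⧸ J) (j : P) c.snd, Ideal.Quotient.algebraMap_eq, hKL _ (hK j.2), add_zero] }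


  let q0 : S →+* P ⧸ J := (Ideal.Quotient.mk J).comp (TrivSqZeroExt.fstHom P P L).toRingHom
  have hN : ∀ x ∈ N, q0 x = 0 := by
    rintro x ⟨j, h1, -⟩
    show Ideal.Quotient.mk J x.fst = 0
    rw [h1, Ideal.Quotient.eq_zero_iff_mem]; exact j.2
  letI : Algebra Λ (S ⧸ N) := ((Ideal.Quotient.mk N).comp ((TrivSqZeroExt.inlHom P L).comp (algebraMap Λ P))).toAlgebra
  let q : S ⧸ N →ₐ[Λ] P ⧸ J :=
    { Ideal.Quotient.lift N q0 hN with commutes' := fun c => rfl }
  let ι : L →+ S ⧸ N := (Ideal.Quotient.mk N).toAddMonoidHom.comp (TrivSqZeroExt.inrHom P L).toAddMonoidHom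
  let X : Exal.Ext Λ (P ⧸ J) L :=
    { E := S ⧸ N
      proj := q
      incl := ι
      isExtension :=
        { proj_surjective := fun r => by
            obtain ⟨p, rfl⟩ := Ideal.Quotient.mk_surjective r
            exact ⟨Ideal.Quotient.mk N (TrivSqZeroExt.inl p), rfl⟩
          incl_injective := by
            rw [injective_iff_map_eq_zero]
            intro z hz
            obtain ⟨j, h1, h2⟩ := Ideal.Quotient.eq_zero_iff_mem.1 (show Ideal.Quotient.mk N (TrivSqZeroExt.inr z) = 0 from hz)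
            rw [TrivSqZeroExt.fst_inr] at h1
            rw [TrivSqZeroExt.snd_inr, show j = 0 from Subtype.ext h1.symm, map_zero, neg_zero] at h2
            exact h2
          exact := fun x => by
            constructor
            · obtain ⟨x, rfl⟩ := Ideal.Quotient.mk_surjective x
              intro (hx : Ideal.Quotient.mk J x.fst = 0)
              refine ⟨x.snd + δ ⟨x.fst, Ideal.Quotient.eq_zero_iff_mem.1 hx⟩, Ideal.Quotient.eq.2 ⟨-⟨x.fst, Ideal.Quotient.eq_zero_iff_mem.1 hx⟩, ?_, ?_⟩⟩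
              · show (TrivSqZeroExt.inr _ - x).fst = _
                rw [TrivSqZeroExt.fst_sub, TrivSqZeroExt.fst_inr, zero_sub]; rfl
              · show (TrivSqZeroExt.inr _ - x).snd = _
                rw [TrivSqZeroExt.snd_sub, TrivSqZeroExt.snd_inr, map_neg]; abel
            · rintro ⟨z, rfl⟩
              show Ideal.Quotient.mk J (TrivSqZeroExt.inr z : S).fst = 0
              rw [TrivSqZeroExt.fst_inr, map_zero]
          mul_incl := fun x z => by
            obtain ⟨x, rfl⟩ := Ideal.Quotient.mk_surjective x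
            show Ideal.Quotient.mk N x * Ideal.Quotient.mk N (TrivSqZeroExt.inr z) =
              Ideal.Quotient.mk N (TrivSqZeroExt.inr (Ideal.Quotient.mk J x.fst • z))
            rw [← map_mul]
            refine congrArg _ (TrivSqZeroExt.ext (by rw [TrivSqZeroExt.fst_mul, TrivSqZeroExt.fst_inr, mul_zero, TrivSqZeroExt.fst_inr]) ?_)
            rw [TrivSqZeroExt.snd_mul, TrivSqZeroExt.snd_inr, TrivSqZeroExt.fst_inr, MulOpposite.op_zero, zero_smul,
              add_zero, TrivSqZeroExt.snd_inr, ← algebraMap_smul (P ⧸ J) x.fst z, Ideal.Quotient.algebraMap_eq] } }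
  refine ⟨X, { (Ideal.Quotient.mk N).comp (TrivSqZeroExt.inlHom P L) with commutes' := fun c => rfl }, fun p => rfl,
    fun j => ?_⟩
  refine Ideal.Quotient.eq.2 ⟨-j, ?_, ?_⟩
  · show (TrivSqZeroExt.inr (δ j) - TrivSqZeroExt.inl (j : P)).fst = _
    rw [TrivSqZeroExt.fst_sub, TrivSqZeroExt.fst_inr, TrivSqZeroExt.fst_inl, zero_sub]; rfl
  · show (TrivSqZeroExt.inr (δ j) - TrivSqZeroExt.inl (j : P)).snd = _
    rw [TrivSqZeroExt.snd_sub, TrivSqZeroExt.snd_inr, TrivSqZeroExt.snd_inl, sub_zero, map_neg, neg_neg]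

end Groth.L12.ExalPS
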