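import Groth.Agent.L12.ExalLift

/-!
Vanishing of `Ex(R, k)` against lifting along small extensions of Artinian rings.
-/

universe u

open IsLocalRing

namespace Groth.L12.ExalSmall

open Groth.L12.ExalLift

variable {Λ : Type u} [CommRing Λ] {R : Type u} [CommRing R] [Algebra Λ R] [IsLocalRing R]

theorem lift_of_trivial (h : ∀ X : Exal.Ext Λ R (ResidueField R), X.IsTrivial)
    (B : Type u) [CommRing B] [Algebra Λ B] [IsLocalRing B]
    (hB : ∀ b : B, ∃ c : Λ, b - algebraMap Λ B c ∈ maximalIdeal B)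
    (t : B) (ht : t ∈ maximalIdeal B) (hmt : ∀ b ∈ maximalIdeal B, b * t = 0)
    (φ : R →ₐ[Λ] B ⧸ Ideal.span {t}) :
    ∃ φ' : R →ₐ[Λ] B, (Ideal.Quotient.mkₐ Λ (Ideal.span {t})).comp φ' = φ := by
  classical
  by_cases ht0 : t = 0
  · have hbot : Ideal.span {t} = (⊥ : Ideal B) := by rw [ht0, Ideal.span_singleton_eq_bot]
    let e : (B ⧸ Ideal.span {t}) ≃ₐ[Λ] B :=
      (Ideal.quotientEquivAlgOfEq Λ hbot).trans (AlgEquiv.quotientBot Λ B)
    refine ⟨e.toAlgHom.comp φ, AlgHom.ext fun r => e.injective ?_⟩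
    obtain ⟨b, hb⟩ := Ideal.Quotient.mk_surjective (φ r)
    rw [← hb]
    change e (Ideal.Quotient.mk _ (e (φ r))) = e (Ideal.Quotient.mk _ b)
    rw [← hb]
    rfl
  haveI : Nontrivial (B ⧸ Ideal.span {t}) := Ideal.Quotient.nontrivial_iff.2
    (ne_top_of_le_ne_top (maximalIdeal.isMaximal B).ne_top ((Ideal.span_singleton_le_iff_mem _).2 ht))
  haveI : IsLocalRing (B ⧸ Ideal.span {t}) := IsLocalRing.of_surjective' _ Ideal.Quotient.mk_surjective
  let W : Subalgebra Λ (B × R) := AlgHom.equalizer ((Ideal.Quotient.mkₐ Λ (Ideal.span {t})).comp (AlgHom.fst Λ B R))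
    (φ.comp (AlgHom.snd Λ B R))
  have hW : ∀ x : B × R, x ∈ W ↔ Ideal.Quotient.mk (Ideal.span {t}) x.1 = φ x.2 := fun x => Iff.rfl
  let q : W →ₐ[Λ] R := (AlgHom.snd Λ B R).comp W.val
  have hqs : Function.Surjective q := fun r => by
    obtain ⟨b, hb⟩ := Ideal.Quotient.mk_surjective (φ r)
    exact ⟨⟨(b, r), (hW _).2 hb⟩, rfl⟩
  -- `φ` is local
  let ρ : R →+* ResidueField (B ⧸ Ideal.span {t}) := (residue _).comp (φ : R →+* B ⧸ Ideal.span {t})
  have hρs : Function.Surjective ρ := by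
    intro x
    obtain ⟨x, rfl⟩ := residue_surjective x
    obtain ⟨b, rfl⟩ := Ideal.Quotient.mk_surjective x
    obtain ⟨c, hc⟩ := hB b
    refine ⟨algebraMap Λ R c, ?_⟩
    change residue _ (φ (algebraMap Λ R c)) = _
    rw [AlgHom.commutes, ← Ideal.Quotient.mkₐ_eq_mk Λ, ← AlgHom.commutes (Ideal.Quotient.mkₐ Λ (Ideal.span {t})) c,
      ← sub_eq_zero, ← map_sub, ← map_sub, residue_eq_zero_iff, mem_maximalIdeal, mem_nonunits_iff]
    intro hu
    haveI : IsLocalHom (Ideal.Quotient.mk (Ideal.span {t})) :=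
      IsLocalHom.of_surjective _ Ideal.Quotient.mk_surjective
    have hu' : IsUnit (algebraMap Λ B c - b) := isUnit_of_map_unit (Ideal.Quotient.mk (Ideal.span {t})) _ hu
    exact (mem_maximalIdeal _).1 (neg_mem hc) (by rwa [neg_sub])
  have hker : RingHom.ker ρ = maximalIdeal R :=
    IsLocalRing.eq_maximalIdeal (RingHom.ker_isMaximal_of_surjective ρ hρs)
  have hloc : ∀ (r : R) (b : B), Ideal.Quotient.mk (Ideal.span {t}) b = φ r → r ∈ maximalIdeal R →
      b ∈ maximalIdeal B := by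
    intro r b hb hr
    rw [← hker, RingHom.mem_ker] at hr
    have h1 : Ideal.Quotient.mk (Ideal.span {t}) b ∈ maximalIdeal (B ⧸ Ideal.span {t}) := by
      rw [← residue_eq_zero_iff, hb]; exact hr
    rw [mem_maximalIdeal, mem_nonunits_iff] at h1 ⊢
    exact fun h => h1 (h.map _)
  have htt : t * t = 0 := hmt t ht
  -- a lift of `φ` on each element
  choose ℓ hℓ using fun r : R => Ideal.Quotient.mk_surjective (φ r)
  have hℓm : ∀ (r : R) (b : B), Ideal.Quotient.mk (Ideal.span {t}) b = φ r → b * t = ℓ r * t := fun r b hb => by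
    obtain ⟨c, hc⟩ := Ideal.mem_span_singleton'.1 (Ideal.Quotient.eq.1 (hb.trans (hℓ r).symm))
    linear_combination (-t) * hc + c * htt
  let iR : R →+ W :=
    { toFun := fun r => ⟨(ℓ r * t, 0), (hW _).2 (by
        rw [map_zero, Ideal.Quotient.eq_zero_iff_mem]
        exact Ideal.mul_mem_left _ _ (Ideal.mem_span_singleton_self t))⟩
      map_zero' := Subtype.ext (Prod.ext (by
        change ℓ 0 * t = 0
        rw [← hℓm 0 0 (by rw [map_zero, map_zero]), zero_mul]) rfl)
      map_add' := fun r r' => Subtype.ext (Prod.ext (by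
        change ℓ (r + r') * t = ℓ r * t + ℓ r' * t
        rw [← hℓm (r + r') (ℓ r + ℓ r') (by rw [map_add, map_add, hℓ, hℓ]), add_mul]) (add_zero 0).symm) }
  have hiker : ∀ r, iR r = 0 ↔ r ∈ maximalIdeal R := by
    intro r
    refine ⟨fun h => ?_, fun hr => Subtype.ext (Prod.ext (hmt _ (hloc r _ (hℓ r) hr)) rfl)⟩
    have h' : ℓ r * t = 0 := congrArg Prod.fst (congrArg Subtype.val h)
    by_contra hr
    rw [mem_maximalIdeal, mem_nonunits_iff, not_not] at hr
    haveI : IsLocalHom (Ideal.Quotient.mk (Ideal.span {t})) :=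
      IsLocalHom.of_surjective _ Ideal.Quotient.mk_surjective
    have hu : IsUnit (ℓ r) := isUnit_of_map_unit (Ideal.Quotient.mk (Ideal.span {t})) _ (hℓ r ▸ hr.map φ)
    exact ht0 (hu.mul_right_eq_zero.1 h')
  let ι : ResidueField R →+ W :=
    QuotientAddGroup.lift (maximalIdeal R).toAddSubgroup iR (fun r hr => (hiker r).2 hr)
  have hι : ∀ r, ι (residue R r) = iR r := fun r => rfl
  let X : Exal.Ext Λ R (ResidueField R) :=
    { E := W
      proj := q
      incl := ι
      isExtension :=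
        { proj_surjective := hqs
          incl_injective := by
            rw [injective_iff_map_eq_zero]
            intro z hz
            obtain ⟨r, rfl⟩ := residue_surjective z
            rw [hι, hiker] at hz
            exact (residue_eq_zero_iff r).2 hz
          exact := fun x => by
            constructor
            · obtain ⟨⟨b, r⟩, hx⟩ := x
              intro (hr : r = 0)
              subst hr
              rw [hW, map_zero, Ideal.Quotient.eq_zero_iff_mem, Ideal.mem_span_singleton'] at hx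
              obtain ⟨c, rfl⟩ := hx
              obtain ⟨l, hl⟩ := hB c
              refine ⟨residue R (algebraMap Λ R l), ?_⟩
              rw [hι]
              refine Subtype.ext (Prod.ext ?_ rfl)
              change ℓ (algebraMap Λ R l) * t = c * t
              rw [← hℓm _ (algebraMap Λ B l) (by rw [AlgHom.commutes]; rfl)]
              linear_combination (-1 : B) * hmt _ hl
            · rintro ⟨z, rfl⟩
              obtain ⟨r, rfl⟩ := residue_surjective z
              rfl
          mul_incl := fun x z => by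
            obtain ⟨r, rfl⟩ := residue_surjective z
            obtain ⟨⟨b, s⟩, hx⟩ := x
            rw [hW] at hx
            change _ * ι (residue R r) = ι (residue R (s * r))
            rw [hι, hι]
            refine Subtype.ext (Prod.ext ?_ (mul_zero _))
            change b * (ℓ r * t) = ℓ (s * r) * t
            rw [← hℓm (s * r) (b * ℓ r) (by rw [map_mul, map_mul, hx, hℓ]), mul_assoc] } }
  obtain ⟨s, hs⟩ := h X
  refine ⟨((AlgHom.fst Λ B R).comp W.val).comp s, AlgHom.ext fun r => ?_⟩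
  have h1 : Ideal.Quotient.mk (Ideal.span {t}) ((W.val (s r)).1) = φ ((W.val (s r)).2) := (hW _).1 (s r).2
  exact h1.trans (congrArg φ (hs r))

theorem trivial_of_lift [IsNoetherianRing R] {L : Type u} [AddCommGroup L] [Module R L] [IsSimpleModule R L]
    (S : Set Λ)
    (hR' : ∀ r : R, ∃ c ∈ S, r - algebraMap Λ R c ∈ maximalIdeal R)
    (h : ∀ (B : Type u) [CommRing B] [Algebra Λ B] [IsLocalRing B] [IsArtinianRing B],
      (∀ b : B, ∃ c ∈ S, b - algebraMap Λ B c ∈ maximalIdeal B) →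
      ∀ t : B, t ∈ maximalIdeal B → (∀ b ∈ maximalIdeal B, b * t = 0) →
      ∀ φ : R →ₐ[Λ] B ⧸ Ideal.span {t},
        ∃ φ' : R →ₐ[Λ] B, (Ideal.Quotient.mkₐ Λ (Ideal.span {t})).comp φ' = φ)
    (X : Exal.Ext Λ R L) : X.IsTrivial := by
  haveI := isLocalRing_E X
  haveI := isLocalHom_proj X
  obtain ⟨M, hM, hinj⟩ := exists_level X
  haveI := isArtinianRing_level X hM
  set I := maximalIdeal X.E ^ M with hI
  haveI : Nontrivial (X.E ⧸ I) := Ideal.Quotient.nontrivial_iff.2
    (ne_top_of_le_ne_top (maximalIdeal.isMaximal X.E).ne_top (Ideal.pow_le_self hM.ne'))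
  haveI : IsLocalRing (X.E ⧸ I) := IsLocalRing.of_surjective' _ Ideal.Quotient.mk_surjective
  haveI : IsLocalHom (Ideal.Quotient.mk I) := IsLocalHom.of_surjective _ Ideal.Quotient.mk_surjective
  have hmk : ∀ e : X.E, Ideal.Quotient.mk I e ∈ maximalIdeal (X.E ⧸ I) ↔ e ∈ maximalIdeal X.E := fun e => by
    simp only [mem_maximalIdeal, mem_nonunits_iff]
    exact not_congr ⟨fun h => isUnit_of_map_unit (Ideal.Quotient.mk I) e h, fun h => h.map _⟩
  have hB : ∀ b : X.E ⧸ I, ∃ c ∈ S, b - algebraMap Λ (X.E ⧸ I) c ∈ maximalIdeal (X.E ⧸ I) := by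
    intro b
    obtain ⟨e, rfl⟩ := Ideal.Quotient.mk_surjective b
    obtain ⟨c, hc, hec⟩ := hR' (X.proj e)
    refine ⟨c, hc, ?_⟩
    have : e - algebraMap Λ X.E c ∈ maximalIdeal X.E := by
      rw [mem_maximalIdeal, mem_nonunits_iff] at hec ⊢
      intro hu
      exact hec (by simpa using hu.map X.proj)
    exact (hmk _).2 this
  haveI : Nontrivial L := IsSimpleModule.nontrivial R L
  obtain ⟨z0, hz0⟩ := exists_ne (0 : L)
  set t : X.E ⧸ I := Ideal.Quotient.mk I (X.incl z0)
  have ht : t ∈ maximalIdeal (X.E ⧸ I) := (hmk _).2 (incl_mem_maximalIdeal X z0)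
  have hmt : ∀ b ∈ maximalIdeal (X.E ⧸ I), b * t = 0 := by
    intro b hb
    obtain ⟨e, rfl⟩ := Ideal.Quotient.mk_surjective b
    rw [← map_mul, mul_incl_of_mem X ((hmk e).1 hb), map_zero]
  have hmem : ∀ e, X.proj e = 0 → Ideal.Quotient.mk I e ∈ Ideal.span {t} := by
    intro e he
    obtain ⟨z, rfl⟩ := exists_incl X he
    obtain ⟨r, rfl⟩ := Submodule.mem_span_singleton.1 (show z ∈ Submodule.span R {z0} by
      rw [IsSimpleModule.span_singleton_eq_top R hz0]; trivial)
    obtain ⟨x, rfl⟩ := proj_surjective X r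
    rw [incl_smul, map_mul]
    exact Ideal.mul_mem_left _ _ (Ideal.mem_span_singleton_self t)
  let π : X.E →ₐ[Λ] (X.E ⧸ I) ⧸ Ideal.span {t} :=
    (Ideal.Quotient.mkₐ Λ (Ideal.span {t})).comp (Ideal.Quotient.mkₐ Λ I)
  let φ : R →ₐ[Λ] (X.E ⧸ I) ⧸ Ideal.span {t} :=
    AlgHom.liftOfSurjective X.proj (proj_surjective X) π fun e he =>
      Ideal.Quotient.eq_zero_iff_mem.2 (hmem e he)
  have hφ : ∀ e, φ (X.proj e) = π e := fun e => AlgHom.liftOfSurjective_apply _ (proj_surjective X) _ _ e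
  obtain ⟨φ', hφ'⟩ := h (X.E ⧸ I) hB t ht hmt φ
  obtain ⟨u, hu, -⟩ := exists_lift_of_level X (AlgHom.id Λ R) I hinj φ' fun r e he => by
    have h1 : Ideal.Quotient.mk (Ideal.span {t}) (φ' r) = Ideal.Quotient.mk (Ideal.span {t}) (Ideal.Quotient.mk I e) := by
      refine (DFunLike.congr_fun hφ' r).trans ?_
      rw [show r = X.proj e from he.symm, hφ]
      rfl
    obtain ⟨c, hc⟩ := Ideal.mem_span_singleton'.1 (Ideal.Quotient.eq.1 h1)
    obtain ⟨x, rfl⟩ := Ideal.Quotient.mk_surjective c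
    refine ⟨X.proj x • z0, ?_⟩
    rw [map_add, incl_smul, map_mul]
    linear_combination (-1 : X.E ⧸ I) * hc
  exact ⟨u, fun r => DFunLike.congr_fun hu r⟩

end Groth.L12.ExalSmall
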