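import Mathlib.Algebra.Homology.DerivedCategory.Ext.Map
import Mathlib.Algebra.Homology.DerivedCategory.Ext.ExactSequences
import Mathlib.Algebra.Homology.DerivedCategory.Ext.EnoughInjectives
import Mathlib.CategoryTheory.Preadditive.Injective.Basic

/-! # Ext groups along an exact right adjoint which keeps injective objects -/

universe w w' v v' u u'

open CategoryTheory CategoryTheory.Limits CategoryTheory.Abelian

set_option backward.isDefEq.respectTransparency false

namespace Groth.L12.ExtRightExact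

variable {C : Type u} [Category.{v} C] [Abelian C] {D : Type u'} [Category.{v'} D] [Abelian D]
  [HasExt.{w} C] [HasExt.{w'} D] {L : C ⥤ D} {R : D ⥤ C} [R.Additive] [PreservesFiniteLimits R]
  [PreservesFiniteColimits R] (adj : L ⊣ R) (M : C)

/-- The comparison `Ext^n(L M, N) → Ext^n(M, R N)`. -/
noncomputable def psi (N : D) (n : ℕ) (e : Ext.{w'} (L.obj M) N n) : Ext.{w} M (R.obj N) n :=
  (Ext.mk₀ (adj.unit.app M)).comp (e.mapExactFunctor R) (zero_add n)

variable {M}

theorem psi_mk₀ (N : D) (f : L.obj M ⟶ N) :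
    psi adj M N 0 (Ext.mk₀ f) = Ext.mk₀ (adj.homEquiv _ _ f) := by
  rw [psi, Ext.mapExactFunctor_mk₀, Ext.mk₀_comp_mk₀, Adjunction.homEquiv_unit]

theorem psi_add (N : D) (n : ℕ) (e e' : Ext.{w'} (L.obj M) N n) :
    psi adj M N n (e + e') = psi adj M N n e + psi adj M N n e' := by
  rw [psi, Ext.mapExactFunctor_add, Ext.comp_add]
  rfl

theorem psi_comp_map {F G : D} (g : F ⟶ G) (n : ℕ) (e : Ext.{w'} (L.obj M) F n) :
    psi adj M G n (e.comp (Ext.mk₀ g) (add_zero n)) =
      (psi adj M F n e).comp (Ext.mk₀ (R.map g)) (add_zero n) := by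
  rw [psi, psi, Ext.mapExactFunctor_comp, Ext.mapExactFunctor_mk₀]
  exact (Ext.comp_assoc_of_third_deg_zero _ _ _ _).symm

theorem psi_comp_extClass {S : ShortComplex D} (hS : S.ShortExact) (n : ℕ)
    (e : Ext.{w'} (L.obj M) S.X₃ n) :
    psi adj M S.X₁ (n + 1) (e.comp hS.extClass rfl) =
      (psi adj M S.X₃ n e).comp (hS.map_of_exact R).extClass rfl := by
  rw [psi, psi, Ext.mapExactFunctor_comp, Ext.mapExactFunctor_extClass]
  exact (Ext.comp_assoc _ _ _ (zero_add n) rfl (by omega)).symm

/-- An exact right adjoint keeping injectives gives `Ext^n(L M, N) ≅ Ext^n(M, R N)`. -/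
theorem bijective_psi [EnoughInjectives D] (hR : ∀ I : D, Injective I → Injective (R.obj I)) (n : ℕ) :
    ∀ N : D, Function.Bijective (psi.{w, w'} adj M N n) := by
  induction n with
  | zero =>
    intro N
    refine ⟨fun x y h => ?_, fun y => ?_⟩
    · obtain ⟨a, rfl⟩ := (Ext.mk₀_bijective _ _).2 x
      obtain ⟨b, rfl⟩ := (Ext.mk₀_bijective _ _).2 y
      rw [psi_mk₀, psi_mk₀] at h
      rw [(adj.homEquiv _ _).injective ((Ext.mk₀_bijective _ _).1 h)]
    · obtain ⟨b, rfl⟩ := (Ext.mk₀_bijective _ _).2 y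
      exact ⟨Ext.mk₀ ((adj.homEquiv _ _).symm b), by rw [psi_mk₀, Equiv.apply_symm_apply]⟩
  | succ n ih =>
    intro N
    let S : ShortComplex D :=
      ShortComplex.mk (Injective.ι N) (cokernel.π (Injective.ι N)) (cokernel.condition _)
    have hS : S.ShortExact :=
      { exact := ShortComplex.exact_of_g_is_cokernel _ (cokernelIsCokernel _) }
    have hRS := hS.map_of_exact R
    haveI : Injective S.X₂ := inferInstanceAs (Injective (Injective.under N))
    haveI : Injective (S.map R).X₂ := hR _ inferInstance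
    refine ⟨fun x x' h => ?_, fun y => ?_⟩
    · obtain ⟨z, rfl⟩ := Ext.covariant_sequence_exact₁ (L.obj M) hS x (Ext.eq_zero_of_injective _) rfl
      obtain ⟨z', rfl⟩ := Ext.covariant_sequence_exact₁ (L.obj M) hS x' (Ext.eq_zero_of_injective _) rfl
      change psi adj M S.X₁ _ _ = psi adj M S.X₁ _ _ at h
      rw [psi_comp_extClass adj hS, psi_comp_extClass adj hS] at h
      obtain ⟨w₀, hw⟩ := Ext.covariant_sequence_exact₃ M hRS
        (psi adj M S.X₃ n z - psi adj M S.X₃ n z') rfl
        (by rw [sub_eq_add_neg, Ext.add_comp, Ext.neg_comp, h, add_neg_cancel])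
      obtain ⟨t, rfl⟩ := (ih S.X₂).2 w₀
      have hw' : psi adj M S.X₃ n (t.comp (Ext.mk₀ S.g) (add_zero n)) =
          psi adj M S.X₃ n z - psi adj M S.X₃ n z' := (psi_comp_map adj S.g n t).trans hw
      have hz : z = z' + t.comp (Ext.mk₀ S.g) (add_zero n) := by
        apply (ih S.X₃).1
        rw [psi_add, hw']
        abel
      rw [hz, Ext.add_comp, Ext.comp_assoc_of_second_deg_zero]
      exact (add_eq_left).2
        ((congrArg (fun r => t.comp r rfl) hS.comp_extClass).trans (Ext.comp_zero _ _ _ _ _))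
    · obtain ⟨z, hz⟩ := Ext.covariant_sequence_exact₁ M hRS y (Ext.eq_zero_of_injective _) rfl
      obtain ⟨t, rfl⟩ := (ih S.X₃).2 z
      exact ⟨t.comp hS.extClass rfl, (psi_comp_extClass adj hS n t).trans hz⟩

end Groth.L12.ExtRightExact
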