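import Groth.Agent.L20.RG.FlatPtsScheme
import Groth.Agent.L20.RG.FlatPtsHensel
import Groth.Agent.L20.FibreScheme
import Groth.Agent.L22.WeakAssPoints
import Groth.Agent.L29.LocFree
import Groth.Agent.L19.ConormalAffine
import Groth.Agent.L20.FibreModuleOpen
import Groth.Agent.L05.Henselization.Local
import Groth.Agent.S0509
import Mathlib.AlgebraicGeometry.Morphisms.UniversallyClosed

/-!
# EGA IV 11.5-style descent: a proper morphism whose base change by itself is flat and which is
injective on sections is flat.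
-/

set_option autoImplicit false
set_option linter.style.haveILetI false
set_option backward.isDefEq.respectTransparency false

universe u

open CategoryTheory CategoryTheory.Limits AlgebraicGeometry TopologicalSpace IsLocalRing Opposite
open scoped TensorProduct

noncomputable section

namespace Groth.L12.FlatSquare

open Groth.L20.RG

theorem stk_flat_iff {X S : Scheme.{u}} (f : X ⟶ S) (x : X) :
    FlatMod.IsFlatOverAt f (Coh.structureModule X) x ↔ (f.stalkMap x).hom.Flat := by
  letI := (f.stalkMap x).hom.toAlgebra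
  letI := FlatMod.moduleStalkOver f (Coh.structureModule X) x
  haveI : IsScalarTower (S.presheaf.stalk (f x)) (X.presheaf.stalk x)
      ((Coh.structureModule X).presheaf.stalk x) :=
    IsScalarTower.of_algebraMap_smul fun _ _ => rfl
  let e : X.presheaf.stalk x ≃ₗ[X.presheaf.stalk x] (Coh.structureModule X).presheaf.stalk x :=
    LinearEquiv.ofBijective (LinearMap.toSpanSingleton (X.presheaf.stalk x) _ (Groth.L22.oneGerm x))
      ⟨(injective_iff_map_eq_zero _).2 fun a ha => Groth.L22.eq_zero_of_smul_oneGerm ha,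
        Groth.L22.stalk_smul_oneGerm_surjective x⟩
  refine ⟨fun (h : Module.Flat (S.presheaf.stalk (f x)) ((Coh.structureModule X).presheaf.stalk x)) => ?_,
    fun (h : Module.Flat (S.presheaf.stalk (f x)) (X.presheaf.stalk x)) => ?_⟩
  · exact Module.Flat.of_linearEquiv (e.restrictScalars (S.presheaf.stalk (f x)))
  · exact Module.Flat.of_linearEquiv (e.restrictScalars (S.presheaf.stalk (f x))).symm

theorem stkHom_specializes {A : CommRingCat.{u}} {X : Scheme.{u}} (f : X ⟶ Spec A) {z x : X}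
    (h : z ⤳ x) (a : A) : X.presheaf.stalkSpecializes h (stkHom f x a) = stkHom f z a :=
  TopCat.Presheaf.germ_stalkSpecializes_apply _ _ h _

theorem appTop_eq_zero {A : CommRingCat.{u}} {X : Scheme.{u}} (f : X ⟶ Spec A) (a : A)
    (h : ∀ x, stkHom f x a = 0) : f.appTop ((Scheme.ΓSpecIso A).inv a) = 0 := by
  refine TopCat.Presheaf.section_ext X.sheaf ⊤ _ _ fun x hx => ?_
  erw [map_zero]
  exact h x

/-- The statement over a henselian local base, at a point of the closed fibre. -/
theorem flat_of_henselian {A : CommRingCat.{u}} [HenselianLocalRing A] {X : Scheme.{u}}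
    (f : X ⟶ Spec A) [LocallyOfFiniteType f] (hcl : IsClosedMap f)
    (hinj : ∀ a : A, (∀ x, stkHom f x a = 0) → a = 0) [Flat (pullback.snd f f)]
    (x : X) (hx : f x = closedPoint A) : (f.stalkMap x).hom.Flat := by
  obtain ⟨_, ⟨V, hV, rfl⟩, hxV, -⟩ :=
    X.isBasis_affineOpens.exists_subset_of_mem_open (Set.mem_univ x) isOpen_univ
  letI : Algebra A Γ(X, V) := (baseHom f V).toAlgebra
  haveI : Algebra.FiniteType A Γ(X, V) := by
    have h1 : (f.appLE ⊤ V le_top).hom.FiniteType :=
      f.finiteType_appLE (isAffineOpen_top _) hV _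
    exact RingHom.FiniteType.comp h1
      (RingHom.FiniteType.of_surjective _ (ConcreteCategory.bijective_of_isIso (Scheme.ΓSpecIso A).inv).2)
  haveI : Coh.IsQCoh (Coh.structureModule X) := Groth.L19.Conormal.isQCoh_structureModule X
  let q := (hV.primeIdealOf ⟨x, hxV⟩).asIdeal
  haveI : q.LiesOver (maximalIdeal A) := ⟨(comap_primeIdealOf_baseHom f hV hxV hx).symm⟩
  letI : Module A Γ(Coh.structureModule X, V) :=
    Module.compHom Γ(Coh.structureModule X, V) (baseHom f V)
  haveI : IsScalarTower A Γ(X, V) Γ(Coh.structureModule X, V) :=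
    IsScalarTower.of_algebraMap_smul fun _ _ => rfl
  haveI : Module.Finite Γ(X, V) Γ(Coh.structureModule X, V) :=
    Module.Finite.self Γ(X, V)
  obtain ⟨I, hI⟩ := exists_ideal_of_henselian (A := A) q Γ(Coh.structureModule X, V)
  have hstruct : ∀ {T : Scheme.{u}} (g : T ⟶ Spec A) (w : ↑(pullback f g)),
      ((pullback.snd f g).stalkMap w).hom.Flat →
        FlatMod.IsFlatOverAt (pullback.snd f g)
          ((Scheme.Modules.pullback (pullback.fst f g)).obj (Coh.structureModule X)) w :=
    fun g w hw => Groth.L20.FibreModule.isFlatOverAt_congr _ (Groth.L29.LocFree.pullbackUnitIso _).symm (x := w)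
      ((stk_flat_iff _ w).2 hw)
  have hzero : ∀ a ∈ I, a = 0 := fun a ha => hinj a fun z => by
    obtain ⟨c, hc, hfc⟩ : ∃ c ∈ closure ({z} : Set X), f c = closedPoint A := by
      have h1 : closedPoint A ∈ f '' closure {z} := by
        refine ((IsLocalRing.specializes_closedPoint (f z))).mem_closed (hcl _ isClosed_closure) ?_
        exact ⟨z, subset_closure rfl, rfl⟩
      exact h1
    have hzc : z ⤳ c := specializes_iff_mem_closure.2 hc
    rw [← stkHom_specializes f hzc a]
    letI : Algebra A (X.presheaf.stalk c) := (stkHom f c).toAlgebra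
    haveI : IsLocalHom (algebraMap A (X.presheaf.stalk c)) := isLocalHom_stkHom f hfc
    have hle := (hI (X.presheaf.stalk c)).1
      ((flatPts_iff_points f (Coh.structureModule X) f c hV hxV).2 fun w _ _ =>
        hstruct f w ((Flat.iff_flat_stalkMap _).1 inferInstance w))
    have : stkHom f c a = 0 := hle ha
    rw [this, map_zero]
  let t : Spec A := closedPoint A
  letI : Algebra A ((Spec A).presheaf.stalk t) := (stkHom (𝟙 (Spec A)) t).toAlgebra
  haveI : IsLocalHom (algebraMap A ((Spec A).presheaf.stalk t)) :=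
    isLocalHom_stkHom (𝟙 (Spec A)) rfl
  have hpts := (flatPts_iff_points f (Coh.structureModule X) (𝟙 (Spec A)) t hV hxV).1
    ((hI _).2 fun a ha => by rw [hzero a ha]; exact zero_mem _)
  obtain ⟨w, hw1, hw2⟩ := Scheme.Pullback.exists_preimage_pullback (f := f) (g := 𝟙 (Spec A)) x t
    (hx.trans rfl)
  have hflat : ((pullback.snd f (𝟙 (Spec A))).stalkMap w).hom.Flat :=
    (stk_flat_iff _ w).1
      (Groth.L20.FibreModule.isFlatOverAt_congr _ (Groth.L29.LocFree.pullbackUnitIso _) (x := w)
 (hpts w hw2 hw1))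
  have e : pullback.fst f (𝟙 (Spec A)) ≫ f = pullback.snd f (𝟙 (Spec A)) :=
    pullback.condition.trans (Category.comp_id _)
  have h2 : ((pullback.fst f (𝟙 (Spec A)) ≫ f).stalkMap w).hom.Flat := by
    rw [e]; exact hflat
  rw [Scheme.Hom.stalkMap_comp, CommRingCat.hom_comp] at h2
  have h3 := (RingHom.Flat.respectsIso.cancel_right_isIso (f.stalkMap _)
    ((pullback.fst f (𝟙 (Spec A))).stalkMap w)).1 h2
  rw [hw1] at h3
  exact h3

/-- Injectivity on sections survives flat base change to an affine scheme. -/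
theorem eq_zero_of_stk {X Y : Scheme.{u}} (f : X ⟶ Y) [QuasiCompact f]
    (hinj : ∀ V : Y.Opens, Function.Injective (f.app V)) {U : Y.Opens} (hU : IsAffineOpen U)
    {H : CommRingCat.{u}} (φ : Γ(Y, U) ⟶ H) (hφ : φ.hom.Flat) (a : H)
    (h : ∀ x, stkHom (pullback.snd f (Spec.map φ ≫ hU.fromSpec)) x a = 0) : a = 0 := by
  classical
  let g : Spec H ⟶ Y := Spec.map φ ≫ hU.fromSpec
  letI : Algebra Γ(Y, U) H := φ.hom.toAlgebra
  haveI : Module.Flat Γ(Y, U) H := hφ
  have h0 := appTop_eq_zero _ a h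
  obtain ⟨s, hs, hcov⟩ := (isCompact_and_isOpen_iff_finite_and_eq_biUnion_affineOpens (U := ((f ⁻¹ᵁ U : X.Opens) : Set X))).mp
    ⟨f.isCompact_preimage hU.isCompact, (f ⁻¹ᵁ U).2⟩
  haveI := hs.fintype
  have hle : ∀ i : s, (i.1 : X.Opens) ≤ f ⁻¹ᵁ U := fun i x hx => by
    show x ∈ ((f ⁻¹ᵁ U : X.Opens) : Set X)
    rw [show ((f ⁻¹ᵁ U : X.Opens) : Set X) = _ from hcov]
    exact Set.mem_iUnion₂.2 ⟨i.1, i.2, hx⟩
  letI : ∀ i : s, Algebra Γ(Y, U) Γ(X, (i.1 : X.Opens)) :=
    fun i => (f.appLE U _ (hle i)).hom.toAlgebra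
  let ι : Γ(Y, U) →ₗ[Γ(Y, U)] (∀ i : s, Γ(X, (i.1 : X.Opens))) :=
    LinearMap.pi fun i => Algebra.linearMap Γ(Y, U) Γ(X, (i.1 : X.Opens))
  have hι : Function.Injective ι := by
    rw [injective_iff_map_eq_zero]
    intro b hb
    refine hinj U ?_
    rw [map_zero]
    refine X.sheaf.eq_of_locally_eq' (fun i : s => (i.1 : X.Opens)) (f ⁻¹ᵁ U)
      (fun i => homOfLE (hle i)) (fun x hx => ?_) _ _ fun i => ?_
    · have hx' : x ∈ ((f ⁻¹ᵁ U : X.Opens) : Set X) := hx
      rw [show ((f ⁻¹ᵁ U : X.Opens) : Set X) = _ from hcov] at hx'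
      obtain ⟨i, hi, hxi⟩ := Set.mem_iUnion₂.1 hx'
      exact Opens.mem_iSup.2 ⟨⟨i, hi⟩, hxi⟩
    · erw [map_zero]
      exact congrFun hb i
  have hker : ∀ i : s, a ⊗ₜ[Γ(Y, U)] (1 : Γ(X, (i.1 : X.Opens))) = 0 := by
    intro i
    let B := Γ(X, (i.1 : X.Opens))
    let iL : H ⟶ CommRingCat.of (H ⊗[Γ(Y, U)] B) :=
      CommRingCat.ofHom Algebra.TensorProduct.includeLeftRingHom
    let iR : B ⟶ CommRingCat.of (H ⊗[Γ(Y, U)] B) :=
      CommRingCat.ofHom (Algebra.TensorProduct.includeRight (R := Γ(Y, U)) (A := H) (B := B)).toRingHom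
    have hcomm : f.appLE U _ (hle i) ≫ iR = φ ≫ iL := by
      ext b
      exact ((Algebra.TensorProduct.includeRight (R := Γ(Y, U)) (A := H) (B := B)).commutes b)
    let j : Spec (CommRingCat.of (H ⊗[Γ(Y, U)] B)) ⟶ pullback f g :=
      pullback.lift (Spec.map iR ≫ i.1.2.fromSpec) (Spec.map iL) (by
        rw [Category.assoc, ← IsAffineOpen.SpecMap_appLE_fromSpec f hU i.1.2 (hle i),
          ← Spec.map_comp_assoc, hcomm, Spec.map_comp_assoc])
    have hj : (Spec.map iL).appTop ((Scheme.ΓSpecIso H).inv a) = 0 := by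
      have e : j ≫ pullback.snd f g = Spec.map iL := pullback.lift_snd _ _ _
      rw [← e, Scheme.Hom.comp_appTop, CommRingCat.comp_apply, h0, map_zero]
    have e2 := congr($(Scheme.ΓSpecIso_inv_naturality iL) a)
    simp only [CommRingCat.comp_apply] at e2
    rw [hj] at e2
    have := congrArg (Scheme.ΓSpecIso (CommRingCat.of (H ⊗[Γ(Y, U)] B))).hom e2
    simpa [iL] using this
  have hinj' := Module.Flat.lTensor_preserves_injective_linearMap (M := H) ι hι
  have h1 : LinearMap.lTensor H ι (a ⊗ₜ[Γ(Y, U)] (1 : Γ(Y, U))) = 0 := by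
    apply (TensorProduct.piRight Γ(Y, U) Γ(Y, U) H fun i : s => Γ(X, (i.1 : X.Opens))).injective
    rw [map_zero]
    funext i
    simp only [LinearMap.lTensor_tmul, TensorProduct.piRight_apply, TensorProduct.piRightHom_tmul]
    show a ⊗ₜ[Γ(Y, U)] (algebraMap Γ(Y, U) Γ(X, (i.1 : X.Opens)) 1) = 0
    rw [map_one]
    exact hker i
  have h2 : a ⊗ₜ[Γ(Y, U)] (1 : Γ(Y, U)) = 0 := hinj' (h1.trans (map_zero _).symm)
  have := congrArg (TensorProduct.rid Γ(Y, U) H) h2
  simpa using this

theorem flat_of_flat_fst {X Y : Scheme.{u}} (f : X ⟶ Y) [IsProper f]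
    (hinj : ∀ V : Y.Opens, Function.Injective (f.app V)) (hflat : Flat (pullback.fst f f)) :
    Flat f := by
  rw [Flat.iff_flat_stalkMap]
  intro x
  obtain ⟨_, ⟨U, hU, rfl⟩, hxU, -⟩ :=
    Y.isBasis_affineOpens.exists_subset_of_mem_open (Set.mem_univ (f x)) isOpen_univ
  obtain ⟨H, _, _, _, _, hH⟩ :=
    Groth.L05.Henselization.exists_isHenselization (Y.presheaf.stalk (f x))
  haveI := hH.henselian
  let ψ : Y.presheaf.stalk (f x) ⟶ CommRingCat.of H :=
    CommRingCat.ofHom (algebraMap (Y.presheaf.stalk (f x)) H)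
  haveI : IsLocalHom ψ.hom := ‹IsLocalHom (algebraMap (Y.presheaf.stalk (f x)) H)›
  let φ : Γ(Y, U) ⟶ CommRingCat.of H := Y.presheaf.germ U (f x) hxU ≫ ψ
  have hψ : ψ.hom.Flat := RingHom.flat_algebraMap_iff.2
    (Groth.Agent.S0509.result (Y.presheaf.stalk (f x)) H).toFlat
  have hφ : φ.hom.Flat := by
    refine RingHom.Flat.comp ?_ hψ
    letI := Y.presheaf.algebra_section_stalk ⟨f x, hxU⟩
    haveI := hU.isLocalization_stalk ⟨f x, hxU⟩
    exact IsLocalization.flat _ (hU.primeIdealOf ⟨f x, hxU⟩).asIdeal.primeCompl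
  let g : Spec (CommRingCat.of H) ⟶ Y := Spec.map φ ≫ hU.fromSpec
  haveI : Flat (Spec.map φ) := (HasRingHomProperty.Spec_iff (P := @Flat)).2 hφ
  haveI : HenselianLocalRing (CommRingCat.of H : Type u) := hH.henselian
  have hg : g (closedPoint H) = f x := by
    have e : g = Spec.map ψ ≫ Y.fromSpecStalk (f x) := by
      show Spec.map φ ≫ _ = _
      rw [← hU.fromSpecStalk_eq_fromSpecStalk hxU, IsAffineOpen.fromSpecStalk, Spec.map_comp,
        Category.assoc]
    rw [e, Scheme.Hom.comp_apply]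
    have hc : (Spec.map ψ) (closedPoint H) = closedPoint (Y.presheaf.stalk (f x)) :=
      IsLocalRing.comap_closedPoint ψ.hom
    rw [hc, Scheme.fromSpecStalk_closedPoint]
  let f' := pullback.snd f g
  haveI : Flat (pullback.snd f' f') := by
    haveI := hflat
    have hsnd : Flat (pullback.snd f f) := by
      rw [← pullbackSymmetry_hom_comp_fst]; infer_instance
    have sq2 := IsPullback.of_hasPullback f g
    have s1 := (IsPullback.of_hasPullback f' f').paste_horiz sq2
    have hc : f' ≫ g = pullback.fst f g ≫ f := pullback.condition.symm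
    rw [hc] at s1
    let l : pullback f' f' ⟶ pullback f f :=
      pullback.lift (pullback.fst f' f' ≫ pullback.fst f g) (pullback.snd f' f' ≫ pullback.fst f g)
        (by rw [s1.w, Category.assoc])
    have s1' : IsPullback (l ≫ pullback.fst f f) (pullback.snd f' f') f (pullback.fst f g ≫ f) := by
      rw [pullback.lift_fst]; exact s1
    have top := IsPullback.of_right s1' (pullback.lift_snd _ _ _) (IsPullback.of_hasPullback f f)
    exact MorphismProperty.of_isPullback top hsnd
  haveI : LocallyOfFiniteType f' := inferInstance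
  obtain ⟨z, hz1, hz2⟩ := Scheme.Pullback.exists_preimage_pullback (f := f) (g := g) x
    (closedPoint H) hg.symm
  have h1 : (f'.stalkMap z).hom.Flat :=
    flat_of_henselian f' f'.isClosedMap (fun a ha => eq_zero_of_stk f hinj hU φ hφ a ha) z hz2
  have h2 : ((f' ≫ g).stalkMap z).hom.Flat := by
    rw [Scheme.Hom.stalkMap_comp, CommRingCat.hom_comp]
    exact RingHom.Flat.comp ((Flat.iff_flat_stalkMap _).1 (inferInstanceAs (Flat g)) (f' z)) h1
  have h3 : ((pullback.fst f g ≫ f).stalkMap z).hom.Flat := by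
    rw [pullback.condition]; exact h2
  have h4 := Groth.L20.flat_stalkMap_of_comp (pullback.fst f g) f z h3
    ((Flat.iff_flat_stalkMap _).1 inferInstance z)
  rw [hz1] at h4
  exact h4

end Groth.L12.FlatSquare
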