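import Groth.Agent.L12.FlatSquare
import Groth.Agent.L09.ModStack.Descent
import Groth.Agent.L19.FlatTensor
import Groth.Agent.L00.LocalData

/-!
# EGA IV 11.5.3: flatness of a module is tested by a proper morphism which is injective at the stalk.
-/

set_option autoImplicit false
set_option linter.style.haveILetI false
set_option backward.isDefEq.respectTransparency false

universe u

open CategoryTheory CategoryTheory.Limits AlgebraicGeometry TopologicalSpace IsLocalRing Opposite
open scoped TensorProduct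

noncomputable section

namespace Groth.L12.FlatTest

open Groth.L20.RG

variable {X Y : Scheme.{u}} in
/-- Pullbacks of modules of finite type are of finite type. -/
theorem isFT_pullback (f : X ⟶ Y) (M : Y.Modules) (hM : CohB1.IsFT M) :
    CohB1.IsFT ((Scheme.Modules.pullback f).obj M) := by
  refine Groth.L00.Local.isFT_of_generators _ fun x => ?_
  obtain ⟨U, σ, hxU, hσ⟩ := Groth.L00.Local.exists_generators_of_isFT M hM (f x)
  let F : SheafOfModules.{u} (U : Scheme.{u}).ringCatSheaf ⥤ SheafOfModules.{u} ((f ⁻¹ᵁ U : X.Opens) : Scheme.{u}).ringCatSheaf :=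
    Scheme.Modules.pullback (f ∣_ U)
  haveI : PreservesColimitsOfSize.{u, u} F :=
    (Scheme.Modules.pullbackPushforwardAdjunction (f ∣_ U)).leftAdjoint_preservesColimits
  refine ⟨f ⁻¹ᵁ U, (σ.map F (Groth.L29.LocFree.pullbackUnitIso (f ∣_ U)).symm).ofEpi
    ((Scheme.Modules.restrictFunctorIsoPullback _).app _ ≪≫
      (Scheme.Modules.pullbackComp (f ⁻¹ᵁ U).ι f).app M ≪≫
      (Scheme.Modules.pullbackCongr (morphismRestrict_ι f U).symm).app M ≪≫
      ((Scheme.Modules.pullbackComp (f ∣_ U) U.ι).app M).symm ≪≫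
      (Scheme.Modules.pullback (f ∣_ U)).mapIso
        ((Scheme.Modules.restrictFunctorIsoPullback U.ι).app M).symm).inv, hxU, hσ⟩


/-- The statement over a henselian local base, at a point of the closed fibre. -/
theorem flatAt_of_henselian {A : CommRingCat.{u}} [HenselianLocalRing A] {X T : Scheme.{u}}
    (f : X ⟶ Spec A) [LocallyOfFiniteType f] (F : X.Modules) [Coh.IsQCoh F] (hF : CohB1.IsFT F)
    (g : T ⟶ Spec A) (hcl : IsClosedMap g)
    (hinj : ∀ a : A, (∀ z, stkHom g z a = 0) → a = 0) (x : X) (hx : f x = closedPoint A)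
    (hflat : ∀ w : ↑(pullback f g), pullback.fst f g w = x →
      FlatMod.IsFlatOverAt (pullback.snd f g) ((Scheme.Modules.pullback (pullback.fst f g)).obj F) w) :
    FlatMod.IsFlatOverAt f F x := by
  obtain ⟨_, ⟨V, hV, rfl⟩, hxV, -⟩ :=
    X.isBasis_affineOpens.exists_subset_of_mem_open (Set.mem_univ x) isOpen_univ
  letI : Algebra A Γ(X, V) := (baseHom f V).toAlgebra
  haveI : Algebra.FiniteType A Γ(X, V) := by
    have h1 : (f.appLE ⊤ V le_top).hom.FiniteType :=
      f.finiteType_appLE (isAffineOpen_top _) hV _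
    exact RingHom.FiniteType.comp h1
      (RingHom.FiniteType.of_surjective _ (ConcreteCategory.bijective_of_isIso (Scheme.ΓSpecIso A).inv).2)
  let q := (hV.primeIdealOf ⟨x, hxV⟩).asIdeal
  haveI : q.LiesOver (maximalIdeal A) := ⟨(comap_primeIdealOf_baseHom f hV hxV hx).symm⟩
  letI : Module A Γ(F, V) := Module.compHom Γ(F, V) (baseHom f V)
  haveI : IsScalarTower A Γ(X, V) Γ(F, V) :=
    IsScalarTower.of_algebraMap_smul fun _ _ => rfl
  haveI : Module.Finite Γ(X, V) Γ(F, V) := Groth.L20.ModStalk.finite_sections F ⟨‹_›, hF⟩ hV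
  obtain ⟨I, hI⟩ := exists_ideal_of_henselian (A := A) q Γ(F, V)
  have hzero : ∀ a ∈ I, a = 0 := fun a ha => hinj a fun z => by
    obtain ⟨c, hc, hfc⟩ : ∃ c ∈ closure ({z} : Set T), g c = closedPoint A := by
      have h1 : closedPoint A ∈ g '' closure {z} := by
        refine ((IsLocalRing.specializes_closedPoint (g z))).mem_closed (hcl _ isClosed_closure) ?_
        exact ⟨z, subset_closure rfl, rfl⟩
      exact h1
    have hzc : z ⤳ c := specializes_iff_mem_closure.2 hc
    rw [← Groth.L12.FlatSquare.stkHom_specializes g hzc a]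
    letI : Algebra A (T.presheaf.stalk c) := (stkHom g c).toAlgebra
    haveI : IsLocalHom (algebraMap A (T.presheaf.stalk c)) := isLocalHom_stkHom g hfc
    have hle := (hI (T.presheaf.stalk c)).1
      ((flatPts_iff_points f F g c hV hxV).2 fun w _ hw => hflat w hw)
    have : stkHom g c a = 0 := hle ha
    rw [this, map_zero]
  let t : Spec A := closedPoint A
  letI : Algebra A ((Spec A).presheaf.stalk t) := (stkHom (𝟙 (Spec A)) t).toAlgebra
  haveI : IsLocalHom (algebraMap A ((Spec A).presheaf.stalk t)) :=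
    isLocalHom_stkHom (𝟙 (Spec A)) rfl
  have hpts := (flatPts_iff_points f F (𝟙 (Spec A)) t hV hxV).1
    ((hI _).2 fun a ha => by rw [hzero a ha]; exact zero_mem _)
  obtain ⟨w, hw1, hw2⟩ := Scheme.Pullback.exists_preimage_pullback (f := f) (g := 𝟙 (Spec A)) x t
    (hx.trans rfl)
  rw [← hw1]
  exact Groth.L09.ModStack.isFlatOverAt_of_flat (f := f) (f' := pullback.snd f (𝟙 (Spec A)))
    (j := pullback.fst f (𝟙 (Spec A))) (i := 𝟙 (Spec A)) pullback.condition F w (hpts w hw2 hw1)

/-- Injectivity at the stalk survives flat base change to an affine scheme. -/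
theorem eq_zero_of_stk {T Y : Scheme.{u}} (g : T ⟶ Y) [QuasiCompact g] {U : Y.Opens}
    (hU : IsAffineOpen U) {y : Y} (hy : y ∈ U)
    (hinj : ∀ s : Γ(Y, U), g.app U s = 0 → Y.presheaf.germ U y hy s = 0)
    {H : CommRingCat.{u}} (ψ : Y.presheaf.stalk y ⟶ H) (hφ : (Y.presheaf.germ U y hy ≫ ψ).hom.Flat)
    (a : H)
    (h : ∀ z, stkHom (pullback.snd g (Spec.map (Y.presheaf.germ U y hy ≫ ψ) ≫ hU.fromSpec)) z a = 0) :
    a = 0 := by
  classical
  let φ : Γ(Y, U) ⟶ H := Y.presheaf.germ U y hy ≫ ψ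
  let G : Spec H ⟶ Y := Spec.map φ ≫ hU.fromSpec
  letI : Algebra Γ(Y, U) H := φ.hom.toAlgebra
  haveI : Module.Flat Γ(Y, U) H := hφ
  have h0 := Groth.L12.FlatSquare.appTop_eq_zero _ a h
  obtain ⟨s, hs, hcov⟩ := (isCompact_and_isOpen_iff_finite_and_eq_biUnion_affineOpens (U := ((g ⁻¹ᵁ U : T.Opens) : Set T))).mp
    ⟨g.isCompact_preimage hU.isCompact, (g ⁻¹ᵁ U).2⟩
  haveI := hs.fintype
  have hle : ∀ i : s, (i.1 : T.Opens) ≤ g ⁻¹ᵁ U := fun i x hx => by
    show x ∈ ((g ⁻¹ᵁ U : T.Opens) : Set T)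
    rw [show ((g ⁻¹ᵁ U : T.Opens) : Set T) = _ from hcov]
    exact Set.mem_iUnion₂.2 ⟨i.1, i.2, hx⟩
  letI : ∀ i : s, Algebra Γ(Y, U) Γ(T, (i.1 : T.Opens)) :=
    fun i => (g.appLE U _ (hle i)).hom.toAlgebra
  let ι : Γ(Y, U) →ₗ[Γ(Y, U)] (∀ i : s, Γ(T, (i.1 : T.Opens))) :=
    LinearMap.pi fun i => Algebra.linearMap Γ(Y, U) Γ(T, (i.1 : T.Opens))
  have hι : ∀ b, ι b = 0 → φ b = 0 := by
    intro b hb
    have hb0 : g.app U b = 0 := by
      refine T.sheaf.eq_of_locally_eq' (fun i : s => (i.1 : T.Opens)) (g ⁻¹ᵁ U)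
        (fun i => homOfLE (hle i)) (fun x hx => ?_) _ _ fun i => ?_
      · have hx' : x ∈ ((g ⁻¹ᵁ U : T.Opens) : Set T) := hx
        rw [show ((g ⁻¹ᵁ U : T.Opens) : Set T) = _ from hcov] at hx'
        obtain ⟨i, hi, hxi⟩ := Set.mem_iUnion₂.1 hx'
        exact Opens.mem_iSup.2 ⟨⟨i, hi⟩, hxi⟩
      · erw [map_zero]
        exact congrFun hb i
    show ψ (Y.presheaf.germ U y hy b) = 0
    rw [hinj b hb0, map_zero]
  have hker : ∀ i : s, a ⊗ₜ[Γ(Y, U)] (1 : Γ(T, (i.1 : T.Opens))) = 0 := by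
    intro i
    let B := Γ(T, (i.1 : T.Opens))
    let iL : H ⟶ CommRingCat.of (H ⊗[Γ(Y, U)] B) :=
      CommRingCat.ofHom Algebra.TensorProduct.includeLeftRingHom
    let iR : B ⟶ CommRingCat.of (H ⊗[Γ(Y, U)] B) :=
      CommRingCat.ofHom (Algebra.TensorProduct.includeRight (R := Γ(Y, U)) (A := H) (B := B)).toRingHom
    have hcomm : g.appLE U _ (hle i) ≫ iR = φ ≫ iL := by
      ext b
      exact ((Algebra.TensorProduct.includeRight (R := Γ(Y, U)) (A := H) (B := B)).commutes b)
    let j : Spec (CommRingCat.of (H ⊗[Γ(Y, U)] B)) ⟶ pullback g G :=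
      pullback.lift (Spec.map iR ≫ i.1.2.fromSpec) (Spec.map iL) (by
        rw [Category.assoc, ← IsAffineOpen.SpecMap_appLE_fromSpec g hU i.1.2 (hle i),
          ← Spec.map_comp_assoc, hcomm, Spec.map_comp_assoc])
    have hj : (Spec.map iL).appTop ((Scheme.ΓSpecIso H).inv a) = 0 := by
      have e : j ≫ pullback.snd g G = Spec.map iL := pullback.lift_snd _ _ _
      rw [← e, Scheme.Hom.comp_appTop, CommRingCat.comp_apply, h0, map_zero]
    have e2 := congr($(Scheme.ΓSpecIso_inv_naturality iL) a)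
    simp only [CommRingCat.comp_apply] at e2
    rw [hj] at e2
    have := congrArg (Scheme.ΓSpecIso (CommRingCat.of (H ⊗[Γ(Y, U)] B))).hom e2
    simpa [iL] using this
  have h1 : LinearMap.lTensor H ι (a ⊗ₜ[Γ(Y, U)] (1 : Γ(Y, U))) = 0 := by
    apply (TensorProduct.piRight Γ(Y, U) Γ(Y, U) H fun i : s => Γ(T, (i.1 : T.Opens))).injective
    rw [map_zero]
    funext i
    simp only [LinearMap.lTensor_tmul, TensorProduct.piRight_apply, TensorProduct.piRightHom_tmul]
    show a ⊗ₜ[Γ(Y, U)] (algebraMap Γ(Y, U) Γ(T, (i.1 : T.Opens)) 1) = 0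
    rw [map_one]
    exact hker i
  obtain ⟨k, hk⟩ := (Module.Flat.lTensor_exact H (LinearMap.exact_subtype_ker_map ι) _).1 h1
  have h2 : ∀ k : H ⊗[Γ(Y, U)] LinearMap.ker ι,
      TensorProduct.rid Γ(Y, U) H (LinearMap.lTensor H (LinearMap.ker ι).subtype k) = 0 := by
    intro k
    induction k with
    | zero => simp
    | tmul x b =>
      rw [LinearMap.lTensor_tmul, TensorProduct.rid_tmul, Algebra.smul_def]
      show φ b.1 * x = 0
      rw [hι b.1 b.2, zero_mul]
    | add u v hu hv => rw [map_add, map_add, hu, hv, add_zero]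
  have := h2 k
  rw [hk] at this
  simpa using this

theorem flatAt_of_proper {X Y T : Scheme.{u}} (f : X ⟶ Y) [LocallyOfFiniteType f] (F : X.Modules)
    [Coh.IsQCoh F] (hF : CohB1.IsFT F) (x : X) (g : T ⟶ Y) [IsProper g]
    (hinj : ∀ (V : Y.Opens) (hV : f x ∈ V) (s : Γ(Y, V)), g.app V s = 0 →
      Y.presheaf.germ V (f x) hV s = 0)
    (hflat : ∀ x' : ↑(pullback f g), pullback.fst f g x' = x →
      FlatMod.IsFlatOverAt (pullback.snd f g) ((Scheme.Modules.pullback (pullback.fst f g)).obj F) x') :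
    FlatMod.IsFlatOverAt f F x := by
  obtain ⟨_, ⟨U, hU, rfl⟩, hxU, -⟩ :=
    Y.isBasis_affineOpens.exists_subset_of_mem_open (Set.mem_univ (f x)) isOpen_univ
  obtain ⟨H, _, _, _, _, hH⟩ :=
    Groth.L05.Henselization.exists_isHenselization (Y.presheaf.stalk (f x))
  haveI := hH.henselian
  let ψ : Y.presheaf.stalk (f x) ⟶ CommRingCat.of H :=
    CommRingCat.ofHom (algebraMap (Y.presheaf.stalk (f x)) H)
  haveI : IsLocalHom ψ.hom := ‹IsLocalHom (algebraMap (Y.presheaf.stalk (f x)) H)›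
  let φ : Γ(Y, U) ⟶ CommRingCat.of H := Y.presheaf.germ U (f x) hxU ≫ ψ
  have hψ : ψ.hom.Flat := RingHom.flat_algebraMap_iff.2
    (Groth.Agent.S0509.result (Y.presheaf.stalk (f x)) H).toFlat
  have hφ : φ.hom.Flat := by
    refine RingHom.Flat.comp ?_ hψ
    letI := Y.presheaf.algebra_section_stalk ⟨f x, hxU⟩
    haveI := hU.isLocalization_stalk ⟨f x, hxU⟩
    exact IsLocalization.flat _ (hU.primeIdealOf ⟨f x, hxU⟩).asIdeal.primeCompl
  let G : Spec (CommRingCat.of H) ⟶ Y := Spec.map φ ≫ hU.fromSpec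
  haveI : Flat (Spec.map φ) := (HasRingHomProperty.Spec_iff (P := @Flat)).2 hφ
  haveI : HenselianLocalRing (CommRingCat.of H : Type u) := hH.henselian
  haveI : Flat G := inferInstanceAs (Flat (Spec.map φ ≫ hU.fromSpec))
  have hG : G (closedPoint H) = f x := by
    have e : G = Spec.map ψ ≫ Y.fromSpecStalk (f x) := by
      show Spec.map φ ≫ _ = _
      rw [← hU.fromSpecStalk_eq_fromSpecStalk hxU, IsAffineOpen.fromSpecStalk, Spec.map_comp,
        Category.assoc]
    rw [e, Scheme.Hom.comp_apply]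
    have hc : (Spec.map ψ) (closedPoint H) = closedPoint (Y.presheaf.stalk (f x)) :=
      IsLocalRing.comap_closedPoint ψ.hom
    rw [hc, Scheme.fromSpecStalk_closedPoint]
  obtain ⟨z, hz1, hz2⟩ := Scheme.Pullback.exists_preimage_pullback (f := f) (g := G) x
    (closedPoint H) hG.symm
  let f' := pullback.snd f G
  let j := pullback.fst f G
  let g' := pullback.snd g G
  let F' := (Scheme.Modules.pullback j).obj F
  haveI : Coh.IsQCoh F' := Groth.L16.AffineBC.isQCoh_pullback j F
  rw [← hz1]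
  refine Groth.L09.ModStack.isFlatOverAt_of_flat (f := f) (f' := f') (j := j) (i := G)
    pullback.condition F z ?_
  refine flatAt_of_henselian f' F' (isFT_pullback j F hF) g' g'.isClosedMap
    (fun a ha => eq_zero_of_stk g hU hxU (fun s hs => hinj U hxU s hs) ψ hφ a ha) z hz2 ?_
  intro w hw
  -- the base change of the hypothesis along `T ×_Y Spec H ⟶ T`
  let l : pullback f' g' ⟶ pullback f g :=
    pullback.lift (pullback.fst f' g' ≫ j) (pullback.snd f' g' ≫ pullback.fst g G) (by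
      rw [Category.assoc, Category.assoc, pullback.condition, pullback.condition,
        pullback.condition_assoc])
  have s1 : IsPullback (pullback.fst f' g' ≫ j) (pullback.snd f' g') f (g' ≫ G) :=
    (IsPullback.of_hasPullback f' g').paste_horiz (IsPullback.of_hasPullback f G)
  have hc : g' ≫ G = pullback.fst g G ≫ g := pullback.condition.symm
  rw [hc] at s1
  have s1' : IsPullback (l ≫ pullback.fst f g) (pullback.snd f' g') f (pullback.fst g G ≫ g) := by
    rw [pullback.lift_fst]; exact s1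
  have top := IsPullback.of_right s1' (pullback.lift_snd _ _ _) (IsPullback.of_hasPullback f g)
  have hl : pullback.fst f g (l w) = x := by
    rw [← Scheme.Hom.comp_apply, pullback.lift_fst, Scheme.Hom.comp_apply, hw, hz1]
  have h1 := Groth.L19.FlatTensor.isFlatOverAt_pullback top w _ (hflat (l w) hl)
  refine Groth.L20.FibreModule.isFlatOverAt_congr _ ?_ h1
  exact (Scheme.Modules.pullbackComp l (pullback.fst f g)).app F ≪≫
    (Scheme.Modules.pullbackCongr (pullback.lift_fst _ _ _)).app F ≪≫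
    ((Scheme.Modules.pullbackComp (pullback.fst f' g') j).app F).symm

end Groth.L12.FlatTest
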