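import Groth.Agent.L12.CRingHom
import Groth.Prelude.Def_CAlgX

/-!
# Smoothness of `h_R` and adic formal smoothness
-/

universe u v

open CategoryTheory ArtFun ArtFun.Art IsLocalRing

namespace Groth.L12

variable {Λ : Type u} {k : Type u} [CommRing Λ] [Field k] [Algebra Λ k]

theorem smooth_of_adicFormallySmooth (R : CRing Λ k)
    (h : CAlgX.IsAdicFormallySmooth Λ R.carrier (maximalIdeal R.carrier)) :
    IsSmoothFunctor (hR R.carrier R.res) := by
  refine isSmoothFunctor_of_small fun B A μ hμ (φ : HomSet R.carrier R.res A) => ?_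
  have hker : RingHom.ker μ.toAlgHom ≤ maximalIdeal B := fun b hb => (B.mem_maximalIdeal_iff b).2 (by
    rw [← Art.res_app μ b, RingHom.mem_ker.1 hb, map_zero])
  have hJ : RingHom.ker μ.toAlgHom ^ 2 = ⊥ := by
    rw [pow_two, ← le_bot_iff, ← hμ.isSemismallExt.2]
    exact Ideal.mul_mono_left hker
  let e := Ideal.quotientKerAlgEquivOfSurjective hμ.1
  obtain ⟨N, hN⟩ := isNilpotent_maximalIdeal A
  obtain ⟨χ, hχ⟩ := h B (RingHom.ker μ.toAlgHom) hJ (e.symm.toAlgHom.comp φ.1) ⟨N, fun x hx => by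
    have h1 : φ.1 x ∈ maximalIdeal A ^ N := Ideal.pow_right_mono (homSet_map_max φ) _ (by
      rw [← Ideal.map_pow]; exact Ideal.mem_map_of_mem _ hx)
    rw [hN] at h1
    change e.symm (φ.1 x) = 0
    rw [show φ.1 x = 0 from h1, map_zero]⟩
  have hμχ : ∀ r, μ.toAlgHom (χ r) = φ.1 r := fun r => by
    have h1 : Ideal.Quotient.mk (RingHom.ker μ.toAlgHom) (χ r) = e.symm (φ.1 r) := DFunLike.congr_fun hχ r
    have h2 := congrArg e h1
    rw [e.apply_symm_apply] at h2
    exact h2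
  refine ⟨(⟨χ, AlgHom.ext fun r => ?_⟩ : HomSet R.carrier R.res B), Subtype.ext (AlgHom.ext hμχ)⟩
  rw [AlgHom.comp_apply, ← Art.res_app μ, hμχ]
  exact DFunLike.congr_fun φ.2 r

theorem adicFormallySmooth_of_smooth [IsNoetherianRing Λ] [Module.Finite Λ k] (R : CRing Λ k)
    (h : IsSmoothFunctor (hR R.carrier R.res)) :
    CAlgX.IsAdicFormallySmooth Λ R.carrier (maximalIdeal R.carrier) := by
  intro A _ _ J hJ ψ hψ
  obtain ⟨N, hN⟩ := hψ
  obtain ⟨n, a, hsurj, ha⟩ := exists_generating R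
  obtain ⟨P, x, hx, hP⟩ := exists_free_cring (fun i => R.res (a i)) hsurj
  obtain ⟨q, hq, hqx⟩ := hP.exists_hom R a fun i => (hx i).symm
  have hqs : Function.Surjective q := ha P q hq fun i => ⟨x i, hqx i⟩
  set A₀ := MvPolynomial (ULift.{u} (Fin n)) Λ
  let ev : A₀ →ₐ[Λ] k := MvPolynomial.aeval fun i => R.res (a i)
  set M : Ideal A₀ := RingHom.ker ev with hM
  haveI hMmax : M.IsMaximal := RingHom.ker_isMaximal_of_surjective ev.toRingHom hsurj
  set I : Ideal A₀ := M ^ (2 * N + 1 + 1) with hI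
  have hIM : I ≤ M := Ideal.pow_le_self (by omega)
  haveI : Nontrivial (A₀ ⧸ I) := Ideal.Quotient.nontrivial_iff.2 fun e =>
    hMmax.ne_top (top_le_iff.1 (e ▸ hIM))
  haveI : IsLocalRing (A₀ ⧸ I) := by
    refine IsLocalRing.of_unique_max_ideal ⟨M.map (Ideal.Quotient.mk I), ?_, fun P' hP' => ?_⟩
    · exact Ideal.IsMaximal.map_of_surjective_of_ker_le Ideal.Quotient.mk_surjective (by rwa [Ideal.mk_ker])
    · have h1 : M ≤ P'.comap (Ideal.Quotient.mk I) := by
        haveI := hP'.isPrime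
        refine (Ideal.IsPrime.comap (Ideal.Quotient.mk I)).le_of_pow_le (n := 2 * N + 1 + 1) fun z hz => ?_
        rw [Ideal.mem_comap, Ideal.Quotient.eq_zero_iff_mem.2 hz]
        exact zero_mem _
      have h2 := hMmax.eq_of_le (Ideal.comap_ne_top _ hP'.ne_top) h1
      rw [h2, Ideal.map_comap_of_surjective _ Ideal.Quotient.mk_surjective]
  haveI : IsArtinianRing (A₀ ⧸ I) := by
    rw [isArtinianRing_iff_isNilpotent_maximalIdeal]
    refine ⟨2 * N + 1 + 1, ?_⟩
    rw [← IsLocalRing.eq_maximalIdeal (Ideal.IsMaximal.map_of_surjective_of_ker_le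
      Ideal.Quotient.mk_surjective (by rwa [Ideal.mk_ker] : RingHom.ker (Ideal.Quotient.mk I) ≤ M)),
      ← Ideal.map_pow, Ideal.zero_eq_bot]
    exact Ideal.map_quotient_self _
  let resE : (A₀ ⧸ I) →ₐ[Λ] k := Ideal.Quotient.liftₐ I ev fun z hz => hIM hz
  have hresE : Function.Surjective resE := fun c => by
    obtain ⟨z, hz⟩ := hsurj c
    exact ⟨Ideal.Quotient.mk I z, hz⟩
  let E : Art Λ k := Art.of (A₀ ⧸ I) resE hresE
  let T := R.trunc (2 * N + 1)
  let evT : A₀ →ₐ[Λ] T := MvPolynomial.aeval fun i => (R.truncHom (2 * N + 1)).1 (a i)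
  have hevT : T.res.comp evT = ev := MvPolynomial.algHom_ext fun i => by
    rw [AlgHom.comp_apply]
    simp only [evT, ev, MvPolynomial.aeval_X]
    exact DFunLike.congr_fun (R.truncHom (2 * N + 1)).2 (a i)
  have hIT : ∀ z ∈ I, evT z = 0 := fun z hz => by
    have h1 : M.map evT ≤ maximalIdeal T := Ideal.map_le_iff_le_comap.2 fun w hw => by
      rw [Ideal.mem_comap, T.mem_maximalIdeal_iff, ← AlgHom.comp_apply, hevT]
      exact hw
    have h2 : evT z ∈ maximalIdeal T ^ (2 * N + 1 + 1) := Ideal.pow_right_mono h1 _ (by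
      rw [← Ideal.map_pow]; exact Ideal.mem_map_of_mem _ hz)
    have h3 : maximalIdeal T ^ (2 * N + 1 + 1) = ⊥ := by
      refine le_bot_iff.1 ((Ideal.pow_right_mono (CRing.maximalIdeal_quot_le R (2 * N + 1)) _).trans ?_)
      exact (le_of_eq ((Ideal.map_pow _ _ _).symm.trans (Ideal.map_quotient_self _)))
    rw [h3] at h2
    exact h2
  let π : E ⟶ T := ⟨Ideal.Quotient.liftₐ I evT hIT, by
    refine AlgHom.ext fun z => ?_
    obtain ⟨z, rfl⟩ := Ideal.Quotient.mk_surjective z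
    exact DFunLike.congr_fun hevT z⟩
  obtain ⟨f, hf⟩ := hP.lift E (fun i => Ideal.Quotient.mk I (MvPolynomial.X i)) fun i => by
    change ev (MvPolynomial.X i) = P.res (x i)
    rw [hx]
    exact MvPolynomial.aeval_X _ i
  have hπf : HomSet.map π f = ⟨(R.truncHom (2 * N + 1)).1.comp q,
      by rw [← AlgHom.comp_assoc, (R.truncHom (2 * N + 1)).2, hq]⟩ := hP.ext T _ _ fun i => by
    change π (f.1 (x i)) = (R.truncHom (2 * N + 1)).1 (q (x i))
    rw [hf, hqx]
    exact MvPolynomial.aeval_X _ i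
  have hπs : Function.Surjective π := fun t => by
    obtain ⟨r, rfl⟩ := truncHom_surjective R (2 * N + 1) t
    obtain ⟨p, rfl⟩ := hqs r
    exact ⟨f.1 p, DFunLike.congr_fun (congrArg Subtype.val hπf) p⟩
  obtain ⟨(s : HomSet R.carrier R.res E), (hs : HomSet.map π s = R.truncHom (2 * N + 1))⟩ :=
    h π hπs (R.truncHom (2 * N + 1))
  choose b hb using fun i => Ideal.Quotient.mk_surjective (ψ (a i))
  let G : A₀ →ₐ[Λ] A := MvPolynomial.aeval b
  have hG : ∀ (z : A₀) (r : R.carrier), evT z = (R.truncHom (2 * N + 1)).1 r →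
      Ideal.Quotient.mk J (G z) = ψ r := fun z r e => by
    have h1 : (Ideal.Quotient.mkₐ Λ J).comp G = ψ.comp (MvPolynomial.aeval a) := MvPolynomial.algHom_ext fun i => by
      simp only [AlgHom.comp_apply, G, MvPolynomial.aeval_X]
      exact hb i
    have h2 : evT = (R.truncHom (2 * N + 1)).1.comp (MvPolynomial.aeval a) := MvPolynomial.algHom_ext fun i => by
      simp only [AlgHom.comp_apply, evT, MvPolynomial.aeval_X]
    refine (DFunLike.congr_fun h1 z).trans ?_
    rw [h2] at e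
    have h3 : MvPolynomial.aeval a z - r ∈ maximalIdeal R.carrier ^ (2 * N + 1 + 1) := Ideal.Quotient.eq.1 e
    rw [AlgHom.comp_apply, ← sub_eq_zero, ← map_sub]
    exact hN _ (Ideal.pow_le_pow_right (by omega) h3)
  have hGI : ∀ z ∈ I, G z = 0 := fun z hz => by
    have hMJ : (M ^ N).map G ≤ J := Ideal.map_le_iff_le_comap.2 fun w hw => by
      rw [Ideal.mem_comap, ← Ideal.Quotient.eq_zero_iff_mem]
      have hwR : MvPolynomial.aeval a w ∈ maximalIdeal R.carrier ^ N := by
        refine Ideal.pow_right_mono (I := M.map (MvPolynomial.aeval a)) (Ideal.map_le_iff_le_comap.2 fun v hv => ?_) N ?_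
        · rw [Ideal.mem_comap, CRing.mem_maximalIdeal_iff, ← AlgHom.comp_apply]
          have : R.res.comp (MvPolynomial.aeval a) = ev := MvPolynomial.algHom_ext fun i => by
            simp only [AlgHom.comp_apply, ev, MvPolynomial.aeval_X]
          rw [this]
          exact hv
        · rw [← Ideal.map_pow]
          exact Ideal.mem_map_of_mem _ hw
      have h1 : (Ideal.Quotient.mkₐ Λ J).comp G = ψ.comp (MvPolynomial.aeval a) := MvPolynomial.algHom_ext fun i => by
        simp only [AlgHom.comp_apply, G, MvPolynomial.aeval_X]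
        exact hb i
      exact (DFunLike.congr_fun h1 w).trans (hN _ hwR)
    have h1 : G z ∈ J ^ 2 := by
      refine Ideal.pow_right_mono hMJ 2 ?_
      rw [← Ideal.map_pow, ← pow_mul]
      exact Ideal.mem_map_of_mem _ (Ideal.pow_le_pow_right (by omega) hz)
    rw [hJ] at h1
    exact h1
  refine ⟨(Ideal.Quotient.liftₐ I G hGI).comp s.1, AlgHom.ext fun r => ?_⟩
  obtain ⟨z, hz⟩ := Ideal.Quotient.mk_surjective (I := I) (s.1 r)
  change Ideal.Quotient.mk J (Ideal.Quotient.liftₐ I G hGI (s.1 r)) = ψ r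
  rw [← hz]
  refine hG z r ?_
  have h1 : π (s.1 r) = (R.truncHom (2 * N + 1)).1 r := DFunLike.congr_fun (congrArg Subtype.val hs) r
  rw [← hz] at h1
  exact h1

theorem smooth_iff_of_versal {F : Art Λ k ⥤ Type v} (h0 : H0 F) (R : CRing Λ k)
    (ξ : Family R.carrier R.res F) (hξ : IsVersal ξ) :
    IsSmoothFunctor F ↔ IsSmoothFunctor (hR R.carrier R.res) := by
  constructor
  · intro hF B A μ hμ (φ : HomSet R.carrier R.res A)
    obtain ⟨y, hy⟩ := hF μ hμ (ξ.app A φ)
    obtain ⟨ψ, hψ, -⟩ := hξ μ hμ φ y hy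
    exact ⟨ψ, hψ⟩
  · intro hR' B A μ hμ x
    obtain ⟨φ, rfl⟩ := family_surjective ξ hξ h0 A x
    obtain ⟨(ψ : HomSet R.carrier R.res B), (hψ : HomSet.map μ ψ = φ)⟩ := hR' μ hμ φ
    exact ⟨ξ.app B ψ, by rw [← ξ.natural, hψ]⟩

end Groth.L12
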