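import Groth.Agent.L12.CRingBasic

/-!
# Families from compatible systems
-/

universe u v w

open CategoryTheory ArtFun ArtFun.Art IsLocalRing

namespace Groth.L12

variable {Λ : Type u} {k : Type u} [CommRing Λ] [Field k] [Algebra Λ k]
variable {R : Type u} [CommRing R] [Algebra Λ R] {resR : R →ₐ[Λ] k} {F : Art Λ k ⥤ Type v}

/-- a cofinal tower of quotients with compatible elements gives exactly one family -/
theorem existsUnique_family_of_tower (A : ℕ → Art Λ k) (π : ∀ n, HomSet R resR (A n))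
    (hπ : ∀ n, Function.Surjective (π n).1) (f : ∀ n, A (n + 1) ⟶ A n)
    (hf : ∀ n, HomSet.map (f n) (π (n + 1)) = π n) (η : ∀ n, F.obj (A n))
    (hη : ∀ n, F.map (f n) (η (n + 1)) = η n)
    (hcof : ∀ (B : Art Λ k) (φ : HomSet R resR B), ∃ (n : ℕ) (ψ : A n ⟶ B), HomSet.map ψ (π n) = φ) :
    ∃! ξ : Family R resR F, ∀ n, ξ.app (A n) (π n) = η n := by
  have htrans : ∀ {m n : ℕ}, n ≤ m → ∃ t : A m ⟶ A n, HomSet.map t (π m) = π n ∧ F.map t (η m) = η n := by
    intro m n hnm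
    induction m, hnm using Nat.le_induction with
    | base => exact ⟨𝟙 _, Subtype.ext (AlgHom.ext fun _ => rfl), map_id' F _⟩
    | succ m hnm ih =>
      obtain ⟨t, ht₁, ht₂⟩ := ih
      exact ⟨f m ≫ t, by rw [← HomSet.map_map, hf, ht₁], by rw [← map_map, hη, ht₂]⟩
  have hcancel : ∀ {n : ℕ} {B : Art Λ k} {ψ ψ' : A n ⟶ B},
      HomSet.map ψ (π n) = HomSet.map ψ' (π n) → ψ = ψ' := fun h => hom_ext fun e => by
    obtain ⟨a, rfl⟩ := hπ _ e
    exact DFunLike.congr_fun (congrArg Subtype.val h) a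
  choose N ψ hψ using hcof
  have hwd : ∀ {B : Art Λ k} (φ : HomSet R resR B) (n : ℕ) (χ : A n ⟶ B),
      HomSet.map χ (π n) = φ → F.map (ψ B φ) (η (N B φ)) = F.map χ (η n) := by
    intro B φ n χ hχ
    obtain ⟨t₁, ht₁, hu₁⟩ := htrans (le_max_left n (N B φ))
    obtain ⟨t₂, ht₂, hu₂⟩ := htrans (le_max_right n (N B φ))
    rw [← hu₁, ← hu₂, map_map, map_map]
    congr 2
    rw [hcancel (ψ := t₂ ≫ ψ B φ) (ψ' := t₁ ≫ χ)]
    rw [← HomSet.map_map, ← HomSet.map_map, ht₁, ht₂, hψ, hχ]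
  refine ⟨⟨fun B φ => F.map (ψ B φ) (η (N B φ)), fun {B C} g φ => ?_⟩, fun n => ?_, fun ξ hξ => ?_⟩
  · change F.map (ψ C _) _ = F.map g (F.map (ψ B φ) (η (N B φ)))
    rw [map_map]
    exact hwd _ _ _ (by rw [← HomSet.map_map, hψ])
  · change F.map (ψ (A n) (π n)) (η (N (A n) (π n))) = η n
    rw [hwd (π n) n (𝟙 _) (Subtype.ext (AlgHom.ext fun _ => rfl)), map_id']
  · have : ξ.app = fun B φ => F.map (ψ B φ) (η (N B φ)) := by
      funext B φ
      rw [← hξ (N B φ), ← ξ.natural, hψ]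
    cases ξ
    congr

theorem bijective_toFormalElt (R : CRing Λ k) (F : Art Λ k ⥤ Type v) :
    Function.Bijective (fun ξ : Family R.carrier R.res F => ξ.toFormalElt) := by
  have h := fun η : FormalElt F R => existsUnique_family_of_tower (fun n => R.trunc n) (fun n => R.truncHom n)
    (truncHom_surjective R) (fun n => R.truncMap n) (CRing.truncMap_truncHom R) η.elt η.compat
    (fun B φ => by
      obtain ⟨N, hN⟩ := exists_trunc_factor R φ
      exact ⟨N, hN N le_rfl⟩)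
  refine ⟨fun ξ ξ' e => (h ξ'.toFormalElt).unique (fun n => ?_) (fun n => rfl), fun η => ?_⟩
  · exact congrArg (fun u : FormalElt F R => u.elt n) e
  · obtain ⟨ξ, hξ, -⟩ := h η
    exact ⟨ξ, FormalElt.ext' hξ⟩

lemma family_eq_of_toFormalElt {R : CRing Λ k} {F : Art Λ k ⥤ Type v} {ξ ξ' : Family R.carrier R.res F}
    (h : ξ.toFormalElt = ξ'.toFormalElt) : ξ = ξ' :=
  (bijective_toFormalElt R F).1 h

end Groth.L12
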