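import Groth.Agent.L12.CRingBasic

/-!
# Free coefficient rings
-/

universe u v w

open CategoryTheory ArtFun ArtFun.Art IsLocalRing

namespace Groth.L12

variable {Λ : Type u} {k : Type u} [CommRing Λ] [Field k] [Algebra Λ k]

/-- `P` is the free coefficient ring on generators `x` -/
structure IsFreeCR (P : CRing Λ k) {ι : Type u} (x : ι → P.carrier) : Prop where
  lift : ∀ (A : Art Λ k) (a : ι → A), (∀ i, A.res (a i) = P.res (x i)) →
    ∃ φ : HomSet P.carrier P.res A, ∀ i, φ.1 (x i) = a i
  ext : ∀ (A : Art Λ k) (φ ψ : HomSet P.carrier P.res A), (∀ i, φ.1 (x i) = ψ.1 (x i)) → φ = ψ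

lemma IsFreeCR.smooth {P : CRing Λ k} {ι : Type u} {x : ι → P.carrier} (h : IsFreeCR P x) :
    IsSmoothFunctor (hR P.carrier P.res) := by
  intro B A μ hμ (φ : HomSet P.carrier P.res A)
  choose b hb using fun i => hμ (φ.1 (x i))
  obtain ⟨ψ, hψ⟩ := h.lift B b fun i => by
    rw [← Art.res_app μ, hb, ← AlgHom.comp_apply, φ.2]
  exact ⟨ψ, h.ext A _ _ fun i => (congrArg μ.toAlgHom (hψ i)).trans (hb i)⟩

theorem exists_free_cring [IsNoetherianRing Λ] {ι : Type u} [Finite ι] (c : ι → k)
    (hc : Function.Surjective (MvPolynomial.aeval c : MvPolynomial ι Λ →ₐ[Λ] k)) :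
    ∃ (P : CRing Λ k) (x : ι → P.carrier), (∀ i, P.res (x i) = c i) ∧ IsFreeCR P x := by
  set A := MvPolynomial ι Λ
  set M : Ideal A := RingHom.ker (MvPolynomial.aeval c : A →ₐ[Λ] k) with hM
  have hfg : M.FG := IsNoetherian.noetherian M
  haveI hMmax : M.IsMaximal := RingHom.ker_isMaximal_of_surjective (MvPolynomial.aeval c : A →ₐ[Λ] k).toRingHom hc
  haveI : IsNoetherianRing (AdicCompletion M A) := isNoetherianRing_completion M
  haveI hmax : (M.map (algebraMap A (AdicCompletion M A))).IsMaximal :=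
    AdicCompletion.isMaximal_map_of_le _ _ le_rfl hfg
  haveI : IsAdicComplete (M.map (algebraMap A (AdicCompletion M A))) (AdicCompletion M A) :=
    AdicCompletion.isAdicComplete_self M hfg
  haveI : IsLocalRing (AdicCompletion M A) :=
    isLocalRing_of_isAdicComplete_maximal (M.map (algebraMap A (AdicCompletion M A)))
  let r : AdicCompletion M A →ₐ[Λ] k :=
    (Ideal.Quotient.liftₐ M (MvPolynomial.aeval c : A →ₐ[Λ] k) fun a ha => ha).comp
      ((AdicCompletion.evalOneₐ M).restrictScalars Λ)
  have hr : ∀ a : A, r (algebraMap A (AdicCompletion M A) a) = MvPolynomial.aeval c a := fun a => by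
    change Ideal.Quotient.liftₐ M (MvPolynomial.aeval c : A →ₐ[Λ] k) (fun a ha => ha)
      (AdicCompletion.evalOneₐ M (algebraMap A (AdicCompletion M A) a)) = _
    rw [AlgHom.commutes]
    rfl
  let P : CRing Λ k :=
    { carrier := AdicCompletion M A
      res := r
      res_surjective := fun t => by
        obtain ⟨a, rfl⟩ := hc t
        exact ⟨_, hr a⟩
      isAdicComplete := by
        rw [← IsLocalRing.eq_maximalIdeal hmax]
        infer_instance }
  refine ⟨P, fun i => algebraMap A (AdicCompletion M A) (MvPolynomial.X i), fun i => ?_, ?_, ?_⟩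
  · change r _ = _
    rw [hr, MvPolynomial.aeval_X]
  · intro B b hb
    have hMB : M.map (MvPolynomial.aeval b : A →ₐ[Λ] B) ≤ maximalIdeal B := by
      refine Ideal.map_le_iff_le_comap.2 fun a ha => ?_
      rw [Ideal.mem_comap, B.mem_maximalIdeal_iff, ← AlgHom.comp_apply, MvPolynomial.comp_aeval]
      have : (fun i => B.res (b i)) = c := funext fun i => (hb i).trans (by
        change r _ = _
        rw [hr, MvPolynomial.aeval_X])
      rw [this]
      exact ha
    obtain ⟨N, hN⟩ := isNilpotent_maximalIdeal B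
    have h0 : ∀ a ∈ M ^ (N + 1), MvPolynomial.aeval b a = (0 : B) := fun a ha => by
      have hmem : (MvPolynomial.aeval b : A →ₐ[Λ] B) a ∈ maximalIdeal B ^ N :=
        Ideal.pow_le_pow_right (Nat.le_succ N) (Ideal.pow_right_mono hMB _
          ((Ideal.map_pow (MvPolynomial.aeval b : A →ₐ[Λ] B) M (N + 1)) ▸
            Ideal.mem_map_of_mem (MvPolynomial.aeval b : A →ₐ[Λ] B) ha))
      rwa [hN] at hmem
    let f : AdicCompletion M A →ₐ[Λ] B :=
      (Ideal.Quotient.liftₐ (M ^ (N + 1)) (MvPolynomial.aeval b) h0).comp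
        ((AdicCompletion.evalₐ M (N + 1)).restrictScalars Λ)
    have hf : ∀ a : A, f (algebraMap A _ a) = MvPolynomial.aeval b a := fun a => by
      change Ideal.Quotient.liftₐ (M ^ (N + 1)) (MvPolynomial.aeval b : A →ₐ[Λ] B) h0
        (AdicCompletion.evalₐ M (N + 1) (algebraMap A (AdicCompletion M A) a)) = _
      rw [AlgHom.commutes]
      rfl
    refine ⟨⟨f, AlgHom.ext fun (z : AdicCompletion M A) => ?_⟩,
      fun i => (hf _).trans (MvPolynomial.aeval_X _ _)⟩
    obtain ⟨a, ha⟩ := Ideal.Quotient.mk_surjective (AdicCompletion.evalOneₐ M z)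
    have hz : z - algebraMap A _ a ∈ maximalIdeal (AdicCompletion M A) := by
      rw [← IsLocalRing.eq_maximalIdeal hmax, ← AdicCompletion.ker_evalOneₐ_eq_map M hfg, RingHom.mem_ker]
      change AdicCompletion.evalOneₐ M (z - algebraMap A _ a) = 0
      rw [map_sub, AlgHom.commutes, ← ha]
      exact sub_self _
    have hfz : B.res (f (z - algebraMap A _ a)) = 0 := by
      rw [← B.mem_maximalIdeal_iff]
      rw [← IsLocalRing.eq_maximalIdeal hmax] at hz
      have hcomp : (f : AdicCompletion M A →+* B).comp (algebraMap A (AdicCompletion M A)) =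
          (MvPolynomial.aeval b : A →ₐ[Λ] B) := RingHom.ext hf
      have h1 := Ideal.mem_map_of_mem (f : AdicCompletion M A →+* B) hz
      rw [Ideal.map_map, hcomp] at h1
      exact hMB h1
    have hPz : r (z - algebraMap A _ a) = 0 := (CRing.mem_maximalIdeal_iff P _).1 hz
    rw [map_sub, map_sub, sub_eq_zero] at hfz
    rw [map_sub, sub_eq_zero] at hPz
    change B.res (f z) = r z
    rw [hfz, hPz, hf, hr, ← AlgHom.comp_apply, MvPolynomial.comp_aeval]
    exact congrArg (fun g => MvPolynomial.aeval g a) (funext fun i => (hb i).trans (by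
      change r _ = _
      rw [hr, MvPolynomial.aeval_X]))
  · intro B φ ψ h
    obtain ⟨N, hN⟩ := isNilpotent_maximalIdeal B
    have hker : ∀ (χ : HomSet P.carrier P.res B), ∀ z ∈ maximalIdeal P.carrier ^ N, χ.1 z = 0 := fun χ z hz => by
      have := Ideal.pow_right_mono (homSet_map_max χ) N ((Ideal.map_pow χ.1 _ N) ▸ Ideal.mem_map_of_mem χ.1 hz)
      rwa [hN] at this
    have hpoly : ∀ a : A, φ.1 (algebraMap A (AdicCompletion M A) a) = ψ.1 (algebraMap A (AdicCompletion M A) a) := by
      intro a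
      exact DFunLike.congr_fun (MvPolynomial.algHom_ext (f := φ.1.comp (IsScalarTower.toAlgHom Λ A (AdicCompletion M A)))
        (g := ψ.1.comp (IsScalarTower.toAlgHom Λ A (AdicCompletion M A))) h) a
    refine Subtype.ext (AlgHom.ext fun (z : AdicCompletion M A) => ?_)
    obtain ⟨a, ha⟩ := Ideal.Quotient.mk_surjective (AdicCompletion.eval M A N z)
    have hz : z - algebraMap A _ a ∈ maximalIdeal P.carrier ^ N := by
      have hk : z - algebraMap A (AdicCompletion M A) a ∈ (AdicCompletion.eval M A N).ker := by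
        rw [LinearMap.mem_ker, map_sub, sub_eq_zero, ← ha]
        rfl
      rw [← AdicCompletion.pow_smul_top_eq_ker_eval hfg, Ideal.smul_top_eq_map,
        Submodule.restrictScalars_mem, Ideal.map_pow, IsLocalRing.eq_maximalIdeal hmax] at hk
      exact hk
    have e₁ : φ.1 (z - algebraMap A (AdicCompletion M A) a) = 0 := hker φ _ hz
    have e₂ : ψ.1 (z - algebraMap A (AdicCompletion M A) a) = 0 := hker ψ _ hz
    have e₁' := (map_sub φ.1 z (algebraMap A (AdicCompletion M A) a)).symm.trans e₁
    have e₂' := (map_sub ψ.1 z (algebraMap A (AdicCompletion M A) a)).symm.trans e₂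
    rw [sub_eq_zero] at e₁' e₂'
    exact e₁'.trans ((hpoly a).trans e₂'.symm)

/-- finitely many generators of `k` over `Λ` -/
lemma exists_generators [Module.Finite Λ k] :
    ∃ (n : ℕ) (c : ULift.{u} (Fin n) → k),
      Function.Surjective (MvPolynomial.aeval c : MvPolynomial (ULift.{u} (Fin n)) Λ →ₐ[Λ] k) := by
  obtain ⟨n, s, hs⟩ := Module.Finite.exists_fin (R := Λ) (M := k)
  refine ⟨n, fun i => s i.down, fun t => ?_⟩
  have ht : t ∈ Submodule.span Λ (Set.range s) := hs ▸ Submodule.mem_top
  obtain ⟨a, rfl⟩ := (Submodule.mem_span_range_iff_exists_fun Λ).1 ht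
  exact ⟨∑ i, MvPolynomial.C (a i) * MvPolynomial.X ⟨i⟩, by simp [Algebra.smul_def]⟩

end Groth.L12
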