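import Groth.Agent.S18153
import Mathlib.RingTheory.Etale.Kaehler
import Mathlib.RingTheory.Kaehler.Polynomial
import Mathlib.LinearAlgebra.Matrix.Block
import Mathlib.RingTheory.MvPolynomial.Ideal
import Mathlib.RingTheory.Noetherian.Nilpotent
import Mathlib.RingTheory.Nullstellensatz
import Mathlib.RingTheory.Jacobson.Ring

/-! # Non-vanishing of the Jacobian of a divided Frobenius lift -/

universe u v

open MvPolynomial
open scoped TensorProduct

noncomputable section

namespace Groth.L12.FrobJac

section
open KaehlerDifferential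

/-- Formally smooth algebras with coordinates are formally étale over the polynomial ring. -/
theorem formallyEtale_mvPolynomial {A : Type u} {B : Type v} [CommRing A] [CommRing B] [Algebra A B]
    [Algebra.FormallySmooth A B] {σ : Type} (z : σ → B)
    (b : Module.Basis σ B (Ω[B⁄A])) (hb : ∀ i, b i = KaehlerDifferential.D A B (z i))
    [Algebra (MvPolynomial σ A) B] [IsScalarTower A (MvPolynomial σ A) B]
    (hz : ∀ i, algebraMap (MvPolynomial σ A) B (MvPolynomial.X i) = z i) :
    Algebra.FormallyEtale (MvPolynomial σ A) B := by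
  let b₀ := (KaehlerDifferential.mvPolynomialBasis A σ).baseChange B
  have hmap : KaehlerDifferential.mapBaseChange A (MvPolynomial σ A) B =
      (b₀.equiv b (Equiv.refl σ)).toLinearMap := by
    refine b₀.ext fun i => ?_
    have hX : KaehlerDifferential.mvPolynomialBasis A σ i =
        KaehlerDifferential.D A _ (MvPolynomial.X i) := by
      apply (KaehlerDifferential.mvPolynomialBasis A σ).repr.injective
      rw [Module.Basis.repr_self, KaehlerDifferential.mvPolynomialBasis_repr_D_X]
    rw [LinearEquiv.coe_coe, Module.Basis.equiv_apply, Equiv.refl_apply, Module.Basis.baseChange_apply,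
      KaehlerDifferential.mapBaseChange_tmul, one_smul, hX, KaehlerDifferential.map_D, hz, hb]
  have hbij : Function.Bijective (KaehlerDifferential.mapBaseChange A (MvPolynomial σ A) B) := by
    rw [hmap]; exact LinearEquiv.bijective _
  haveI hΩ : Subsingleton (Ω[B⁄MvPolynomial σ A]) := by
    refine subsingleton_of_forall_eq 0 fun x => ?_
    obtain ⟨y, rfl⟩ := KaehlerDifferential.map_surjective A (MvPolynomial σ A) B x
    obtain ⟨w, rfl⟩ := hbij.2 y
    exact (KaehlerDifferential.exact_mapBaseChange_map A (MvPolynomial σ A) B _).2 ⟨w, rfl⟩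
  haveI hH : Subsingleton (Algebra.H1Cotangent (MvPolynomial σ A) B) := by
    refine subsingleton_of_forall_eq 0 fun x => ?_
    have h1 : Algebra.H1Cotangent.δ A (MvPolynomial σ A) B x = 0 := by
      apply hbij.1
      rw [map_zero]
      exact (Algebra.H1Cotangent.exact_δ_mapBaseChange A (MvPolynomial σ A) B _).2 ⟨x, rfl⟩
    obtain ⟨y, rfl⟩ := (Algebra.H1Cotangent.exact_map_δ A (MvPolynomial σ A) B x).1 h1
    rw [Subsingleton.elim y 0, map_zero]
  exact ⟨hΩ, hH⟩

end

variable (p : ℕ) [Fact p.Prime] {k : Type u} [Field k] [CharP k p] {n : ℕ}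

theorem coeff_minor_eq_zero (s : Finset (Fin n)) (hs : s ≠ Finset.univ) (F : Fin n → MvPolynomial (Fin n) k) :
    coeff (∑ i ∈ sᶜ, Finsupp.single i (p - 1))
      (Matrix.toSquareBlockProp (Matrix.of fun i j => pderiv j (F i)) fun i => ¬ i ∈ s).det = 0 := by
  classical
  let T := {i : Fin n // ¬ i ∈ s}
  let em : Fin (Fintype.card T) ≃ T := (Fintype.equivFin T).symm
  have hm : 0 < Fintype.card T := by
    obtain ⟨i, hi⟩ : ∃ i, i ∉ s := by
      by_contra h; push Not at h; exact hs (Finset.eq_univ_of_forall h)
    exact Fintype.card_pos_iff.2 ⟨⟨i, hi⟩⟩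
  let e : Fin n ≃ Fin (Fintype.card T) ⊕ {i : Fin n // i ∈ s} :=
    ((Equiv.sumCongr em (Equiv.refl _)).trans ((Equiv.sumComm _ _).trans
      (Equiv.sumCompl fun i => i ∈ s))).symm
  have he : ∀ a, e (em a).1 = Sum.inl a := fun a => by
    rw [← Equiv.eq_symm_apply]; simp [e]; rfl
  have hres := Groth.Agent.S18153.result p k hm {i : Fin n // i ∈ s}
    (fun a => rename e (F (em a).1))
  have hmat : (Matrix.of fun a b : Fin (Fintype.card T) => pderiv (Sum.inl b) (rename e (F (em a).1))) =
      ((Matrix.toSquareBlockProp (Matrix.of fun i j => pderiv j (F i)) fun i => ¬ i ∈ s).submatrix em em).map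
        (rename e) := by
    ext a b : 1
    simp only [Matrix.of_apply, Matrix.map_apply, Matrix.submatrix_apply, Matrix.toSquareBlockProp_def,
      ← he b, pderiv_rename e.injective]
  rw [hmat, show (rename e : MvPolynomial (Fin n) k → _) =
      ((rename e).toRingHom : MvPolynomial (Fin n) k → _) from rfl, ← RingHom.mapMatrix_apply, ← RingHom.map_det,
    Matrix.det_submatrix_equiv_self] at hres
  have hexp : Finsupp.mapDomain e (∑ i ∈ sᶜ, Finsupp.single i (p - 1)) =
      Finsupp.sumElim (Finsupp.equivFunOnFinite.symm fun _ : Fin (Fintype.card T) => p - 1)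
        (0 : {i : Fin n // i ∈ s} →₀ ℕ) := by
    ext x
    obtain ⟨i, rfl⟩ := e.surjective x
    rw [Finsupp.mapDomain_apply e.injective, Finsupp.finsetSum_apply]
    simp only [Finsupp.single_apply, Finset.sum_ite_eq']
    by_cases hi : i ∈ s
    · have : e i = Sum.inr ⟨i, hi⟩ := by rw [← Equiv.eq_symm_apply]; simp [e]; rfl
      simp [this, hi]
    · have : e i = Sum.inl (em.symm ⟨i, hi⟩) := by
        have := he (em.symm ⟨i, hi⟩); simpa using this
      simp [this, hi]
  rw [← hexp] at hres
  exact (coeff_rename_mapDomain e e.injective _ _).symm.trans hres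

theorem coeff_det_eq_one (F : Fin n → MvPolynomial (Fin n) k) :
    coeff (∑ i, Finsupp.single i (p - 1))
      (Matrix.of fun i j : Fin n => (if i = j then X i ^ (p - 1) else 0) + pderiv j (F i)).det = 1 := by
  classical
  let Dm : Matrix (Fin n) (Fin n) (MvPolynomial (Fin n) k) := Matrix.diagonal fun i => X i ^ (p - 1)
  let J : Matrix (Fin n) (Fin n) (MvPolynomial (Fin n) k) := Matrix.of fun i j => pderiv j (F i)
  have hsum : (Matrix.of fun i j : Fin n => (if i = j then X i ^ (p - 1) else 0) + pderiv j (F i)) =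
      Dm + J := by
    ext i j : 1
    simp [Dm, J, Matrix.diagonal_apply]
  rw [hsum]
  change coeff _ ((Matrix.detRowAlternating :
    (Fin n → MvPolynomial (Fin n) k) [⋀^Fin n]→ₗ[MvPolynomial (Fin n) k] _).toMultilinearMap (Dm + J)) = 1
  have hadd := (Matrix.detRowAlternating :
    (Fin n → MvPolynomial (Fin n) k) [⋀^Fin n]→ₗ[MvPolynomial (Fin n) k] _).toMultilinearMap.map_add_univ Dm J
  erw [hadd]
  rw [coeff_sum]
  refine (Finset.sum_eq_single (Finset.univ : Finset (Fin n)) ?_ (by simp)).trans ?_
  · intro s _ hs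
    change coeff _ (Matrix.det (s.piecewise Dm J : Fin n → Fin n → MvPolynomial (Fin n) k)) = 0
    rw [Matrix.twoBlockTriangular_det' _ (fun i => i ∈ s) (fun i hi j hj => by
      have : i ≠ j := fun h => hj (h ▸ hi)
      simp [Finset.piecewise_eq_of_mem, hi, Dm, this])]
    have h1 : Matrix.toSquareBlockProp (s.piecewise Dm J : Matrix (Fin n) (Fin n) _) (fun i => i ∈ s) =
        Matrix.diagonal fun i : {i // i ∈ s} => (X i.1 : MvPolynomial (Fin n) k) ^ (p - 1) := by
      ext a b : 1
      rw [Matrix.toSquareBlockProp_def, Matrix.of_apply, Finset.piecewise_eq_of_mem _ _ _ a.2]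
      simp only [Dm, Matrix.diagonal_apply, Subtype.ext_iff]
    have h2 : Matrix.toSquareBlockProp (s.piecewise Dm J : Matrix (Fin n) (Fin n) _) (fun i => ¬ i ∈ s) =
        Matrix.toSquareBlockProp J (fun i => ¬ i ∈ s) := by
      ext a b : 1
      simp [Matrix.toSquareBlockProp_def, Finset.piecewise_eq_of_notMem, a.2]
    rw [h2, h1, Subsingleton.elim (Subtype.fintype fun i => i ∈ s) (Finset.Subtype.fintype s),
      Matrix.det_diagonal]
    rw [← Finset.prod_subtype s (p := fun x => x ∈ s) (fun _ => Iff.rfl)
      (fun i => (X i : MvPolynomial (Fin n) k) ^ (p - 1))]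
    have hmon : ∏ i ∈ s, (X i : MvPolynomial (Fin n) k) ^ (p - 1) =
        monomial (∑ i ∈ s, Finsupp.single i (p - 1)) 1 := by
      simp only [X_pow_eq_monomial]
      rw [monomial_sum_one]
    rw [hmon, ← Finset.sum_add_sum_compl s, coeff_monomial_mul, one_mul]
    exact coeff_minor_eq_zero p s hs F
  · change coeff _ (Matrix.det (Finset.univ.piecewise Dm J : Fin n → Fin n → MvPolynomial (Fin n) k)) = 1
    rw [Finset.piecewise_univ]
    change coeff _ (Matrix.det Dm) = 1
    rw [Matrix.det_diagonal]
    simp only [X_pow_eq_monomial]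
    rw [← monomial_sum_one, coeff_monomial, if_pos rfl]

/-- The ideal of `p`-th powers of the variables. -/
def powIdeal (k : Type u) [Field k] (n : ℕ) : Ideal (MvPolynomial (Fin n) k) :=
  Ideal.span ((fun e => monomial e (1 : k)) '' Set.range fun i : Fin n => Finsupp.single i p)

theorem pderiv_mem_powIdeal (j : Fin n) {q : MvPolynomial (Fin n) k} (hq : q ∈ powIdeal p k n) :
    pderiv j q ∈ powIdeal p k n := by
  induction hq using Submodule.span_induction with
  | mem x hx =>
    obtain ⟨_, ⟨i, rfl⟩, rfl⟩ := hx
    rw [pderiv_monomial]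
    suffices h : ((Finsupp.single i p : Fin n →₀ ℕ) j : k) = 0 by simp [h]
    rw [Finsupp.single_apply]
    split_ifs <;> simp
  | zero => simp
  | add x y _ _ hx hy => rw [map_add]; exact add_mem hx hy
  | smul c x hx' hx =>
    rw [smul_eq_mul, Derivation.leibniz]
    exact add_mem (Ideal.mul_mem_left _ c hx) (by rw [smul_eq_mul]; exact Ideal.mul_mem_right _ _ hx')

theorem not_mem_powIdeal {q : MvPolynomial (Fin n) k}
    (h : coeff (∑ i, Finsupp.single i (p - 1)) q ≠ 0) : q ∉ powIdeal p k n := by
  classical
  intro hq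
  obtain ⟨_, ⟨i, rfl⟩, hle⟩ := mem_ideal_span_monomial_image.1 hq _ (mem_support_iff.2 h)
  have := hle i
  rw [Finsupp.single_eq_same, Finsupp.finsetSum_apply, Finset.sum_eq_single i
    (fun j _ hj => Finsupp.single_eq_of_ne hj.symm) (by simp), Finsupp.single_eq_same] at this
  have := (Fact.out : p.Prime).one_lt
  omega

/-- The induced derivation of the truncated polynomial ring. -/
def dbar (j : Fin n) : Derivation k (MvPolynomial (Fin n) k ⧸ powIdeal p k n)
    (MvPolynomial (Fin n) k ⧸ powIdeal p k n) :=
  Derivation.mk' (Submodule.liftQ ((powIdeal p k n).restrictScalars k)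
      (((Ideal.Quotient.mkₐ k (powIdeal p k n)).toLinearMap).comp (pderiv j).toLinearMap)
      (fun q hq => Ideal.Quotient.eq_zero_iff_mem.2 (pderiv_mem_powIdeal p j hq))) fun x y => by
    obtain ⟨x, rfl⟩ := Ideal.Quotient.mk_surjective x
    obtain ⟨y, rfl⟩ := Ideal.Quotient.mk_surjective y
    rw [← map_mul]
    change Ideal.Quotient.mk _ (pderiv j (x * y)) = _
    rw [Derivation.leibniz, map_add]
    simp only [smul_eq_mul, map_mul]
    rfl

theorem dbar_mk (j : Fin n) (q : MvPolynomial (Fin n) k) :
    dbar p j (Ideal.Quotient.mk _ q) = Ideal.Quotient.mk _ (pderiv j q) := rfl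

theorem det_ne_zero_of_point {A : Type v} [CommRing A] [Algebra k A] [Algebra.FormallySmooth k A]
    (t : Fin n → A) (b : Module.Basis (Fin n) A (KaehlerDifferential k A))
    (hb : ∀ i, b i = KaehlerDifferential.D k A (t i)) (f : Fin n → A) (x : A →ₐ[k] k) :
    (Matrix.of fun i j : Fin n =>
      (if i = j then t i ^ (p - 1) else 0) + b.coord j (KaehlerDifferential.D k A (f i))).det ≠ 0 := by
  classical
  let P := MvPolynomial (Fin n) k
  letI : Algebra P A := (aeval t).toRingHom.toAlgebra
  haveI : IsScalarTower k P A := IsScalarTower.of_algebraMap_eq fun c => (aeval t).commutes c |>.symm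
  haveI := formallyEtale_mvPolynomial (A := k) (B := A) (σ := Fin n) t b hb
    (fun i => aeval_X t i)
  let R := P ⧸ powIdeal p k n
  let a : Fin n → k := fun i => x (t i)
  let ψ : P →ₐ[k] R := aeval fun i => Ideal.Quotient.mk _ (X i + C (a i))
  letI : Algebra P R := ψ.toRingHom.toAlgebra
  let ev : R →ₐ[k] k := Ideal.Quotient.liftₐ _ (aeval fun _ => (0 : k)) fun q hq => by
    change q ∈ RingHom.ker (aeval fun _ : Fin n => (0 : k)).toRingHom
    refine (Ideal.span_le.2 ?_) hq
    rintro _ ⟨_, ⟨i, rfl⟩, rfl⟩
    change aeval _ (monomial _ _) = (0 : k)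
    rw [← X_pow_eq_monomial, map_pow, aeval_X, zero_pow (Fact.out : p.Prime).ne_zero]
  let J := RingHom.ker ev.toRingHom
  letI : Algebra P k := (aeval a).toRingHom.toAlgebra
  have hev : ∀ q : P, ev (ψ q) = aeval a q := by
    intro q
    refine congrArg (fun g : P →ₐ[k] k => g q) (show ev.comp ψ = aeval a from algHom_ext fun i => ?_)
    rw [AlgHom.comp_apply, aeval_X, aeval_X]
    change aeval (fun _ : Fin n => (0 : k)) (X i + C (a i)) = a i
    simp
  let evP : R →ₐ[P] k := { ev.toRingHom with commutes' := hev }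
  let xP : A →ₐ[P] k :=
    { x.toRingHom with
      commutes' := fun q => congrArg (fun g : P →ₐ[k] k => g q)
        (show x.comp (aeval t) = aeval a from algHom_ext fun i => by simp [a]) }
  have hsurj : Function.Surjective evP := fun c => ⟨algebraMap k R c, ev.commutes c⟩
  have hnil : IsNilpotent (RingHom.ker (evP : R →+* k)) := by
    rw [Ideal.FG.isNilpotent_iff_le_nilradical
      (IsNoetherian.noetherian (R := R) (M := R) (RingHom.ker (evP : R →+* k)))]
    intro r hr
    obtain ⟨q, rfl⟩ := Ideal.Quotient.mk_surjective r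
    rw [RingHom.mem_ker] at hr
    change aeval (fun _ : Fin n => (0 : k)) q = 0 at hr
    have hq : ∀ q : P, Ideal.Quotient.mk (powIdeal p k n) q -
        algebraMap k R (aeval (fun _ : Fin n => (0 : k)) q) ∈ nilradical R := by
      intro q
      induction q using MvPolynomial.induction_on with
      | C c => rw [aeval_C]; change _ - algebraMap k R c ∈ _; rw [show algebraMap k R c = Ideal.Quotient.mk _ (C c) from rfl, sub_self]; exact zero_mem _
      | add f g hf hg => rw [map_add, map_add, map_add, add_sub_add_comm]; exact add_mem hf hg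
      | mul_X f i hf =>
        rw [map_mul, map_mul, aeval_X, mul_zero, map_zero, sub_zero]
        refine Ideal.mul_mem_left _ _ (mem_nilradical.2 ⟨p, ?_⟩)
        rw [← map_pow, X_pow_eq_monomial, Ideal.Quotient.eq_zero_iff_mem]
        exact Ideal.subset_span ⟨_, ⟨i, rfl⟩, rfl⟩
    simpa [hr] using hq q
  let φP : A →ₐ[P] R := Algebra.FormallySmooth.liftOfSurjective xP evP hsurj hnil
  let φ : A →ₐ[k] R :=
    { φP.toRingHom with
      commutes' := fun c => by
        rw [IsScalarTower.algebraMap_apply k P A]
        exact (φP.commutes _).trans (ψ.commutes c) }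
  have hφt : ∀ i, φ (t i) = Ideal.Quotient.mk _ (X i + C (a i)) := fun i => by
    have := φP.commutes (X i)
    rw [show algebraMap P A (X i) = t i from aeval_X t i] at this
    exact this.trans (aeval_X _ i)
  letI : Algebra A R := φ.toRingHom.toAlgebra
  haveI : IsScalarTower k A R := IsScalarTower.of_algebraMap_eq fun c => (φ.commutes c).symm
  have hcomm : ∀ (j : Fin n) (y : A), dbar p j (φ y) = φ (b.coord j (KaehlerDifferential.D k A y)) := by
    intro j y
    have hl : ((dbar p j).compAlgebraMap A).liftKaehlerDifferential =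
        (Algebra.linearMap A R).comp (b.coord j) := by
      refine b.ext fun i => ?_
      rw [hb, Derivation.liftKaehlerDifferential_comp_D, LinearMap.comp_apply, ← hb, Algebra.linearMap_apply,
        Module.Basis.coord_apply, Module.Basis.repr_self]
      change dbar p j (φ (t i)) = φ _
      rw [hφt, dbar_mk, map_add, pderiv_C, add_zero, pderiv_X, Finsupp.single_apply, Pi.single_apply]
      by_cases hij : i = j <;> simp [hij]
    have := congrArg (fun L => L (KaehlerDifferential.D k A y)) hl
    simp only [Derivation.liftKaehlerDifferential_comp_D, LinearMap.comp_apply] at this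
    exact this
  choose G hG using fun i => Ideal.Quotient.mk_surjective (φ (f i))
  -- absorb the translation into an exact term
  have hint : ∀ i, ∃ g : MvPolynomial (Fin n) k, ∀ j, pderiv j g =
      if i = j then (X i + C (a i)) ^ (p - 1) - X i ^ (p - 1) else 0 := by
    intro i
    refine ⟨∑ m ∈ Finset.range (p - 1),
      C ((a i) ^ (p - 1 - m) * ((p - 1).choose m : k) * (((m + 1 : ℕ) : k))⁻¹) * X i ^ (m + 1), fun j => ?_⟩
    rw [map_sum]
    split_ifs with hij
    · subst hij
      rw [add_pow, Finset.sum_range_succ, Nat.choose_self, Nat.cast_one, mul_one, Nat.sub_self, pow_zero,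
        mul_one, add_sub_cancel_right]
      refine Finset.sum_congr rfl fun m hm => ?_
      rw [pderiv_C_mul, Derivation.leibniz_pow, pderiv_X_self, smul_eq_mul, mul_one, Nat.add_sub_cancel]
      have hne : ((m + 1 : ℕ) : k) ≠ 0 := fun h => by
        have := Nat.le_of_dvd (by omega) ((CharP.cast_eq_zero_iff k p _).1 h)
        have := Finset.mem_range.1 hm
        omega
      rw [nsmul_eq_mul, ← map_natCast (C : k →+* MvPolynomial (Fin n) k) (m + 1)]
      rw [← C.map_pow, ← map_natCast (C : k →+* MvPolynomial (Fin n) k) ((p - 1).choose m),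
        ← mul_assoc, ← map_mul, mul_assoc (_ * _) _⁻¹, inv_mul_cancel₀ hne, mul_one, map_mul]
      ring
    · refine Finset.sum_eq_zero fun m _ => ?_
      rw [pderiv_C_mul, Derivation.leibniz_pow, pderiv_X_of_ne hij]
      simp
  choose g hg using hint
  let M := Matrix.of fun i j : Fin n => (if i = j then X i ^ (p - 1) else 0) + pderiv j (g i + G i)
  intro hdet
  have hmap : φ.toRingHom.mapMatrix (Matrix.of fun i j : Fin n =>
      (if i = j then t i ^ (p - 1) else 0) + b.coord j (KaehlerDifferential.D k A (f i))) =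
      (Ideal.Quotient.mk (powIdeal p k n)).mapMatrix M := by
    ext i j
    simp only [RingHom.mapMatrix_apply, Matrix.map_apply, Matrix.of_apply, M, map_add, hg]
    change φ (if i = j then t i ^ (p - 1) else 0) + φ (b.coord j _) = _
    rw [← hcomm, ← hG, dbar_mk]
    split_ifs
    · rw [map_pow, hφt, map_pow]
      simp only [map_sub, map_pow, map_add]
      ring
    · simp
  have := congrArg Matrix.det hmap
  rw [← RingHom.map_det, ← RingHom.map_det, hdet, map_zero, eq_comm, Ideal.Quotient.eq_zero_iff_mem] at this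
  refine not_mem_powIdeal p ?_ this
  rw [coeff_det_eq_one p fun i => g i + G i]
  exact one_ne_zero

theorem det_ne_zero [IsAlgClosed k] {A : Type v} [CommRing A] [Nontrivial A] [Algebra k A]
    [Algebra.Smooth k A]
    (t : Fin n → A) (b : Module.Basis (Fin n) A (KaehlerDifferential k A))
    (hb : ∀ i, b i = KaehlerDifferential.D k A (t i)) (f : Fin n → A) :
    (Matrix.of fun i j : Fin n =>
      (if i = j then t i ^ (p - 1) else 0) + b.coord j (KaehlerDifferential.D k A (f i))).det ≠ 0 := by
  obtain ⟨m, hm⟩ := Ideal.exists_maximal A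
  letI := Ideal.Quotient.field m
  haveI : Module.Finite k (A ⧸ m) := finite_of_finite_type_of_isJacobsonRing k (A ⧸ m)
  have hbij : Function.Bijective (algebraMap k (A ⧸ m)) := IsAlgClosed.algebraMap_bijective_of_isIntegral
  exact det_ne_zero_of_point p t b hb f
    (((AlgEquiv.ofBijective (Algebra.ofId k (A ⧸ m)) hbij).symm.toAlgHom).comp (Ideal.Quotient.mkₐ k m))

end Groth.L12.FrobJac
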