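import Groth.Agent.L12.FrobJac
import Groth.Prelude.Def_Frob
import Mathlib.Algebra.CharP.Lemmas
import Mathlib.LinearAlgebra.ExteriorPower.Basic
import Mathlib.RingTheory.Kaehler.Basic

/-! # The semilinear differential of a lift of Frobenius -/

universe u

open scoped TensorProduct

noncomputable section

namespace Groth.L12.FrobSemi

section Twist

variable {A : Type u} [CommRing A]

/-- A module with scalars twisted by an endomorphism. -/
def Tw (_φ : A →+* A) (M : Type u) : Type u := M

instance (φ : A →+* A) (M : Type u) [AddCommGroup M] : AddCommGroup (Tw φ M) := ‹AddCommGroup M›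

instance (φ : A →+* A) (M : Type u) [AddCommGroup M] [Module A M] : Module A (Tw φ M) :=
  Module.compHom M φ

variable {φ : A →+* A} {M : Type u} [AddCommGroup M] [Module A M]

/-- View an element in the twisted module. -/
def toTw (φ : A →+* A) : M →+ Tw φ M := AddMonoidHom.id M

/-- View a twisted element in the original module. -/
def ofTw (φ : A →+* A) : Tw φ M →+ M := AddMonoidHom.id M

@[simp] theorem ofTw_toTw (m : M) : ofTw φ (toTw φ m) = m := rfl

theorem ofTw_smul (a : A) (m : Tw φ M) : ofTw φ (a • m) = φ a • ofTw φ m := rfl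

variable {R : Type u} [CommRing R] [Algebra R A]

/-- The semilinear map of differentials attached to a twisted derivation. -/
theorem exists_semiLift (δ : A →+ M) (hδ : ∀ a b, δ (a * b) = φ a • δ b + φ b • δ a)
    (h0 : ∀ r : R, δ (algebraMap R A r) = 0) :
    ∃ z : Ω[A⁄R] →ₛₗ[φ] M, ∀ a, z (KaehlerDifferential.D R A a) = δ a := by
  letI : Module R (Tw φ M) := Module.compHom _ (algebraMap R A)
  haveI : IsScalarTower R A (Tw φ M) := IsScalarTower.of_compHom _ _ _
  let D : Derivation R A (Tw φ M) :=
    { toFun := fun a => toTw φ (δ a)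
      map_add' := fun a b => δ.map_add a b
      map_smul' := fun r a => by
        change δ (r • a) = φ (algebraMap R A r) • δ a
        rw [Algebra.smul_def, hδ, h0, smul_zero, add_zero]
      map_one_eq_zero' := by
        change δ 1 = 0
        rw [← map_one (algebraMap R A), h0]
      leibniz' := fun a b => hδ a b }
  exact ⟨{ toFun := fun ω => ofTw φ (D.liftKaehlerDifferential ω)
           map_add' := fun x y => map_add D.liftKaehlerDifferential x y
           map_smul' := fun a x => D.liftKaehlerDifferential.map_smul a x },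
    fun a => D.liftKaehlerDifferential_comp_D a⟩

variable (n : ℕ) {N : Type u} [AddCommGroup N] [Module A N]

/-- The exterior power of a semilinear map. -/
theorem exists_wedgeMap (z : N →ₛₗ[φ] M) :
    ∃ Z : (⋀[A]^n N) →ₛₗ[φ] (⋀[A]^n M),
      ∀ e : Fin n → N, Z (exteriorPower.ιMulti A n e) = exteriorPower.ιMulti A n fun i => z (e i) := by
  let F : N [⋀^Fin n]→ₗ[A] Tw φ (⋀[A]^n M) :=
    { toFun := fun e => toTw φ (exteriorPower.ιMulti A n fun i => z (e i))
      map_update_add' := fun {_} e i x y => by
        rw [show (fun j => z (Function.update e i (x + y) j)) = Function.update (fun j => z (e j)) i (z x + z y) from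
          funext fun j => by by_cases h : j = i <;> simp [Function.update, h]]
        rw [show (fun j => z (Function.update e i x j)) = Function.update (fun j => z (e j)) i (z x) from
          funext fun j => by by_cases h : j = i <;> simp [Function.update, h]]
        rw [show (fun j => z (Function.update e i y j)) = Function.update (fun j => z (e j)) i (z y) from
          funext fun j => by by_cases h : j = i <;> simp [Function.update, h]]
        exact (exteriorPower.ιMulti A n).map_update_add _ _ _ _
      map_update_smul' := fun {_} e i c x => by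
        rw [show (fun j => z (Function.update e i (c • x) j)) = Function.update (fun j => z (e j)) i (φ c • z x) from
          funext fun j => by by_cases h : j = i <;> simp [Function.update, h]]
        rw [show (fun j => z (Function.update e i x j)) = Function.update (fun j => z (e j)) i (z x) from
          funext fun j => by by_cases h : j = i <;> simp [Function.update, h]]
        exact (exteriorPower.ιMulti A n).map_update_smul _ _ _ _
      map_eq_zero_of_eq' := fun e i j h hne =>
        (exteriorPower.ιMulti A n).map_eq_zero_of_eq _ (congrArg z h) hne }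
  let L := exteriorPower.alternatingMapLinearEquiv F
  exact ⟨{ toFun := fun x => ofTw φ (L x)
           map_add' := fun x y => map_add L x y
           map_smul' := fun a x => L.map_smul a x },
    fun e => exteriorPower.alternatingMapLinearEquiv_apply_ιMulti F e⟩

end Twist

section Lift

variable (p : ℕ) {A B : Type u} [CommRing A] [CommRing B]

/-- A lift modulo `p ^ 2` of `A` together with a lift of Frobenius. -/
structure IsPair (π : B →+* A) (Φ : B →+* B) : Prop where
  surj : Function.Surjective π
  ker : ∀ b, π b = 0 → ∃ c, b = (p : B) * c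
  tors : ∀ b, (p : B) * b = 0 → π b = 0
  pp : (p : B) * (p : B) = 0
  char : (p : A) = 0
  frob : ∀ b, π (Φ b) = π b ^ p

variable {p} [hp : Fact p.Prime] {π : B →+* A} {Φ : B →+* B} (h : IsPair p π Φ)

include h

omit hp in
theorem IsPair.exists_F (b : B) : ∃ F, Φ b = b ^ p + (p : B) * F := by
  obtain ⟨F, hF⟩ := h.ker (Φ b - b ^ p) (by rw [map_sub, h.frob, map_pow, sub_self])
  exact ⟨F, by rw [← hF, add_sub_cancel]⟩

omit hp h in
theorem pow_add_of_sq_zero (b x : B) (hx : x * x = 0) : ∀ n : ℕ, (b + x) ^ n = b ^ n + n * (b ^ (n - 1) * x)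
  | 0 => by simp
  | 1 => by simp
  | n + 2 => by
    rw [pow_succ, pow_add_of_sq_zero b x hx (n + 1)]
    simp only [show n + 2 - 1 = n + 1 from rfl, Nat.add_sub_cancel, Nat.cast_add, Nat.cast_one]
    linear_combination ((n : B) + 1) * b ^ n * hx

variable {R : Type u} [CommRing R] [Algebra R A] {M : Type u} [AddCommGroup M] [Module A M]
  (D : A →+ M) (hD : ∀ a b, D (a * b) = a • D b + b • D a)

include hD

omit hp h in
theorem D_pow (a : A) : ∀ n : ℕ, D (a ^ n) = (n : A) • a ^ (n - 1) • D a
  | 0 => by
    have h1 := hD 1 1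
    simp only [mul_one, one_smul] at h1
    rw [pow_zero, Nat.cast_zero, zero_smul]
    exact left_eq_add.1 h1
  | 1 => by simp
  | n + 2 => by
    rw [pow_succ, hD, D_pow a (n + 1), smul_smul, smul_smul, smul_smul, ← add_smul]
    congr 1
    simp only [show n + 2 - 1 = n + 1 from rfl, Nat.add_sub_cancel, Nat.cast_add, Nat.cast_one]
    ring

omit hp in
theorem D_pow_p (a : A) : D (a ^ p) = 0 := by rw [D_pow D hD, h.char, zero_smul]

/-- The values `a ^ (p - 1) • D a + D (F / p)`. -/
def dlt (a : A) : M :=
  a ^ (p - 1) • D a + D (π (h.exists_F (Function.surjInv h.surj a)).choose)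

theorem dlt_eq (b F : B) (hF : Φ b = b ^ p + (p : B) * F) :
    dlt h D (π b) = π b ^ (p - 1) • D (π b) + D (π F) := by
  rw [dlt]
  congr 1
  let b' := Function.surjInv h.surj (π b)
  let F' := (h.exists_F b').choose
  have hF' : Φ b' = b' ^ p + (p : B) * F' := (h.exists_F b').choose_spec
  change D (π F') = D (π F)
  obtain ⟨c, hc⟩ := h.ker (b' - b) (by rw [map_sub, Function.surjInv_eq h.surj, sub_self])
  rw [sub_eq_iff_eq_add'] at hc
  rw [hc, map_add, map_mul, map_natCast, hF,
    pow_add_of_sq_zero b ((p : B) * c) (by linear_combination c * c * h.pp)] at hF'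
  have h2 : (p : B) * (F + Φ c - F') = 0 := by
    linear_combination hF' + b ^ (p - 1) * c * h.pp
  have h3 := h.tors _ h2
  rw [map_sub, map_add, h.frob, sub_eq_zero] at h3
  rw [← h3, map_add, D_pow_p h D hD, add_zero]

theorem dlt_mul (a₁ a₂ : A) : dlt h D (a₁ * a₂) = a₁ ^ p • dlt h D a₂ + a₂ ^ p • dlt h D a₁ := by
  obtain ⟨b₁, rfl⟩ := h.surj a₁
  obtain ⟨b₂, rfl⟩ := h.surj a₂
  obtain ⟨F₁, h₁⟩ := h.exists_F b₁
  obtain ⟨F₂, h₂⟩ := h.exists_F b₂
  have h12 : Φ (b₁ * b₂) = (b₁ * b₂) ^ p + (p : B) * (b₁ ^ p * F₂ + b₂ ^ p * F₁) := by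
    rw [map_mul, h₁, h₂, mul_pow]
    linear_combination F₁ * F₂ * h.pp
  rw [← map_mul, dlt_eq h D hD _ _ h12, dlt_eq h D hD _ _ h₁, dlt_eq h D hD _ _ h₂]
  simp only [map_mul, map_add, map_pow, hD, D_pow_p h D hD, smul_zero, add_zero, smul_add, smul_smul,
    mul_pow]
  obtain ⟨q, hq⟩ : ∃ q, p = q + 1 := ⟨p - 1, by have := hp.out.pos; omega⟩
  rw [show p - 1 = q by omega]
  simp only [hq, pow_succ]
  module

theorem dlt_add (a₁ a₂ : A) : dlt h D (a₁ + a₂) = dlt h D a₁ + dlt h D a₂ := by
  obtain ⟨b₁, rfl⟩ := h.surj a₁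
  obtain ⟨b₂, rfl⟩ := h.surj a₂
  obtain ⟨F₁, h₁⟩ := h.exists_F b₁
  obtain ⟨F₂, h₂⟩ := h.exists_F b₂
  let P := MvPolynomial (Fin 2) ℤ
  obtain ⟨r, hr⟩ := exists_add_pow_prime_eq hp.out (MvPolynomial.X 0 : P) (MvPolynomial.X 1)
  let S : P := MvPolynomial.X 0 * MvPolynomial.X 1 * r
  have hS : (MvPolynomial.X 0 + MvPolynomial.X 1 : P) ^ p =
      MvPolynomial.X 0 ^ p + MvPolynomial.X 1 ^ p + (p : P) * S := by rw [hr]; simp only [S]; ring
  have hpar : ∀ j, MvPolynomial.pderiv j S =
      (MvPolynomial.X 0 + MvPolynomial.X 1 : P) ^ (p - 1) - MvPolynomial.X j ^ (p - 1) := by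
    intro j
    have := congrArg (MvPolynomial.pderiv j) hS
    simp only [map_add, Derivation.leibniz_pow, Derivation.leibniz, Derivation.map_natCast, smul_zero,
      add_zero, smul_eq_mul, nsmul_eq_mul] at this
    refine mul_left_cancel₀ (show (p : P) ≠ 0 from Nat.cast_ne_zero.2 hp.out.ne_zero) ?_
    rcases (show j = 0 ∨ j = 1 by omega) with rfl | rfl
    · rw [MvPolynomial.pderiv_X_self, MvPolynomial.pderiv_X_of_ne (show (1 : Fin 2) ≠ 0 by decide)] at this
      linear_combination -this
    · rw [MvPolynomial.pderiv_X_self, MvPolynomial.pderiv_X_of_ne (show (0 : Fin 2) ≠ 1 by decide)] at this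
      linear_combination -this
  let ev : P →+* B := (MvPolynomial.aeval ![b₁, b₂]).toRingHom
  have e0 : ev (MvPolynomial.X 0) = b₁ := MvPolynomial.aeval_X _ 0
  have e1 : ev (MvPolynomial.X 1) = b₂ := MvPolynomial.aeval_X _ 1
  have hB : (b₁ + b₂) ^ p = b₁ ^ p + b₂ ^ p + (p : B) * ev S := by
    have := congrArg ev hS
    simpa only [map_add, map_pow, map_mul, map_natCast, e0, e1] using this
  have h12 : Φ (b₁ + b₂) = (b₁ + b₂) ^ p + (p : B) * (F₁ + F₂ - ev S) := by
    rw [map_add, h₁, h₂, hB]; ring
  have hchain : ∀ q : P, D (π (ev q)) = π (ev (MvPolynomial.pderiv 0 q)) • D (π b₁) +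
      π (ev (MvPolynomial.pderiv 1 q)) • D (π b₂) := by
    intro q
    induction q using MvPolynomial.induction_on with
    | C c =>
      simp only [MvPolynomial.pderiv_C, map_zero, zero_smul, add_zero]
      rw [eq_intCast MvPolynomial.C c, map_intCast, map_intCast]
      have h1 : D 1 = 0 := by simpa using D_pow D hD (1 : A) 0
      rw [show ((c : ℤ) : A) = c • (1 : A) by simp, map_zsmul, h1, smul_zero]
    | add f g hf hg => simp only [map_add, hf, hg, add_smul]; abel
    | mul_X f i hf =>
      rcases (show i = 0 ∨ i = 1 by omega) with rfl | rfl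
      · simp only [map_mul, map_add, hD, hf, Derivation.leibniz, smul_eq_mul, e0, e1, MvPolynomial.pderiv_X_self,
          MvPolynomial.pderiv_X_of_ne (show (0 : Fin 2) ≠ 1 by decide), map_one, map_zero, mul_zero, mul_one]
        module
      · simp only [map_mul, map_add, hD, hf, Derivation.leibniz, smul_eq_mul, e0, e1, MvPolynomial.pderiv_X_self,
          MvPolynomial.pderiv_X_of_ne (show (1 : Fin 2) ≠ 0 by decide), map_one, map_zero, mul_zero, mul_one]
        module
  rw [← map_add π, dlt_eq h D hD _ _ h12, dlt_eq h D hD _ _ h₁, dlt_eq h D hD _ _ h₂]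
  simp only [map_sub, map_add, hchain S, hpar]
  simp only [map_sub, map_add, map_pow, e0, e1]
  module

/-- `dlt` as an additive map. -/
def dltHom : A →+ M := AddMonoidHom.mk' (dlt h D) (dlt_add h D hD)

theorem dlt_pow_p (a : A) : dlt h D (a ^ p) = 0 := by
  have key : ∀ n : ℕ, dlt h D (a ^ n) = (n : A) • (a ^ p) ^ (n - 1) • dlt h D a := by
    intro n
    induction n with
    | zero =>
      have h1 := dlt_mul h D hD 1 1
      simp only [mul_one, one_pow, one_smul] at h1
      rw [pow_zero, Nat.cast_zero, zero_smul]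
      exact left_eq_add.1 h1
    | succ n ih =>
      rcases Nat.eq_zero_or_pos n with rfl | hn
      · simp
      rw [pow_succ, dlt_mul h D hD, ih, smul_smul, smul_smul, smul_smul, ← add_smul]
      obtain ⟨m, rfl⟩ := Nat.exists_eq_succ_of_ne_zero hn.ne'
      congr 1
      simp only [Nat.succ_eq_add_one, Nat.add_sub_cancel, Nat.cast_add, Nat.cast_one, ← pow_mul]
      ring
  rw [key, h.char, zero_smul]

/-- The semilinear map on differentials of a Frobenius pair over a perfect base. -/
theorem exists_semi (hR : ∀ r : R, ∃ s : R, s ^ p = r) :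
    ∃ z : Ω[A⁄R] →ₛₗ[FrobSch.powHom p A h.char] M,
      ∀ a, z (KaehlerDifferential.D R A a) = dlt h D a := by
  refine exists_semiLift (dltHom h D hD) (fun a b => dlt_mul h D hD a b) fun r => ?_
  obtain ⟨s, rfl⟩ := hR r
  rw [map_pow]
  exact dlt_pow_p h D hD _

end Lift

end Groth.L12.FrobSemi
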