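import Groth.Agent.L12.ArtPullback
import Groth.Prelude.Def_ArtFun5

/-!
# Basic facts on functors of Artin rings: comparison maps, smoothness
-/

universe u v w

open CategoryTheory ArtFun ArtFun.Art IsLocalRing

namespace Groth.L12

variable {Λ : Type u} {k : Type u} [CommRing Λ] [Field k] [Algebra Λ k]

section Cmp

variable (F : Art Λ k ⥤ Type v) {B A A' A'' : Art Λ k} {p' : B ⟶ A'} {p'' : B ⟶ A''}
  {f' : A' ⟶ A} {f'' : A'' ⟶ A}

lemma cmp_surj_iff (h : IsFibreProd p' p'' f' f'') : Function.Surjective (cmp F h) ↔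
    ∀ (x : F.obj A') (y : F.obj A''), F.map f' x = F.map f'' y →
      ∃ z, F.map p' z = x ∧ F.map p'' z = y := by
  constructor
  · intro hs x y e
    obtain ⟨z, hz⟩ := hs ⟨(x, y), e⟩
    exact ⟨z, congrArg (fun t => t.1.1) hz, congrArg (fun t => t.1.2) hz⟩
  · rintro hs ⟨⟨x, y⟩, e⟩
    obtain ⟨z, h₁, h₂⟩ := hs x y e
    exact ⟨z, FibProd.ext h₁ h₂⟩

lemma cmp_inj_iff (h : IsFibreProd p' p'' f' f'') : Function.Injective (cmp F h) ↔
    ∀ z₁ z₂, F.map p' z₁ = F.map p' z₂ → F.map p'' z₁ = F.map p'' z₂ → z₁ = z₂ :=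
  ⟨fun hi _ _ e₁ e₂ => hi (FibProd.ext e₁ e₂),
   fun hi _ _ e => hi _ _ (congrArg (fun t => t.1.1) e) (congrArg (fun t => t.1.2) e)⟩

lemma cmp_bij_symm {h : IsFibreProd p' p'' f' f''} (hb : Function.Bijective (cmp F h)) :
    Function.Bijective (cmp F (IsFP.symm h)) :=
  ⟨(cmp_inj_iff F _).2 fun z₁ z₂ e₁ e₂ => (cmp_inj_iff F h).1 hb.1 z₁ z₂ e₂ e₁,
   (cmp_surj_iff F _).2 fun x y e => by
    obtain ⟨z, e₁, e₂⟩ := (cmp_surj_iff F h).1 hb.2 y x e.symm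
    exact ⟨z, e₂, e₁⟩⟩

lemma fst_bijective_of_bijective (h : IsFibreProd p' p'' f' f'') (hf : Function.Bijective f'') :
    Function.Bijective p' :=
  ⟨fun b₁ b₂ e => h.inj _ _ e (hf.1 (by rw [← h.w_apply, e, h.w_apply])),
    IsFP.fst_surjective h hf.2⟩

lemma cmp_bijective_of_bijective (h : IsFibreProd p' p'' f' f'') (hf : Function.Bijective f'') :
    Function.Bijective (cmp F h) := by
  haveI := isIso_of_bijective p' (fst_bijective_of_bijective h hf)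
  haveI := isIso_of_bijective f'' hf
  have h1 := map_bijective_of_isIso F p'
  have h2 := map_bijective_of_isIso F f''
  refine ⟨(cmp_inj_iff F h).2 fun z₁ z₂ e _ => h1.1 e, (cmp_surj_iff F h).2 fun x y e => ?_⟩
  obtain ⟨z, hz⟩ := h1.2 x
  refine ⟨z, hz, h2.1 ?_⟩
  rw [← e, map_map, ← h.w, ← map_map, hz]

end Cmp

/-- induction for properties of squares in the surjective right leg -/
lemma square_induction (F : Art Λ k ⥤ Type v)
    (P : ∀ ⦃B A A' A'' : Art Λ k⦄ (p' : B ⟶ A') (p'' : B ⟶ A'') (f' : A' ⟶ A) (f'' : A'' ⟶ A),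
      IsFibreProd p' p'' f' f'' → Prop)
    (hbij : ∀ ⦃B A A' A'' : Art Λ k⦄ (p' : B ⟶ A') (p'' : B ⟶ A'') (f' : A' ⟶ A) (f'' : A'' ⟶ A)
      (h : IsFibreProd p' p'' f' f''), Function.Bijective f'' → P p' p'' f' f'' h)
    (hsmall : ∀ ⦃B A A' A'' : Art Λ k⦄ (p' : B ⟶ A') (p'' : B ⟶ A'') (f' : A' ⟶ A) (f'' : A'' ⟶ A)
      (h : IsFibreProd p' p'' f' f''), IsSmallExt f'' → P p' p'' f' f'' h)
    (hpaste : ∀ ⦃B A A' E C D : Art Λ k⦄ (r₁ : E ⟶ A') (r₂ : E ⟶ C) (s₁ : B ⟶ E) (p'' : B ⟶ D)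
      (f' : A' ⟶ A) (q : C ⟶ A) (p : D ⟶ C) (h₁ : IsFibreProd r₁ r₂ f' q)
      (h₂ : IsFibreProd s₁ p'' r₂ p) (h : IsFibreProd (s₁ ≫ r₁) p'' f' (p ≫ q)),
      P r₁ r₂ f' q h₁ → P s₁ p'' r₂ p h₂ → P (s₁ ≫ r₁) p'' f' (p ≫ q) h)
    ⦃B A A' A'' : Art Λ k⦄ (p' : B ⟶ A') (p'' : B ⟶ A'') (f' : A' ⟶ A) (f'' : A'' ⟶ A)
    (h : IsFibreProd p' p'' f' f'') (hf : Function.Surjective f'') : P p' p'' f' f'' h := by
  suffices H : Function.Surjective f'' ∧ ∀ ⦃B A' : Art Λ k⦄ (p' : B ⟶ A') (p'' : B ⟶ A'')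
      (f' : A' ⟶ A) (h : IsFibreProd p' p'' f' f''), P p' p'' f' f'' h from H.2 p' p'' f' h
  refine surjective_induction (fun A A'' f'' => Function.Surjective f'' ∧ ∀ ⦃B A' : Art Λ k⦄
      (p' : B ⟶ A') (p'' : B ⟶ A'') (f' : A' ⟶ A) (h : IsFibreProd p' p'' f' f''),
      P p' p'' f' f'' h) ?_ ?_ ?_ f'' hf
  · intro A A'' e he
    exact ⟨(bijective_of_isIso e).2, fun B A' p' p'' f' h => hbij _ _ _ _ h (bijective_of_isIso e)⟩
  · intro A A'' q hq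
    exact ⟨hq.1, fun B A' p' p'' f' h => hsmall _ _ _ _ h hq⟩
  · rintro A C D p q ⟨hp, Hp⟩ ⟨hq, Hq⟩
    refine ⟨surjective_comp hp hq, fun B A' p' p'' f' h => ?_⟩
    obtain ⟨E, r₁, r₂, h₁⟩ := exists_isFibreProd_of_surjective f' q hq
    obtain ⟨s₁, e₁, e₂⟩ := IsFP.exists_lift h₁ p' (p'' ≫ p) (by rw [h.w, Category.assoc])
    subst e₁
    exact hpaste _ _ _ _ _ _ _ h₁ (IsFP.of_paste h₁ e₂ h) h (Hq _ _ _ h₁)
      (Hp _ _ _ (IsFP.of_paste h₁ e₂ h))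

theorem s1_of_hbar {F : Art Λ k ⥤ Type v} (hF : Hbar F) : S1 F := by
  intro B A A' A'' p' p'' f' f'' h hf
  refine square_induction F (fun B A A' A'' p' p'' f' f'' h => Function.Surjective (cmp F h))
    (fun _ _ _ _ _ _ _ _ h hb => (cmp_bijective_of_bijective F h hb).2)
    (fun _ _ _ _ p' p'' f' f'' h hs => hF p' p'' f' f'' h hs) ?_ p' p'' f' f'' h hf
  intro B A A' E C D r₁ r₂ s₁ p'' f' q p h₁ h₂ h H₁ H₂
  refine (cmp_surj_iff F h).2 fun x y e => ?_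
  rw [← map_map] at e
  obtain ⟨w, hw₁, hw₂⟩ := (cmp_surj_iff F h₁).1 H₁ x _ e
  obtain ⟨z, hz₁, hz₂⟩ := (cmp_surj_iff F h₂).1 H₂ w y hw₂
  exact ⟨z, by rw [← map_map, hz₁, hw₁], hz₂⟩

/-- Schlessinger's condition (RS) for functors -/
def RS (F : Art Λ k ⥤ Type v) : Prop :=
  ∀ ⦃B A A' A'' : Art Λ k⦄ (p' : B ⟶ A') (p'' : B ⟶ A'') (f' : A' ⟶ A) (f'' : A'' ⟶ A)
    (h : IsFibreProd p' p'' f' f''), Function.Surjective f'' → Function.Bijective (cmp F h)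

theorem rs_of_small {F : Art Λ k ⥤ Type v}
    (hF : ∀ ⦃B A A' A'' : Art Λ k⦄ (p' : B ⟶ A') (p'' : B ⟶ A'') (f' : A' ⟶ A) (f'' : A'' ⟶ A)
      (h : IsFibreProd p' p'' f' f''), IsSmallExt f'' → Function.Bijective (cmp F h)) : RS F := by
  intro B A A' A'' p' p'' f' f'' h hf
  refine square_induction F (fun B A A' A'' p' p'' f' f'' h => Function.Bijective (cmp F h))
    (fun _ _ _ _ _ _ _ _ h hb => cmp_bijective_of_bijective F h hb)
    (fun _ _ _ _ p' p'' f' f'' h hs => hF p' p'' f' f'' h hs) ?_ p' p'' f' f'' h hf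
  intro B A A' E C D r₁ r₂ s₁ p'' f' q p h₁ h₂ h H₁ H₂
  refine ⟨(cmp_inj_iff F h).2 fun z₁ z₂ e₁ e₂ => ?_, (cmp_surj_iff F h).2 fun x y e => ?_⟩
  · rw [← map_map, ← map_map] at e₁
    refine (cmp_inj_iff F h₂).1 H₂.1 _ _ ((cmp_inj_iff F h₁).1 H₁.1 _ _ e₁ ?_) e₂
    rw [map_map, map_map, h₂.w, ← map_map, ← map_map, e₂]
  · rw [← map_map] at e
    obtain ⟨w, hw₁, hw₂⟩ := (cmp_surj_iff F h₁).1 H₁.2 x _ e
    obtain ⟨z, hz₁, hz₂⟩ := (cmp_surj_iff F h₂).1 H₂.2 w y hw₂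
    exact ⟨z, by rw [← map_map, hz₁, hw₁], hz₂⟩

lemma RS.s1 {F : Art Λ k ⥤ Type v} (h : RS F) : S1 F :=
  fun _ _ _ _ p' p'' f' f'' hh hf => (h p' p'' f' f'' hh hf).2

lemma RS.heps {F : Art Λ k ⥤ Type v} (h : RS F) : Heps F :=
  fun _ _ p' p'' hh => h p' p'' _ _ hh (toBase_surjective _)

section Smooth

variable {F G H : Art Λ k ⥤ Type v}

lemma relCmp_surj_iff (η : F ⟶ G) {B A : Art Λ k} (μ : B ⟶ A) :
    Function.Surjective (relCmp η μ) ↔ ∀ (x : F.obj A) (y : G.obj B), η.app A x = G.map μ y →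
      ∃ z, F.map μ z = x ∧ η.app B z = y := by
  constructor
  · intro hs x y e
    obtain ⟨z, hz⟩ := hs ⟨(x, y), e⟩
    exact ⟨z, congrArg (fun t => t.1.1) hz, congrArg (fun t => t.1.2) hz⟩
  · rintro hs ⟨⟨x, y⟩, e⟩
    obtain ⟨z, h₁, h₂⟩ := hs x y e
    exact ⟨z, Subtype.ext (Prod.ext h₁ h₂)⟩

lemma nat_apply (η : F ⟶ G) {B A : Art Λ k} (μ : B ⟶ A) (x : F.obj B) :
    η.app A (F.map μ x) = G.map μ (η.app B x) := NatTrans.naturality_apply η μ x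

theorem isSmooth_of_small (η : F ⟶ G)
    (h : ∀ ⦃B A : Art Λ k⦄ (μ : B ⟶ A), IsSmallExt μ → Function.Surjective (relCmp η μ)) :
    IsSmooth η := by
  intro B A μ hμ
  refine surjective_induction (fun A B μ => Function.Surjective (relCmp η μ)) ?_ (fun A B => h (B := B) (A := A)) ?_ μ hμ
  · intro A B e he
    refine (relCmp_surj_iff η e).2 fun x y hxy => ?_
    obtain ⟨z, rfl⟩ := (map_bijective_of_isIso F e).2 x
    exact ⟨z, rfl, (map_bijective_of_isIso G e).1 (by rw [← nat_apply]; exact hxy)⟩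
  · intro A B C p q hp hq
    refine (relCmp_surj_iff η _).2 fun x y hxy => ?_
    rw [← map_map] at hxy
    obtain ⟨z, hz₁, hz₂⟩ := (relCmp_surj_iff η q).1 hq x _ hxy
    obtain ⟨w, hw₁, hw₂⟩ := (relCmp_surj_iff η p).1 hp z y hz₂
    exact ⟨w, by rw [← map_map, hw₁, hz₁], hw₂⟩

theorem isSmoothFunctor_of_small
    (h : ∀ ⦃B A : Art Λ k⦄ (μ : B ⟶ A), IsSmallExt μ → Function.Surjective (F.map μ)) :
    IsSmoothFunctor F := by
  intro B A μ hμ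
  refine surjective_induction (fun A B μ => Function.Surjective (F.map μ)) ?_ (fun A B => h (B := B) (A := A)) ?_ μ hμ
  · exact fun A B e he => (map_bijective_of_isIso F e).2
  · intro A B C p q hp hq x
    obtain ⟨y, rfl⟩ := hq x
    obtain ⟨z, rfl⟩ := hp y
    exact ⟨z, (map_map F p q z).symm⟩

lemma surjective_app_of_smooth (η : F ⟶ G) (hη : IsSmooth η)
    (h0 : Function.Surjective (η.app (Art.base Λ k))) (A : Art Λ k) :
    Function.Surjective (η.app A) := fun y => by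
  obtain ⟨x, hx⟩ := h0 (G.map (toBase A) y)
  obtain ⟨z, -, hz⟩ := (relCmp_surj_iff η _).1 (hη (toBase A) (toBase_surjective A)) x y hx
  exact ⟨z, hz⟩

lemma smooth_comp {φ : F ⟶ G} {ψ : G ⟶ H} (h₁ : IsSmooth φ) (h₂ : IsSmooth ψ) :
    IsSmooth (φ ≫ ψ) := fun B A μ hμ => by
  refine (relCmp_surj_iff _ μ).2 fun x y e => ?_
  obtain ⟨y', h₁', h₂'⟩ := (relCmp_surj_iff ψ μ).1 (h₂ μ hμ) (φ.app A x) y e
  obtain ⟨z, hz₁, hz₂⟩ := (relCmp_surj_iff φ μ).1 (h₁ μ hμ) x y' h₁'.symm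
  exact ⟨z, hz₁, by change ψ.app B (φ.app B z) = y; rw [hz₂, h₂']⟩

lemma smooth_of_comp {φ : F ⟶ G} {ψ : G ⟶ H} (h₁ : ∀ A, Function.Surjective (φ.app A))
    (h : IsSmooth (φ ≫ ψ)) : IsSmooth ψ := fun B A μ hμ => by
  refine (relCmp_surj_iff _ μ).2 fun x y e => ?_
  obtain ⟨x', rfl⟩ := h₁ A x
  obtain ⟨z, hz₁, hz₂⟩ := (relCmp_surj_iff _ μ).1 (h μ hμ) x' y e
  exact ⟨φ.app B z, by rw [← nat_apply, hz₁], hz₂⟩

end Smooth

section Family

variable {R : Type u} [CommRing R] [Algebra Λ R] {resR : R →ₐ[Λ] k} {F : Art Λ k ⥤ Type v}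

/-- the point of `h_R(k)` -/
def basePt (R : Type u) [CommRing R] [Algebra Λ R] (resR : R →ₐ[Λ] k) :
    HomSet R resR (Art.base Λ k) := ⟨resR, AlgHom.id_comp _⟩

lemma basePt_eq (φ : HomSet R resR (Art.base Λ k)) : φ = basePt R resR := by
  refine Subtype.ext ?_
  exact AlgHom.ext fun r => DFunLike.congr_fun φ.2 r

lemma HomSet.map_map {A B C : Art Λ k} (f : A ⟶ B) (g : B ⟶ C) (φ : HomSet R resR A) :
    HomSet.map g (HomSet.map f φ) = HomSet.map (f ≫ g) φ := rfl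

lemma family_surjective (ξ : Family R resR F) (hξ : IsVersal ξ) (h0 : H0 F) (A : Art Λ k) :
    Function.Surjective (ξ.app A) := fun y => by
  obtain ⟨ψ, -, hψ⟩ := hξ (toBase A) (toBase_surjective A) (basePt R resR) y (@Subsingleton.elim _ h0.2 _ _)
  exact ⟨ψ, hψ⟩

lemma family_ext (ξ : Family R resR F) {A : Art Λ k} {φ ψ : HomSet R resR A}
    (h : ∀ r, φ.1 r = ψ.1 r) : ξ.app A φ = ξ.app A ψ := by
  rw [Subtype.ext (AlgHom.ext h) (a1 := φ) (a2 := ψ)]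

lemma h0_of_surjective (ξ : Family R resR F)
    (hs : Function.Surjective (ξ.app (Art.base Λ k))) : H0 F :=
  ⟨⟨ξ.app _ (basePt R resR)⟩, ⟨fun x y => by
    obtain ⟨φ, rfl⟩ := hs x
    obtain ⟨ψ, rfl⟩ := hs y
    rw [basePt_eq φ, basePt_eq ψ]⟩⟩

lemma miniversal_h0 (ξ : Family R resR F) (hξ : IsMiniversal ξ) : H0 F := by
  refine h0_of_surjective ξ fun x => ?_
  obtain ⟨φ, hφ⟩ := hξ.2.2 (F.map baseToDual x)
  refine ⟨HomSet.map (toBase _) φ, ?_⟩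
  rw [ξ.natural, hφ, map_map, eq_toBase (baseToDual ≫ _), ← eq_toBase (𝟙 (Art.base Λ k)), map_id']

lemma hR_bijective_cmp {B A A' A'' : Art Λ k} {p' : B ⟶ A'} {p'' : B ⟶ A''} {f' : A' ⟶ A}
    {f'' : A'' ⟶ A} (h : IsFibreProd p' p'' f' f'') :
    Function.Bijective (cmp (hR R resR) h) := by
  refine ⟨(cmp_inj_iff _ h).2 fun (φ ψ : HomSet R resR B) e₁ e₂ => Subtype.ext (AlgHom.ext fun r => ?_),
    (cmp_surj_iff _ h).2 fun (φ : HomSet R resR A') (ψ : HomSet R resR A'') e => ?_⟩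
  · exact h.inj _ _ (DFunLike.congr_fun (congrArg Subtype.val e₁) r)
      (DFunLike.congr_fun (congrArg Subtype.val e₂) r)
  · have ew : ∀ r, f' (φ.1 r) = f'' (ψ.1 r) := fun r => DFunLike.congr_fun (congrArg Subtype.val e) r
    choose g hg' hg'' using fun r => h.surj (φ.1 r) (ψ.1 r) (ew r)
    have ext : ∀ {b₁ b₂ : B}, p' b₁ = p' b₂ → p'' b₁ = p'' b₂ → b₁ = b₂ := fun e₁ e₂ => h.inj _ _ e₁ e₂
    let χ : R →ₐ[Λ] B :=
      { toFun := g
        map_one' := ext (by rw [hg', map_one, map_one]) (by rw [hg'', map_one, map_one])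
        map_mul' := fun x y => ext (by rw [hg', map_mul, map_mul, hg', hg'])
          (by rw [hg'', map_mul, map_mul, hg'', hg''])
        map_zero' := ext (by rw [hg', map_zero, map_zero]) (by rw [hg'', map_zero, map_zero])
        map_add' := fun x y => ext (by rw [hg', map_add, map_add, hg', hg'])
          (by rw [hg'', map_add, map_add, hg'', hg''])
        commutes' := fun x => ext (by rw [hg', AlgHom.commutes, AlgHom.commutes])
          (by rw [hg'', AlgHom.commutes, AlgHom.commutes]) }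
    have hχ : B.res.comp χ = resR := AlgHom.ext fun r => by
      rw [AlgHom.comp_apply, ← Art.res_app p']
      change A'.res (p' (g r)) = _
      rw [hg']
      exact DFunLike.congr_fun φ.2 r
    exact ⟨(⟨χ, hχ⟩ : HomSet R resR B), Subtype.ext (AlgHom.ext hg'), Subtype.ext (AlgHom.ext hg'')⟩

lemma universal_app_bijective (ξ : Family R resR F) (hξ : IsUniversal ξ) : H0 F ∧ IsLeftExact F := by
  refine ⟨h0_of_surjective ξ (hξ _).2, fun B A A' A'' p' p'' f' f'' h => ?_⟩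
  have hb := hR_bijective_cmp (R := R) (resR := resR) h
  refine ⟨(cmp_inj_iff F h).2 fun z₁ z₂ e₁ e₂ => ?_, (cmp_surj_iff F h).2 fun x y e => ?_⟩
  · obtain ⟨φ, rfl⟩ := (hξ B).2 z₁
    obtain ⟨ψ, rfl⟩ := (hξ B).2 z₂
    rw [← ξ.natural, ← ξ.natural] at e₁ e₂
    rw [show φ = ψ from (cmp_inj_iff (hR R resR) h).1 hb.1 φ ψ ((hξ _).1 e₁) ((hξ _).1 e₂)]
  · obtain ⟨φ, rfl⟩ := (hξ A').2 x
    obtain ⟨ψ, rfl⟩ := (hξ A'').2 y
    rw [← ξ.natural, ← ξ.natural] at e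
    obtain ⟨(χ : HomSet R resR B), (hχ₁ : HomSet.map p' χ = φ), (hχ₂ : HomSet.map p'' χ = ψ)⟩ :=
      (cmp_surj_iff (hR R resR) h).1 hb.2 φ ψ ((hξ _).1 e)
    exact ⟨ξ.app B χ, by rw [← ξ.natural]; exact congrArg _ hχ₁, by rw [← ξ.natural]; exact congrArg _ hχ₂⟩

lemma versal_s1 (ξ : Family R resR F) (hξ : IsVersal ξ)
    (hs : ∀ A, Function.Surjective (ξ.app A)) : S1 F := by
  intro B A A' A'' p' p'' f' f'' h hf
  refine (cmp_surj_iff F h).2 fun x y e => ?_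
  obtain ⟨φ, rfl⟩ := hs A' x
  rw [← ξ.natural] at e
  obtain ⟨ψ, hψ₁, hψ₂⟩ := hξ f'' hf (HomSet.map f' φ) y e.symm
  obtain ⟨(χ : HomSet R resR B), (hχ₁ : HomSet.map p' χ = φ), (hχ₂ : HomSet.map p'' χ = ψ)⟩ :=
    (cmp_surj_iff (hR R resR) h).1 (hR_bijective_cmp h).2 φ ψ hψ₁.symm
  refine ⟨ξ.app B χ, by rw [← ξ.natural]; exact congrArg _ hχ₁, ?_⟩
  rw [← ξ.natural, ← hψ₂]
  exact congrArg _ hχ₂

end Family

end Groth.L12
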