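import Groth.Agent.L12.FunBasic
import Mathlib.CategoryTheory.Limits.FunctorCategory.Basic
import Mathlib.CategoryTheory.Limits.Shapes.Pullback.IsPullback.Basic
import Mathlib.CategoryTheory.Limits.Types.Pullbacks
import Mathlib.CategoryTheory.Limits.Types.Products
import Mathlib.CategoryTheory.Limits.Preserves.Shapes.BinaryProducts

/-!
# Fibre products of functors of Artin rings
-/

universe u v w

open CategoryTheory CategoryTheory.Limits ArtFun ArtFun.Art IsLocalRing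

namespace Groth.L12

variable {Λ : Type u} {k : Type u} [CommRing Λ] [Field k] [Algebra Λ k]
variable {F G H : Art Λ k ⥤ Type v} (f : F ⟶ H) (g : G ⟶ H)

lemma pullback_app (A : Art Λ k) :
    IsPullback ((pullback.fst f g).app A) ((pullback.snd f g).app A) (f.app A) (g.app A) :=
  IsPullback.map ((evaluation _ _).obj A) (IsPullback.of_hasPullback f g)

lemma pb_ext {A : Art Λ k} {x y : (pullback f g).obj A}
    (h₁ : (pullback.fst f g).app A x = (pullback.fst f g).app A y)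
    (h₂ : (pullback.snd f g).app A x = (pullback.snd f g).app A y) : x = y :=
  Types.ext_of_isPullback (pullback_app f g A) h₁ h₂

lemma pb_surj {A : Art Λ k} (a : F.obj A) (b : G.obj A) (e : f.app A a = g.app A b) :
    ∃ z : (pullback f g).obj A, (pullback.fst f g).app A z = a ∧ (pullback.snd f g).app A z = b :=
  Types.exists_of_isPullback (pullback_app f g A) a b e

lemma pb_w {A : Art Λ k} (z : (pullback f g).obj A) :
    f.app A ((pullback.fst f g).app A z) = g.app A ((pullback.snd f g).app A z) :=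
  ConcreteCategory.congr_hom (pullback_app f g A).w z

lemma smooth_pullback_snd (hf : IsSmooth f) : IsSmooth (pullback.snd f g) := by
  intro B A μ hμ
  refine (relCmp_surj_iff _ μ).2 fun x y e => ?_
  obtain ⟨a, ha₁, ha₂⟩ := (relCmp_surj_iff f μ).1 (hf μ hμ) ((pullback.fst f g).app A x) (g.app B y)
    (by rw [pb_w, e, nat_apply])
  obtain ⟨z, hz₁, hz₂⟩ := pb_surj f g a y ha₂
  refine ⟨z, pb_ext f g ?_ ?_, hz₂⟩
  · rw [nat_apply, hz₁, ha₁]
  · rw [nat_apply, hz₂, e]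

lemma rs_pullback (hH : RS H) (hF : RS F) (hG : RS G) : RS (pullback f g) := by
  intro B A A' A'' p' p'' f' f'' h hf
  refine ⟨(cmp_inj_iff _ h).2 fun z₁ z₂ e₁ e₂ => pb_ext f g ?_ ?_, (cmp_surj_iff _ h).2 fun x y e => ?_⟩
  · exact (cmp_inj_iff F h).1 (hF p' p'' f' f'' h hf).1 _ _ (by rw [← nat_apply, e₁, nat_apply])
      (by rw [← nat_apply, e₂, nat_apply])
  · exact (cmp_inj_iff G h).1 (hG p' p'' f' f'' h hf).1 _ _ (by rw [← nat_apply, e₁, nat_apply])
      (by rw [← nat_apply, e₂, nat_apply])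
  · obtain ⟨a, ha₁, ha₂⟩ := (cmp_surj_iff F h).1 (hF p' p'' f' f'' h hf).2
      ((pullback.fst f g).app A' x) ((pullback.fst f g).app A'' y) (by rw [← nat_apply, e, nat_apply])
    obtain ⟨b, hb₁, hb₂⟩ := (cmp_surj_iff G h).1 (hG p' p'' f' f'' h hf).2
      ((pullback.snd f g).app A' x) ((pullback.snd f g).app A'' y) (by rw [← nat_apply, e, nat_apply])
    obtain ⟨z, hz₁, hz₂⟩ := pb_surj f g a b ((cmp_inj_iff H h).1 (hH p' p'' f' f'' h hf).1 _ _
      (by rw [← nat_apply, ha₁, ← nat_apply, hb₁, pb_w]) (by rw [← nat_apply, ha₂, ← nat_apply, hb₂, pb_w]))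
    exact ⟨z, pb_ext f g (by rw [nat_apply, hz₁, ha₁]) (by rw [nat_apply, hz₂, hb₁]),
      pb_ext f g (by rw [nat_apply, hz₁, ha₂]) (by rw [nat_apply, hz₂, hb₂])⟩

lemma smoothFunctor_prod (hF : IsSmoothFunctor F) (hG : IsSmoothFunctor G) :
    IsSmoothFunctor (F ⨯ G) := by
  intro B A μ hμ x
  have hl : ∀ C : Art Λ k, IsLimit (BinaryFan.mk ((prod.fst : F ⨯ G ⟶ F).app C) ((prod.snd : F ⨯ G ⟶ G).app C)) :=
    fun C => isLimitOfHasBinaryProductOfPreservesLimit ((evaluation _ _).obj C) F G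
  obtain ⟨a, ha⟩ := hF μ hμ ((prod.fst : F ⨯ G ⟶ F).app A x)
  obtain ⟨b, hb⟩ := hG μ hμ ((prod.snd : F ⨯ G ⟶ G).app A x)
  let s : PUnit.{v+1} ⟶ (F ⨯ G).obj B :=
    (hl B).lift (BinaryFan.mk (↾fun _ => a) (↾fun _ => b))
  have h1 : (prod.fst : F ⨯ G ⟶ F).app B (s PUnit.unit) = a :=
    ConcreteCategory.congr_hom ((hl B).fac (BinaryFan.mk (↾fun _ => a) (↾fun _ => b)) ⟨WalkingPair.left⟩) PUnit.unit
  have h2 : (prod.snd : F ⨯ G ⟶ G).app B (s PUnit.unit) = b :=
    ConcreteCategory.congr_hom ((hl B).fac (BinaryFan.mk (↾fun _ => a) (↾fun _ => b)) ⟨WalkingPair.right⟩) PUnit.unit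
  refine ⟨s PUnit.unit, ?_⟩
  have key : (↾fun _ : PUnit.{v+1} => (F ⨯ G).map μ (s PUnit.unit)) = (↾fun _ => x) := by
    refine BinaryFan.IsLimit.hom_ext (hl A) ?_ ?_
    · refine ConcreteCategory.hom_ext _ _ fun _ => ?_
      change (prod.fst : F ⨯ G ⟶ F).app A ((F ⨯ G).map μ (s PUnit.unit)) = (prod.fst : F ⨯ G ⟶ F).app A x
      rw [nat_apply, h1, ha]
    · refine ConcreteCategory.hom_ext _ _ fun _ => ?_
      change (prod.snd : F ⨯ G ⟶ G).app A ((F ⨯ G).map μ (s PUnit.unit)) = (prod.snd : F ⨯ G ⟶ G).app A x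
      rw [nat_apply, h2, hb]
  exact ConcreteCategory.congr_hom key PUnit.unit

end Groth.L12
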