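/-
Nisnevich covers of bounded length.
-/
import Groth.Prelude.Def_W4c5algebraiztannakaNis
import Groth.Agent.L12.PointsProd
import Groth.Agent.L06.ProCons
import Mathlib.AlgebraicGeometry.PullbackCarrier

/-!
# Chains for Nisnevich covers, base change, composition, Zariski covers
-/

set_option autoImplicit false
set_option linter.style.haveILetI false

universe u

noncomputable section

open CategoryTheory CategoryTheory.Limits AlgebraicGeometry Topology W4c5algebraiztannaka

namespace Groth.L12.NisCover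

variable {U Y : Scheme.{u}}

/-- `A` is reached from `∅` in `n` steps with sections of `f` over the strata -/
inductive Chain (f : U ⟶ Y) : Set Y → ℕ → Prop
  | zero : Chain f ∅ 0
  | step {A B : Set Y} {n : ℕ} : Chain f A n → A ⊆ B → IsClosed B → IsConstructible B →
      HasSectOver f (B \ A) → Chain f B (n + 1)

variable {f : U ⟶ Y}

lemma Chain.closed {A : Set Y} {n : ℕ} (h : Chain f A n) : IsClosed A ∧ IsConstructible A := by
  cases h with
  | zero => exact ⟨isClosed_empty, IsConstructible.empty⟩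
  | step _ _ h1 h2 _ => exact ⟨h1, h2⟩

lemma Chain.of_isNisCoverLen {m : ℕ} (h : IsNisCoverLen f m) : Chain f Set.univ m := by
  obtain ⟨Z, h0, hl, hm, hc, hs⟩ := h.flag
  suffices ∀ k : Fin (m + 1), Chain f (Z k) k.1 by simpa [hl] using this (Fin.last m)
  intro k
  induction k using Fin.induction with
  | zero => rw [h0]; exact .zero
  | succ i ih => exact .step ih (hm i.castSucc_le_succ) (hc _).1 (hc _).2 (hs i)

lemma Chain.exists_flag {A : Set Y} {n : ℕ} (h : Chain f A n) :
    ∃ Z : Fin (n + 1) → Set Y, Z 0 = ∅ ∧ Z (Fin.last n) = A ∧ Monotone Z ∧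
      (∀ k, IsClosed (Z k) ∧ IsConstructible (Z k)) ∧
      ∀ k : Fin n, HasSectOver f (Z k.succ \ Z k.castSucc) := by
  induction h with
  | zero => exact ⟨fun _ => ∅, rfl, rfl, monotone_const, fun _ => ⟨isClosed_empty, IsConstructible.empty⟩,
      fun k => k.elim0⟩
  | @step A B n hA hAB h1 h2 h3 ih =>
    obtain ⟨Z, z0, zl, zm, zc, zs⟩ := ih
    refine ⟨Fin.snoc Z B, ?_, Fin.snoc_last _ _, ?_, ?_, ?_⟩
    · rw [← Fin.castSucc_zero, Fin.snoc_castSucc, z0]
    · refine Fin.monotone_iff_le_succ.2 fun i => ?_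
      induction i using Fin.lastCases with
      | last => rw [Fin.snoc_castSucc, zl, Fin.succ_last, Fin.snoc_last]; exact hAB
      | cast i => rw [Fin.snoc_castSucc, Fin.succ_castSucc, Fin.snoc_castSucc]; exact zm i.castSucc_le_succ
    · intro k
      induction k using Fin.lastCases with
      | last => rw [Fin.snoc_last]; exact ⟨h1, h2⟩
      | cast i => rw [Fin.snoc_castSucc]; exact zc i
    · intro i
      induction i using Fin.lastCases with
      | last => rw [Fin.snoc_castSucc, zl, Fin.succ_last, Fin.snoc_last]; exact h3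
      | cast i => rw [Fin.snoc_castSucc, Fin.succ_castSucc, Fin.snoc_castSucc]; exact zs i

lemma Chain.isNisCoverLen [Etale f] {m : ℕ} (h : Chain f Set.univ m) : IsNisCoverLen f m :=
  ⟨inferInstance, h.exists_flag⟩

/-- base change of a chain -/
lemma Chain.baseChange {Y' : Scheme.{u}} (g : Y' ⟶ Y) {A : Set Y} {n : ℕ} (h : Chain f A n) :
    Chain (pullback.snd f g) (g ⁻¹' A) n := by
  induction h with
  | zero => exact .zero
  | @step A B n hA hAB h1 h2 h3 ih =>
    refine .step ih (Set.preimage_mono hAB) (h1.preimage g.continuous) (g.isConstructible_preimage h2) ?_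
    obtain ⟨T, i, s, hi, hr, hs⟩ := h3
    refine ⟨pullback i g, pullback.snd i g, pullback.map i g f g s (𝟙 _) (𝟙 _) (by simp [hs]) (by simp),
      inferInstance, ?_, (pullback.lift_snd _ _ _).trans (Category.comp_id _)⟩
    change Set.range (pullback.snd i g) = _
    rw [Scheme.Pullback.range_snd, show Set.range i = B \ A from hr]
    rfl

theorem isNisCoverLen_baseChange {Y' : Scheme.{u}} (g : Y' ⟶ Y) {m : ℕ} (h : IsNisCoverLen f m) :
    IsNisCoverLen (pullback.snd f g) m := by
  haveI := h.etale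
  exact Chain.isNisCoverLen (by simpa using (Chain.of_isNisCoverLen h).baseChange g)

open Groth.L19.Limit in
/-- constructibly closed subsets of quasi-compact schemes are compact -/
theorem isCompact_of_cc [CompactSpace Y] {C : Set Y} (hC : CC C) : IsCompact C := by
  obtain ⟨F, hF⟩ := isCompact_univ.elim_finite_subcover
    (fun V : Y.affineOpens => (V.1 : Set Y)) (fun V => V.1.2) (fun y _ => by
      obtain ⟨_, ⟨(V : Y.Opens), hV, rfl⟩, hyV, -⟩ :=
        Y.isBasis_affineOpens.exists_subset_of_mem_open (Set.mem_univ y) isOpen_univ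
      exact Set.mem_iUnion.2 ⟨⟨V, hV⟩, hyV⟩)
  have e : C = ⋃ V ∈ F, V.1.ι '' (V.1.ι ⁻¹' C) := by
    ext y
    simp only [Set.mem_iUnion, Set.image_preimage_eq_inter_range, Scheme.Opens.range_ι, Set.mem_inter_iff]
    refine ⟨fun hy => ?_, fun ⟨_, _, h, _⟩ => h⟩
    obtain ⟨V, hVF, hyV⟩ := Set.mem_iUnion₂.1 (hF (Set.mem_univ y))
    exact ⟨V, hVF, hy, hyV⟩
  rw [e]
  refine F.isCompact_biUnion fun V _ => ?_
  haveI := spectralSpace_opens V.2
  exact (Groth.L06.Spectral.isCompact_of_isClosed_cons (hC V.1 V.2)).image V.1.ι.continuous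

open Groth.L19.Limit in
/-- composition of chains -/
theorem isNisCoverLen_comp {Y₁ Y₂ Y₃ : Scheme.{u}} (g₁ : Y₁ ⟶ Y₂) (g₂ : Y₂ ⟶ Y₃)
    [CompactSpace Y₃] [QuasiSeparatedSpace Y₃] {m₁ m₂ : ℕ}
    (h₁ : IsNisCoverLen g₁ m₁) (h₂ : IsNisCoverLen g₂ m₂) : IsNisCoverLen (g₁ ≫ g₂) (m₁ * m₂) := by
  haveI := h₁.etale
  haveI := h₂.etale
  refine Chain.isNisCoverLen ?_
  have hin := Chain.of_isNisCoverLen h₁
  suffices ∀ {A : Set Y₃} {n : ℕ}, Chain g₂ A n → Chain (g₁ ≫ g₂) A (m₁ * n) from
    this (Chain.of_isNisCoverLen h₂)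
  intro A n hA
  induction hA with
  | zero => rw [mul_zero]; exact .zero
  | @step A B n hA hAB h1 h2 h3 ih =>
    obtain ⟨T, i, s, hi, hr, hs⟩ := h3
    replace hr : Set.range i = B \ A := hr
    have hAc := hA.closed
    have hW : IsConstructible (Set.range i) := hr ▸ h2.sdiff hAc.2
    haveI : CompactSpace T := by
      have : IsCompact (Set.range i) :=
        isCompact_of_cc (cc_of_isConstructible hW)
      exact ⟨i.isEmbedding.isCompact_iff.2 (by simpa [Set.image_univ] using this)⟩
    haveI : QuasiCompact i := quasiCompact_of_compactSpace i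
    suffices key : ∀ {C : Set Y₂} {l : ℕ}, Chain g₁ C l → Chain (g₁ ≫ g₂) (A ∪ i '' (s ⁻¹' C)) (m₁ * n + l) by
      have := key hin
      rwa [Set.preimage_univ, Set.image_univ, hr, Set.union_diff_cancel hAB, ← Nat.mul_succ] at this
    intro C l hC
    induction hC with
    | zero => simpa using ih
    | @step C D l hC hCD h4 h5 h6 ihC =>
      refine .step ihC (Set.union_subset_union_right _ (Set.image_mono (Set.preimage_mono hCD))) ?_ ?_ ?_
      · obtain ⟨F, hF, hFeq⟩ := (i.isEmbedding.isInducing.isClosed_iff).1 (h4.preimage s.continuous)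
        have e : A ∪ i '' (s ⁻¹' D) = A ∪ (B ∩ F) := by
          rw [← hFeq, Set.image_preimage_eq_inter_range, hr]
          ext y
          simp only [Set.mem_union, Set.mem_inter_iff, Set.mem_diff]
          tauto
        rw [e]
        exact hAc.1.union (h1.inter hF)
      · refine IsLocallyConstructible.isConstructible (hAc.2.isLocallyConstructible.union ?_)
        rw [Groth.L06.ProCons.isLocallyConstructible_iff_cc]
        have hs' := Groth.L06.ProCons.isLocallyConstructible_iff_cc.1
          (s.isConstructible_preimage h5).isLocallyConstructible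
        have hW' := Groth.L06.ProCons.isLocallyConstructible_iff_cc.1 hW.isLocallyConstructible
        refine ⟨Groth.L06.ProCons.cc_image i hs'.1, ?_⟩
        have e : (i '' (s ⁻¹' D))ᶜ = (Set.range i)ᶜ ∪ i '' (s ⁻¹' D)ᶜ := by
          ext y
          constructor
          · intro hy
            by_cases hyr : y ∈ Set.range i
            · obtain ⟨t, rfl⟩ := hyr
              exact Or.inr ⟨t, fun ht => hy ⟨t, ht, rfl⟩, rfl⟩
            · exact Or.inl hyr
          · rintro (hy | ⟨t, ht, rfl⟩) ⟨t', ht', he⟩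
            · exact hy ⟨t', he⟩
            · exact ht (i.isEmbedding.injective he ▸ ht')
        rw [e]
        exact CC.union hW'.2 (Groth.L06.ProCons.cc_image i hs'.2)
      · obtain ⟨T', i', s', hi', hr', hs''⟩ := h6
        replace hr' : Set.range i' = D \ C := hr'
        refine ⟨pullback s i', pullback.fst s i' ≫ i, pullback.snd s i' ≫ s', inferInstance, ?_, ?_⟩
        · change Set.range (pullback.fst s i' ≫ i) = _
          rw [Scheme.Hom.comp_base, TopCat.coe_comp, Set.range_comp, Scheme.Pullback.range_fst, hr']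
          ext y
          constructor
          · rintro ⟨t, ⟨ht1, ht2⟩, rfl⟩
            refine ⟨Or.inr ⟨t, ht1, rfl⟩, ?_⟩
            rintro (hA' | ⟨t', ht', he⟩)
            · exact (hr ▸ Set.mem_range_self t : i t ∈ B \ A).2 hA'
            · exact ht2 (i.isEmbedding.injective he ▸ ht')
          · rintro ⟨hy | ⟨t, ht, rfl⟩, hn⟩
            · exact absurd (Or.inl hy) hn
            · exact ⟨t, ⟨ht, fun h => hn (Or.inr ⟨t, h, rfl⟩)⟩, rfl⟩
        · rw [Category.assoc, reassoc_of% hs'', ← pullback.condition_assoc, hs]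

/-- a finite open cover is a Nisnevich cover -/
theorem isNisCoverLen_sigma {U : Scheme.{u}} [CompactSpace U] [QuasiSeparatedSpace U]
    (k : ℕ) (V : Fin k → U.Opens) (hV : ∀ i, IsCompact (V i : Set U)) (hcov : ⨆ i, V i = ⊤) :
    IsNisCoverLen
      (Limits.Sigma.desc (fun i => (V i).ι) : (∐ fun i => ((V i : U.Opens) : Scheme.{u})) ⟶ U) k := by
  haveI : Etale (Limits.Sigma.desc (fun i => (V i).ι) : (∐ fun i => ((V i : U.Opens) : Scheme.{u})) ⟶ U) :=
    IsZariskiLocalAtSource.sigmaDesc (P := @Etale) fun i => inferInstance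
  refine Chain.isNisCoverLen ?_
  suffices ∀ n ≤ k, Chain (Limits.Sigma.desc (fun i => (V i).ι) : (∐ fun i => ((V i : U.Opens) : Scheme.{u})) ⟶ U)
      (⋂ i ∈ {i : Fin k | i.1 + n < k}, (V i : Set U)ᶜ) n by
    simpa using this k le_rfl
  intro n hn
  induction n with
  | zero =>
    have e : (⋂ i ∈ {i : Fin k | i.1 + 0 < k}, (V i : Set U)ᶜ) = ∅ := by
      refine Set.eq_empty_of_forall_notMem fun x hx => ?_
      obtain ⟨i, hi⟩ := TopologicalSpace.Opens.mem_iSup.1 (show x ∈ ⨆ i, V i by rw [hcov]; trivial)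
      exact Set.mem_iInter₂.1 hx i (by simp) hi
    rw [e]
    exact .zero
  | succ n ih =>
    let j : Fin k := ⟨k - (n + 1), by omega⟩
    refine .step (ih (by omega)) ?_ ?_ ?_ ?_
    · exact Set.biInter_subset_biInter_left fun i hi => show i.1 + n < k by
        have : i.1 + (n + 1) < k := hi
        omega
    · exact isClosed_biInter fun i _ => (V i).2.isClosed_compl
    · exact IsConstructible.biInter (Set.toFinite _) fun i _ => ((hV i).isConstructible (V i).2).compl
    · let Z : TopologicalSpace.Closeds (V j : Scheme.{u}) :=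
        ⟨(V j).ι ⁻¹' (⋂ i ∈ {i : Fin k | i.1 + (n + 1) < k}, (V i : Set U)ᶜ),
          (isClosed_biInter fun i _ => (V i).2.isClosed_compl).preimage (V j).ι.continuous⟩
      let I := Scheme.IdealSheafData.vanishingIdeal Z
      refine ⟨I.subscheme, I.subschemeι ≫ (V j).ι,
        I.subschemeι ≫ Sigma.ι (fun i => ((V i : U.Opens) : Scheme.{u})) j, inferInstance, ?_,
        by rw [Category.assoc, Sigma.ι_desc]⟩
      change Set.range (I.subschemeι ≫ (V j).ι) = _
      rw [Scheme.Hom.comp_base, TopCat.coe_comp, Set.range_comp, Scheme.IdealSheafData.range_subschemeι,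
        Scheme.IdealSheafData.coe_support_vanishingIdeal, show (Z : Set (V j : Scheme.{u})) =
          (V j).ι ⁻¹' (⋂ i ∈ {i : Fin k | i.1 + (n + 1) < k}, (V i : Set U)ᶜ) from rfl,
        Set.image_preimage_eq_inter_range, Scheme.Opens.range_ι]
      ext x
      simp only [Set.mem_inter_iff, Set.mem_diff, Set.mem_iInter, Set.mem_setOf_eq, Set.mem_compl_iff,
        SetLike.mem_coe, not_forall, not_not]
      constructor
      · rintro ⟨h1, h2⟩
        exact ⟨h1, j, by simp only [j]; omega, h2⟩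
      · rintro ⟨h1, i, hi, h2⟩
        refine ⟨h1, ?_⟩
        by_cases hij : i = j
        · exact hij ▸ h2
        · exact absurd h2 (h1 i (by
            have : i.1 ≠ k - (n + 1) := fun h => hij (Fin.ext h)
            omega))

/-- uniformly many affines cover the base changes along affine schemes -/
theorem exists_affine_bound {W : Scheme.{u}} (j : W ⟶ Y) [CompactSpace W] [CompactSpace Y]
    [QuasiSeparatedSpace Y] :
    ∃ m : ℕ, ∀ (B : CommRingCat.{u}) (g : Spec B ⟶ Y),
      ∃ O : Fin m → (pullback j g).Opens, (∀ k, IsAffineOpen (O k)) ∧ ⨆ k, O k = ⊤ := by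
  classical
  let 𝒱 : Y.OpenCover := Y.affineCover.finiteSubcover
  haveI : ∀ i, IsAffine (𝒱.X i) := fun i => inferInstanceAs (IsAffine (Y.affineCover.X _))
  haveI : QuasiCompact j := quasiCompact_of_compactSpace j
  have hk : ∀ i, ∃ F : Set W.Opens, F.Finite ∧ (∀ O ∈ F, IsAffineOpen O ∧ O ≤ j ⁻¹ᵁ (𝒱.f i).opensRange) ∧
      (j ⁻¹ᵁ (𝒱.f i).opensRange : Set W) ⊆ ⋃ O ∈ F, (O : Set W) := by
    intro i
    have hc : IsCompact (j ⁻¹ᵁ (𝒱.f i).opensRange : Set W) :=
      j.isCompact_preimage (isAffineOpen_opensRange (𝒱.f i)).isCompact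
    obtain ⟨F, hF, hFf, hcov⟩ := hc.elim_finite_subcover_image
      (b := {O : W.Opens | IsAffineOpen O ∧ O ≤ j ⁻¹ᵁ (𝒱.f i).opensRange}) (c := fun O => (O : Set W))
      (fun O _ => O.2) fun x hx => by
        obtain ⟨_, ⟨(O : W.Opens), hO, rfl⟩, hxO, hOle⟩ :=
          W.isBasis_affineOpens.exists_subset_of_mem_open hx (j ⁻¹ᵁ (𝒱.f i).opensRange).2
        exact Set.mem_biUnion (show O ∈ {O : W.Opens | _} from ⟨hO, hOle⟩) hxO
    exact ⟨F, hFf, hF, hcov⟩
  choose F hFfin hFprop hFcov using hk
  haveI : ∀ i, Fintype (F i) := fun i => (hFfin i).fintype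
  refine ⟨Fintype.card (Σ i, F i), fun B g => ?_⟩
  obtain ⟨a, hsum, hmem⟩ := Groth.L12.PointsProd.exists_partition 𝒱 g
  let O : (Σ i, F i) → (pullback j g).Opens := fun p =>
    (pullback.fst j g ⁻¹ᵁ p.2.1) ⊓ (pullback.snd j g ⁻¹ᵁ (PrimeSpectrum.basicOpen (a p.1) : (Spec B).Opens))
  have hcover : ∀ z, ∃ p, z ∈ O p := by
    intro z
    obtain ⟨i, hi⟩ : ∃ i, a i ∉ (pullback.snd j g z).asIdeal := by
      by_contra hcon
      rw [not_exists] at hcon
      exact (pullback.snd j g z).isPrime.one_notMem (hsum ▸ Ideal.sum_mem _ fun i _ => not_not.1 (hcon i))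
    have h1 : j (pullback.fst j g z) ∈ (𝒱.f i).opensRange := by
      have := congrArg (fun φ : pullback j g ⟶ Y => φ z) (pullback.condition (f := j) (g := g))
      simp only [Scheme.Hom.comp_apply] at this
      rw [this]
      exact hmem i _ hi
    obtain ⟨W', hW', hzW⟩ := Set.mem_iUnion₂.1 (hFcov i h1)
    exact ⟨⟨i, W', hW'⟩, hzW, hi⟩
  have haff : ∀ p, IsAffineOpen (O p) := by
    rintro ⟨i, W', hW'⟩
    obtain ⟨hWa, hWle⟩ := hFprop i W' hW'
    let D : (Spec B).Opens := PrimeSpectrum.basicOpen (a i)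
    haveI : IsAffine (W' : Scheme.{u}) := hWa
    haveI : IsAffine (D : Scheme.{u}) := by
      have hD : D = (Spec B).basicOpen ((Scheme.ΓSpecIso B).inv (a i)) := by rw [basicOpen_eq_of_affine]
      rw [hD]
      exact (isAffineOpen_top (Spec B)).basicOpen _
    have hW1 : Set.range (W'.ι ≫ j) ⊆ Set.range (𝒱.f i) := by
      rintro _ ⟨w, rfl⟩
      exact hWle w.2
    have hD1 : Set.range (D.ι ≫ g) ⊆ Set.range (𝒱.f i) := by
      rintro _ ⟨w, rfl⟩
      exact hmem i _ w.2
    let q := pullback.map (IsOpenImmersion.lift (𝒱.f i) (W'.ι ≫ j) hW1) (IsOpenImmersion.lift (𝒱.f i) (D.ι ≫ g) hD1)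
      j g W'.ι D.ι (𝒱.f i) (IsOpenImmersion.lift_fac _ _ _) (IsOpenImmersion.lift_fac _ _ _)
    have hq : q.opensRange = O ⟨i, W', hW'⟩ := by
      refine TopologicalSpace.Opens.ext ?_
      change Set.range q = _
      rw [Scheme.Pullback.range_map, Scheme.Opens.range_ι, Scheme.Opens.range_ι]
      rfl
    rw [← hq]
    exact isAffineOpen_opensRange q
  refine ⟨fun k => O ((Fintype.equivFin _).symm k), fun k => haff _, ?_⟩
  refine top_le_iff.1 fun z _ => ?_
  obtain ⟨p, hp⟩ := hcover z
  exact TopologicalSpace.Opens.mem_iSup.2 ⟨Fintype.equivFin _ p, by simpa using hp⟩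

/-- refinement of a Nisnevich cover with affine source by affines over affines -/
theorem exists_affine_refinement [IsAffine U] [CompactSpace Y] [QuasiSeparatedSpace Y] {m' : ℕ}
    (hf : IsNisCoverLen f m') :
    ∃ m : ℕ, ∀ (B : CommRingCat.{u}) (g : Spec B ⟶ Y),
      ∃ (V : Scheme.{u}) (_ : IsAffine V) (v : V ⟶ Spec B) (w : V ⟶ U),
        IsNisCoverLen v m ∧ w ≫ f = v ≫ g := by
  obtain ⟨r, hr⟩ := exists_affine_bound f
  refine ⟨r * m', fun B g => ?_⟩
  obtain ⟨O, hO, hcov⟩ := hr B g
  haveI : QuasiCompact f := quasiCompact_of_compactSpace f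
  haveI : CompactSpace (pullback f g : Scheme.{u}) := QuasiCompact.compactSpace_of_compactSpace (pullback.snd f g)
  haveI : QuasiSeparated f :=
    haveI : QuasiSeparated (f ≫ terminal.from Y) := inferInstance
    QuasiSeparated.of_comp f (terminal.from Y)
  haveI : QuasiSeparatedSpace (pullback f g : Scheme.{u}) :=
    quasiSeparatedSpace_of_quasiSeparated (pullback.snd f g)
  haveI : ∀ k, IsAffine ((O k : (pullback f g).Opens) : Scheme.{u}) := hO
  refine ⟨∐ fun k => ((O k : (pullback f g).Opens) : Scheme.{u}), inferInstance,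
    Sigma.desc (fun k => (O k).ι) ≫ pullback.snd f g,
    Sigma.desc (fun k => (O k).ι) ≫ pullback.fst f g,
    isNisCoverLen_comp _ _ (isNisCoverLen_sigma r O (fun k => (hO k).isCompact) hcov)
      (isNisCoverLen_baseChange g hf), by simp [pullback.condition]⟩

end Groth.L12.NisCover

end
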