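/-
Bounding the number of generators of a module from local or Nisnevich-local generators.
-/
import Groth.Agent.L12.NisCover
import Groth.Agent.L18.TildeFunctor
import Groth.Agent.L19.LocFreeDescent
import Mathlib.RingTheory.Finiteness.Nakayama
import Mathlib.RingTheory.Support

/-!
# Number of generators along a stratification
-/

set_option autoImplicit false
set_option linter.style.haveILetI false

universe u

noncomputable section

open CategoryTheory CategoryTheory.Limits AlgebraicGeometry TensorProduct W4c5algebraiztannaka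

namespace Groth.L12.GenBound

/-- an epimorphism onto the pullback of `M~` gives generators modulo any ideal through which it factors -/
theorem exists_gen_mod {R : CommRingCat.{u}} (M : ModuleCat.{u} R) {V : Scheme.{u}} (q : V ⟶ Spec R) {n : ℕ}
    (φ : FlatMod.freeMod V n ⟶ (Scheme.Modules.pullback q).obj (tilde M)) [Epi φ] (J : Ideal R)
    (h : Spec (.of (R ⧸ J)) ⟶ V)
    (hh : h ≫ q = Spec.map (CommRingCat.ofHom (Ideal.Quotient.mk J))) :
    ∃ t : Fin n → M, Submodule.span R (Set.range t) ⊔ J • (⊤ : Submodule R M) = ⊤ := by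
  let S : CommRingCat.{u} := .of (R ⧸ J)
  let f : R ⟶ S := CommRingCat.ofHom (algebraMap R (R ⧸ J))
  let e : (Scheme.Modules.pullback h).obj ((Scheme.Modules.pullback q).obj (tilde M)) ≅
      tilde ((ModuleCat.extendScalars f.hom).obj M) :=
    ((Scheme.Modules.pullbackComp h q).app (tilde M)) ≪≫ (Scheme.Modules.pullbackCongr hh).app (tilde M) ≪≫
      (Groth.L18.TildeF.pullbackTildeIso f).app M
  let F : tilde (ModuleCat.of S (ULift.{u} (Fin n) →₀ S)) ⟶ tilde ((ModuleCat.extendScalars f.hom).obj M) :=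
    (Groth.L19.PullChart.freeTildeIso S n).hom ≫ (Groth.L29.LocFree.pullbackFreeIso h n).inv ≫
      (Scheme.Modules.pullback h).map φ ≫ e.hom
  haveI hepi : Epi ((Scheme.Modules.pullback h).map φ) :=
    haveI := (Scheme.Modules.pullbackPushforwardAdjunction h).isLeftAdjoint
    inferInstance
  haveI hFepi : Epi F := by
    dsimp only [F]
    infer_instance
  let ψ : ModuleCat.of S (ULift.{u} (Fin n) →₀ S) ⟶ (ModuleCat.extendScalars f.hom).obj M :=
    tilde.fullyFaithfulFunctor.preimage F
  have hψ : (tilde.functor S).map ψ = F := tilde.fullyFaithfulFunctor.map_preimage F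
  haveI : (tilde.functor S).Faithful := tilde.fullyFaithfulFunctor.faithful
  haveI : Epi ((tilde.functor S).map ψ) := by rw [hψ]; exact hFepi
  haveI : Epi ψ := (tilde.functor S).epi_of_epi_map inferInstance
  have hsurj : Function.Surjective ψ.hom := (ModuleCat.epi_iff_surjective ψ).1 inferInstance
  obtain ⟨e'⟩ := Groth.L18.TildeF.extendScalars_equiv (R := R) (S := R ⧸ J) M
  let Φ : (ULift.{u} (Fin n) →₀ (R ⧸ J)) →ₗ[R ⧸ J] (R ⧸ J) ⊗[R] M := e'.toLinearMap.comp ψ.hom
  have hΦ : Function.Surjective Φ := e'.surjective.comp hsurj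
  let Q : (R ⧸ J) ⊗[R] M ≃ₗ[R] M ⧸ (J • ⊤ : Submodule R M) := TensorProduct.quotTensorEquivQuotSMul M J
  choose t ht using fun l : Fin n =>
    Submodule.mkQ_surjective (J • ⊤ : Submodule R M) (Q (Φ (Finsupp.single (ULift.up l) 1)))
  refine ⟨t, top_le_iff.1 fun m _ => ?_⟩
  obtain ⟨x, hx⟩ := hΦ (Q.symm (Submodule.mkQ _ m))
  have hx' : Submodule.mkQ (J • ⊤ : Submodule R M) m = Q (Φ x) := by rw [hx, LinearEquiv.apply_symm_apply]
  have key : ∀ y : ULift.{u} (Fin n) →₀ (R ⧸ J),
      Q (Φ y) ∈ (Submodule.span R (Set.range t)).map (Submodule.mkQ (J • ⊤ : Submodule R M)) := by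
    intro y
    induction y using Finsupp.induction_linear with
    | zero => simp
    | add a b ha hb => rw [map_add, map_add]; exact add_mem ha hb
    | single l a =>
      obtain ⟨r, rfl⟩ := Ideal.Quotient.mk_surjective a
      have : (Finsupp.single l (Ideal.Quotient.mk J r) : ULift.{u} (Fin n) →₀ (R ⧸ J)) =
          r • Finsupp.single l 1 := by
        rw [Finsupp.smul_single, Algebra.smul_def, mul_one]
        rfl
      rw [this, LinearMap.map_smul_of_tower, map_smul, ← ht l.down]
      exact ⟨r • t l.down, Submodule.smul_mem _ _ (Submodule.subset_span ⟨_, rfl⟩), map_smul _ _ _⟩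
  obtain ⟨m', hm', he⟩ := hx' ▸ key x
  rw [Submodule.mkQ_apply, Submodule.mkQ_apply, Submodule.Quotient.eq] at he
  exact Submodule.mem_sup.2 ⟨m', hm', m - m', by rw [← neg_sub]; exact neg_mem he, add_sub_cancel _ _⟩

variable {R : Type u} [CommRing R] (M : Type u) [AddCommGroup M] [Module R M]

/-- `A` is killed by `N * k` elements -/
def Killed (N : ℕ) (A : Set (PrimeSpectrum R)) (k : ℕ) : Prop :=
  ∃ s : Fin (N * k) → M, ∀ p ∈ A, p ∉ Module.support R (M ⧸ Submodule.span R (Set.range s))

lemma killed_empty (N : ℕ) : Killed M N (∅ : Set (PrimeSpectrum R)) 0 :=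
  ⟨fun _ => 0, fun _ h => h.elim⟩

variable {M}

lemma killed_step [Module.Finite R M] {N k : ℕ} {A B : Set (PrimeSpectrum R)} (h : Killed M N A k)
    (hB : IsClosed B) (hgen : ∀ C : Set (PrimeSpectrum R), IsClosed C → C ⊆ B \ A →
      ∃ t : Fin N → M, Submodule.span R (Set.range t) ⊔
        PrimeSpectrum.vanishingIdeal C • (⊤ : Submodule R M) = ⊤) : Killed M N B (k + 1) := by
  obtain ⟨s, hs⟩ := h
  set C := Module.support R (M ⧸ Submodule.span R (Set.range s)) ∩ B with hC
  have hCc : IsClosed C := by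
    rw [hC, Module.support_eq_zeroLocus]
    exact (PrimeSpectrum.isClosed_zeroLocus _).inter hB
  obtain ⟨t, ht⟩ := hgen C hCc fun p hp => ⟨hp.2, fun hA => hs p hA hp.1⟩
  refine ⟨Fin.append s t ∘ Fin.cast (Nat.mul_succ N k), fun p hp => ?_⟩
  set P := Submodule.span R (Set.range (Fin.append s t ∘ Fin.cast (Nat.mul_succ N k))) with hP
  have hsP : Submodule.span R (Set.range s) ≤ P := Submodule.span_mono (by
    rintro _ ⟨i, rfl⟩
    exact ⟨Fin.cast (Nat.mul_succ N k).symm (Fin.castAdd N i), by simp⟩)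
  have htP : Submodule.span R (Set.range t) ≤ P := Submodule.span_mono (by
    rintro _ ⟨i, rfl⟩
    exact ⟨Fin.cast (Nat.mul_succ N k).symm (Fin.natAdd (N * k) i), by simp⟩)
  rw [Module.notMem_support_iff']
  intro m
  obtain ⟨m, rfl⟩ := Submodule.mkQ_surjective P m
  by_cases hpC : p ∈ C
  · obtain ⟨r, hr, hr0⟩ := Submodule.exists_sub_one_mem_and_smul_eq_zero_of_fg_of_le_smul
      (PrimeSpectrum.vanishingIdeal C) (⊤ : Submodule R (M ⧸ P)) Module.Finite.fg_top fun z _ => by
        obtain ⟨z, rfl⟩ := Submodule.mkQ_surjective P z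
        obtain ⟨a, ha, b, hb, rfl⟩ := Submodule.mem_sup.1
          (show z ∈ Submodule.span R (Set.range t) ⊔ PrimeSpectrum.vanishingIdeal C • ⊤ by rw [ht]; trivial)
        rw [map_add, show Submodule.mkQ P a = 0 from (Submodule.Quotient.mk_eq_zero P).2 (htP ha), zero_add]
        have := Submodule.mem_map_of_mem (f := Submodule.mkQ P) hb
        rw [Submodule.map_smul''] at this
        exact Submodule.smul_mono le_rfl le_top this
    refine ⟨r, fun hrp => ?_, hr0 _ Submodule.mem_top⟩
    have h1 := sub_mem hrp ((PrimeSpectrum.mem_vanishingIdeal _ _).1 hr p hpC)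
    rw [sub_sub_cancel] at h1
    exact p.isPrime.one_notMem h1
  · obtain ⟨r, hr, hr0⟩ := Module.notMem_support_iff'.1 (fun h => hpC ⟨h, hp⟩)
      (Submodule.Quotient.mk (p := Submodule.span R (Set.range s)) m)
    refine ⟨r, hr, ?_⟩
    rw [← Submodule.Quotient.mk_smul, Submodule.Quotient.mk_eq_zero] at hr0
    rw [← map_smul, Submodule.mkQ_apply, Submodule.Quotient.mk_eq_zero]
    exact hsP hr0

lemma killed_univ {N k : ℕ} (h : Killed M N (Set.univ : Set (PrimeSpectrum R)) k) :
    ∃ s : Fin (N * k) → M, Submodule.span R (Set.range s) = ⊤ := by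
  obtain ⟨s, hs⟩ := h
  refine ⟨s, Submodule.Quotient.subsingleton_iff.1 ((Module.support_eq_empty_iff (R := R)).1 ?_)⟩
  exact Set.eq_empty_of_forall_notMem fun p => hs p trivial

/-- a reduced closed subscheme of a spectrum inside the range of an immersion factors through it -/
theorem exists_lift_of_range_subset {R : CommRingCat.{u}} {T : Scheme.{u}} (g : T ⟶ Spec R) [IsImmersion g]
    (C : Set (Spec R : Scheme.{u})) (hC : IsClosed C) (hCg : C ⊆ Set.range g) :
    ∃ h : Spec (.of (R ⧸ PrimeSpectrum.vanishingIdeal C)) ⟶ T,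
      h ≫ g = Spec.map (CommRingCat.ofHom (Ideal.Quotient.mk (PrimeSpectrum.vanishingIdeal C))) := by
  set J := PrimeSpectrum.vanishingIdeal C
  let i : Spec (.of (R ⧸ J)) ⟶ Spec R := Spec.map (CommRingCat.ofHom (Ideal.Quotient.mk J))
  haveI : IsReduced (R ⧸ J) :=
    (Ideal.isRadical_iff_quotient_reduced J).1 (PrimeSpectrum.isRadical_vanishingIdeal C)
  have hrange : Set.range i ⊆ Set.range g := by
    refine subset_trans ?_ hCg
    rintro _ ⟨x, rfl⟩
    have hx : (i x : PrimeSpectrum R) ∈ PrimeSpectrum.zeroLocus (J : Set R) := fun r hr => by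
      change Ideal.Quotient.mk J r ∈ x.asIdeal
      rw [Ideal.Quotient.eq_zero_iff_mem.2 hr]
      exact x.asIdeal.zero_mem
    exact hC.closure_eq.le ((PrimeSpectrum.zeroLocus_vanishingIdeal_eq_closure C).le hx)
  have hsurj : Function.Surjective (pullback.fst i g) := by
    rw [← Set.range_eq_univ, Scheme.Pullback.range_fst, Set.preimage_eq_univ_iff]
    exact hrange
  haveI : Surjective (pullback.fst i g) := ⟨hsurj⟩
  haveI : IsClosedImmersion (pullback.fst i g) :=
    IsClosedImmersion.of_isPreimmersion _ (by rw [hsurj.range_eq]; exact isClosed_univ)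
  haveI : IsIso (pullback.fst i g) := isIso_of_isClosedImmersion_of_surjective _
  exact ⟨inv (pullback.fst i g) ≫ pullback.snd i g, by
    rw [Category.assoc, ← pullback.condition, IsIso.inv_hom_id_assoc]⟩

/-- generators from a Nisnevich cover -/
theorem exists_gen_nis {R : CommRingCat.{u}} (M : ModuleCat.{u} R) [Module.Finite R M] {U : Scheme.{u}}
    (f : U ⟶ Spec R) {m N : ℕ} (hf : IsNisCoverLen f m)
    (φ : FlatMod.freeMod U N ⟶ (Scheme.Modules.pullback f).obj (tilde M)) [Epi φ] :
    ∃ s : Fin (N * m) → M, Submodule.span R (Set.range s) = ⊤ := by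
  refine killed_univ ?_
  suffices ∀ {A : Set (Spec R : Scheme.{u})} {n : ℕ}, NisCover.Chain f A n → Killed M N (R := R) A n from
    this (NisCover.Chain.of_isNisCoverLen hf)
  intro A n hA
  induction hA with
  | zero => exact killed_empty _ N
  | @step A B n hA hAB h1 h2 h3 ih =>
    refine killed_step ih h1 fun C hC hCW => ?_
    obtain ⟨T, g, s, hg, hr, hs⟩ := h3
    obtain ⟨h, hh⟩ := exists_lift_of_range_subset g C hC (by rw [show Set.range g = B \ A from hr]; exact hCW)
    exact exists_gen_mod M f φ _ (h ≫ s) (by rw [Category.assoc, hs, hh])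

/-- generators from an open cover -/
theorem exists_gen_open {R : CommRingCat.{u}} (M : ModuleCat.{u} R) [Module.Finite R M] {n m : ℕ}
    (U : Fin m → (Spec R).Opens) (hU : ⨆ i, U i = ⊤)
    (hgen : ∀ i, ∃ φ : FlatMod.freeMod (↑(U i)) n ⟶ (tilde M).restrict (U i).ι, Epi φ) :
    ∃ s : Fin (n * m) → M, Submodule.span R (Set.range s) = ⊤ := by
  refine killed_univ ?_
  suffices ∀ j ≤ m, Killed M n (R := R) {p | ∀ i : Fin m, j ≤ i.1 → p ∉ U i} j by
    obtain ⟨s, hs⟩ := this m le_rfl
    exact ⟨s, fun p _ => hs p fun i hi => absurd i.2 (by omega)⟩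
  intro j hj
  induction j with
  | zero =>
    refine ⟨fun _ => 0, fun p hp => ?_⟩
    obtain ⟨i, hi⟩ := TopologicalSpace.Opens.mem_iSup.1 (show p ∈ ⨆ i, U i by rw [hU]; trivial)
    exact absurd hi (hp i (Nat.zero_le _))
  | succ j ih =>
    refine killed_step (ih (by omega)) ?_ fun C hC hCW => ?_
    · simp only [Set.setOf_forall]
      exact isClosed_iInter fun i => isClosed_iInter fun _ => (U i).2.isClosed_compl
    · have hsub : C ⊆ (U ⟨j, by omega⟩ : Set (Spec R : Scheme.{u})) := fun p hp => by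
        obtain ⟨h1, h2⟩ := hCW hp
        simp only [Set.mem_setOf_eq, not_forall, not_not] at h1 h2
        obtain ⟨i, hi, hpi⟩ := h2
        by_cases h : i.1 = j
        · exact (Fin.ext h : i = ⟨j, by omega⟩) ▸ hpi
        · exact absurd hpi (h1 i (by omega))
      obtain ⟨h, hh⟩ := exists_lift_of_range_subset (U ⟨j, by omega⟩).ι C hC (hsub.trans_eq (Scheme.Opens.range_ι _).symm)
      obtain ⟨φ, hφ⟩ := hgen ⟨j, by omega⟩
      exact exists_gen_mod M _
        (φ ≫ ((Scheme.Modules.restrictFunctorIsoPullback _).app (tilde M)).hom) _ h hh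

end Groth.L12.GenBound

end
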