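import Groth.Agent.L02.CAlg.Bertini.Main
import Groth.Agent.L20.MovingUnit
import Mathlib.RingTheory.Artinian.Ring
import Mathlib.RingTheory.Jacobson.Ring
import Mathlib.RingTheory.KrullDimension.Zero

/-!
# A general linear form has finitely many critical points on the smooth locus
-/

set_option autoImplicit false
set_option linter.style.haveILetI false
universe u

open MvPolynomial
open Groth.L20.MovingUnit (vanishing mem_vanishing)
open KaehlerDifferential (D)

namespace Groth.L12.GenericFn

variable {k : Type u} [Field k] {n : ℕ}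

/-- In a coordinate chart a general linear form has only closed critical points. -/
theorem exists_critical_finite (C : Type u) [CommRing C] [Algebra k C] [Algebra.FiniteType k C] (y : Fin n → C)
    {m : ℕ} (τ : Fin m → Fin n) (b : Module.Basis (Fin m) C (Ω[C⁄k]))
    (hb : ∀ j, b j = D k C (y (τ j))) (hdim : ringKrullDim C ≤ m) :
    ∃ h : MvPolynomial (Fin n) k, h ≠ 0 ∧ ∀ a : Fin n → k, eval a h ≠ 0 → ∀ P : Ideal C, P.IsPrime →
      (∀ j, b.repr (D k C (∑ i, algebraMap k C (a i) * y i)) j ∈ P) → P.IsMaximal := by
  classical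
  rcases subsingleton_or_nontrivial C with hC | hC
  · exact ⟨1, one_ne_zero, fun a _ P hP => absurd (Subsingleton.elim P ⊤) hP.ne_top⟩
  haveI : IsNoetherianRing C := Algebra.FiniteType.isNoetherianRing k C
  have hτ : Function.Injective τ := fun i j h => b.injective (by rw [hb, hb, h])
  let c : Fin n → Fin m → C := fun i j => b.repr (D k C (y i)) j
  have hc : ∀ l j, c (τ l) j = if l = j then 1 else 0 := fun l j => by
    simp only [c, ← hb, Module.Basis.repr_self, Finsupp.single_apply]
  let J := {i : Fin n // i ∉ Set.range τ}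
  have hJ : Nat.card J = n - m := by
    rw [Nat.card_eq_fintype_card, Fintype.card_subtype_compl, Set.card_range_of_injective hτ]
    simp
  have hmn : m ≤ n := by simpa using Fintype.card_le_of_injective τ hτ
  let w : Fin n → MvPolynomial J C := fun i =>
    if h : i ∈ Set.range τ then -∑ l : J, X l * MvPolynomial.C (c l.1 h.choose) else X ⟨i, h⟩
  let E := MvPolynomial J C
  haveI : Algebra.FiniteType C E := inferInstance
  haveI : Algebra.FiniteType k E := Algebra.FiniteType.trans (S := C) inferInstance inferInstance
  haveI : IsNoetherianRing E := Algebra.FiniteType.isNoetherianRing k E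
  obtain ⟨G, g, hgs⟩ := Algebra.FiniteType.iff_quotient_mvPolynomial''.mp (inferInstance : Algebra.FiniteType k E)
  -- over each component some nonzero polynomial in the coefficients controls every generator
  have hkey : ∀ (Q : minimalPrimes E) (l : Fin G), ∃ h : MvPolynomial (Fin n) k, h ≠ 0 ∧
      ∀ {κ : Type u} [CommRing κ] [IsDomain κ] [Algebra k κ] (ev : E →ₐ[k] κ) (a : Fin n → k),
        (∀ i, ev (w i) = algebraMap k κ (a i)) → Q.1 ≤ RingHom.ker ev → eval a h ≠ 0 →
        IsIntegral k (ev (g (X l))) := by
    rintro ⟨Q, hQ⟩ l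
    haveI := hQ.1.1
    let π : E →ₐ[k] E ⧸ Q := Ideal.Quotient.mkₐ k Q
    let φ : MvPolynomial (Fin n) k →ₐ[k] E ⧸ Q := aeval fun i => π (w i)
    by_cases hφ : Function.Injective φ
    · let ψ : MvPolynomial (Option (Fin n)) k →ₐ[k] E ⧸ Q :=
        aeval fun o => o.elim (π (g (X l))) fun i => π (w i)
      have hψ : ¬ Function.Injective ψ := by
        intro hψ
        obtain ⟨d, -, -, -, hd, htr⟩ := Groth.L22.AffineDim.exists_normalization k (E ⧸ Q)
        have hai : AlgebraicIndependent k fun o : Option (Fin n) =>
            (o.elim (π (g (X l))) fun i => π (w i) : E ⧸ Q) := algebraicIndependent_iff_injective_aeval.2 hψ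
        have h1 := hai.lift_cardinalMk_le_trdeg
        rw [htr, Cardinal.mk_fintype, Fintype.card_option, Fintype.card_fin] at h1
        have h1' : n + 1 ≤ d := by simpa using h1
        have h2 : ringKrullDim (E ⧸ Q) ≤ ((m + (n - m) : ℕ) : WithBot ℕ∞) := by
          refine (ringKrullDim_le_of_surjective (Ideal.Quotient.mk Q) Ideal.Quotient.mk_surjective).trans ?_
          rw [MvPolynomial.ringKrullDim_of_isNoetherianRing, hJ, Nat.cast_add]
          exact add_le_add hdim le_rfl
        rw [hd, Nat.add_sub_of_le hmn] at h2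
        have : d ≤ n := by exact_mod_cast h2
        omega
      obtain ⟨R, hR, hR0⟩ : ∃ R, ψ R = 0 ∧ R ≠ 0 := by
        by_contra hcon
        push Not at hcon
        exact hψ ((injective_iff_map_eq_zero ψ).2 hcon)
      let e := optionEquivLeft k (Fin n)
      refine ⟨(e R).leadingCoeff, by simpa [e] using hR0, fun {κ} _ _ _ ev a hw hker ha => ?_⟩
      have h1 : aeval (fun o : Option (Fin n) => o.elim (g (X l)) w) R ∈ Q := by
        rw [← Ideal.Quotient.eq_zero_iff_mem, ← hR]
        show π (aeval _ R) = _
        rw [comp_aeval_apply]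
        refine congrArg (fun s => aeval s R) (funext fun o => ?_)
        cases o <;> rfl
      have h2 := hker h1
      rw [RingHom.mem_ker, comp_aeval_apply] at h2
      let p : Polynomial k := (e R).map (eval a)
      have hlc : p.coeff (e R).natDegree = eval a (e R).leadingCoeff := Polynomial.coeff_map _ _
      have hp0 : p ≠ 0 := fun h => ha (by rw [← hlc, h, Polynomial.coeff_zero])
      have key : ∀ S : MvPolynomial (Option (Fin n)) k,
          aeval (fun o : Option (Fin n) => ev (o.elim (g (X l)) w)) S =
            Polynomial.aeval (ev (g (X l))) ((e S).map (eval a)) := by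
        intro S
        induction S using MvPolynomial.induction_on with
        | C z => simp [e, optionEquivLeft_C]
        | add f f' hf hf' => simp only [map_add, Polynomial.map_add, hf, hf']
        | mul_X f o hf =>
          rw [map_mul, map_mul, Polynomial.map_mul, map_mul, hf, aeval_X]
          congr 1
          cases o with
          | none => simp [e, optionEquivLeft_X_none]
          | some i => simp [e, optionEquivLeft_X_some, hw]
      rw [key] at h2
      exact (show IsAlgebraic k (ev (g (X l))) from ⟨p, hp0, h2⟩).isIntegral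
    · obtain ⟨R, hR, hR0⟩ : ∃ R, φ R = 0 ∧ R ≠ 0 := by
        by_contra hcon
        push Not at hcon
        exact hφ ((injective_iff_map_eq_zero φ).2 hcon)
      refine ⟨R, hR0, fun {κ} _ _ _ ev a hw hker ha => absurd ?_ ha⟩
      have h1 : aeval w R ∈ Q := by
        rw [← Ideal.Quotient.eq_zero_iff_mem, ← hR]
        show π (aeval w R) = _
        rw [comp_aeval_apply]
      have h2 := hker h1
      rw [RingHom.mem_ker, comp_aeval_apply, funext hw] at h2
      have h3 : aeval (fun i => algebraMap k κ (a i)) R = algebraMap k κ (eval a R) := by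
        have := (comp_aeval_apply (R := k) (f := a) (Algebra.ofId k κ) R).symm
        simpa using this
      rw [h3] at h2
      exact (algebraMap k κ).injective (h2.trans (map_zero _).symm)
  choose h hh0 hh using hkey
  haveI : Finite (minimalPrimes E) := (minimalPrimes.finite_of_isNoetherianRing E).to_subtype
  haveI : Fintype (minimalPrimes E) := Fintype.ofFinite _
  refine ⟨∏ Q, ∏ l, h Q l, Finset.prod_ne_zero_iff.2 fun Q _ => Finset.prod_ne_zero_iff.2 fun l _ => hh0 Q l,
    fun a ha P hP hcr => ?_⟩
  simp only [map_prod, Finset.prod_ne_zero_iff] at ha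
  haveI := hP
  let κ := C ⧸ P
  let ev : E →ₐ[k] κ := AlgHom.mk (eval₂Hom (Ideal.Quotient.mk P) fun l : J => algebraMap k κ (a l.1)) fun z => by
    rw [IsScalarTower.algebraMap_apply k C E, algebraMap_eq]
    exact eval₂Hom_C _ _ _
  have hevC : ∀ z, ev (MvPolynomial.C z) = Ideal.Quotient.mk P z := fun z => eval₂Hom_C _ _ _
  have hevX : ∀ l : J, ev (X l) = algebraMap k κ (a l.1) := fun l => eval₂Hom_X' _ _ _
  have hD : ∀ j, b.repr (D k C (∑ i, algebraMap k C (a i) * y i)) j =
      ∑ i, algebraMap k C (a i) * c i j := fun j => by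
    simp only [map_sum, Derivation.map_algebraMap, Derivation.leibniz, smul_zero,
      add_zero, map_zero, Finsupp.coe_finsetSum, Finset.sum_apply, map_smul, Finsupp.smul_apply,
      smul_eq_mul, c]
  have hw : ∀ i, ev (w i) = algebraMap k κ (a i) := by
    intro i
    by_cases h : i ∈ Set.range τ
    · simp only [w, dif_pos h]
      have hj := h.choose_spec
      generalize h.choose = j at hj
      subst hj
      have h0 : (Ideal.Quotient.mk P) (∑ i, algebraMap k C (a i) * c i j) = 0 := by
        rw [Ideal.Quotient.eq_zero_iff_mem, ← hD]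
        exact hcr j
      have hS : ∑ i ∈ Finset.univ.filter (fun i => i ∉ Set.range τ), algebraMap k C (a i) * c i j =
          ∑ l : J, algebraMap k C (a l.1) * c l.1 j := Finset.sum_subtype _ (fun i => by simp) _
      rw [← Finset.sum_filter_add_sum_filter_not Finset.univ (fun i => i ∈ Set.range τ), map_add, hS,
        show Finset.univ.filter (fun i => i ∈ Set.range τ) = Finset.univ.image τ by ext; simp,
        Finset.sum_image (fun x _ y _ hxy => hτ hxy)] at h0
      simp only [hc, mul_ite, mul_one, mul_zero, Finset.sum_ite_eq', Finset.mem_univ, if_true] at h0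
      rw [map_neg, map_sum, neg_eq_iff_add_eq_zero]
      rw [← h0, add_comm]
      congr 1
      rw [map_sum]
      refine Finset.sum_congr (by ext; simp) fun l _ => ?_
      rw [map_mul, hevX, hevC, map_mul, Ideal.Quotient.mk_algebraMap]
    · simp only [w, dif_neg h]
      exact hevX _
  haveI : (RingHom.ker ev).IsPrime := RingHom.ker_isPrime _
  obtain ⟨Q, hQ, hle⟩ := Ideal.exists_minimalPrimes_le (J := RingHom.ker ev) (bot_le : (⊥ : Ideal E) ≤ _)
  have hev : Function.Surjective ev := fun z => by
    obtain ⟨z, rfl⟩ := Ideal.Quotient.mk_surjective z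
    exact ⟨MvPolynomial.C z, hevC z⟩
  haveI : Algebra.IsIntegral k κ := ⟨fun z => by
    obtain ⟨z, rfl⟩ := (hev.comp hgs) z
    show IsIntegral k ((ev.comp g) z)
    induction z using MvPolynomial.induction_on with
    | C t =>
      rw [show MvPolynomial.C t = algebraMap k (MvPolynomial (Fin G) k) t from rfl, AlgHom.commutes]
      exact isIntegral_algebraMap
    | add f f' hf hf' => rw [map_add]; exact hf.add hf'
    | mul_X f l hf =>
      rw [map_mul]
      exact hf.mul (hh ⟨Q, hQ⟩ l ev a hw hle (ha _ (Finset.mem_univ _) l (Finset.mem_univ _)))⟩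
  exact Ideal.Quotient.maximal_of_isField P
    (isField_of_isIntegral_of_isField' (R := k) (Field.toIsField k))

variable {A : Type u} [CommRing A] [Algebra k A]

open L02.CAlg.BertiniV in
/-- Outside finitely many closed points a general linear form has no critical point on the smooth locus. -/
theorem exists_finite_critical (x : Fin n → A)
    (hx : Function.Surjective (MvPolynomial.aeval x : MvPolynomial (Fin n) k →ₐ[k] A)) :
    ∃ h : MvPolynomial (Fin n) k, h ≠ 0 ∧ ∀ a : Fin n → k, eval a h ≠ 0 →
      ∃ K : Set (Ideal A), K.Finite ∧ (∀ M ∈ K, M.IsMaximal) ∧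
        ∀ (P : Ideal A) [P.IsPrime], Algebra.IsSmoothAt k P → P ∉ K →
          (∑ i, algebraMap k A (a i) * x i) ∉ vanishing (k := k) P := by
  classical
  haveI : Algebra.FiniteType k A :=
    Algebra.FiniteType.of_surjective (MvPolynomial.aeval x : MvPolynomial (Fin n) k →ₐ[k] A) hx
  haveI : Algebra.FinitePresentation k A := Algebra.FinitePresentation.of_finiteType.mp inferInstance
  haveI : IsNoetherianRing A := Algebra.FiniteType.isNoetherianRing k A
  let G : Set A := {f | ∃ (m : ℕ) (τ : Fin m → Fin n), IsChart (k := k) x m τ f}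
  obtain ⟨s, hsG, hs⟩ := (Submodule.fg_span_iff_fg_span_finset_subset G).mp (IsNoetherian.noetherian (Submodule.span A G))
  have hR : ∀ f : s, ∃ h : MvPolynomial (Fin n) k, h ≠ 0 ∧ ∀ a : Fin n → k, eval a h ≠ 0 →
      ∃ K : Set (Ideal A), K.Finite ∧ (∀ M ∈ K, M.IsMaximal) ∧
        ∀ (P : Ideal A) [P.IsPrime], (f : A) ∉ P → P ∉ K →
          (∑ i, algebraMap k A (a i) * x i) ∉ vanishing (k := k) P := by
    rintro ⟨f, hf⟩
    obtain ⟨m, τ, hsm, hb⟩ := hsG hf
    obtain ⟨b, hb0⟩ := hb f dvd_rfl
    let C := Localization.Away f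
    haveI hCsm : Algebra.Smooth k C := smooth_away hsm
    haveI : Subsingleton (Algebra.H1Cotangent k C) := ((Algebra.formallySmooth_iff k C).mp inferInstance).2
    haveI : Algebra.IsStandardSmooth k C := Algebra.IsStandardSmooth.of_basis_kaehlerDifferential b (by
      rintro _ ⟨j, rfl⟩
      exact ⟨_, (hb0 j).symm⟩)
    haveI : Algebra.FiniteType k C := inferInstance
    haveI : IsLocalization.Away (1 : C) C := IsLocalization.away_of_isUnit_of_bijective C isUnit_one Function.bijective_id
    have hdimC : ringKrullDim C ≤ m := ringKrullDim_le_of_minimalPrimes fun P hP =>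
      card_eq_of_minimal (A := C) C b (1 : C) P hP fun h1 =>
        hP.1.1.ne_top ((Ideal.eq_top_iff_one P).2 h1)
    obtain ⟨h, hh0, hh⟩ := exists_critical_finite C (fun i => algebraMap A C (x i)) τ b hb0 hdimC
    refine ⟨h, hh0, fun a ha => ?_⟩
    let ℓ : C := ∑ i, algebraMap k C (a i) * algebraMap A C (x i)
    have hℓ : algebraMap A C (∑ i, algebraMap k A (a i) * x i) = ℓ := by
      simp only [ℓ, map_sum, map_mul, ← IsScalarTower.algebraMap_apply]
    let I : Ideal C := Ideal.span (Set.range fun j => b.repr (D k C ℓ) j)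
    have hmax : ∀ P : Ideal C, P.IsPrime → I ≤ P → P.IsMaximal := fun P hP hIP =>
      hh a ha P hP fun j => hIP (Ideal.subset_span ⟨j, rfl⟩)
    haveI : IsNoetherianRing C := Algebra.FiniteType.isNoetherianRing k C
    refine ⟨(fun P : Ideal C => P.comap (algebraMap A C)) '' I.minimalPrimes,
      (Ideal.finite_minimalPrimes_of_isNoetherianRing C I).image _, ?_, ?_⟩
    · rintro _ ⟨P, hP, rfl⟩
      haveI := hmax P hP.1.1 hP.1.2
      letI := Ideal.Quotient.field P
      haveI : Algebra.FiniteType k (C ⧸ P) :=
        Algebra.FiniteType.of_surjective (Ideal.Quotient.mkₐ k P) Ideal.Quotient.mk_surjective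
      haveI : Module.Finite k (C ⧸ P) := finite_of_finite_type_of_isJacobsonRing k (C ⧸ P)
      haveI : Algebra.IsIntegral A (C ⧸ P) := ⟨fun z => (Algebra.IsIntegral.isIntegral (R := k) z).tower_top⟩
      have h0 : ((⊥ : Ideal (C ⧸ P)).comap (algebraMap A (C ⧸ P))).IsMaximal :=
        Ideal.isMaximal_comap_of_isIntegral_of_isMaximal _
      have e : (⊥ : Ideal (C ⧸ P)).comap (algebraMap A (C ⧸ P)) = P.comap (algebraMap A C) := by
        rw [IsScalarTower.algebraMap_eq A C (C ⧸ P), ← Ideal.comap_comap]
        congr 1
        rw [← RingHom.ker_eq_comap_bot]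
        exact Ideal.mk_ker
      show (P.comap (algebraMap A C)).IsMaximal
      exact e ▸ h0
    · intro P _ hfP hPK hv
      have hdisj : Disjoint (Submonoid.powers f : Set A) (P : Set A) :=
        (Ideal.disjoint_powers_iff_notMem_of_isPrime f).mpr hfP
      haveI hP' : (P.map (algebraMap A C)).IsPrime :=
        IsLocalization.isPrime_of_isPrime_disjoint (.powers f) C _ ‹P.IsPrime› hdisj
      have hcm : (P.map (algebraMap A C)).comap (algebraMap A C) = P :=
        IsLocalization.comap_map_of_isPrime_disjoint (.powers f) C ‹P.IsPrime› hdisj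
      obtain ⟨j, hj⟩ : ∃ j, b.repr (D k C ℓ) j ∉ P.map (algebraMap A C) := by
        by_contra hcon
        push Not at hcon
        have hI : I ≤ P.map (algebraMap A C) := Ideal.span_le.2 (by rintro _ ⟨j, rfl⟩; exact hcon j)
        obtain ⟨Q, hQ, hQle⟩ := Ideal.exists_minimalPrimes_le hI
        have e : Q = P.map (algebraMap A C) := (hmax Q hQ.1.1 hQ.1.2).eq_of_le hP'.ne_top hQle
        exact hPK ⟨Q, hQ, by rw [e]; exact hcm⟩
      -- in the local ring
      let L := Localization.AtPrime P
      have hfu : IsUnit (algebraMap A L f) := IsLocalization.map_units L (⟨f, hfP⟩ : P.primeCompl)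
      letI : Algebra C L := (IsLocalization.Away.lift f hfu).toAlgebra
      haveI : IsScalarTower A C L := IsScalarTower.of_algebraMap_eq fun z => (IsLocalization.Away.lift_eq f hfu z).symm
      haveI : IsScalarTower k C L := IsScalarTower.of_algebraMap_eq fun z => by
        rw [IsScalarTower.algebraMap_apply k A C, ← IsScalarTower.algebraMap_apply A C L, ← IsScalarTower.algebraMap_apply]
      haveI : IsLocalization.AtPrime L (P.map (algebraMap A C)) := by
        have h1 : IsLocalization (P.primeCompl.map (algebraMap A C)) L :=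
          IsLocalization.isLocalization_of_submonoid_le C L (Submonoid.powers f) P.primeCompl
            (Submonoid.powers_le.2 hfP)
        refine IsLocalization.of_le_of_exists_dvd (P.primeCompl.map (algebraMap A C)) _ ?_ fun z hz => ?_
        · rintro _ ⟨z, hz, rfl⟩ hz'
          exact hz (hcm ▸ (Ideal.mem_comap.2 hz' : z ∈ (P.map (algebraMap A C)).comap (algebraMap A C)))
        · obtain ⟨⟨a', u⟩, ha'⟩ := IsLocalization.surj (Submonoid.powers f) z
          refine ⟨algebraMap A C a', ⟨a', fun ha => hz ?_, rfl⟩, ⟨algebraMap A C u, ha'.symm⟩⟩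
          have h2 : z * algebraMap A C u ∈ P.map (algebraMap A C) := ha' ▸ Ideal.mem_map_of_mem _ ha
          exact (hP'.mem_or_mem h2).resolve_right fun h'' =>
            hP'.ne_top (Ideal.eq_top_of_isUnit_mem _ h'' (IsLocalization.map_units C u))
      let bL := Module.Basis.ofIsLocalizedModule L (P.map (algebraMap A C)).primeCompl
        (KaehlerDifferential.map k k C L) b
      rw [mem_vanishing] at hv
      have e : bL.repr (D k L (algebraMap A L (∑ i, algebraMap k A (a i) * x i))) j =
          algebraMap C L (b.repr (D k C ℓ) j) := by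
        rw [IsScalarTower.algebraMap_apply A C L, hℓ, ← KaehlerDifferential.map_D k k C L]
        exact Module.Basis.ofIsLocalizedModule_repr_apply L _ _ b _ _
      have hmem : bL.repr (D k L (algebraMap A L (∑ i, algebraMap k A (a i) * x i))) j ∈
          IsLocalRing.maximalIdeal L := by
        refine Submodule.smul_induction_on hv (fun r hr z _ => ?_) fun z z' hz hz' => ?_
        · rw [map_smul]
          exact Ideal.mul_mem_right _ _ hr
        · rw [map_add]
          exact Ideal.add_mem _ hz hz'
      rw [e, IsLocalization.AtPrime.to_map_mem_maximal_iff L (P.map (algebraMap A C))] at hmem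
      exact hj hmem
  choose h hh0 hh using hR
  refine ⟨∏ f, h f, Finset.prod_ne_zero_iff.2 fun f _ => hh0 f, fun a ha => ?_⟩
  rw [map_prod, Finset.prod_ne_zero_iff] at ha
  choose K hKfin hKmax hK using fun f : s => hh f a (ha f (Finset.mem_univ _))
  refine ⟨⋃ f, K f, Set.finite_iUnion hKfin, fun M hM => ?_, fun P _ hP hPK => ?_⟩
  · obtain ⟨f, hf⟩ := Set.mem_iUnion.1 hM
    exact hKmax f M hf
  · haveI := hP
    obtain ⟨f₁, hf₁, hf₁s, m₁, τ₁, hf₁b⟩ := exists_chart x hx P
    obtain ⟨f, hf, hfP⟩ : ∃ f ∈ s, f ∉ P := by
      by_contra hc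
      push Not at hc
      exact hf₁ ((hs ▸ Ideal.span_le.mpr hc : Submodule.span A G ≤ P) (Submodule.subset_span ⟨m₁, τ₁, hf₁s, hf₁b⟩))
    exact hK ⟨f, hf⟩ P hfP fun h => hPK (Set.mem_iUnion.2 ⟨_, h⟩)

/-- At a point which is not isolated some generator has non-vanishing differential. -/
theorem exists_generator_notMem_vanishing (x : Fin n → A)
    (hx : Function.Surjective (MvPolynomial.aeval x : MvPolynomial (Fin n) k →ₐ[k] A)) (q : Ideal A) [q.IsPrime]
    (hq : ¬ IsOpen ({⟨q, inferInstance⟩} : Set (PrimeSpectrum A))) :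
    ∃ i, x i ∉ vanishing (k := k) q := by
  by_contra hall
  push Not at hall
  haveI : Algebra.FiniteType k A :=
    Algebra.FiniteType.of_surjective (MvPolynomial.aeval x : MvPolynomial (Fin n) k →ₐ[k] A) hx
  haveI : IsNoetherianRing A := Algebra.FiniteType.isNoetherianRing k A
  let L := Localization.AtPrime q
  haveI : Algebra.EssFiniteType A L := .of_isLocalization _ q.primeCompl
  haveI : Algebra.EssFiniteType k L := .comp _ A _
  let N : Submodule L Ω[L⁄k] := IsLocalRing.maximalIdeal L • ⊤
  have hA : ∀ b : A, b ∈ vanishing (k := k) q := by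
    intro b
    rw [mem_vanishing, ← KaehlerDifferential.map_D k k A L]
    have : D k A b ∈ Submodule.span A (Set.range fun i => D k A (x i)) := by
      rw [L02.CAlg.BertiniV.span_D_range x hx]; trivial
    generalize D k A b = z at this ⊢
    induction this using Submodule.span_induction with
    | mem z hz =>
      obtain ⟨i, rfl⟩ := hz
      rw [KaehlerDifferential.map_D]
      exact hall i
    | zero => rw [map_zero]; exact N.zero_mem
    | add y z _ _ hy hz => rw [map_add]; exact N.add_mem hy hz
    | smul r z _ hz =>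
      rw [map_smul, ← algebraMap_smul L r]
      exact N.smul_mem _ hz
  have htop : N = ⊤ := by
    rw [eq_top_iff, ← KaehlerDifferential.span_range_derivation, Submodule.span_le]
    rintro _ ⟨c, rfl⟩
    obtain ⟨⟨b, s⟩, hbs⟩ := IsLocalization.surj q.primeCompl c
    have h1 : D k L (c * algebraMap A L s) ∈ N := by rw [hbs]; exact hA b
    rw [Derivation.leibniz] at h1
    have h2 : algebraMap A L s • D k L c ∈ N :=
      (N.add_mem_iff_right (N.smul_mem c (hA s))).mp h1
    obtain ⟨v, hv⟩ := (IsLocalization.map_units L s).exists_left_inv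
    have h3 := N.smul_mem v h2
    rwa [smul_smul, hv, one_smul] at h3
  have hsub : Subsingleton Ω[L⁄k] := by
    have : (⊤ : Submodule L Ω[L⁄k]) = ⊥ :=
      Submodule.eq_bot_of_le_smul_of_le_jacobson_bot (IsLocalRing.maximalIdeal L) _ Module.Finite.fg_top
        (htop.ge) (IsLocalRing.maximalIdeal_le_jacobson _)
    exact (Submodule.subsingleton_iff L).mp (subsingleton_of_bot_eq_top this.symm)
  haveI : Algebra.FormallyUnramified k L := ⟨hsub⟩
  haveI : Module.Finite k L := Algebra.FormallyUnramified.finite_of_free k L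
  haveI : IsArtinianRing L := isArtinian_of_tower k inferInstance
  -- `q` is minimal and maximal
  haveI : Module.Finite k q.ResidueField :=
    Module.Finite.of_surjective (IsScalarTower.toAlgHom k L q.ResidueField).toLinearMap
      IsLocalRing.residue_surjective
  haveI : Module.Finite k (A ⧸ q) :=
    Module.Finite.of_injective (IsScalarTower.toAlgHom k (A ⧸ q) q.ResidueField).toLinearMap
      (IsFractionRing.injective (A ⧸ q) q.ResidueField)
  have hmax : q.IsMaximal := Ideal.Quotient.maximal_of_isField q
    (isField_of_isIntegral_of_isField' (R := k) (Field.toIsField k))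
  have hmin : ∀ Q : Ideal A, Q.IsPrime → Q ≤ q → Q = q := by
    intro Q hQ hle
    have hdisj : Disjoint (q.primeCompl : Set A) (Q : Set A) :=
      Set.disjoint_left.2 fun z hz hz' => hz (hle hz')
    haveI : (Q.map (algebraMap A L)).IsPrime := IsLocalization.isPrime_of_isPrime_disjoint q.primeCompl L _ hQ hdisj
    have h1 : Q.map (algebraMap A L) = IsLocalRing.maximalIdeal L :=
      (IsLocalRing.eq_maximalIdeal inferInstance)
    rw [← IsLocalization.comap_map_of_isPrime_disjoint q.primeCompl L hQ hdisj, h1]
    exact IsLocalization.AtPrime.comap_maximalIdeal L q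
  apply hq
  let S := {P : Ideal A | P ∈ minimalPrimes A ∧ P ≠ q}
  have hS : S.Finite := (minimalPrimes.finite_of_isNoetherianRing A).subset fun P hP => hP.1
  have hclosed : IsClosed (⋃ P ∈ S, PrimeSpectrum.zeroLocus (P : Set A)) :=
    hS.isClosed_biUnion fun P _ => PrimeSpectrum.isClosed_zeroLocus _
  convert hclosed.isOpen_compl using 1
  ext p
  simp only [Set.mem_singleton_iff, Set.mem_compl_iff, Set.mem_iUnion, PrimeSpectrum.mem_zeroLocus,
    SetLike.coe_subset_coe, not_exists]
  constructor
  · rintro rfl P ⟨hP, hne⟩ hle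
    exact hne (hmin P hP.1.1 hle)
  · intro h
    obtain ⟨P, hP, hle⟩ := Ideal.exists_minimalPrimes_le (J := p.asIdeal) (bot_le : (⊥ : Ideal A) ≤ _)
    by_cases hPq : P = q
    · subst hPq
      exact PrimeSpectrum.ext (hmax.eq_of_le p.2.ne_top hle).symm
    · exact absurd hle (h P ⟨hP, hPq⟩)

end Groth.L12.GenericFn
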