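import Groth.Agent.L12.GrSub
import Mathlib.RingTheory.Regular.RegularSequence

/-!
# Regularity modulo regular sequences of linear forms
-/

set_option autoImplicit false

universe u

open DirectSum Pointwise

namespace Groth.L12.GrSyzLib

variable {k : Type u} [Field k] {r : ℕ}
variable {M : Type u} [AddCommGroup M] [Module (MvPolynomial (Fin (r + 1)) k) M] [Module k M]
  [IsScalarTower k (MvPolynomial (Fin (r + 1)) k) M]
  (ℳ : ℤ → Submodule k M) [DirectSum.Decomposition ℳ] [SetLike.GradedSMul (GrSyz.stdGr k (Fin (r + 1))) ℳ]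

/-- shifted pieces -/
def shiftGr (d : ℤ) : Submodule k M := ℳ (d - 1)

/-- decomposition of the shifted pieces -/
@[instance_reducible]
noncomputable def shiftDec : DirectSum.Decomposition (shiftGr ℳ) :=
  (decomposition_exists (shiftGr ℳ) (fun d => prj ℳ (d - 1)) (fun _ _ hx => prj_same ℳ hx)
    (fun d e h _ hx => prj_ne ℳ hx (by omega)) (fun x => by
      obtain ⟨s, hs⟩ := exists_sum_prj ℳ x
      rw [← hs]
      exact Submodule.sum_mem _ fun d _ => Submodule.mem_iSup_of_mem (d + 1)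
        (show prj ℳ d x ∈ ℳ (d + 1 - 1) by rw [add_sub_cancel_right]; exact prj_mem _ _ _))).chooseDecomposition

omit [IsScalarTower k (MvPolynomial (Fin (r + 1)) k) M] [DirectSum.Decomposition ℳ] in
lemma shiftGr_smul : SetLike.GradedSMul (GrSyz.stdGr k (Fin (r + 1))) (shiftGr ℳ) :=
  ⟨fun {i j c} x hc hx => by
    have h := SetLike.GradedSMul.smul_mem (A := GrSyz.stdGr k (Fin (r + 1))) (B := ℳ) hc hx
    rw [vadd_eq_add] at h ⊢
    change c • x ∈ ℳ (i + j - 1)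
    rwa [add_sub_assoc]⟩

omit [IsScalarTower k (MvPolynomial (Fin (r + 1)) k) M] in
lemma smul_top_isHom {y : MvPolynomial (Fin (r + 1)) k} {e : ℤ} (hy : y ∈ GrSyz.stdGr k (Fin (r + 1)) e) :
    IsHom ℳ (y • (⊤ : Submodule (MvPolynomial (Fin (r + 1)) k) M)) := by
  intro d x hx
  obtain ⟨z, -, rfl⟩ := (Submodule.mem_smul_pointwise_iff_exists _ _ _).1 hx
  rw [prj_smul' ℳ (GrSyz.stdGr k (Fin (r + 1))) hy]
  exact Submodule.smul_mem_pointwise_smul _ _ _ trivial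

theorem isRegLE_regular_iff [Module.Finite (MvPolynomial (Fin (r + 1)) k) M]
    (y : MvPolynomial (Fin (r + 1)) k) (hy : y ∈ GrSyz.stdGr k (Fin (r + 1)) 1) (hreg : IsSMulRegular M y) (e : ℤ) :
    letI := quotDec ℳ (smul_top_isHom ℳ hy)
    GrSyz.IsRegLE (GrSyz.stdGr k (Fin (r + 1))) ℳ (mm k (Fin (r + 1))) e ↔
      GrSyz.IsRegLE (GrSyz.stdGr k (Fin (r + 1))) (quotGrM ℳ (y • (⊤ : Submodule (MvPolynomial (Fin (r + 1)) k) M)))
        (mm k (Fin (r + 1))) e := by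
  letI := quotDec ℳ (smul_top_isHom ℳ hy)
  letI := shiftDec ℳ
  haveI := shiftGr_smul ℳ (r := r)
  let f : M →ₗ[MvPolynomial (Fin (r + 1)) k] M := y • LinearMap.id
  have hfg : LinearMap.range f = LinearMap.ker (Submodule.mkQ (y • (⊤ : Submodule (MvPolynomial (Fin (r + 1)) k) M))) := by
    rw [Submodule.ker_mkQ]
    ext x
    rw [Submodule.mem_smul_pointwise_iff_exists]
    exact ⟨fun ⟨z, hz⟩ => ⟨z, trivial, hz⟩, fun ⟨z, _, hz⟩ => ⟨z, hz⟩⟩
  have hfgr : GrLC.IsGrHom (shiftGr ℳ) ℳ f := fun d x hx => by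
    have h : y • x ∈ ℳ (1 + (d - 1)) := smul_mem_add ℳ (GrSyz.stdGr k (Fin (r + 1))) hy hx
    rwa [add_sub_cancel] at h
  have hggr : GrLC.IsGrHom ℳ (quotGrM ℳ (y • (⊤ : Submodule (MvPolynomial (Fin (r + 1)) k) M))) (Submodule.mkQ (y • (⊤ : Submodule (MvPolynomial (Fin (r + 1)) k) M))) := fun d x hx => ⟨x, hx, rfl⟩
  have hup : ∀ s, GrSyz.IsRegLE (GrSyz.stdGr k (Fin (r + 1))) ℳ (mm k (Fin (r + 1))) s →
      GrSyz.IsRegLE (GrSyz.stdGr k (Fin (r + 1))) (shiftGr ℳ) (mm k (Fin (r + 1))) (s + 1) := fun s hs =>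
    isRegLE_transfer ℳ (shiftGr ℳ) LinearMap.id Function.bijective_id 1
      (fun d x hx => show x ∈ ℳ (d + 1 - 1) by rwa [add_sub_cancel_right]) hs
  refine ⟨fun h => isRegLE_right (ℳ₁ := shiftGr ℳ) f (Submodule.mkQ (y • (⊤ : Submodule (MvPolynomial (Fin (r + 1)) k) M))) hreg (Submodule.mkQ_surjective (y • (⊤ : Submodule (MvPolynomial (Fin (r + 1)) k) M))) hfg hfgr hggr
    (hup e h) h, fun h => ?_⟩
  obtain ⟨G, hG, hlen⟩ := exists_res_hasLengthLE (ℳ := ℳ) (k := k) (σ := Fin (r + 1))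
  let T : Finset ℤ := (Finset.range (Nat.card (Fin (r + 1)) + 1)).biUnion fun i =>
    Finset.univ.image fun b => G.deg i b - i
  obtain ⟨m, hm⟩ : ∃ m : ℕ, G.IsGenLE (e + m) := by
    refine ⟨(T.sup fun t => (t - e).toNat), fun i b => ?_⟩
    have hi : i ∈ Finset.range (Nat.card (Fin (r + 1)) + 1) := by
      rw [Finset.mem_range]
      by_contra h'
      exact absurd b.2 (by have := hlen i (by omega); omega)
    have := Finset.le_sup (f := fun t => (t - e).toNat)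
      (Finset.mem_biUnion.2 ⟨i, hi, Finset.mem_image.2 ⟨b, Finset.mem_univ _, rfl⟩⟩ : G.deg i b - i ∈ T)
    change _ ≤ T.sup (fun t => (t - e).toNat) at this
    omega
  have key : ∀ m : ℕ, GrSyz.IsRegLE (GrSyz.stdGr k (Fin (r + 1))) ℳ (mm k (Fin (r + 1))) (e + m) →
      GrSyz.IsRegLE (GrSyz.stdGr k (Fin (r + 1))) ℳ (mm k (Fin (r + 1))) e := by
    intro m
    induction m with
    | zero => intro hm; simpa using hm
    | succ m ih =>
      intro hm
      refine ih ?_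
      have h1 : GrSyz.IsRegLE (GrSyz.stdGr k (Fin (r + 1))) (shiftGr ℳ) (mm k (Fin (r + 1))) (e + (m + 1 : ℕ)) :=
        isRegLE_left (ℳ₁ := shiftGr ℳ) f (Submodule.mkQ (y • (⊤ : Submodule (MvPolynomial (Fin (r + 1)) k) M))) hreg (Submodule.mkQ_surjective (y • (⊤ : Submodule (MvPolynomial (Fin (r + 1)) k) M))) hfg hfgr hggr hm
          (isRegLE_mono (r := e) _ (by push_cast; omega) h)
      have h2 := isRegLE_transfer (shiftGr ℳ) ℳ LinearMap.id Function.bijective_id (-1)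
        (fun d x hx => show x ∈ ℳ (d + -1) by rwa [← sub_eq_add_neg]) h1
      convert h2 using 1
      push_cast; ring
  exact key m ⟨G, hG, hm⟩

omit ℳ [DirectSum.Decomposition ℳ] [SetLike.GradedSMul (GrSyz.stdGr k (Fin (r + 1))) ℳ] in
theorem isRegLE_quot_iff : ∀ (ys : List (MvPolynomial (Fin (r + 1)) k))
    (M : Type u) [AddCommGroup M] [Module (MvPolynomial (Fin (r + 1)) k) M] [Module k M]
    [IsScalarTower k (MvPolynomial (Fin (r + 1)) k) M] [Module.Finite (MvPolynomial (Fin (r + 1)) k) M]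
    (ℳ : ℤ → Submodule k M) [DirectSum.Decomposition ℳ] [SetLike.GradedSMul (GrSyz.stdGr k (Fin (r + 1))) ℳ],
    (∀ y ∈ ys, y ∈ GrSyz.stdGr k (Fin (r + 1)) 1) → RingTheory.Sequence.IsWeaklyRegular M ys →
    ∀ (N : Type u) [AddCommGroup N] [Module (MvPolynomial (Fin (r + 1)) k) N] [Module k N]
    [IsScalarTower k (MvPolynomial (Fin (r + 1)) k) N] (𝒩 : ℤ → Submodule k N) [DirectSum.Decomposition 𝒩]
    [SetLike.GradedSMul (GrSyz.stdGr k (Fin (r + 1))) 𝒩] (π : M →ₗ[MvPolynomial (Fin (r + 1)) k] N),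
    Function.Surjective π → GrLC.IsGrHom ℳ 𝒩 π →
    LinearMap.ker π = Ideal.ofList ys • (⊤ : Submodule (MvPolynomial (Fin (r + 1)) k) M) → ∀ e : ℤ,
    (GrSyz.IsRegLE (GrSyz.stdGr k (Fin (r + 1))) ℳ (mm k (Fin (r + 1))) e ↔
      GrSyz.IsRegLE (GrSyz.stdGr k (Fin (r + 1))) 𝒩 (mm k (Fin (r + 1))) e) := by
  intro ys
  induction ys with
  | nil =>
    intro M _ _ _ _ _ ℳ _ _ _ _ N _ _ _ _ 𝒩 _ _ π hπ hgr hker e
    rw [Ideal.ofList_nil, Submodule.bot_smul] at hker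
    let eq := LinearEquiv.ofBijective π ⟨LinearMap.ker_eq_bot.1 hker, hπ⟩
    constructor
    · intro h
      simpa using isRegLE_transfer ℳ 𝒩 π eq.bijective 0 (fun d x hx => by rw [add_zero]; exact hgr d x hx) h
    · intro h
      suffices hh : ∀ d, ∀ x ∈ 𝒩 d, eq.symm x ∈ ℳ (d + 0) by
        simpa using isRegLE_transfer 𝒩 ℳ eq.symm.toLinearMap eq.symm.bijective 0 hh h
      intro d x hx
      obtain ⟨z, rfl⟩ := hπ x
      change eq.symm (eq z) ∈ ℳ (d + 0)
      rw [LinearEquiv.symm_apply_apply, add_zero]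
      have h1 : π (prj ℳ d z) = π z := by
        rw [← prj_same 𝒩 hx]
        exact (prj_map ℳ 𝒩 π.toAddMonoidHom hgr d z).symm
      rw [← eq.injective h1]
      exact prj_mem ℳ d z
  | cons y ys ih =>
    intro M _ _ _ _ _ ℳ _ _ hys hreg N _ _ _ _ 𝒩 _ _ π hπ hgr hker e
    have hy := hys y List.mem_cons_self
    obtain ⟨hy1, hys1⟩ := (RingTheory.Sequence.isWeaklyRegular_cons_iff M y ys).1 hreg
    letI := quotDec ℳ (smul_top_isHom ℳ hy)
    rw [Ideal.ofList_cons, Submodule.sup_smul, Submodule.ideal_span_singleton_smul] at hker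
    let π' : (M ⧸ (y • (⊤ : Submodule (MvPolynomial (Fin (r + 1)) k) M))) →ₗ[MvPolynomial (Fin (r + 1)) k] N := Submodule.liftQ (y • (⊤ : Submodule (MvPolynomial (Fin (r + 1)) k) M)) π (hker ▸ le_sup_left)
    refine (isRegLE_regular_iff ℳ y hy hy1 e).trans
      (ih (M ⧸ (y • (⊤ : Submodule (MvPolynomial (Fin (r + 1)) k) M))) (quotGrM ℳ (y • (⊤ : Submodule (MvPolynomial (Fin (r + 1)) k) M))) (fun z hz => hys z (List.mem_cons_of_mem _ hz)) hys1 N 𝒩 π' (fun z => ?_) ?_ ?_ e)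
    · obtain ⟨w, rfl⟩ := hπ z
      exact ⟨Submodule.Quotient.mk w, rfl⟩
    · rintro d _ ⟨w, hw, rfl⟩
      exact hgr d w hw
    · rw [Submodule.ker_liftQ, hker, Submodule.map_sup, ← Submodule.map_top (R := MvPolynomial (Fin (r + 1)) k) (Submodule.mkQ (y • (⊤ : Submodule (MvPolynomial (Fin (r + 1)) k) M))) |>.trans
        (Submodule.range_mkQ (y • (⊤ : Submodule (MvPolynomial (Fin (r + 1)) k) M))), Submodule.map_smul'']
      rw [show Submodule.map (Submodule.mkQ (y • (⊤ : Submodule (MvPolynomial (Fin (r + 1)) k) M))) (y • (⊤ : Submodule (MvPolynomial (Fin (r + 1)) k) M)) = ⊥ from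
        LinearMap.le_ker_iff_map.1 (Submodule.ker_mkQ _).ge, bot_sup_eq]

end Groth.L12.GrSyzLib
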