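import Groth.Agent.L12.GrTor
import Groth.Agent.L12.GrRegSeq
import Groth.Agent.L04.CMLoc
import Mathlib.Algebra.Module.Submodule.Union
import Mathlib.RingTheory.Ideal.AssociatedPrime.Finiteness
import Mathlib.RingTheory.MvPolynomial.Ideal

/-!
# The graded Auslander–Buchsbaum formula
-/

set_option autoImplicit false

universe u

open DirectSum Pointwise RingTheory.Sequence

namespace Groth.L12.GrSyzLib

variable {k : Type u} [Field k]

section Vars

variable {σ : Type}

lemma isWeaklyRegular_X_quot : ∀ (l : List σ) (s : Set σ), l.Nodup → (∀ i ∈ l, i ∉ s) →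
    IsWeaklyRegular (MvPolynomial σ k ⧸ Ideal.span ((MvPolynomial.X (R := k)) '' s)) (l.map (MvPolynomial.X (R := k))) := by
  intro l
  induction l with
  | nil => intro s _ _; exact IsWeaklyRegular.nil _ _
  | cons a l ih =>
    intro s hnd hs
    rw [List.nodup_cons] at hnd
    rw [List.forall_mem_cons] at hs
    rw [List.map_cons, isWeaklyRegular_cons_iff]
    refine ⟨(isSMulRegular_quotient_iff_mem_of_smul_mem _ _).2 fun z hz => ?_, ?_⟩
    · rw [MvPolynomial.mem_ideal_span_X_image] at hz ⊢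
      intro m hm
      obtain ⟨i, hi, hne⟩ := hz (Finsupp.single a 1 + m) (by
        rw [smul_eq_mul, MvPolynomial.mem_support_iff, MvPolynomial.coeff_X_mul]
        exact MvPolynomial.mem_support_iff.1 hm)
      refine ⟨i, hi, ?_⟩
      have hia : a ≠ i := fun h => hs.1 (h ▸ hi)
      rwa [Finsupp.add_apply, Finsupp.single_eq_of_ne' hia, zero_add] at hne
    · have h := ih (insert a s) hnd.2 (fun i hi => by
        rw [Set.mem_insert_iff, not_or]
        exact ⟨fun h => hnd.1 (h ▸ hi), hs.2 i hi⟩)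
      let I : Ideal (MvPolynomial σ k) := Ideal.span (MvPolynomial.X '' s)
      have hI : Ideal.span (MvPolynomial.X '' insert a s) =
          Ideal.span {(MvPolynomial.X a : MvPolynomial σ k)} ⊔ I := by
        rw [Set.image_insert_eq, Ideal.span_insert]
      have hmap : (MvPolynomial.X a : MvPolynomial σ k) • (⊤ : Submodule (MvPolynomial σ k) (MvPolynomial σ k ⧸ I)) =
          Submodule.map I.mkQ (I ⊔ Ideal.span {(MvPolynomial.X a : MvPolynomial σ k)}) := by
        rw [Submodule.map_sup, Submodule.mkQ_map_self, bot_sup_eq]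
        refine le_antisymm ?_ ?_
        · intro x hx
          obtain ⟨y, -, rfl⟩ := (Submodule.mem_smul_pointwise_iff_exists _ _ _).1 hx
          obtain ⟨y, rfl⟩ := Submodule.mkQ_surjective I y
          exact ⟨MvPolynomial.X a * y, Ideal.mul_mem_right _ _ (Ideal.subset_span rfl), by
            rw [← smul_eq_mul, map_smul]⟩
        · rintro _ ⟨y, hy, rfl⟩
          obtain ⟨c, rfl⟩ := Ideal.mem_span_singleton'.1 hy
          rw [mul_comm, ← smul_eq_mul, map_smul]
          exact Submodule.smul_mem_pointwise_smul _ _ _ trivial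
      exact (((Submodule.quotEquivOfEq _ _ hmap).trans
        ((Submodule.quotientQuotientEquivQuotientSup I _).trans
          (Submodule.quotEquivOfEq _ _ (by rw [hI, sup_comm I (I ⊔ _), sup_assoc, sup_left_comm, sup_idem, sup_comm])))).isWeaklyRegular_congr _).2 h

variable (k) in
theorem card_le_idealDepth (n : ℕ) :
    ((n + 1 : ℕ) : ℕ∞) ≤ LocCoh.idealDepth (mm k (Fin (n + 1))) (MvPolynomial (Fin (n + 1)) k) := by
  have h := isWeaklyRegular_X_quot (k := k) (List.finRange (n + 1)) (∅ : Set (Fin (n + 1)))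
    (List.nodup_finRange _) (fun _ _ h => h)
  have e : (MvPolynomial (Fin (n + 1)) k ⧸ Ideal.span ((MvPolynomial.X (R := k)) '' (∅ : Set (Fin (n + 1))))) ≃ₗ[MvPolynomial (Fin (n + 1)) k]
      MvPolynomial (Fin (n + 1)) k := Submodule.quotEquivOfEqBot _ (by simp)
  have h' := Groth.L04.length_le_idealDepth (I := mm k (Fin (n + 1))) ((e.isWeaklyRegular_congr _).1 h) (fun r hr => by
    obtain ⟨i, -, rfl⟩ := List.mem_map.1 hr
    rw [mem_mm_iff, MvPolynomial.constantCoeff_X])
  simpa using h'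

end Vars

variable {n : ℕ}

lemma smul_top_ne_top {M : Type u} [AddCommGroup M] [Module (MvPolynomial (Fin (n + 1)) k) M] [Module k M]
    [IsScalarTower k (MvPolynomial (Fin (n + 1)) k) M] [Module.Finite (MvPolynomial (Fin (n + 1)) k) M]
    {ℳ : ℤ → Submodule k M} [DirectSum.Decomposition ℳ] [SetLike.GradedSMul (GrSyz.stdGr k (Fin (n + 1))) ℳ]
    (F : GrSyz.FreeRes (GrSyz.stdGr k (Fin (n + 1))) ℳ) (hF : F.IsMinimal (mm k (Fin (n + 1)))) {ℓ : ℕ}
    (hℓ : F.rk ℓ ≠ 0) : mm k (Fin (n + 1)) • (⊤ : Submodule (MvPolynomial (Fin (n + 1)) k) M) ≠ ⊤ := by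
  classical
  intro htop
  have h0 : F.rk 0 = 0 := by
    by_contra hne
    let b : Fin (F.rk 0) := ⟨0, Nat.pos_of_ne_zero hne⟩
    have hsurj : LinearMap.range F.augLin = ⊤ := LinearMap.range_eq_top.2 F.aug_surjective
    have hb : F.augLin (Pi.single b 1) ∈ Submodule.map F.augLin
        (mm k (Fin (n + 1)) • (⊤ : Submodule (MvPolynomial (Fin (n + 1)) k) (Fin (F.rk 0) → MvPolynomial (Fin (n + 1)) k))) := by
      rw [Submodule.map_smul'', Submodule.map_top, hsurj, htop]
      trivial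
    obtain ⟨w, hw, hwb⟩ := hb
    have h1 : Pi.single b 1 - w ∈ LinearMap.ker F.augLin := by rw [LinearMap.mem_ker, map_sub, hwb, sub_self]
    rw [F.exact_zero] at h1
    have h2 := mem_range_dLin F hF 0 _ h1 b
    have h3 : w b ∈ mm k (Fin (n + 1)) := by
      refine Submodule.smul_induction_on hw (fun r hr v _ => ?_) (fun x y hx hy => add_mem hx hy)
      exact Ideal.mul_mem_right _ _ hr
    have := add_mem h2 h3
    rw [Pi.sub_apply, sub_add_cancel, Pi.single_eq_same] at this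
    exact one_notMem_mm this
  haveI : IsEmpty (Fin (F.rk 0)) := by rw [h0]; infer_instance
  haveI : Subsingleton M := F.aug_surjective.subsingleton
  have hp : CategoryTheory.HasProjectiveDimensionLE (ModuleCat.of (MvPolynomial (Fin (n + 1)) k) M) 0 :=
    Groth.L04.hasProjectiveDimensionLE_of_subsingleton M 0
  rcases Nat.eq_zero_or_pos ℓ with rfl | hpos
  · exact hℓ h0
  · exact hℓ ((hasLengthLE_iff F hF 0).2 hp ℓ hpos)

lemma exists_linear_regular [Infinite k] {M : Type u} [AddCommGroup M] [Module (MvPolynomial (Fin (n + 1)) k) M]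
    [Module.Finite (MvPolynomial (Fin (n + 1)) k) M]
    (h : (1 : ℕ∞) ≤ LocCoh.idealDepth (mm k (Fin (n + 1))) M) :
    ∃ y ∈ GrSyz.stdGr k (Fin (n + 1)) 1, IsSMulRegular M y := by
  classical
  set V := GrSyz.stdGr k (Fin (n + 1)) 1
  haveI : Finite (associatedPrimes (MvPolynomial (Fin (n + 1)) k) M) :=
    (associatedPrimes.finite (MvPolynomial (Fin (n + 1)) k) M).to_subtype
  have hprop : ∀ P : associatedPrimes (MvPolynomial (Fin (n + 1)) k) M,
      (P.1.restrictScalars k).comap V.subtype ≠ ⊤ := by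
    rintro ⟨P, hP⟩ htop
    have hMP : mm k (Fin (n + 1)) ≤ P := by
      rw [mm_eq_span, Ideal.span_le]
      rintro _ ⟨i, -, rfl⟩
      have : (⟨MvPolynomial.X i, MvPolynomial.isWeightedHomogeneous_X k (fun _ => (1 : ℤ)) i⟩ : V) ∈
          (P.restrictScalars k).comap V.subtype := by rw [htop]; trivial
      exact this
    obtain ⟨z, hz⟩ := (isAssociatedPrime_iff.1 hP).2
    have hz0 : z = 0 := Groth.L04.hom_zero_of_one_le h fun a ha => by
      have := hMP ha
      rw [hz] at this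
      simpa using this
    subst hz0
    apply (IsAssociatedPrime.isPrime hP).ne_top
    rw [hz, eq_top_iff]
    intro a _
    simp
  obtain ⟨θ, hθ⟩ := Submodule.exists_forall_notMem_of_forall_ne_top _ hprop
  refine ⟨θ.1, θ.2, ?_⟩
  have h2 : θ.1 ∉ ⋃ P ∈ associatedPrimes (MvPolynomial (Fin (n + 1)) k) M, (P : Set (MvPolynomial (Fin (n + 1)) k)) := by
    simp only [Set.mem_iUnion, not_exists]
    intro P hP hmem
    exact hθ ⟨P, hP⟩ hmem
  rw [biUnion_associatedPrimes_eq_compl_regular] at h2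
  exact not_not.mp h2

theorem add_le_of_le_depth [Infinite k] : ∀ (δ : ℕ) (M : Type u) [AddCommGroup M]
    [Module (MvPolynomial (Fin (n + 1)) k) M] [Module k M] [IsScalarTower k (MvPolynomial (Fin (n + 1)) k) M]
    [Module.Finite (MvPolynomial (Fin (n + 1)) k) M] (ℳ : ℤ → Submodule k M) [DirectSum.Decomposition ℳ]
    [SetLike.GradedSMul (GrSyz.stdGr k (Fin (n + 1))) ℳ] (F : GrSyz.FreeRes (GrSyz.stdGr k (Fin (n + 1))) ℳ),
    F.IsMinimal (mm k (Fin (n + 1))) → ∀ ℓ : ℕ, F.rk ℓ ≠ 0 →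
      (δ : ℕ∞) ≤ LocCoh.idealDepth (mm k (Fin (n + 1))) M → ℓ + δ ≤ n + 1 := by
  intro δ
  induction δ with
  | zero =>
    intro M _ _ _ _ _ ℳ _ _ F hF ℓ hℓ _
    by_contra hlt
    exact hℓ ((hasLengthLE_iff F hF _).2 (hasProjectiveDimensionLE_card _) ℓ (by rw [Nat.card_fin]; omega))
  | succ δ ih =>
    intro M _ _ _ _ _ ℳ _ _ F hF ℓ hℓ hd
    obtain ⟨y, hy, hreg⟩ := exists_linear_regular (k := k) (M := M)
      (le_trans (by exact_mod_cast (show (1 : ℕ) ≤ δ + 1 by omega)) hd)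
    have hymm : y ∈ mm k (Fin (n + 1)) := mem_mm_iff.2 (constantCoeff_of_mem one_ne_zero hy)
    letI := shiftDec ℳ
    haveI := shiftGr_smul ℳ (r := n)
    let N : Submodule (MvPolynomial (Fin (n + 1)) k) M := y • ⊤
    letI := quotDec ℳ (smul_top_isHom ℳ hy)
    let F' : GrSyz.FreeRes (GrSyz.stdGr k (Fin (n + 1))) (shiftGr ℳ) :=
      { rk := F.rk
        deg := fun i b => F.deg i b + 1
        d := F.d
        aug := F.aug
        d_mem := fun i a b => by rw [add_sub_add_right_eq_sub]; exact F.d_mem i a b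
        aug_mem := fun b => show F.aug b ∈ ℳ (F.deg 0 b + 1 - 1) by rw [add_sub_cancel_right]; exact F.aug_mem b
        aug_surjective := F.aug_surjective
        exact_zero := F.exact_zero
        exact_succ := F.exact_succ }
    let φ : (i : ℕ) → (Fin (F'.rk i) → MvPolynomial (Fin (n + 1)) k) →ₗ[MvPolynomial (Fin (n + 1)) k]
        (Fin (F.rk i) → MvPolynomial (Fin (n + 1)) k) := fun i => y • LinearMap.id
    let f : M →ₗ[MvPolynomial (Fin (n + 1)) k] M := y • LinearMap.id
    have hfg : LinearMap.range f = LinearMap.ker N.mkQ := by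
      rw [Submodule.ker_mkQ]
      ext x
      rw [Submodule.mem_smul_pointwise_iff_exists]
      exact ⟨fun ⟨z, hz⟩ => ⟨z, trivial, hz⟩, fun ⟨z, _, hz⟩ => ⟨z, hz⟩⟩
    obtain ⟨C, hr, -, hcd⟩ := exists_cone (ℳ₁ := shiftGr ℳ) (ℳ₂ := ℳ) (ℳ₃ := quotGrM ℳ N) F' F φ f N.mkQ
      hreg (Submodule.mkQ_surjective N) hfg (fun d x hx => ⟨x, hx, rfl⟩)
      (fun i d v hv => mem_fr.2 fun a => by
        have h1 : y * v a ∈ GrSyz.stdGr k (Fin (n + 1)) (1 + (d - (F.deg i a + 1))) :=
          SetLike.mul_mem_graded hy (mem_fr.1 hv a)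
        rwa [show 1 + (d - (F.deg i a + 1)) = d - F.deg i a by ring] at h1)
      (LinearMap.ext fun v => by simp [φ, f]; rfl)
      (fun i => LinearMap.ext fun v => by simp [φ]; rfl)
    have hcm : ∀ i, cm (φ i) = 0 := fun i => by
      ext a b
      simp [cm, φ, mem_mm_iff.1 hymm]
    have hcone : ∀ i (a : Fin (F.rk i + lo F' i)) (b : Fin (F.rk (i + 1) + lo F' (i + 1))),
        cm (coneD F' F φ i) a b = 0 := by
      intro i a b
      refine Fin.addCases (fun a => ?_) (fun a => ?_) a <;> refine Fin.addCases (fun b => ?_) (fun b => ?_) b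
      · rw [cm_cone_ll, cd_eq_zero F hF]; rfl
      · exact (cm_cone_lr F' F φ i a b).trans (by rw [hcm]; rfl)
      · exact cm_cone_rl F' F φ i a b
      · exact (cm_cone_rr F' F φ i a b).trans (by rw [cm_sd F' hF]; exact neg_zero)
    have hC : C.IsMinimal (mm k (Fin (n + 1))) := fun i a b => by
      have := hcd i a b
      rw [hcone, cd, GrSyz.FreeRes.dLin, cm_mulVecLin, Matrix.map_apply] at this
      exact mem_mm_iff.2 this
    have hrk : C.rk (ℓ + 1) ≠ 0 := by
      rw [hr]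
      change F.rk (ℓ + 1) + F.rk ℓ ≠ 0
      omega
    have := ih (M ⧸ N) (quotGrM ℳ N) C hC (ℓ + 1) hrk ((Groth.L04.le_idealDepth_quotSMulTop_iff hymm hreg δ).2 hd)
    omega

theorem auslander_buchsbaum [Infinite k] (M : Type u) [AddCommGroup M]
    [Module (MvPolynomial (Fin (n + 1)) k) M] [Module k M] [IsScalarTower k (MvPolynomial (Fin (n + 1)) k) M]
    [Module.Finite (MvPolynomial (Fin (n + 1)) k) M] (ℳ : ℤ → Submodule k M) [DirectSum.Decomposition ℳ]
    [SetLike.GradedSMul (GrSyz.stdGr k (Fin (n + 1))) ℳ] (F : GrSyz.FreeRes (GrSyz.stdGr k (Fin (n + 1))) ℳ)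
    (hF : F.IsMinimal (mm k (Fin (n + 1)))) (ℓ : ℕ) (hℓ : F.HasLengthLE ℓ) (hℓ' : F.rk ℓ ≠ 0) :
    (ℓ : ℕ∞) + LocCoh.idealDepth (mm k (Fin (n + 1))) M = ((n + 1 : ℕ) : ℕ∞) := by
  have hle : ℓ ≤ n + 1 := by
    simpa using add_le_of_le_depth (k := k) 0 M ℳ F hF ℓ hℓ' (by simp)
  have hlow : ((n + 1 - ℓ : ℕ) : ℕ∞) ≤ LocCoh.idealDepth (mm k (Fin (n + 1))) M :=
    Groth.L04.le_idealDepth_of_pd _ ℓ M ((hasLengthLE_iff F hF ℓ).1 hℓ) _
      (by rw [Nat.sub_add_cancel hle]; exact card_le_idealDepth k n)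
  have hup : LocCoh.idealDepth (mm k (Fin (n + 1))) M ≤ ((n + 1 - ℓ : ℕ) : ℕ∞) := by
    by_contra hlt
    rw [not_le] at hlt
    have := add_le_of_le_depth (k := k) (n + 1 - ℓ + 1) M ℳ F hF ℓ hℓ' (by
      push_cast
      exact Order.add_one_le_of_lt hlt)
    omega
  rw [le_antisymm hup hlow, ← Nat.cast_add, Nat.add_sub_cancel' hle]

end Groth.L12.GrSyzLib
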