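import Groth.Agent.L12.GrRes
import Mathlib.LinearAlgebra.Matrix.ToLin

/-!
# Chain maps between graded free resolutions and constant strands
-/

set_option autoImplicit false

universe u

open DirectSum

namespace Groth.L12.GrSyzLib

variable {k : Type u} [Field k] {σ : Type}

/-- a degree preserving map out of a free module -/
def IsGr {n : ℕ} (deg : Fin n → ℤ) {X : Type u} [AddCommGroup X] [Module (MvPolynomial σ k) X] [Module k X]
    (𝒳 : ℤ → Submodule k X) (f : (Fin n → MvPolynomial σ k) →ₗ[MvPolynomial σ k] X) : Prop :=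
  ∀ d, ∀ v ∈ fr (k := k) (σ := σ) deg d, f v ∈ 𝒳 d

lemma single_one_mem {n : ℕ} (deg : Fin n → ℤ) (b : Fin n) :
    Pi.single b (1 : MvPolynomial σ k) ∈ fr (k := k) (σ := σ) deg (deg b) := by
  have h := single_mem_fr deg b (p := (1 : MvPolynomial σ k)) (e := 0) (MvPolynomial.isWeightedHomogeneous_one k _)
  rwa [zero_add] at h

lemma eq_lc_single {n : ℕ} {X : Type u} [AddCommGroup X] [Module (MvPolynomial σ k) X]
    (f : (Fin n → MvPolynomial σ k) →ₗ[MvPolynomial σ k] X) :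
    f = Fintype.linearCombination (MvPolynomial σ k) fun b => f (Pi.single b 1) := by
  classical
  refine LinearMap.pi_ext' fun b => LinearMap.ext_ring ?_
  simp [Fintype.linearCombination_apply_single]

section Lift

variable {X : Type u} [AddCommGroup X] [Module (MvPolynomial σ k) X] [Module k X]
  [IsScalarTower k (MvPolynomial σ k) X] (𝒳 : ℤ → Submodule k X) [DirectSum.Decomposition 𝒳]
  [SetLike.GradedSMul (GrSyz.stdGr k σ) 𝒳]

omit [IsScalarTower k (MvPolynomial σ k) X] in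
lemma isGr_lc {n : ℕ} {deg : Fin n → ℤ} {g : Fin n → X} (hg : ∀ b, g b ∈ 𝒳 (deg b)) :
    IsGr deg 𝒳 (Fintype.linearCombination (MvPolynomial σ k) g) :=
  fun _ _ hv => lc_mem 𝒳 hg hv

lemma exists_lift_map {n n' : ℕ} {deg : Fin n → ℤ} {deg' : Fin n' → ℤ}
    (f : (Fin n → MvPolynomial σ k) →ₗ[MvPolynomial σ k] X) (hf : IsGr deg 𝒳 f)
    (h : (Fin n' → MvPolynomial σ k) →ₗ[MvPolynomial σ k] X) (hh : IsGr deg' 𝒳 h)
    (hr : ∀ v, f v ∈ LinearMap.range h) :
    ∃ φ : (Fin n → MvPolynomial σ k) →ₗ[MvPolynomial σ k] (Fin n' → MvPolynomial σ k),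
      IsGr deg (fr deg') φ ∧ h.comp φ = f := by
  classical
  obtain ⟨φ, hφ, hφ'⟩ := exists_lift 𝒳 (g := fun b => f (Pi.single b 1)) (h := fun b => h (Pi.single b 1))
    (fun b => hf _ _ (single_one_mem deg b)) (fun b => hh _ _ (single_one_mem deg' b))
    (fun b => by rw [← eq_lc_single h]; exact hr _)
  refine ⟨Fintype.linearCombination (MvPolynomial σ k) φ, isGr_lc (fr deg') hφ, ?_⟩
  rw [eq_lc_single h, lc_comp, eq_lc_single f]
  exact congrArg _ (funext hφ')

end Lift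

/-- the constant matrix of a map of free modules -/
noncomputable def cm {n n' : ℕ} (f : (Fin n → MvPolynomial σ k) →ₗ[MvPolynomial σ k] (Fin n' → MvPolynomial σ k)) :
    Matrix (Fin n') (Fin n) k :=
  fun a b => MvPolynomial.constantCoeff (f (Pi.single b 1) a)

lemma cm_id {n : ℕ} : cm (k := k) (σ := σ) (n := n) LinearMap.id = 1 := by
  classical
  ext a b
  rw [cm, LinearMap.id_apply, Matrix.one_apply]
  rcases eq_or_ne a b with rfl | h
  · rw [Pi.single_eq_same, map_one, if_pos rfl]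
  · rw [Pi.single_eq_of_ne h, map_zero, if_neg h]

lemma cm_sub {n n' : ℕ} (f g : (Fin n → MvPolynomial σ k) →ₗ[MvPolynomial σ k] (Fin n' → MvPolynomial σ k)) :
    cm (f - g) = cm f - cm g := by
  ext a b; simp [cm]

lemma cm_comp {n n' n'' : ℕ} (f : (Fin n' → MvPolynomial σ k) →ₗ[MvPolynomial σ k] (Fin n'' → MvPolynomial σ k))
    (g : (Fin n → MvPolynomial σ k) →ₗ[MvPolynomial σ k] (Fin n' → MvPolynomial σ k)) :
    cm (f.comp g) = cm f * cm g := by
  classical
  ext c b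
  rw [cm, LinearMap.comp_apply, eq_lc_single f]
  simp only [Matrix.mul_apply, cm, Fintype.linearCombination_apply, Finset.sum_apply, Pi.smul_apply, smul_eq_mul,
    map_sum, map_mul]
  refine Finset.sum_congr rfl fun a _ => ?_
  rw [Finset.sum_eq_single a (fun x _ hx => by rw [Pi.single_eq_of_ne hx, map_zero, zero_mul])
    (fun h => absurd (Finset.mem_univ a) h), Pi.single_eq_same, map_one, one_mul, mul_comm]

lemma cm_mulVecLin {n n' : ℕ} (D : Matrix (Fin n') (Fin n) (MvPolynomial σ k)) :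
    cm (Matrix.mulVecLin D) = D.map MvPolynomial.constantCoeff := by
  classical
  ext a b
  simp [cm, Matrix.mulVec_single_one]

lemma deg_eq_of_cm {n n' : ℕ} {deg : Fin n → ℤ} {deg' : Fin n' → ℤ}
    {f : (Fin n → MvPolynomial σ k) →ₗ[MvPolynomial σ k] (Fin n' → MvPolynomial σ k)} (hf : IsGr deg (fr deg') f)
    {a : Fin n'} {b : Fin n} (h : cm f a b ≠ 0) : deg' a = deg b := by
  by_contra hne
  exact h (constantCoeff_of_mem (sub_ne_zero.2 (Ne.symm hne)) (mem_fr.1 (hf _ _ (single_one_mem deg b)) a))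

section Chain

variable {M : Type u} [AddCommGroup M] [Module (MvPolynomial σ k) M] [Module k M]
  [IsScalarTower k (MvPolynomial σ k) M]
  {ℳ : ℤ → Submodule k M} [DirectSum.Decomposition ℳ] [SetLike.GradedSMul (GrSyz.stdGr k σ) ℳ]
  {M' : Type u} [AddCommGroup M'] [Module (MvPolynomial σ k) M'] [Module k M']
  [IsScalarTower k (MvPolynomial σ k) M']
  {ℳ' : ℤ → Submodule k M'} [DirectSum.Decomposition ℳ'] [SetLike.GradedSMul (GrSyz.stdGr k σ) ℳ']

omit [IsScalarTower k (MvPolynomial σ k) M] in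
lemma isGr_dLin (F : GrSyz.FreeRes (GrSyz.stdGr k σ) ℳ) (i : ℕ) :
    IsGr (F.deg (i + 1)) (fr (F.deg i)) (F.dLin i) := by
  rw [GrSyz.FreeRes.dLin, mulVecLin_eq_lc]
  exact isGr_lc _ fun b => mem_fr.2 fun a => F.d_mem i a b

/-- A chain map over `f`. -/
theorem exists_chainMap (F : GrSyz.FreeRes (GrSyz.stdGr k σ) ℳ) (G : GrSyz.FreeRes (GrSyz.stdGr k σ) ℳ')
    (f : M →ₗ[MvPolynomial σ k] M') (hf : ∀ d, ∀ x ∈ ℳ d, f x ∈ ℳ' d) :
    ∃ φ : (i : ℕ) → (Fin (F.rk i) → MvPolynomial σ k) →ₗ[MvPolynomial σ k] (Fin (G.rk i) → MvPolynomial σ k),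
      (∀ i, IsGr (F.deg i) (fr (G.deg i)) (φ i)) ∧ G.augLin.comp (φ 0) = f.comp F.augLin ∧
      ∀ i, (G.dLin i).comp (φ (i + 1)) = (φ i).comp (F.dLin i) := by
  let P : (i : ℕ) → ((Fin (F.rk i) → MvPolynomial σ k) →ₗ[MvPolynomial σ k] (Fin (G.rk i) → MvPolynomial σ k)) → Prop :=
    fun i φ => IsGr (F.deg i) (fr (G.deg i)) φ ∧ ∀ v, φ (F.dLin i v) ∈ LinearMap.range (G.dLin i)
  obtain ⟨φ0, hφ0, hc0⟩ := exists_lift_map ℳ' (f.comp F.augLin)
    (fun d v hv => hf d _ (lc_mem ℳ F.aug_mem hv)) G.augLin (isGr_lc ℳ' G.aug_mem)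
    (fun v => (LinearMap.range_eq_top.2 G.aug_surjective) ▸ trivial)
  have h0 : P 0 φ0 := ⟨hφ0, fun v => by
    rw [GrSyz.FreeRes.dLin, ← G.exact_zero, LinearMap.mem_ker, ← LinearMap.comp_apply, hc0, LinearMap.comp_apply,
      show F.augLin (F.dLin 0 v) = 0 from LinearMap.mem_ker.1 (F.exact_zero ▸ LinearMap.mem_range_self _ v), map_zero]⟩
  have hstep : ∀ i, ∀ φ : {φ // P i φ}, ∃ φ' : {φ' // P (i + 1) φ'},
      (G.dLin i).comp φ'.1 = φ.1.comp (F.dLin i) := by
    rintro i ⟨φ, hφ, hr⟩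
    obtain ⟨φ', hφ', hc⟩ := exists_lift_map (fr (G.deg i)) (φ.comp (F.dLin i))
      (fun d v hv => hφ d _ (isGr_dLin F i d v hv)) (G.dLin i) (isGr_dLin G i) hr
    refine ⟨⟨φ', hφ', fun v => ?_⟩, hc⟩
    rw [GrSyz.FreeRes.dLin, GrSyz.FreeRes.dLin, ← G.exact_succ i, LinearMap.mem_ker]
    change (G.dLin i).comp φ' (F.dLin (i + 1) v) = 0
    rw [hc, LinearMap.comp_apply,
      show F.dLin i (F.dLin (i + 1) v) = 0 from
        LinearMap.mem_ker.1 ((F.exact_succ i).symm ▸ LinearMap.mem_range_self _ v), map_zero]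
  choose next hnext using hstep
  let ψ : (i : ℕ) → {φ // P i φ} := fun i => Nat.rec ⟨φ0, h0⟩ (fun j φ => next j φ) i
  exact ⟨fun i => (ψ i).1, fun i => (ψ i).2.1, hc0, fun i => hnext i (ψ i)⟩

/-- the homotopy identity at level `i` -/
def HomotEq (F : GrSyz.FreeRes (GrSyz.stdGr k σ) ℳ)
    (χ : (i : ℕ) → (Fin (F.rk i) → MvPolynomial σ k) →ₗ[MvPolynomial σ k] (Fin (F.rk i) → MvPolynomial σ k)) :
    (i : ℕ) → ((Fin (F.rk i) → MvPolynomial σ k) →ₗ[MvPolynomial σ k] (Fin (F.rk (i + 1)) → MvPolynomial σ k)) → Prop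
  | 0, h => χ 0 - LinearMap.id = LinearMap.comp (F.dLin 0) h
  | j + 1, h => ∃ h' : (Fin (F.rk j) → MvPolynomial σ k) →ₗ[MvPolynomial σ k] (Fin (F.rk (j + 1)) → MvPolynomial σ k),
      χ (j + 1) - LinearMap.id = LinearMap.comp (F.dLin (j + 1)) h + LinearMap.comp h' (F.dLin j)

/-- An endomorphism of a resolution over the identity is homotopic to the identity. -/
theorem exists_homotopy (F : GrSyz.FreeRes (GrSyz.stdGr k σ) ℳ)
    (χ : (i : ℕ) → (Fin (F.rk i) → MvPolynomial σ k) →ₗ[MvPolynomial σ k] (Fin (F.rk i) → MvPolynomial σ k))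
    (hχ : ∀ i, IsGr (F.deg i) (fr (F.deg i)) (χ i)) (h0 : F.augLin.comp (χ 0) = F.augLin)
    (hcomm : ∀ i, (F.dLin i).comp (χ (i + 1)) = (χ i).comp (F.dLin i)) (i : ℕ) :
    ∃ h : (Fin (F.rk i) → MvPolynomial σ k) →ₗ[MvPolynomial σ k] (Fin (F.rk (i + 1)) → MvPolynomial σ k),
      IsGr (F.deg i) (fr (F.deg (i + 1))) h ∧
      LinearMap.comp (χ i - LinearMap.id - LinearMap.comp (F.dLin i) h) (F.dLin i) = 0 ∧
      HomotEq F χ i h := by
  induction i with
  | zero =>
    obtain ⟨h, hh, hc⟩ := exists_lift_map (fr (F.deg 0)) (χ 0 - LinearMap.id)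
      (fun d v hv => sub_mem (hχ 0 d v hv) hv) (F.dLin 0) (isGr_dLin F 0) (fun v => by
        rw [GrSyz.FreeRes.dLin, ← F.exact_zero, LinearMap.mem_ker, LinearMap.sub_apply, map_sub,
          ← LinearMap.comp_apply, h0, LinearMap.id_apply, sub_self])
    exact ⟨h, hh, by rw [hc, sub_self, LinearMap.zero_comp], hc.symm⟩
  | succ i ih =>
    obtain ⟨h, hh, hz, -⟩ := ih
    have hz' : ∀ v, F.dLin i ((χ (i + 1) - LinearMap.id - LinearMap.comp h (F.dLin i) : (Fin (F.rk (i + 1)) → MvPolynomial σ k) →ₗ[MvPolynomial σ k] (Fin (F.rk (i + 1)) → MvPolynomial σ k)) v) = 0 := fun v => by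
      have := LinearMap.congr_fun hz v
      simp only [LinearMap.comp_apply, LinearMap.sub_apply, LinearMap.id_apply, LinearMap.zero_apply] at this
      simp only [LinearMap.comp_apply, LinearMap.sub_apply, LinearMap.id_apply, map_sub]
      rw [← LinearMap.comp_apply (F.dLin i) (χ (i + 1)), hcomm, LinearMap.comp_apply]
      exact this
    obtain ⟨h', hh', hc⟩ := exists_lift_map (fr (F.deg (i + 1))) (χ (i + 1) - LinearMap.id - h.comp (F.dLin i))
      (fun d v hv => sub_mem (sub_mem (hχ _ d v hv) hv) (hh d _ (isGr_dLin F i d v hv))) (F.dLin (i + 1))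
      (isGr_dLin F (i + 1)) (fun v => by
        rw [GrSyz.FreeRes.dLin, ← F.exact_succ i, LinearMap.mem_ker]; exact hz' v)
    refine ⟨h', hh', ?_, h, ?_⟩
    · rw [hc, sub_sub_cancel, LinearMap.comp_assoc]
      refine LinearMap.ext fun v => ?_
      rw [LinearMap.comp_apply, LinearMap.comp_apply, LinearMap.zero_apply,
        show F.dLin i (F.dLin (i + 1) v) = 0 from
          LinearMap.mem_ker.1 ((F.exact_succ i).symm ▸ LinearMap.mem_range_self _ v), map_zero]
    · rw [hc, sub_add_cancel]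

variable (F : GrSyz.FreeRes (GrSyz.stdGr k σ) ℳ)

/-- constant matrices of the differentials -/
noncomputable def cd (i : ℕ) : Matrix (Fin (F.rk i)) (Fin (F.rk (i + 1))) k := cm (F.dLin i)

/-- a constant cycle at level `i` supported in degree `j` -/
def IsCycle (i : ℕ) (j : ℤ) (v : Fin (F.rk i) → k) : Prop :=
  (∀ b, v b ≠ 0 → F.deg i b = j) ∧
  match i, v with
  | 0, _ => True
  | l + 1, v => (cd F l).mulVec v = 0

omit [IsScalarTower k (MvPolynomial σ k) M] in
lemma cd_eq_zero (hF : F.IsMinimal (mm k σ)) (i : ℕ) : cd F i = 0 := by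
  rw [cd, GrSyz.FreeRes.dLin, cm_mulVecLin]
  ext a b
  exact mem_mm_iff.1 (hF i a b)

/-- If the minimal resolution has no basis vector of degree `j` at level `i`, constant cycles are boundaries. -/
theorem boundary_of_betti_eq_zero (G : GrSyz.FreeRes (GrSyz.stdGr k σ) ℳ) (i : ℕ) (j : ℤ) (hb : G.betti i j = 0)
    (v : Fin (F.rk i) → k) (hv : IsCycle F i j v) : ∃ w, (cd F i).mulVec w = v := by
  obtain ⟨φ, hφ, hφ0, hφc⟩ := exists_chainMap F G LinearMap.id (fun _ _ h => h)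
  obtain ⟨ψ, hψ, hψ0, hψc⟩ := exists_chainMap G F LinearMap.id (fun _ _ h => h)
  obtain ⟨h, -, -, hi⟩ := exists_homotopy F (fun i => (ψ i).comp (φ i))
    (fun i d v hv => hψ i d _ (hφ i d v hv))
    (by rw [← LinearMap.comp_assoc, hψ0, LinearMap.id_comp, hφ0, LinearMap.id_comp])
    (fun i => by rw [← LinearMap.comp_assoc, hψc, LinearMap.comp_assoc, hφc, ← LinearMap.comp_assoc]) i
  have hA : (cm (φ i)).mulVec v = 0 := by
    funext a
    simp only [Matrix.mulVec, dotProduct, Pi.zero_apply]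
    refine Finset.sum_eq_zero fun b _ => ?_
    by_contra hne
    have h1 := deg_eq_of_cm (hφ i) (left_ne_zero_of_mul hne)
    rw [hv.1 b (right_ne_zero_of_mul hne)] at h1
    have hmem : a ∈ Finset.univ.filter fun b => G.deg i b = j := Finset.mem_filter.2 ⟨Finset.mem_univ _, h1⟩
    rw [Finset.card_eq_zero.1 hb] at hmem
    exact Finset.notMem_empty a hmem
  cases i with
  | zero =>
    refine ⟨-(cm h).mulVec v, ?_⟩
    have := congrArg (fun A => A.mulVec v) (congrArg cm hi)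
    simp only [cm_sub, cm_comp, cm_id, Matrix.sub_mulVec, ← Matrix.mulVec_mulVec, hA, Matrix.mulVec_zero,
      Matrix.one_mulVec, zero_sub] at this
    rw [cd, Matrix.mulVec_neg, ← this, neg_neg]
  | succ l =>
    obtain ⟨h', hi⟩ := hi
    refine ⟨-(cm h).mulVec v, ?_⟩
    have hadd : ∀ {n n' : ℕ} (f g : (Fin n → MvPolynomial σ k) →ₗ[MvPolynomial σ k] (Fin n' → MvPolynomial σ k)),
        cm (f + g) = cm f + cm g := fun f g => by ext a b; simp [cm]
    have := congrArg (fun A => A.mulVec v) (congrArg cm hi)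
    simp only [hadd, cm_sub, cm_comp, cm_id, Matrix.sub_mulVec, Matrix.add_mulVec, ← Matrix.mulVec_mulVec, hA,
      Matrix.mulVec_zero, Matrix.one_mulVec, zero_sub] at this
    rw [show (cm (F.dLin l)).mulVec v = 0 from hv.2, Matrix.mulVec_zero, add_zero] at this
    rw [cd, Matrix.mulVec_neg, ← this, neg_neg]

/-- A minimal resolution has no more degrees than any resolution. -/
theorem exists_deg_of_betti (G : GrSyz.FreeRes (GrSyz.stdGr k σ) ℳ) (hG : G.IsMinimal (mm k σ)) (i : ℕ)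
    (b : Fin (G.rk i)) : ∃ a : Fin (F.rk i), F.deg i a = G.deg i b := by
  classical
  by_contra hne
  push Not at hne
  have hb : F.betti i (G.deg i b) = 0 :=
    Finset.card_eq_zero.2 (Finset.filter_eq_empty_iff.2 fun a _ h => hne a h)
  have hc : IsCycle G i (G.deg i b) (Pi.single b 1) := by
    refine ⟨fun c hc => ?_, ?_⟩
    · by_contra h
      exact hc (Pi.single_eq_of_ne (fun hcb => h (congrArg _ hcb)) _)
    · cases i with
      | zero => trivial
      | succ l =>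
        change (cd G l).mulVec _ = 0
        rw [cd_eq_zero G hG, Matrix.zero_mulVec]
  obtain ⟨w, hw⟩ := boundary_of_betti_eq_zero G F i _ hb _ hc
  rw [cd_eq_zero G hG, Matrix.zero_mulVec] at hw
  exact zero_ne_one (α := k) ((congrFun hw b).trans (by simp))

theorem isRegLE_of_isGenLE [Finite σ] [Module.Finite (MvPolynomial σ k) M] {r : ℤ} (h : F.IsGenLE r) :
    GrSyz.IsRegLE (GrSyz.stdGr k σ) ℳ (mm k σ) r := by
  obtain ⟨G, hG⟩ := exists_minimal_res (σ := σ) ℳ
  refine ⟨G, hG, fun i b => ?_⟩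
  obtain ⟨a, ha⟩ := exists_deg_of_betti F G hG i b
  rw [← ha]
  exact h i a

end Chain

end Groth.L12.GrSyzLib
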