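import Groth.Agent.L12.GrCmp
import Groth.Prelude.Def_GrLC
import Mathlib.LinearAlgebra.Matrix.ToLin
import Mathlib.Algebra.BigOperators.Fin

/-!
# Mapping cones of graded free resolutions and regularity in short exact sequences
-/

set_option autoImplicit false

universe u

open DirectSum

namespace Groth.L12.GrSyzLib

variable {k : Type u} [Field k] {σ : Type}

section OfMaps

variable {M : Type u} [AddCommGroup M] [Module (MvPolynomial σ k) M] [Module k M]
  (ℳ : ℤ → Submodule k M) [DirectSum.Decomposition ℳ] [SetLike.GradedSMul (GrSyz.stdGr k σ) ℳ]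
  (rk : ℕ → ℕ) (deg : (i : ℕ) → Fin (rk i) → ℤ)
  (D : (i : ℕ) → (Fin (rk (i + 1)) → MvPolynomial σ k) →ₗ[MvPolynomial σ k] (Fin (rk i) → MvPolynomial σ k))
  (A : (Fin (rk 0) → MvPolynomial σ k) →ₗ[MvPolynomial σ k] M)
  (hD : ∀ i, IsGr (deg (i + 1)) (fr (deg i)) (D i)) (hA : IsGr (deg 0) ℳ A) (hs : Function.Surjective A)
  (h0 : LinearMap.ker A = LinearMap.range (D 0)) (hS : ∀ i, LinearMap.ker (D i) = LinearMap.range (D (i + 1)))

/-- a resolution from linear maps -/
noncomputable def ofMaps : GrSyz.FreeRes (GrSyz.stdGr k σ) ℳ where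
  rk := rk
  deg := deg
  d i := LinearMap.toMatrix' (D i)
  aug b := A (Pi.single b 1)
  d_mem i a b := by
    rw [LinearMap.toMatrix'_apply]
    exact mem_fr.1 (hD i _ _ (single_one_mem _ b)) a
  aug_mem b := hA _ _ (single_one_mem _ b)
  aug_surjective := by rw [← eq_lc_single A]; exact hs
  exact_zero := by
    rw [← eq_lc_single A, ← Matrix.toLin'_apply', Matrix.toLin'_toMatrix']; exact h0
  exact_succ i := by
    rw [← Matrix.toLin'_apply', ← Matrix.toLin'_apply', Matrix.toLin'_toMatrix', Matrix.toLin'_toMatrix']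
    exact hS i

lemma dLin_ofMaps (i : ℕ) : (ofMaps ℳ rk deg D A hD hA hs h0 hS).dLin i = D i := by
  change Matrix.mulVecLin (LinearMap.toMatrix' (D i)) = D i
  rw [← Matrix.toLin'_apply', Matrix.toLin'_toMatrix']

lemma augLin_ofMaps : (ofMaps ℳ rk deg D A hD hA hs h0 hS).augLin = A := (eq_lc_single A).symm

end OfMaps

section Append

/-- a free module on a sum -/
noncomputable def sumE (a b : ℕ) :
    (Fin (a + b) → MvPolynomial σ k) ≃ₗ[MvPolynomial σ k] (Fin a → MvPolynomial σ k) × (Fin b → MvPolynomial σ k) where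
  toFun v := (fun i => v (Fin.castAdd b i), fun i => v (Fin.natAdd a i))
  invFun p := Fin.append p.1 p.2
  map_add' _ _ := rfl
  map_smul' _ _ := rfl
  left_inv v := funext fun i => by refine Fin.addCases (fun j => ?_) (fun j => ?_) i <;> simp
  right_inv p := Prod.ext (funext fun i => by simp) (funext fun i => by simp)

lemma mem_fr_append {a b : ℕ} {dg : Fin a → ℤ} {dh : Fin b → ℤ} {d : ℤ} {v : Fin (a + b) → MvPolynomial σ k} :
    v ∈ fr (Fin.append dg dh) d ↔
      (sumE a b v).1 ∈ fr (k := k) (σ := σ) dg d ∧ (sumE a b v).2 ∈ fr (k := k) (σ := σ) dh d := by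
  simp only [mem_fr]
  refine ⟨fun h => ⟨fun i => ?_, fun i => ?_⟩, fun h i => ?_⟩
  · have := h (Fin.castAdd b i)
    rw [Fin.append_left] at this
    exact this
  · have := h (Fin.natAdd a i)
    rw [Fin.append_right] at this
    exact this
  · refine Fin.addCases (fun j => ?_) (fun j => ?_) i
    · rw [Fin.append_left]; exact h.1 j
    · rw [Fin.append_right]; exact h.2 j

lemma sumE_single_left (a b : ℕ) (x : Fin a) :
    sumE (k := k) (σ := σ) a b (Pi.single (Fin.castAdd b x) 1) = (Pi.single x 1, 0) := by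
  classical
  refine Prod.ext (funext fun i => ?_) (funext fun i => ?_)
  · change (Pi.single (Fin.castAdd b x) (1 : MvPolynomial σ k) : Fin (a + b) → MvPolynomial σ k) _ = _
    rcases eq_or_ne i x with rfl | h
    · simp
    · rw [Pi.single_eq_of_ne (fun h' => h (Fin.castAdd_injective _ _ h'))]
      simp [h]
  · change (Pi.single (Fin.castAdd b x) (1 : MvPolynomial σ k) : Fin (a + b) → MvPolynomial σ k) _ = _
    rw [Pi.single_eq_of_ne (fun h => by have := congrArg Fin.val h; simp at this; omega)]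
    rfl

lemma sumE_single_right (a b : ℕ) (x : Fin b) :
    sumE (k := k) (σ := σ) a b (Pi.single (Fin.natAdd a x) 1) = (0, Pi.single x 1) := by
  classical
  refine Prod.ext (funext fun i => ?_) (funext fun i => ?_)
  · change (Pi.single (Fin.natAdd a x) (1 : MvPolynomial σ k) : Fin (a + b) → MvPolynomial σ k) _ = _
    rw [Pi.single_eq_of_ne (fun h => by have := congrArg Fin.val h; simp at this; omega)]
    rfl
  · change (Pi.single (Fin.natAdd a x) (1 : MvPolynomial σ k) : Fin (a + b) → MvPolynomial σ k) _ = _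
    rcases eq_or_ne i x with rfl | h
    · simp
    · rw [Pi.single_eq_of_ne (fun h' => h (Fin.natAdd_injective _ _ h'))]
      simp [h]

end Append

section Cone

variable {M₁ : Type u} [AddCommGroup M₁] [Module (MvPolynomial σ k) M₁] [Module k M₁]
  [IsScalarTower k (MvPolynomial σ k) M₁]
  {ℳ₁ : ℤ → Submodule k M₁} [DirectSum.Decomposition ℳ₁] [SetLike.GradedSMul (GrSyz.stdGr k σ) ℳ₁]
  {M₂ : Type u} [AddCommGroup M₂] [Module (MvPolynomial σ k) M₂] [Module k M₂]
  [IsScalarTower k (MvPolynomial σ k) M₂]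
  {ℳ₂ : ℤ → Submodule k M₂} [DirectSum.Decomposition ℳ₂] [SetLike.GradedSMul (GrSyz.stdGr k σ) ℳ₂]
  {M₃ : Type u} [AddCommGroup M₃] [Module (MvPolynomial σ k) M₃] [Module k M₃]
  [IsScalarTower k (MvPolynomial σ k) M₃]
  {ℳ₃ : ℤ → Submodule k M₃} [DirectSum.Decomposition ℳ₃] [SetLike.GradedSMul (GrSyz.stdGr k σ) ℳ₃]
  (F : GrSyz.FreeRes (GrSyz.stdGr k σ) ℳ₁) (G : GrSyz.FreeRes (GrSyz.stdGr k σ) ℳ₂)

/-- shifted ranks -/
def lo : ℕ → ℕ
  | 0 => 0
  | i + 1 => F.rk i

/-- shifted degrees -/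
def sdeg : (i : ℕ) → Fin (lo F i) → ℤ
  | 0 => Fin.elim0
  | i + 1 => F.deg i

/-- shifted differentials -/
noncomputable def sd :
    (i : ℕ) → (Fin (F.rk i) → MvPolynomial σ k) →ₗ[MvPolynomial σ k] (Fin (lo F i) → MvPolynomial σ k)
  | 0 => 0
  | i + 1 => F.dLin i

omit [IsScalarTower k (MvPolynomial σ k) M₁] in
lemma isGr_sd : ∀ i, IsGr (F.deg i) (fr (sdeg F i)) (sd F i)
  | 0 => fun _ _ _ => mem_fr.2 fun b => Fin.elim0 b
  | i + 1 => isGr_dLin F i

omit [IsScalarTower k (MvPolynomial σ k) M₁] in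
lemma cm_sd (hF : F.IsMinimal (mm k σ)) : ∀ i, cm (sd F i) = 0
  | 0 => by ext a; exact Fin.elim0 a
  | i + 1 => cd_eq_zero F hF i

variable (φ : (i : ℕ) → (Fin (F.rk i) → MvPolynomial σ k) →ₗ[MvPolynomial σ k] (Fin (G.rk i) → MvPolynomial σ k))

/-- the differential of the cone on products -/
noncomputable def coneP (i : ℕ) :
    ((Fin (G.rk (i + 1)) → MvPolynomial σ k) × (Fin (F.rk i) → MvPolynomial σ k)) →ₗ[MvPolynomial σ k]
      ((Fin (G.rk i) → MvPolynomial σ k) × (Fin (lo F i) → MvPolynomial σ k)) :=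
  LinearMap.prod ((G.dLin i).coprod (φ i)) (-(sd F i).comp (LinearMap.snd _ _ _))

/-- the differential of the cone -/
noncomputable def coneD (i : ℕ) :
    (Fin (G.rk (i + 1) + lo F (i + 1)) → MvPolynomial σ k) →ₗ[MvPolynomial σ k]
      (Fin (G.rk i + lo F i) → MvPolynomial σ k) :=
  (sumE _ _).symm.toLinearMap ∘ₗ coneP F G φ i ∘ₗ (sumE (G.rk (i + 1)) (lo F (i + 1))).toLinearMap

variable (f : M₁ →ₗ[MvPolynomial σ k] M₂) (g : M₂ →ₗ[MvPolynomial σ k] M₃)
  (hf : Function.Injective f) (hg : Function.Surjective g) (hfg : LinearMap.range f = LinearMap.ker g)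
  (hggr : GrLC.IsGrHom ℳ₂ ℳ₃ g)
  (hφ : ∀ i, IsGr (F.deg i) (fr (G.deg i)) (φ i)) (hφ0 : G.augLin.comp (φ 0) = f.comp F.augLin)
  (hφc : ∀ i, (G.dLin i).comp (φ (i + 1)) = (φ i).comp (F.dLin i))

/-- the augmentation of the cone -/
noncomputable def coneA : (Fin (G.rk 0 + lo F 0) → MvPolynomial σ k) →ₗ[MvPolynomial σ k] M₃ :=
  g ∘ₗ G.augLin ∘ₗ LinearMap.fst _ _ _ ∘ₗ (sumE (G.rk 0) (lo F 0)).toLinearMap

omit [IsScalarTower k (MvPolynomial σ k) M₁] [IsScalarTower k (MvPolynomial σ k) M₂] in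
lemma sumE_coneD (i : ℕ) (v : Fin (G.rk (i + 1) + lo F (i + 1)) → MvPolynomial σ k) :
    sumE (G.rk i) (lo F i) (coneD F G φ i v) =
      (G.dLin i (sumE (G.rk (i + 1)) (F.rk i) v).1 + φ i (sumE (G.rk (i + 1)) (F.rk i) v).2,
        - sd F i (sumE (G.rk (i + 1)) (F.rk i) v).2) :=
  (sumE (G.rk i) (lo F i)).apply_symm_apply _

/-- the inclusion of the target into the cone -/
noncomputable def incl (i : ℕ) :
    (Fin (G.rk i) → MvPolynomial σ k) →ₗ[MvPolynomial σ k] (Fin (G.rk i + lo F i) → MvPolynomial σ k) :=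
  (sumE (G.rk i) (lo F i)).symm.toLinearMap ∘ₗ LinearMap.inl _ _ _

omit [IsScalarTower k (MvPolynomial σ k) M₁] [IsScalarTower k (MvPolynomial σ k) M₂] in
lemma sumE_incl (i : ℕ) (v : Fin (G.rk i) → MvPolynomial σ k) :
    sumE (G.rk i) (lo F i) (incl F G i v) = (v, 0) :=
  (sumE (G.rk i) (lo F i)).apply_symm_apply _

omit [IsScalarTower k (MvPolynomial σ k) M₁] [IsScalarTower k (MvPolynomial σ k) M₂] in
lemma isGr_incl (i : ℕ) : IsGr (G.deg i) (fr (Fin.append (G.deg i) (sdeg F i))) (incl F G i) := fun d v hv => by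
  rw [mem_fr_append, sumE_incl]
  exact ⟨hv, zero_mem _⟩

omit [IsScalarTower k (MvPolynomial σ k) M₁] [IsScalarTower k (MvPolynomial σ k) M₂] in
lemma coneA_incl : (coneA F G g).comp (incl F G 0) = g.comp G.augLin := LinearMap.ext fun v => by
  change g (G.augLin (sumE (G.rk 0) (lo F 0) (incl F G 0 v)).1) = _
  rw [sumE_incl]
  rfl

omit [IsScalarTower k (MvPolynomial σ k) M₁] [IsScalarTower k (MvPolynomial σ k) M₂] in
lemma coneD_incl (i : ℕ) : (coneD F G φ i).comp (incl F G (i + 1)) = (incl F G i).comp (G.dLin i) := by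
  refine LinearMap.ext fun v => (sumE (G.rk i) (lo F i)).injective ?_
  rw [LinearMap.comp_apply, LinearMap.comp_apply, sumE_coneD, sumE_incl]
  have h : sumE (G.rk (i + 1)) (F.rk i) (incl F G (i + 1) v) = (v, 0) := sumE_incl F G (i + 1) v
  rw [h, map_zero, map_zero, add_zero, neg_zero]

omit [IsScalarTower k (MvPolynomial σ k) M₁] [IsScalarTower k (MvPolynomial σ k) M₂] in
lemma cm_incl (i : ℕ) (x : Fin (G.rk i + lo F i)) (b : Fin (G.rk i)) :
    cm (incl F G i) x b = if x = Fin.castAdd (lo F i) b then 1 else 0 := by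
  classical
  have h1 : incl F G i (Pi.single b (1 : MvPolynomial σ k)) = Pi.single (Fin.castAdd (lo F i) b) 1 :=
    (sumE (G.rk i) (lo F i)).injective ((sumE_incl F G i _).trans (sumE_single_left (G.rk i) (lo F i) b).symm)
  rw [cm, h1, Pi.single_apply]
  split_ifs <;> simp

include hf hg hfg hggr hφ hφ0 hφc in
theorem exists_cone_incl : ∃ C : GrSyz.FreeRes (GrSyz.stdGr k σ) ℳ₃,
    ∃ (hr : C.rk = fun i => G.rk i + lo F i),
      (∀ i (x : Fin (C.rk i)), C.deg i x = Fin.append (G.deg i) (sdeg F i) (Fin.cast (congrFun hr i) x)) ∧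
      (∀ i (a : Fin (C.rk i)) (b : Fin (C.rk (i + 1))),
        cd C i a b = cm (coneD F G φ i) (Fin.cast (congrFun hr i) a) (Fin.cast (congrFun hr (i + 1)) b)) ∧
      ∃ ι : (i : ℕ) → (Fin (G.rk i) → MvPolynomial σ k) →ₗ[MvPolynomial σ k] (Fin (C.rk i) → MvPolynomial σ k),
        (∀ i, IsGr (G.deg i) (fr (C.deg i)) (ι i)) ∧ C.augLin.comp (ι 0) = g.comp G.augLin ∧
        (∀ i, (C.dLin i).comp (ι (i + 1)) = (ι i).comp (G.dLin i)) ∧
        ∀ i (x : Fin (C.rk i)) (b : Fin (G.rk i)),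
          cm (ι i) x b = if Fin.cast (congrFun hr i) x = Fin.castAdd (lo F i) b then 1 else 0 := by
  classical
  refine ⟨ofMaps ℳ₃ (fun i => G.rk i + lo F i) (fun i => Fin.append (G.deg i) (sdeg F i)) (coneD F G φ)
    (coneA F G g) ?_ ?_ ?_ ?_ ?_, rfl, fun i x => ?_, fun i a b => ?_,
    incl F G, ?_, ?_, ?_, ?_⟩
  · intro i d v hv
    obtain ⟨h1, h2⟩ := mem_fr_append.1 hv
    rw [mem_fr_append, sumE_coneD]
    exact ⟨add_mem (isGr_dLin G i d _ h1) (hφ i d _ h2), neg_mem (isGr_sd F i d _ h2)⟩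
  · intro d v hv
    exact hggr d _ (lc_mem ℳ₂ G.aug_mem (mem_fr_append.1 hv).1)
  · intro x
    obtain ⟨y, rfl⟩ := hg x
    obtain ⟨u, rfl⟩ := G.aug_surjective y
    refine ⟨(sumE _ _).symm (u, 0), ?_⟩
    simp [coneA]
  · refine le_antisymm (fun v hv => ?_) ?_
    · obtain ⟨x, hx⟩ : G.augLin (sumE _ _ v).1 ∈ LinearMap.range f := hfg ▸ hv
      obtain ⟨w, rfl⟩ := F.aug_surjective x
      have h2 : (sumE _ _ v).1 - φ 0 w ∈ LinearMap.ker G.augLin := by
        rw [LinearMap.mem_ker, map_sub, ← LinearMap.comp_apply G.augLin, hφ0, LinearMap.comp_apply, ← hx, sub_self]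
      rw [G.exact_zero] at h2
      obtain ⟨u, hu⟩ := h2
      refine ⟨(sumE (G.rk 1) (F.rk 0)).symm (u, w), ?_⟩
      refine (sumE _ _).injective (Prod.ext ?_ (funext fun b => Fin.elim0 b))
      erw [sumE_coneD, LinearEquiv.apply_symm_apply]
      change G.dLin 0 u + φ 0 w = _
      rw [show G.dLin 0 u = _ from hu, sub_add_cancel]
    · rintro _ ⟨v, rfl⟩
      rw [LinearMap.mem_ker]
      change g (G.augLin (sumE (G.rk 0) (lo F 0) (coneD F G φ 0 v)).1) = 0
      rw [sumE_coneD]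
      change g (G.augLin (_ + _)) = 0
      rw [map_add, map_add, ← LinearMap.comp_apply G.augLin (φ 0), hφ0, LinearMap.comp_apply,
        show g (f _) = 0 from LinearMap.mem_ker.1 (hfg ▸ LinearMap.mem_range_self f _), add_zero,
        show G.augLin (G.dLin 0 _) = 0 from LinearMap.mem_ker.1 (G.exact_zero ▸ LinearMap.mem_range_self _ _), map_zero]
  · intro i
    have key : ∀ (w : Fin (F.rk i) → MvPolynomial σ k) (u : Fin (G.rk (i + 1)) → MvPolynomial σ k),
        G.dLin i u + φ i w = 0 → sd F i w = 0 → w ∈ LinearMap.range (F.dLin i) := by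
      cases i with
      | zero =>
        intro w u h1 _
        rw [GrSyz.FreeRes.dLin, ← F.exact_zero, LinearMap.mem_ker]
        refine hf ?_
        have h2 := congrArg G.augLin h1
        rw [map_add, show G.augLin (G.dLin 0 u) = 0 from LinearMap.mem_ker.1 (G.exact_zero ▸ LinearMap.mem_range_self _ _),
          zero_add, map_zero, ← LinearMap.comp_apply G.augLin (φ 0), hφ0, LinearMap.comp_apply] at h2
        rw [map_zero]
        exact h2
      | succ l =>
        intro w u _ h2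
        rw [GrSyz.FreeRes.dLin, ← F.exact_succ l]
        exact h2
    refine le_antisymm (fun v hv => ?_) ?_
    · have hv' := congrArg (sumE (G.rk i) (lo F i)) (LinearMap.mem_ker.1 hv)
      erw [sumE_coneD] at hv'
      rw [map_zero, Prod.mk_eq_zero, neg_eq_zero] at hv'
      obtain ⟨w, hw⟩ := key _ _ hv'.1 hv'.2
      have h2 : (sumE (G.rk (i + 1)) (F.rk i) v).1 - φ (i + 1) (-w) ∈ LinearMap.ker (G.dLin i) := by
        rw [LinearMap.mem_ker, map_sub, ← LinearMap.comp_apply (G.dLin i), hφc, LinearMap.comp_apply, map_neg,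
          show F.dLin i w = _ from hw, map_neg, sub_neg_eq_add]
        exact hv'.1
      rw [GrSyz.FreeRes.dLin, G.exact_succ i] at h2
      obtain ⟨u, hu⟩ := h2
      refine ⟨(sumE (G.rk (i + 1 + 1)) (F.rk (i + 1))).symm (u, -w), (sumE _ _).injective ?_⟩
      erw [sumE_coneD, LinearEquiv.apply_symm_apply]
      refine Prod.ext ?_ ?_
      · change G.dLin (i + 1) u + φ (i + 1) (-w) = (sumE (G.rk (i + 1)) (F.rk i) v).1
        rw [show G.dLin (i + 1) u = _ from hu, sub_add_cancel]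
      · change -(F.dLin i (-w)) = (sumE (G.rk (i + 1)) (F.rk i) v).2
        rw [map_neg, neg_neg]
        exact hw
    · rintro _ ⟨v, rfl⟩
      rw [LinearMap.mem_ker]
      refine (sumE _ _).injective ?_
      erw [sumE_coneD, sumE_coneD]
      rw [map_zero]
      refine Prod.ext ?_ ?_
      · change G.dLin i (G.dLin (i + 1) _ + φ (i + 1) _) + φ i (-(F.dLin i _)) = 0
        rw [map_add, map_neg, show G.dLin i (G.dLin (i + 1) _) = 0 from
          LinearMap.mem_ker.1 ((G.exact_succ i).symm ▸ LinearMap.mem_range_self _ _), zero_add,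
          ← LinearMap.comp_apply (G.dLin i), hφc, LinearMap.comp_apply, add_neg_cancel]
      · change -(sd F i (-(F.dLin i _))) = 0
        rw [map_neg, neg_neg]
        cases i with
        | zero => rfl
        | succ l => exact LinearMap.mem_ker.1 ((F.exact_succ l).symm ▸ LinearMap.mem_range_self _ _)
  · exact rfl
  · change cm (Matrix.mulVecLin (LinearMap.toMatrix' (coneD F G φ i))) a b = _
    rw [← Matrix.toLin'_apply', Matrix.toLin'_toMatrix']
    rfl
  · exact isGr_incl F G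
  · refine Eq.trans ?_ (coneA_incl F G g)
    exact congrArg (fun A => LinearMap.comp A (incl F G 0)) (eq_lc_single (coneA F G g)).symm
  · intro i
    change LinearMap.comp (Matrix.mulVecLin (LinearMap.toMatrix' (coneD F G φ i))) (incl F G (i + 1)) =
      (incl F G i).comp (G.dLin i)
    rw [← Matrix.toLin'_apply', Matrix.toLin'_toMatrix']
    exact coneD_incl F G φ i
  · exact cm_incl F G

include hf hg hfg hggr hφ hφ0 hφc in
theorem exists_cone : ∃ C : GrSyz.FreeRes (GrSyz.stdGr k σ) ℳ₃,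
    ∃ (hr : C.rk = fun i => G.rk i + lo F i),
      (∀ i (x : Fin (C.rk i)), C.deg i x = Fin.append (G.deg i) (sdeg F i) (Fin.cast (congrFun hr i) x)) ∧
      ∀ i (a : Fin (C.rk i)) (b : Fin (C.rk (i + 1))),
        cd C i a b = cm (coneD F G φ i) (Fin.cast (congrFun hr i) a) (Fin.cast (congrFun hr (i + 1)) b) := by
  obtain ⟨C, hr, h1, h2, -⟩ := exists_cone_incl F G φ f g hf hg hfg hggr hφ hφ0 hφc
  exact ⟨C, hr, h1, h2⟩

omit [IsScalarTower k (MvPolynomial σ k) M₁] [IsScalarTower k (MvPolynomial σ k) M₂] in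
lemma cm_cone_ll (i : ℕ) (a : Fin (G.rk i)) (b : Fin (G.rk (i + 1))) :
    cm (coneD F G φ i) (Fin.castAdd _ a) (Fin.castAdd _ b) = cd G i a b := by
  rw [cm, coneD, LinearMap.comp_apply, LinearMap.comp_apply]
  erw [sumE_single_left]
  simp [coneP, sumE, cd, cm]
  erw [map_zero]
  simp

omit [IsScalarTower k (MvPolynomial σ k) M₁] [IsScalarTower k (MvPolynomial σ k) M₂] in
lemma cm_cone_lr (i : ℕ) (a : Fin (G.rk i)) (b : Fin (F.rk i)) :
    cm (coneD F G φ i) (Fin.castAdd _ a) (Fin.natAdd (G.rk (i + 1)) b) = cm (φ i) a b := by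
  rw [cm, coneD, LinearMap.comp_apply, LinearMap.comp_apply]
  erw [show sumE (G.rk (i + 1)) (lo F (i + 1)) (Pi.single (Fin.natAdd (G.rk (i + 1)) b) (1 : MvPolynomial σ k)) = _ from
      sumE_single_right (G.rk (i + 1)) (F.rk i) b]
  simp [coneP, sumE, cm]

omit [IsScalarTower k (MvPolynomial σ k) M₁] [IsScalarTower k (MvPolynomial σ k) M₂] in
lemma cm_cone_rl (i : ℕ) (a : Fin (lo F i)) (b : Fin (G.rk (i + 1))) :
    cm (coneD F G φ i) (Fin.natAdd _ a) (Fin.castAdd _ b) = 0 := by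
  rw [cm, coneD, LinearMap.comp_apply, LinearMap.comp_apply]
  erw [sumE_single_left]
  simp [coneP, sumE]
  erw [map_zero]
  simp

omit [IsScalarTower k (MvPolynomial σ k) M₁] [IsScalarTower k (MvPolynomial σ k) M₂] in
lemma cm_cone_rr (i : ℕ) (a : Fin (lo F i)) (b : Fin (F.rk i)) :
    cm (coneD F G φ i) (Fin.natAdd _ a) (Fin.natAdd (G.rk (i + 1)) b) = - cm (sd F i) a b := by
  rw [cm, coneD, LinearMap.comp_apply, LinearMap.comp_apply]
  erw [show sumE (G.rk (i + 1)) (lo F (i + 1)) (Pi.single (Fin.natAdd (G.rk (i + 1)) b) (1 : MvPolynomial σ k)) = _ from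
      sumE_single_right (G.rk (i + 1)) (F.rk i) b]
  simp [coneP, sumE, cm]

end Cone

section Ses

variable [Finite σ] {M₁ : Type u} [AddCommGroup M₁] [Module (MvPolynomial σ k) M₁] [Module k M₁]
  [IsScalarTower k (MvPolynomial σ k) M₁] [Module.Finite (MvPolynomial σ k) M₁]
  {ℳ₁ : ℤ → Submodule k M₁} [DirectSum.Decomposition ℳ₁] [SetLike.GradedSMul (GrSyz.stdGr k σ) ℳ₁]
  {M₂ : Type u} [AddCommGroup M₂] [Module (MvPolynomial σ k) M₂] [Module k M₂]
  [IsScalarTower k (MvPolynomial σ k) M₂] [Module.Finite (MvPolynomial σ k) M₂]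
  {ℳ₂ : ℤ → Submodule k M₂} [DirectSum.Decomposition ℳ₂] [SetLike.GradedSMul (GrSyz.stdGr k σ) ℳ₂]
  {M₃ : Type u} [AddCommGroup M₃] [Module (MvPolynomial σ k) M₃] [Module k M₃]
  [IsScalarTower k (MvPolynomial σ k) M₃] [Module.Finite (MvPolynomial σ k) M₃]
  {ℳ₃ : ℤ → Submodule k M₃} [DirectSum.Decomposition ℳ₃] [SetLike.GradedSMul (GrSyz.stdGr k σ) ℳ₃]

lemma isCycle_single {M : Type u} [AddCommGroup M] [Module (MvPolynomial σ k) M] [Module k M]
    {ℳ : ℤ → Submodule k M} [DirectSum.Decomposition ℳ] [SetLike.GradedSMul (GrSyz.stdGr k σ) ℳ]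
    (C : GrSyz.FreeRes (GrSyz.stdGr k σ) ℳ) (i : ℕ) (x : Fin (C.rk i))
    (h : ∀ l, ∀ hl : i = l + 1, ∀ a, cd C l a (Fin.cast (congrArg C.rk hl) x) = 0) :
    IsCycle C i (C.deg i x) (Pi.single x 1) := by
  classical
  refine ⟨fun c hc => ?_, ?_⟩
  · by_contra h'
    exact hc (Pi.single_eq_of_ne (fun hcb => h' (congrArg _ hcb)) _)
  · cases i with
    | zero => trivial
    | succ l =>
      change (cd C l).mulVec _ = 0
      funext a
      rw [Matrix.mulVec_single_one]
      exact h l rfl a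

variable (f : M₁ →ₗ[MvPolynomial σ k] M₂) (g : M₂ →ₗ[MvPolynomial σ k] M₃)
  (hf : Function.Injective f) (hg : Function.Surjective g) (hfg : LinearMap.range f = LinearMap.ker g)
  (hfgr : GrLC.IsGrHom ℳ₁ ℳ₂ f) (hggr : GrLC.IsGrHom ℳ₂ ℳ₃ g)

include hf hg hfg hfgr hggr in
theorem isRegLE_left {r : ℤ} (h2 : GrSyz.IsRegLE (GrSyz.stdGr k σ) ℳ₂ (mm k σ) r)
    (h3 : GrSyz.IsRegLE (GrSyz.stdGr k σ) ℳ₃ (mm k σ) (r - 1)) :
    GrSyz.IsRegLE (GrSyz.stdGr k σ) ℳ₁ (mm k σ) r := by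
  classical
  obtain ⟨F, hF⟩ := exists_minimal_res (σ := σ) ℳ₁
  obtain ⟨G, hG, hGr⟩ := h2
  obtain ⟨H, hH, hHr⟩ := h3
  obtain ⟨φ, hφ, hφ0, hφc⟩ := exists_chainMap F G f hfgr
  obtain ⟨C, hr, hdeg, hcd⟩ := exists_cone F G φ f g hf hg hfg hggr hφ hφ0 hφc
  refine ⟨F, hF, fun i b => ?_⟩
  by_contra hb
  push Not at hb
  let x : Fin (C.rk (i + 1)) := Fin.cast (congrFun hr (i + 1)).symm (Fin.natAdd (G.rk (i + 1)) b)
  have hx : C.deg (i + 1) x = F.deg i b := by
    rw [hdeg]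
    exact Fin.append_right (G.deg (i + 1)) (sdeg F (i + 1)) b
  have hcyc : IsCycle C (i + 1) (F.deg i b) (Pi.single x 1) := hx ▸ isCycle_single C (i + 1) x (fun l hl a => by
    obtain rfl : i = l := Nat.succ.inj hl
    rw [hcd]
    simp only [x, Fin.cast_cast, Fin.cast_eq_self]
    refine Fin.addCases (fun a => ?_) (fun a => ?_) (Fin.cast (congrFun hr i) a)
    · rw [cm_cone_lr]
      by_contra hne
      have := deg_eq_of_cm (hφ i) hne
      have := hGr i a
      omega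
    · rw [cm_cone_rr, cm_sd F hF i, Matrix.zero_apply, neg_zero])
  have hb0 : H.betti (i + 1) (F.deg i b) = 0 :=
    Finset.card_eq_zero.2 (Finset.filter_eq_empty_iff.2 fun c _ hc => by
      have := hHr (i + 1) c
      push_cast at this
      omega)
  obtain ⟨w, hw⟩ := boundary_of_betti_eq_zero C H (i + 1) _ hb0 _ hcyc
  have := congrFun hw x
  rw [Pi.single_eq_same] at this
  refine zero_ne_one (α := k) (Eq.trans ?_ this)
  symm
  simp only [Matrix.mulVec, dotProduct]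
  refine Finset.sum_eq_zero fun c _ => ?_
  rw [hcd]
  simp only [x, Fin.cast_cast, Fin.cast_eq_self]
  refine mul_eq_zero_of_left ?_ _
  refine Fin.addCases (fun c => ?_) (fun c => ?_) (Fin.cast (congrFun hr (i + 1 + 1)) c)
  · exact cm_cone_rl F G φ (i + 1) b c
  · exact (cm_cone_rr F G φ (i + 1) b c).trans (by rw [cm_sd F hF (i + 1)]; exact neg_zero)

include hf hg hfg hfgr hggr in
theorem isRegLE_mid {r : ℤ} (h1 : GrSyz.IsRegLE (GrSyz.stdGr k σ) ℳ₁ (mm k σ) r)
    (h3 : GrSyz.IsRegLE (GrSyz.stdGr k σ) ℳ₃ (mm k σ) r) :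
    GrSyz.IsRegLE (GrSyz.stdGr k σ) ℳ₂ (mm k σ) r := by
  classical
  obtain ⟨G, hG⟩ := exists_minimal_res (σ := σ) ℳ₂
  obtain ⟨F, hF, hFr⟩ := h1
  obtain ⟨H, hH, hHr⟩ := h3
  obtain ⟨φ, hφ, hφ0, hφc⟩ := exists_chainMap F G f hfgr
  obtain ⟨C, hr, hdeg, hcd⟩ := exists_cone F G φ f g hf hg hfg hggr hφ hφ0 hφc
  refine ⟨G, hG, fun i b => ?_⟩
  by_contra hb
  push Not at hb
  let x : Fin (C.rk i) := Fin.cast (congrFun hr i).symm (Fin.castAdd (lo F i) b)
  have hx : C.deg i x = G.deg i b := by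
    rw [hdeg]
    exact Fin.append_left (G.deg i) (sdeg F i) b
  have hcyc : IsCycle C i (G.deg i b) (Pi.single x 1) := hx ▸ isCycle_single C i x (fun l hl a => by
    subst hl
    rw [hcd]
    simp only [x, Fin.cast_cast, Fin.cast_eq_self]
    refine Fin.addCases (fun a => ?_) (fun a => ?_) (Fin.cast (congrFun hr l) a)
    · rw [cm_cone_ll, cd_eq_zero G hG, Matrix.zero_apply]
    · exact cm_cone_rl F G φ l a b)
  have hb0 : H.betti i (G.deg i b) = 0 :=
    Finset.card_eq_zero.2 (Finset.filter_eq_empty_iff.2 fun c _ hc => by have := hHr i c; omega)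
  obtain ⟨w, hw⟩ := boundary_of_betti_eq_zero C H i _ hb0 _ hcyc
  have := congrFun hw x
  rw [Pi.single_eq_same] at this
  refine zero_ne_one (α := k) (Eq.trans ?_ this)
  symm
  simp only [Matrix.mulVec, dotProduct]
  refine Finset.sum_eq_zero fun c _ => ?_
  rw [hcd]
  simp only [x, Fin.cast_cast, Fin.cast_eq_self]
  refine mul_eq_zero_of_left ?_ _
  refine Fin.addCases (fun c => ?_) (fun c => ?_) (Fin.cast (congrFun hr (i + 1)) c)
  · rw [cm_cone_ll, cd_eq_zero G hG, Matrix.zero_apply]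
  · by_contra hne
    have h : cm (φ i) b c ≠ 0 := fun h0 => hne ((cm_cone_lr F G φ i b c).trans h0)
    have := deg_eq_of_cm (hφ i) h
    have := hFr i c
    omega

include hf hg hfg hfgr hggr in
theorem isRegLE_right {r : ℤ} (h1 : GrSyz.IsRegLE (GrSyz.stdGr k σ) ℳ₁ (mm k σ) (r + 1))
    (h2 : GrSyz.IsRegLE (GrSyz.stdGr k σ) ℳ₂ (mm k σ) r) :
    GrSyz.IsRegLE (GrSyz.stdGr k σ) ℳ₃ (mm k σ) r := by
  obtain ⟨F, hF, hFr⟩ := h1
  obtain ⟨G, hG, hGr⟩ := h2
  obtain ⟨φ, hφ, hφ0, hφc⟩ := exists_chainMap F G f hfgr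
  obtain ⟨C, hr, hdeg, hcd⟩ := exists_cone F G φ f g hf hg hfg hggr hφ hφ0 hφc
  refine isRegLE_of_isGenLE C fun i x => ?_
  rw [hdeg]
  refine Fin.addCases (fun a => ?_) (fun a => ?_) (Fin.cast (congrFun hr i) x)
  · rw [Fin.append_left]; exact hGr i a
  · rw [Fin.append_right]
    cases i with
    | zero => exact Fin.elim0 a
    | succ l =>
      have := hFr l a
      change F.deg l a ≤ _
      push_cast at this ⊢
      omega

end Ses

end Groth.L12.GrSyzLib
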