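import Mathlib.Tactic
import Mathlib.RingTheory.Noetherian.Basic
import Mathlib.RingTheory.Polynomial.Basic
import Mathlib.RingTheory.MvPolynomial.WeightedHomogeneous
import Mathlib.LinearAlgebra.FiniteDimensional.Basic
import Groth.Prelude.Def_GrSyz

/-!
# Graded free modules over a standard graded polynomial ring
-/

set_option autoImplicit false

universe u

open DirectSum

namespace Groth.L12.GrSyzLib

section Prj

variable {k : Type u} [CommRing k] {X : Type u} [AddCommGroup X] [Module k X]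
  (𝒳 : ℤ → Submodule k X) [DirectSum.Decomposition 𝒳]

/-- the degree-`d` component -/
def prj (d : ℤ) : X →ₗ[k] X :=
  (𝒳 d).subtype ∘ₗ DirectSum.component k ℤ (fun i => 𝒳 i) d ∘ₗ (decomposeLinearEquiv 𝒳).toLinearMap

lemma prj_apply (d : ℤ) (x : X) : prj 𝒳 d x = (decompose 𝒳 x d : X) := rfl

lemma prj_mem (d : ℤ) (x : X) : prj 𝒳 d x ∈ 𝒳 d := (decompose 𝒳 x d).2

lemma prj_same {d : ℤ} {x : X} (hx : x ∈ 𝒳 d) : prj 𝒳 d x = x := decompose_of_mem_same 𝒳 hx

lemma prj_ne {d e : ℤ} {x : X} (hx : x ∈ 𝒳 d) (h : d ≠ e) : prj 𝒳 e x = 0 := decompose_of_mem_ne 𝒳 hx h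

lemma sum_prj [∀ x : X, Decidable (x ≠ 0)] (x : X) : ∃ s : Finset ℤ, ∑ d ∈ s, prj 𝒳 d x = x := by
  classical
  exact ⟨(decompose 𝒳 x).support, sum_support_decompose 𝒳 x⟩

lemma exists_sum_prj (x : X) : ∃ s : Finset ℤ, ∑ d ∈ s, prj 𝒳 d x = x := by
  classical
  exact sum_prj 𝒳 x

lemma eq_zero_of_prj (x : X) (h : ∀ d, prj 𝒳 d x = 0) : x = 0 := by
  obtain ⟨s, hs⟩ := exists_sum_prj 𝒳 x
  rw [← hs]
  exact Finset.sum_eq_zero fun d _ => h d

variable {Y : Type u} [AddCommGroup Y] [Module k Y] (𝒴 : ℤ → Submodule k Y) [DirectSum.Decomposition 𝒴]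

lemma prj_map (f : X →+ Y) (hf : ∀ d, ∀ x ∈ 𝒳 d, f x ∈ 𝒴 d) (d : ℤ) (x : X) :
    prj 𝒴 d (f x) = f (prj 𝒳 d x) := by
  induction x using DirectSum.Decomposition.inductionOn 𝒳 with
  | zero => simp
  | homogeneous m =>
    rename_i e
    rcases eq_or_ne e d with rfl | h
    · rw [prj_same 𝒳 m.2, prj_same 𝒴 (hf e m m.2)]
    · rw [prj_ne 𝒳 m.2 h, prj_ne 𝒴 (hf e m m.2) h, map_zero]
  | add a b ha hb => simp [ha, hb]

variable {R : Type u} [CommRing R] [Algebra k R] (𝒜 : ℤ → Submodule k R) [Module R X]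
  [SetLike.GradedSMul 𝒜 𝒳]

lemma smul_mem_add {a d : ℤ} {r : R} {x : X} (hr : r ∈ 𝒜 a) (hx : x ∈ 𝒳 d) : r • x ∈ 𝒳 (a + d) :=
  SetLike.GradedSMul.smul_mem (A := 𝒜) (B := 𝒳) hr hx

lemma prj_smul {a : ℤ} {r : R} (hr : r ∈ 𝒜 a) (d : ℤ) (x : X) :
    prj 𝒳 (a + d) (r • x) = r • prj 𝒳 d x := by
  induction x using DirectSum.Decomposition.inductionOn 𝒳 with
  | zero => simp
  | homogeneous m =>
    rename_i e
    rcases eq_or_ne e d with rfl | h
    · rw [prj_same 𝒳 m.2, prj_same 𝒳 (smul_mem_add 𝒳 𝒜 hr m.2)]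
    · rw [prj_ne 𝒳 m.2 h, prj_ne 𝒳 (smul_mem_add 𝒳 𝒜 hr m.2) (by omega), smul_zero]
  | add a b ha hb => simp [smul_add, ha, hb]

lemma prj_smul' {a : ℤ} {r : R} (hr : r ∈ 𝒜 a) (d : ℤ) (x : X) :
    prj 𝒳 d (r • x) = r • prj 𝒳 (d - a) x := by
  rw [← prj_smul 𝒳 𝒜 hr (d - a) x, add_sub_cancel]

end Prj

variable {k : Type u} [Field k] {σ : Type}

/-- the piece of a graded free module -/
noncomputable def fr {n : ℕ} (deg : Fin n → ℤ) (d : ℤ) : Submodule k (Fin n → MvPolynomial σ k) :=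
  Submodule.pi Set.univ fun b => GrSyz.stdGr k σ (d - deg b)

lemma mem_fr {n : ℕ} {deg : Fin n → ℤ} {d : ℤ} {v : Fin n → MvPolynomial σ k} :
    v ∈ fr deg d ↔ ∀ b, v b ∈ GrSyz.stdGr k σ (d - deg b) := by
  simp [fr, Submodule.mem_pi]

lemma single_mem_fr {n : ℕ} (deg : Fin n → ℤ) (b : Fin n) {e : ℤ} {p : MvPolynomial σ k}
    (hp : p ∈ GrSyz.stdGr k σ e) : Pi.single b p ∈ fr deg (e + deg b) := by
  rw [mem_fr]
  intro a
  rcases eq_or_ne a b with rfl | h
  · rw [Pi.single_eq_same, add_sub_cancel_right]; exact hp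
  · rw [Pi.single_eq_of_ne h]; exact zero_mem _

lemma isInternal_fr {n : ℕ} (deg : Fin n → ℤ) :
    DirectSum.IsInternal (fr (k := k) (σ := σ) deg) := by
  classical
  let C := DirectSum.coeLinearMap (fr (k := k) (σ := σ) deg)
  change Function.Bijective C
  refine ⟨fun x y hxy => ?_, fun v => ?_⟩
  · refine DFinsupp.ext fun d => Subtype.ext (funext fun b => ?_)
    let φ : (Fin n → MvPolynomial σ k) →ₗ[k] MvPolynomial σ k :=
      prj (GrSyz.stdGr k σ) (d - deg b) ∘ₗ LinearMap.proj b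
    have h : φ ∘ₗ C = LinearMap.proj b ∘ₗ (fr (k := k) (σ := σ) deg d).subtype ∘ₗ
        DirectSum.component k ℤ (fun i => fr (k := k) (σ := σ) deg i) d := by
      refine DirectSum.linearMap_ext k fun e => LinearMap.ext fun z => ?_
      simp only [LinearMap.comp_apply, φ, C, LinearMap.coe_proj, Function.eval,
        DirectSum.coeLinearMap_lof, Submodule.subtype_apply]
      rcases eq_or_ne e d with rfl | he
      · rw [DirectSum.component.lof_self, prj_same _ (mem_fr.1 z.2 b)]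
      · rw [DirectSum.component.of, dif_neg he, prj_ne _ (mem_fr.1 z.2 b) (by omega)]
        rfl
    have h1 := LinearMap.congr_fun h x
    rw [LinearMap.comp_apply, hxy, ← LinearMap.comp_apply, h] at h1
    exact h1.symm
  · rw [← LinearMap.mem_range, DirectSum.range_coeLinearMap,
      ← Finset.univ_sum_single v]
    refine Submodule.sum_mem _ fun b _ => ?_
    obtain ⟨s, hs⟩ := exists_sum_prj (GrSyz.stdGr k σ) (v b)
    rw [← hs, ← LinearMap.coe_single (R := k) (φ := fun _ : Fin n => MvPolynomial σ k), map_sum]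
    exact Submodule.sum_mem _ fun e _ =>
      Submodule.mem_iSup_of_mem _ (single_mem_fr deg b (prj_mem _ e _))

noncomputable instance frDec {n : ℕ} (deg : Fin n → ℤ) :
    DirectSum.Decomposition (fr (k := k) (σ := σ) deg) :=
  (isInternal_fr deg).chooseDecomposition

instance frSMul {n : ℕ} (deg : Fin n → ℤ) :
    SetLike.GradedSMul (GrSyz.stdGr k σ) (fr (k := k) (σ := σ) deg) where
  smul_mem {i j r v} hr hv := by
    rw [mem_fr]
    intro b
    rw [Pi.smul_apply, smul_eq_mul, vadd_eq_add, add_sub_assoc]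
    exact SetLike.mul_mem_graded hr (mem_fr.1 hv b)

lemma prj_fr_apply {n : ℕ} (deg : Fin n → ℤ) (d : ℤ) (v : Fin n → MvPolynomial σ k) (b : Fin n) :
    prj (fr (k := k) (σ := σ) deg) d v b = prj (GrSyz.stdGr k σ) (d - deg b) (v b) := by
  induction v using DirectSum.Decomposition.inductionOn (fr (k := k) (σ := σ) deg) with
  | zero => simp
  | homogeneous m =>
    rename_i e
    rcases eq_or_ne e d with rfl | h
    · rw [prj_same _ m.2, prj_same _ (mem_fr.1 m.2 b)]
    · rw [prj_ne _ m.2 h, prj_ne _ (mem_fr.1 m.2 b) (by omega), Pi.zero_apply]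
  | add a c ha hc => simp [ha, hc]

section LC

variable {X : Type u} [AddCommGroup X] [Module (MvPolynomial σ k) X] [Module k X]
  [IsScalarTower k (MvPolynomial σ k) X] (𝒳 : ℤ → Submodule k X) [DirectSum.Decomposition 𝒳]
  [SetLike.GradedSMul (GrSyz.stdGr k σ) 𝒳]

omit [IsScalarTower k (MvPolynomial σ k) X] in
lemma lc_mem {n : ℕ} {deg : Fin n → ℤ} {g : Fin n → X} (hg : ∀ b, g b ∈ 𝒳 (deg b)) {d : ℤ}
    {v : Fin n → MvPolynomial σ k} (hv : v ∈ fr deg d) :
    Fintype.linearCombination (MvPolynomial σ k) g v ∈ 𝒳 d := by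
  rw [Fintype.linearCombination_apply]
  refine Submodule.sum_mem _ fun b _ => ?_
  have := smul_mem_add 𝒳 (GrSyz.stdGr k σ) (mem_fr.1 hv b) (hg b)
  rwa [sub_add_cancel] at this

omit [IsScalarTower k (MvPolynomial σ k) X] in
lemma prj_lc {n : ℕ} {deg : Fin n → ℤ} {g : Fin n → X} (hg : ∀ b, g b ∈ 𝒳 (deg b)) (d : ℤ)
    (v : Fin n → MvPolynomial σ k) :
    prj 𝒳 d (Fintype.linearCombination (MvPolynomial σ k) g v) =
      Fintype.linearCombination (MvPolynomial σ k) g (prj (fr deg) d v) :=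
  prj_map (fr deg) 𝒳 (Fintype.linearCombination (MvPolynomial σ k) g).toAddMonoidHom
    (fun _ _ hx => lc_mem 𝒳 hg hx) d v

lemma exists_preimage_mem {n : ℕ} {deg : Fin n → ℤ} {g : Fin n → X} (hg : ∀ b, g b ∈ 𝒳 (deg b)) {d : ℤ}
    {x : X} (hx : x ∈ 𝒳 d) (hx' : x ∈ LinearMap.range (Fintype.linearCombination (MvPolynomial σ k) g)) :
    ∃ v ∈ fr (k := k) (σ := σ) deg d, Fintype.linearCombination (MvPolynomial σ k) g v = x := by
  obtain ⟨v, rfl⟩ := hx'
  exact ⟨prj (fr deg) d v, prj_mem _ _ _, by rw [← prj_lc 𝒳 hg, prj_same 𝒳 hx]⟩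

end LC

lemma mulVecLin_eq_lc {R : Type u} [CommRing R] {m n : ℕ} (D : Matrix (Fin m) (Fin n) R) :
    Matrix.mulVecLin D = Fintype.linearCombination R fun b a => D a b := by
  refine LinearMap.ext fun v => funext fun a => ?_
  rw [Matrix.mulVecLin_apply, Fintype.linearCombination_apply, Finset.sum_apply]
  simp only [Matrix.mulVec, dotProduct, Pi.smul_apply, smul_eq_mul]
  exact Finset.sum_congr rfl fun x _ => mul_comm _ _

/-! ## the irrelevant ideal -/

variable (k σ) in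
/-- the irrelevant ideal -/
noncomputable abbrev mm : Ideal (MvPolynomial σ k) := (GrSyz.irrel (GrSyz.stdGr k σ)).toIdeal

lemma weight_one (e : σ →₀ ℕ) : Finsupp.weight (fun _ : σ => (1 : ℤ)) e = (e.degree : ℤ) := by
  simp [Finsupp.weight, Finsupp.linearCombination_apply, Finsupp.degree, Finsupp.sum]

lemma stdGr_neg {n : ℤ} (hn : n < 0) : GrSyz.stdGr k σ n = ⊥ := by
  refine eq_bot_iff.2 fun p hp => (Submodule.mem_bot k).2 (MvPolynomial.ext _ _ fun e => ?_)
  rw [MvPolynomial.coeff_zero]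
  by_contra he
  have := hp he
  rw [weight_one] at this
  omega

lemma eq_C_of_mem_zero {p : MvPolynomial σ k} (hp : p ∈ GrSyz.stdGr k σ 0) :
    p = MvPolynomial.C (MvPolynomial.constantCoeff p) := by
  classical
  refine MvPolynomial.ext _ _ fun e => ?_
  rw [MvPolynomial.coeff_C]
  split_ifs with h
  · rw [← h]; rfl
  · by_contra he
    have h1 := hp he
    rw [weight_one] at h1
    exact h ((Finsupp.degree_eq_zero_iff e).1 (by omega)).symm

lemma C_mem_zero (c : k) : (MvPolynomial.C c : MvPolynomial σ k) ∈ GrSyz.stdGr k σ 0 :=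
  MvPolynomial.isWeightedHomogeneous_C _ c

lemma constantCoeff_of_mem {n : ℤ} (hn : n ≠ 0) {p : MvPolynomial σ k} (hp : p ∈ GrSyz.stdGr k σ n) :
    MvPolynomial.constantCoeff p = 0 := by
  by_contra he
  have h1 := hp (d := 0) he
  rw [map_zero] at h1
  exact hn h1.symm

lemma mem_mm_iff {p : MvPolynomial σ k} : p ∈ mm k σ ↔ MvPolynomial.constantCoeff p = 0 := by
  classical
  constructor
  · intro hp
    refine Submodule.span_induction ?_ (map_zero _) (fun x y _ _ hx hy => by rw [map_add, hx, hy, add_zero])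
      (fun a x _ hx => by rw [smul_eq_mul, map_mul, hx, mul_zero]) hp
    rintro w ⟨n, hn, hw⟩
    exact constantCoeff_of_mem hn.ne' hw
  · intro hp
    obtain ⟨s, hs⟩ := exists_sum_prj (GrSyz.stdGr k σ) p
    rw [← hs]
    refine Ideal.sum_mem _ fun n _ => ?_
    rcases lt_trichotomy n 0 with h | h | h
    · have := prj_mem (GrSyz.stdGr k σ) n p
      rw [stdGr_neg h, Submodule.mem_bot] at this
      rw [this]; exact zero_mem _
    · subst h
      rw [eq_C_of_mem_zero (prj_mem (GrSyz.stdGr k σ) 0 p)]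
      have : MvPolynomial.constantCoeff (prj (GrSyz.stdGr k σ) 0 p) = 0 := by
        have h2 := congrArg MvPolynomial.constantCoeff hs
        rw [map_sum, hp, Finset.sum_eq_single 0 (fun b _ hb => constantCoeff_of_mem hb (prj_mem _ b p))
          (fun h0 => ?_)] at h2
        · exact h2
        · exact absurd ‹(0 : ℤ) ∈ s› h0
      rw [this, map_zero]; exact zero_mem _
    · exact Ideal.subset_span ⟨n, h, prj_mem _ n p⟩

lemma one_notMem_mm : (1 : MvPolynomial σ k) ∉ mm k σ := fun h => by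
  rw [mem_mm_iff, map_one] at h
  exact one_ne_zero h

end Groth.L12.GrSyzLib
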