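import Groth.Agent.L12.GrHilb
import Mathlib.Algebra.MvPolynomial.Division
import Mathlib.RingTheory.Polynomial.UniqueFactorization
import Mathlib.LinearAlgebra.Matrix.ToLinearEquiv
import Mathlib.Algebra.MvPolynomial.NoZeroDivisors
import Mathlib.RingTheory.MvPolynomial.Homogeneous
import Mathlib.Data.Fintype.Pigeonhole

/-!
# Degree matrix of a finite set of points of the plane
-/

set_option autoImplicit false

universe u

open DirectSum MvPolynomial

namespace Groth.L12.GrSyzLib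

variable {k : Type u} [Field k]

lemma isHomogeneous_of_mem_stdGr {σ : Type} {n : ℕ} {p : MvPolynomial σ k} (hp : p ∈ GrSyz.stdGr k σ (n : ℤ)) :
    p.IsHomogeneous n := fun m hm => by
  have h := hp hm
  rw [weight_one] at h
  change Finsupp.weight (fun _ : σ => (1 : ℕ)) m = n
  rw [← Finsupp.degree_eq_weight_one]
  exact_mod_cast h

lemma exists_vanishing_linear (z : Fin 3 → k) (hz : z ≠ 0) (p : MvPolynomial (Fin 3) k) (hp : Prime p) :
    ∃ l : MvPolynomial (Fin 3) k, l.IsHomogeneous 1 ∧ eval z l = 0 ∧ ¬ p ∣ l := by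
  classical
  obtain ⟨j, hj⟩ : ∃ j, z j ≠ 0 := Function.ne_iff.1 hz
  obtain ⟨i, i', hij, hi'j, hii'⟩ : ∃ i i' : Fin 3, i ≠ j ∧ i' ≠ j ∧ i ≠ i' := by
    fin_cases j <;> decide
  let L : Fin 3 → MvPolynomial (Fin 3) k := fun a => C (z j) * X a - C (z a) * X j
  have hhom : ∀ a, (L a).IsHomogeneous 1 := fun a =>
    (((isHomogeneous_X k a).C_mul _).sub ((isHomogeneous_X k j).C_mul _))
  have heval : ∀ a, eval z (L a) = 0 := fun a => by simp [L, mul_comm]
  have hcoef : ∀ a b, a ≠ j → coeff (Finsupp.single b 1) (L a) =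
      (if a = b then z j else 0) - (if j = b then z a else 0) := fun a b _ => by
    simp only [L, coeff_sub, coeff_C_mul, coeff_X', Finsupp.single_left_inj one_ne_zero]
    simp
  by_contra hcon
  push Not at hcon
  have hne : ∀ a, a ≠ j → L a ≠ 0 := fun a ha h0 => by
    have := congrArg (coeff (Finsupp.single a 1)) h0
    rw [hcoef a a ha, if_pos rfl, if_neg (Ne.symm ha), sub_zero, coeff_zero] at this
    exact hj this
  have hconst : ∀ a, a ≠ j → ∃ c : k, L a = C c * p := fun a ha => by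
    obtain ⟨c, hc⟩ := hcon (L a) (hhom a) (heval a)
    have hc0 : c ≠ 0 := fun h => hne a ha (by rw [hc, h, mul_zero])
    have hdeg := (hhom a).totalDegree (hne a ha)
    rw [hc, totalDegree_mul_of_isDomain hp.ne_zero hc0] at hdeg
    have hp1 : p.totalDegree ≠ 0 := fun h => by
      rw [totalDegree_eq_zero_iff_eq_C] at h
      refine hp.not_unit ?_
      rw [h]
      exact (isUnit_iff_ne_zero.2 fun h' => hp.ne_zero (by rw [h, h', map_zero])).map C
    have hc1 : c.totalDegree = 0 := by omega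
    rw [totalDegree_eq_zero_iff_eq_C] at hc1
    exact ⟨coeff 0 c, by rw [hc, mul_comm, ← hc1]⟩
  obtain ⟨c, hc⟩ := hconst i hij
  obtain ⟨c', hc'⟩ := hconst i' hi'j
  have h1 := congrArg (coeff (Finsupp.single i 1)) hc
  have h2 := congrArg (coeff (Finsupp.single i 1)) hc'
  rw [hcoef i i hij, if_pos rfl, if_neg (Ne.symm hij), sub_zero, coeff_C_mul] at h1
  rw [hcoef i' i hi'j, if_neg (Ne.symm hii'), if_neg (Ne.symm hij), sub_zero, coeff_C_mul] at h2
  rcases mul_eq_zero.1 h2.symm with h | h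
  · exact hne i' hi'j (by rw [hc', h, map_zero, zero_mul])
  · rw [h, mul_zero] at h1
    exact hj h1

lemma exists_mem_not_dvd (Z : Finset (Fin 3 → k)) (hZ : ∀ p ∈ Z, p ≠ 0) (I : Ideal (MvPolynomial (Fin 3) k))
    (hI : ∀ f : MvPolynomial (Fin 3) k, f ∈ I ↔ ∀ p ∈ Z, ∀ j : ℕ, eval p (homogeneousComponent j f) = 0)
    (q : MvPolynomial (Fin 3) k) (hq : Prime q) : ∃ f ∈ I, ¬ q ∣ f := by
  classical
  choose l hl1 hl2 hl3 using fun z : Z => exists_vanishing_linear z.1 (hZ z.1 z.2) q hq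
  have hhom : (∏ z : Z, l z).IsHomogeneous (∑ _z : Z, 1) :=
    IsHomogeneous.prod Finset.univ l (fun _ => 1) fun z _ => hl1 z
  refine ⟨∏ z : Z, l z, (hI _).2 fun p hp j => ?_, fun h => ?_⟩
  · rw [homogeneousComponent_of_mem ((mem_homogeneousSubmodule _ _).2 hhom)]
    split_ifs
    · rw [map_prod]
      exact Finset.prod_eq_zero (Finset.mem_univ ⟨p, hp⟩) (hl2 ⟨p, hp⟩)
    · rw [map_zero]
  · obtain ⟨z, -, hz⟩ := (Prime.dvd_finsetProd_iff hq _).1 h
    exact hl3 z hz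

variable {M : Type u} [AddCommGroup M] [Module (MvPolynomial (Fin 3) k) M] [Module k M]
  {ℳ : ℤ → Submodule k M} [DirectSum.Decomposition ℳ] [SetLike.GradedSMul (GrSyz.stdGr k (Fin 3)) ℳ]
  (F : GrSyz.FreeRes (GrSyz.stdGr k (Fin 3)) ℳ)

/-- An element killing the module splits the last differential up to that element. -/
lemma exists_left_mul (hlen : F.HasLengthLE 2) (f : MvPolynomial (Fin 3) k) (hf : ∀ m : M, f • m = 0) :
    ∃ H : (Fin (F.rk 1) → MvPolynomial (Fin 3) k) →ₗ[MvPolynomial (Fin 3) k] (Fin (F.rk 2) → MvPolynomial (Fin 3) k),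
      ∀ v, H (F.dLin 1 v) = f • v := by
  classical
  have h0 : ∀ b, ∃ u, F.dLin 0 u = f • (Pi.single b 1 : Fin (F.rk 0) → MvPolynomial (Fin 3) k) := fun b => by
    rw [← LinearMap.mem_range, GrSyz.FreeRes.dLin, ← F.exact_zero, LinearMap.mem_ker, map_smul]
    exact hf _
  choose u hu using h0
  let K0 := Fintype.linearCombination (MvPolynomial (Fin 3) k) u
  have hK0 : ∀ v, F.dLin 0 (K0 v) = f • v := fun v => by
    simp only [K0, Fintype.linearCombination_apply, map_sum, map_smul, hu, smul_comm _ f]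
    rw [← Finset.smul_sum, ← pi_eq_sum_univ' v]
  have h1 : ∀ b, ∃ w, F.dLin 1 w = f • (Pi.single b 1 : Fin (F.rk 1) → MvPolynomial (Fin 3) k) - K0 (F.dLin 0 (Pi.single b 1)) := fun b => by
    rw [← LinearMap.mem_range, GrSyz.FreeRes.dLin, ← F.exact_succ 0, LinearMap.mem_ker, map_sub, map_smul]
    exact sub_eq_zero.2 (hK0 _).symm
  choose w hw using h1
  let K1 := Fintype.linearCombination (MvPolynomial (Fin 3) k) w
  have hK1 : ∀ v, F.dLin 1 (K1 v) = f • v - K0 (F.dLin 0 v) := fun v => by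
    simp only [K1, Fintype.linearCombination_apply, map_sum, map_smul, hw, smul_sub, smul_comm _ f,
      Finset.sum_sub_distrib]
    rw [← Finset.smul_sum, ← pi_eq_sum_univ' v]
    congr 1
    simp only [← map_smul, ← map_sum]
    rw [← pi_eq_sum_univ' v]
  refine ⟨K1, fun v => ?_⟩
  have h2 : F.dLin 1 (K1 (F.dLin 1 v) - f • v) = 0 := by
    rw [map_sub, hK1, map_smul, show F.dLin 0 (F.dLin 1 v) = 0 from
      LinearMap.mem_ker.1 ((F.exact_succ 0).symm ▸ LinearMap.mem_range_self _ v), map_zero, sub_zero, sub_self]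
  rw [← LinearMap.mem_ker, GrSyz.FreeRes.dLin, F.exact_succ 1] at h2
  obtain ⟨y, hy⟩ := h2
  haveI : IsEmpty (Fin (F.rk 3)) := by rw [hlen 3 (by omega)]; infer_instance
  rw [Subsingleton.elim y 0, map_zero, eq_comm, sub_eq_zero] at hy
  exact hy

lemma injective_mod (hlen : F.HasLengthLE 2) (f : MvPolynomial (Fin 3) k) (hf : ∀ m : M, f • m = 0)
    (P : Ideal (MvPolynomial (Fin 3) k)) [P.IsPrime] (hfP : f ∉ P) (w : Fin (F.rk 2) → MvPolynomial (Fin 3) k)
    (hw : ∀ a, F.dLin 1 w a ∈ P) : ∀ b, w b ∈ P := by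
  obtain ⟨H, hH⟩ := exists_left_mul F hlen f hf
  intro b
  have h1 : H (F.dLin 1 w) b ∈ P := by
    rw [eq_lc_single' H (F.dLin 1 w)]
    exact Ideal.sum_mem _ fun a _ => Ideal.mul_mem_right _ _ (hw a)
  rw [hH, Pi.smul_apply, smul_eq_mul] at h1
  exact (Ideal.IsPrime.mem_or_mem ‹_› h1).resolve_left hfP
where
  eq_lc_single' {n n' : ℕ} (H : (Fin n → MvPolynomial (Fin 3) k) →ₗ[MvPolynomial (Fin 3) k] (Fin n' → MvPolynomial (Fin 3) k))
      (v : Fin n → MvPolynomial (Fin 3) k) {b : Fin n'} : H v b = ∑ a, v a * H (Pi.single a 1) b := by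
    conv_lhs => rw [pi_eq_sum_univ' v]
    simp [map_sum]

lemma eq_zero_of_deg_le {σ : Type} {n n' : ℕ} {deg : Fin n → ℤ} {deg' : Fin n' → ℤ} {a : Fin n} {b : Fin n'}
    {x : MvPolynomial σ k} (hx : x ∈ GrSyz.stdGr k σ (deg' b - deg a)) (hm : x ∈ mm k σ)
    (h : deg' b ≤ deg a) : x = 0 := by
  rcases lt_or_eq_of_le h with h' | h'
  · rw [stdGr_neg (by omega), Submodule.mem_bot] at hx
    exact hx
  · rw [h', sub_self] at hx
    rw [eq_C_of_mem_zero hx, mem_mm_iff.1 hm, map_zero]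

/-- No zero block reaching across the diagonal. -/
lemma zero_block_false (hlen : F.HasLengthLE 2) (hmin : F.IsMinimal (mm k (Fin 3))) (Z : Finset (Fin 3 → k)) (hZ : ∀ p ∈ Z, p ≠ 0)
    (I : Ideal (MvPolynomial (Fin 3) k))
    (hI : ∀ f : MvPolynomial (Fin 3) k, f ∈ I ↔ ∀ p ∈ Z, ∀ j : ℕ, eval p (homogeneousComponent j f) = 0)
    (hkill : ∀ f ∈ I, ∀ m : M, f • m = 0) (t : ℕ) (h1 : F.rk 1 = t + 1) (h2 : F.rk 2 = t) (i : ℕ) (hi : i < t)
    (hzero : ∀ (a : Fin (F.rk 1)) (b : Fin (F.rk 2)), a.1 ≤ i → i ≤ b.1 → F.d 1 a b = 0) : False := by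
  classical
  let col : Fin (t - i) → Fin (F.rk 2) := fun j => ⟨i + j.1, by omega⟩
  let row : Fin (t - i) → Fin (F.rk 1) := fun j => ⟨i + 1 + j.1, by omega⟩
  let B : Matrix (Fin (t - i)) (Fin (t - i)) (MvPolynomial (Fin 3) k) := fun a c => F.d 1 (row a) (col c)
  have key : ∀ (P : Ideal (MvPolynomial (Fin 3) k)) [P.IsPrime], B.det ∈ P → (∃ f ∈ I, f ∉ P) → False := by
    intro P _ hdet ⟨f, hfI, hfP⟩
    let π := Ideal.Quotient.mk P
    haveI : IsDomain (MvPolynomial (Fin 3) k ⧸ P) := Ideal.Quotient.isDomain P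
    obtain ⟨v, hv0, hv⟩ := (Matrix.exists_mulVec_eq_zero_iff (M := π.mapMatrix B)).2
      (by rw [← RingHom.map_det]; exact Ideal.Quotient.eq_zero_iff_mem.2 hdet)
    choose v' hv' using fun j => Ideal.Quotient.mk_surjective (v j)
    let w : Fin (F.rk 2) → MvPolynomial (Fin 3) k := fun b =>
      if h : i ≤ b.1 then v' ⟨b.1 - i, by omega⟩ else 0
    have hwcol : ∀ j, w (col j) = v' j := fun j => by
      simp only [w, col]
      rw [dif_pos (Nat.le_add_right i j.1)]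
      congr
      omega
    have hsum : ∀ a, F.dLin 1 w a = ∑ j, F.d 1 a (col j) * v' j := fun a => by
      rw [GrSyz.FreeRes.dLin, Matrix.mulVecLin_apply]
      simp only [Matrix.mulVec, dotProduct]
      symm
      refine Fintype.sum_of_injective col (fun x y h => Fin.ext (by have := congrArg Fin.val h; simp [col] at this; omega)) _ _
        (fun b hb => ?_) (fun j => by rw [hwcol])
      have : ¬ i ≤ b.1 := fun h => hb ⟨⟨b.1 - i, by omega⟩, Fin.ext (by simp [col]; omega)⟩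
      simp only [w]
      rw [dif_neg this, mul_zero]
    have hall := injective_mod F hlen f (hkill f hfI) P hfP w (fun a => by
      rw [hsum]
      by_cases ha : a.1 ≤ i
      · refine Ideal.sum_mem _ fun j _ => ?_
        rw [hzero a (col j) ha (Nat.le_add_right i j.1), zero_mul]
        exact zero_mem _
      · obtain ⟨a', rfl⟩ : ∃ a', a = row a' := ⟨⟨a.1 - i - 1, by omega⟩, Fin.ext (by simp [row]; omega)⟩
        refine Ideal.Quotient.eq_zero_iff_mem.1 ?_
        rw [map_sum]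
        simp only [map_mul, hv']
        exact congrFun hv a')
    refine hv0 (funext fun j => ?_)
    rw [← hv' j, ← hwcol j]
    exact Ideal.Quotient.eq_zero_iff_mem.2 (hall (col j))
  by_cases hB : B.det = 0
  · refine key ⊥ (by rw [hB]; exact zero_mem _) ?_
    obtain ⟨f, hf, hnd⟩ := exists_mem_not_dvd Z hZ I hI (X 0)
      (MvPolynomial.X_prime)
    exact ⟨f, hf, fun h => hnd (by rw [(Submodule.mem_bot _).1 h]; exact dvd_zero _)⟩
  · have hu : ¬ IsUnit B.det := fun h => by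
      refine one_notMem_mm (k := k) (σ := Fin 3) ((Ideal.eq_top_iff_one _).1 (Ideal.eq_top_of_isUnit_mem _ ?_ h))
      rw [Matrix.det_apply]
      refine Ideal.sum_mem _ fun p _ => ?_
      rw [Units.smul_def]
      refine zsmul_mem ?_ _
      haveI : Nonempty (Fin (t - i)) := ⟨⟨0, by omega⟩⟩
      obtain ⟨x⟩ := (inferInstance : Nonempty (Fin (t - i)))
      rw [← Finset.prod_erase_mul _ _ (Finset.mem_univ x)]
      exact Ideal.mul_mem_left _ _ (hmin 1 _ _)
    obtain ⟨q, hq, hqdvd⟩ := WfDvdMonoid.exists_irreducible_factor hu hB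
    have hqp : Prime q := UniqueFactorizationMonoid.irreducible_iff_prime.1 hq
    haveI : (Ideal.span {q}).IsPrime := (Ideal.span_singleton_prime hqp.ne_zero).2 hqp
    obtain ⟨f, hf, hnd⟩ := exists_mem_not_dvd Z hZ I hI q hqp
    exact key (Ideal.span {q}) (Ideal.mem_span_singleton.2 hqdvd) ⟨f, hf, fun h => hnd (Ideal.mem_span_singleton.1 h)⟩

lemma binom_two (m : ℕ) : 2 * (((2 + m).choose 2 : ℕ) : ℤ) = ((m : ℤ) + 1) * (m + 2) := by
  induction m with
  | zero => simp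
  | succ m ih =>
    rw [← add_assoc, Nat.choose_succ_succ', Nat.choose_one_right]
    push_cast
    linear_combination ih

/-- Numerical consequences of a bounded Hilbert function. -/
theorem num_bounded [IsScalarTower k (MvPolynomial (Fin 3) k) M] (hlen : F.HasLengthLE 2) (N : ℕ)
    (hN : ∀ d, 0 ≤ d → Module.finrank k ↥(ℳ d) ≤ N) :
    (F.rk 0 : ℤ) - F.rk 1 + F.rk 2 = 0 ∧ (∑ b, F.deg 0 b) - (∑ b, F.deg 1 b) + ∑ b, F.deg 2 b = 0 := by
  classical
  obtain ⟨D, hD0, hD⟩ : ∃ D : ℕ, (0 : ℤ) ≤ D ∧ ∀ i b, i ≤ 2 → F.deg i b ≤ D := by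
    refine ⟨((Finset.range 3).sup fun i => Finset.univ.sup fun b => (F.deg i b).toNat), by positivity, fun i b hi => ?_⟩
    have h1 := Finset.le_sup (f := fun i => Finset.univ.sup fun b => (F.deg i b).toNat) (Finset.mem_range.2 (by omega : i < 3))
    have h2 := Finset.le_sup (f := fun b => (F.deg i b).toNat) (Finset.mem_univ b)
    omega
  let s : ℕ → ℤ → ℤ := fun i d => ∑ b : Fin (F.rk i), (d - F.deg i b + 1) * (d - F.deg i b + 2)
  have hs : ∀ n : ℕ, 2 * (Module.finrank k ↥(ℳ (D + n)) : ℤ) = s 0 (D + n) - s 1 (D + n) + s 2 (D + n) := by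
    intro n
    have h2 : ∀ i, i ≤ 2 → 2 * fsum F (D + n) i = s i (D + n) := fun i hi => by
      rw [fsum, Finset.mul_sum]
      refine Finset.sum_congr rfl fun b _ => ?_
      have := hD i b hi
      obtain ⟨m, hm⟩ := Int.eq_ofNat_of_zero_le (show (0 : ℤ) ≤ D + n - F.deg i b by omega)
      rw [hm, cnt, if_pos (Int.natCast_nonneg m), Int.toNat_natCast]
      exact binom_two m
    rw [finrank_eq_sum F (D + n) 2 hlen]
    simp only [Finset.sum_range_succ, Finset.sum_range_zero, zero_add, pow_zero, pow_one, one_mul, neg_one_sq]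
    rw [← h2 0 (by omega), ← h2 1 (by omega), ← h2 2 le_rfl]
    ring
  let A : ℤ := (F.rk 0 : ℤ) - F.rk 1 + F.rk 2
  let S1 : ℤ := (∑ b, F.deg 0 b) - (∑ b, F.deg 1 b) + ∑ b, F.deg 2 b
  let S2 : ℤ := (∑ b, (F.deg 0 b ^ 2 - 3 * F.deg 0 b)) - (∑ b, (F.deg 1 b ^ 2 - 3 * F.deg 1 b)) + ∑ b, (F.deg 2 b ^ 2 - 3 * F.deg 2 b)
  have hexp : ∀ i d, s i d = (F.rk i : ℤ) * (d ^ 2 + 3 * d + 2) - 2 * d * (∑ b, F.deg i b) + ∑ b, (F.deg i b ^ 2 - 3 * F.deg i b) := by
    intro i d
    simp only [s, Finset.mul_sum]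
    rw [show (F.rk i : ℤ) * (d ^ 2 + 3 * d + 2) = ∑ _b : Fin (F.rk i), (d ^ 2 + 3 * d + 2) by simp,
      ← Finset.sum_sub_distrib, ← Finset.sum_add_distrib]
    exact Finset.sum_congr rfl fun b _ => by ring
  have hval : ∀ n : ℕ, 2 * (Module.finrank k ↥(ℳ (D + n)) : ℤ) =
      A * ((D + n : ℤ) ^ 2 + 3 * (D + n) + 2) - 2 * (D + n) * S1 + S2 := fun n => by
    rw [hs, hexp, hexp, hexp]
    simp only [A, S1, S2]
    ring
  let g : ℕ → Fin (N + 1) := fun n => ⟨Module.finrank k ↥(ℳ (D + n)), Nat.lt_succ_of_le (hN _ (by omega))⟩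
  obtain ⟨y, hy⟩ := Finite.exists_infinite_fiber g
  have hinf : (g ⁻¹' {y}).Infinite := Set.infinite_coe_iff.1 hy
  obtain ⟨n1, hn1⟩ := hinf.nonempty
  obtain ⟨n2, hn2, h12⟩ := hinf.exists_gt n1
  obtain ⟨n3, hn3, h23⟩ := hinf.exists_gt n2
  have heq : ∀ n, n ∈ g ⁻¹' {y} → (Module.finrank k ↥(ℳ (D + n)) : ℤ) = (y.1 : ℤ) := fun n hn => by
    exact_mod_cast congrArg Fin.val (show g n = y from hn)
  have e1 := hval n1
  have e2 := hval n2
  have e3 := hval n3
  rw [heq n1 hn1] at e1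
  rw [heq n2 hn2] at e2
  rw [heq n3 hn3] at e3
  have q12 : A * ((D : ℤ) + n1 + (D + n2) + 3) - 2 * S1 = 0 := by
    refine (mul_eq_zero.1 (show ((n2 : ℤ) - n1) * (A * ((D : ℤ) + n1 + (D + n2) + 3) - 2 * S1) = 0 by linear_combination e1 - e2)).resolve_left ?_
    omega
  have q13 : A * ((D : ℤ) + n1 + (D + n3) + 3) - 2 * S1 = 0 := by
    refine (mul_eq_zero.1 (show ((n3 : ℤ) - n1) * (A * ((D : ℤ) + n1 + (D + n3) + 3) - 2 * S1) = 0 by linear_combination e1 - e3)).resolve_left ?_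
    omega
  have hA : A = 0 :=
    (mul_eq_zero.1 (show ((n3 : ℤ) - n2) * A = 0 by linear_combination q13 - q12)).resolve_left (by omega)
  rw [hA, zero_mul, zero_sub, neg_eq_zero] at q12
  exact ⟨hA, by simp only [S1] at q12; omega⟩

end Groth.L12.GrSyzLib
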