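import Groth.Agent.L12.GrFree
import Mathlib.Algebra.Order.Antidiag.FinsuppEquiv
import Mathlib.RingTheory.Polynomial.Pochhammer

/-!
# Hilbert functions from graded free resolutions
-/

set_option autoImplicit false

universe u

open DirectSum

namespace Groth.L12.GrSyzLib

variable {k : Type u} [Field k] {r : ℕ}

/-- the count of monomials of degree `d` in `r + 1` variables -/
def cnt (r : ℕ) (d : ℤ) : ℕ := if 0 ≤ d then Nat.choose (r + d.toNat) r else 0

lemma finite_weight_eq (r : ℕ) (d : ℤ) :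
    {e : Fin (r + 1) →₀ ℕ | Finsupp.weight (fun _ : Fin (r + 1) => (1 : ℤ)) e = d}.Finite :=
  (Finsupp.finite_of_degree_le d.toNat).subset fun e he => by
    simp only [Set.mem_ofPred_eq, weight_one] at he ⊢
    omega

instance finite_stdGr (d : ℤ) : Module.Finite k ↥(GrSyz.stdGr k (Fin (r + 1)) d) := by
  rw [GrSyz.stdGr, MvPolynomial.weightedHomogeneousSubmodule_eq_finsupp_supported]
  have := (finite_weight_eq r d).to_subtype
  exact Module.Finite.of_basis (MvPolynomial.basisRestrictSupport k _)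

lemma finrank_stdGr (d : ℤ) : Module.finrank k ↥(GrSyz.stdGr k (Fin (r + 1)) d) = cnt r d := by
  classical
  rw [GrSyz.stdGr, MvPolynomial.weightedHomogeneousSubmodule_eq_finsupp_supported]
  haveI := (finite_weight_eq r d).to_subtype
  refine (Module.finrank_eq_nat_card_basis (MvPolynomial.basisRestrictSupport k _)).trans ?_
  unfold cnt
  split_ifs with hd
  · have h : {e : Fin (r + 1) →₀ ℕ | Finsupp.weight (fun _ : Fin (r + 1) => (1 : ℤ)) e = d} =
        ↑((Finset.univ : Finset (Fin (r + 1))).finsuppAntidiag d.toNat) := by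
      ext e
      have he : e.degree = ∑ i, e i := Finset.sum_subset (Finset.subset_univ _) (fun i _ hi => by simpa using hi)
      simp only [Set.mem_ofPred_eq, weight_one, Finset.mem_coe, Finset.mem_finsuppAntidiag, Finset.subset_univ,
        and_true, he]
      change (↑(∑ i, e i) : ℤ) = d ↔ (∑ i, e i) = d.toNat
      constructor <;> intro h <;> omega
    rw [h, Nat.card_coe_set_eq, Set.ncard_coe_finset, Finset.card_finsuppAntidiag_nat_eq_choose, Finset.card_univ,
      Fintype.card_fin, show r + 1 + d.toNat - 1 = r + d.toNat by omega, ← Nat.choose_symm (by omega)]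
    congr 1
    omega
  · have : IsEmpty {e : Fin (r + 1) →₀ ℕ | Finsupp.weight (fun _ : Fin (r + 1) => (1 : ℤ)) e = d} :=
      ⟨fun ⟨e, he⟩ => hd (by simp only [Set.mem_ofPred_eq, weight_one] at he; omega)⟩
    exact Nat.card_of_isEmpty

/-- a piece of a free module is the product of pieces of the ring -/
noncomputable def frEquiv {n : ℕ} (deg : Fin n → ℤ) (d : ℤ) :
    ↥(fr (k := k) (σ := Fin (r + 1)) deg d) ≃ₗ[k] ((b : Fin n) → ↥(GrSyz.stdGr k (Fin (r + 1)) (d - deg b))) where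
  toFun v b := ⟨v.1 b, mem_fr.1 v.2 b⟩
  invFun w := ⟨fun b => (w b).1, mem_fr.2 fun b => (w b).2⟩
  map_add' _ _ := rfl
  map_smul' _ _ := rfl

instance finite_fr {n : ℕ} (deg : Fin n → ℤ) (d : ℤ) :
    Module.Finite k ↥(fr (k := k) (σ := Fin (r + 1)) deg d) :=
  Module.Finite.equiv (frEquiv deg d).symm

lemma finrank_fr {n : ℕ} (deg : Fin n → ℤ) (d : ℤ) :
    Module.finrank k ↥(fr (k := k) (σ := Fin (r + 1)) deg d) = ∑ b, cnt r (d - deg b) := by
  rw [(frEquiv deg d).finrank_eq, Module.finrank_pi_fintype]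
  simp [finrank_stdGr]

section Count

variable {M : Type u} [AddCommGroup M] [Module k M] [Module (MvPolynomial (Fin (r + 1)) k) M] [IsScalarTower k (MvPolynomial (Fin (r + 1)) k) M]
  (ℳ : ℤ → Submodule k M) [DirectSum.Decomposition ℳ] [SetLike.GradedSMul (GrSyz.stdGr k (Fin (r + 1))) ℳ]

lemma finrank_ker_add {n : ℕ} {deg : Fin n → ℤ} {g : Fin n → M} (hg : ∀ b, g b ∈ ℳ (deg b)) (d : ℤ) :
    Module.finrank k ↥(ℳ d ⊓ (LinearMap.range (Fintype.linearCombination (MvPolynomial (Fin (r + 1)) k) g)).restrictScalars k) +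
      Module.finrank k ↥(fr (k := k) deg d ⊓ (LinearMap.ker (Fintype.linearCombination (MvPolynomial (Fin (r + 1)) k) g)).restrictScalars k) =
      ∑ b, cnt r (d - deg b) := by
  let φ : ↥(fr (k := k) deg d) →ₗ[k] M :=
    (Fintype.linearCombination (MvPolynomial (Fin (r + 1)) k) g).restrictScalars k ∘ₗ (fr (k := k) deg d).subtype
  have hr : LinearMap.range φ = ℳ d ⊓ (LinearMap.range (Fintype.linearCombination (MvPolynomial (Fin (r + 1)) k) g)).restrictScalars k := by
    refine le_antisymm ?_ fun x hx => ?_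
    · rintro x ⟨v, rfl⟩
      exact ⟨lc_mem ℳ hg v.2, v.1, rfl⟩
    · obtain ⟨v, hv, hvx⟩ := exists_preimage_mem ℳ hg hx.1 hx.2
      exact ⟨⟨v, hv⟩, hvx⟩
  let e : ↥(LinearMap.ker φ) ≃ₗ[k]
      ↥(fr (k := k) deg d ⊓ (LinearMap.ker (Fintype.linearCombination (MvPolynomial (Fin (r + 1)) k) g)).restrictScalars k) :=
    { toFun := fun v => ⟨v.1.1, v.1.2, v.2⟩
      invFun := fun v => ⟨⟨v.1, v.2.1⟩, v.2.2⟩
      map_add' := fun _ _ => rfl
      map_smul' := fun _ _ => rfl }
  rw [← finrank_fr (k := k) deg d, ← hr, ← e.finrank_eq, LinearMap.finrank_range_add_finrank_ker]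

end Count

variable {M : Type u} [AddCommGroup M] [Module k M] [Module (MvPolynomial (Fin (r + 1)) k) M] [IsScalarTower k (MvPolynomial (Fin (r + 1)) k) M]
  {ℳ : ℤ → Submodule k M} [DirectSum.Decomposition ℳ] [SetLike.GradedSMul (GrSyz.stdGr k (Fin (r + 1))) ℳ]
  (F : GrSyz.FreeRes (GrSyz.stdGr k (Fin (r + 1))) ℳ)

lemma col_mem (i : ℕ) (b : Fin (F.rk (i + 1))) :
    (fun a => F.d i a b) ∈ fr (k := k) (F.deg i) (F.deg (i + 1) b) :=
  mem_fr.2 fun a => F.d_mem i a b

/-- the kernel at level `i` in degree `d` -/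
noncomputable def zfin (d : ℤ) : ℕ → ℤ
  | 0 => Module.finrank k ↥(fr (k := k) (F.deg 0) d ⊓ (LinearMap.ker F.augLin).restrictScalars k)
  | i + 1 => Module.finrank k ↥(fr (k := k) (F.deg (i + 1)) d ⊓ (LinearMap.ker (F.dLin i)).restrictScalars k)

/-- the number of monomials in level `i` in degree `d` -/
noncomputable def fsum (d : ℤ) (i : ℕ) : ℤ := ∑ b : Fin (F.rk i), (cnt r (d - F.deg i b) : ℤ)

lemma finrank_aug (d : ℤ) : (Module.finrank k ↥(ℳ d) : ℤ) = fsum F d 0 - zfin F d 0 := by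
  have h := finrank_ker_add (r := r) ℳ F.aug_mem d
  have ht : ℳ d ⊓ (LinearMap.range (Fintype.linearCombination (MvPolynomial (Fin (r + 1)) k) F.aug)).restrictScalars k = ℳ d := by
    rw [LinearMap.range_eq_top.2 F.aug_surjective, Submodule.restrictScalars_top, inf_top_eq]
  rw [ht] at h
  rw [zfin, fsum, eq_sub_iff_add_eq]
  exact_mod_cast h

lemma zfin_eq (d : ℤ) (i : ℕ) : zfin F d i = fsum F d (i + 1) - zfin F d (i + 1) := by
  have h := finrank_ker_add (r := r) (fr (k := k) (F.deg i)) (g := fun b a => F.d i a b) (col_mem F i) d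
  rw [← mulVecLin_eq_lc] at h
  have hz : ∀ i, zfin F d i = (Module.finrank k
      ↥(fr (k := k) (F.deg i) d ⊓ (LinearMap.range (F.dLin i)).restrictScalars k) : ℤ) := by
    intro i
    cases i with
    | zero => rw [zfin, F.exact_zero]
    | succ i => rw [zfin, F.exact_succ]
  rw [hz, zfin, fsum, eq_sub_iff_add_eq]
  exact_mod_cast h

lemma finrank_partial (d : ℤ) (j : ℕ) :
    (Module.finrank k ↥(ℳ d) : ℤ) =
      ∑ i ∈ Finset.range (j + 1), (-1 : ℤ) ^ i * fsum F d i + (-1 : ℤ) ^ (j + 1) * zfin F d j := by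
  induction j with
  | zero => rw [finrank_aug F d]; simp [sub_eq_add_neg]
  | succ j ih =>
    rw [ih, zfin_eq F d j, Finset.sum_range_succ _ (j + 1)]
    ring

theorem finrank_eq_sum (d : ℤ) (m : ℕ) (hF : F.HasLengthLE m) :
    (Module.finrank k ↥(ℳ d) : ℤ) = ∑ i ∈ Finset.range (m + 1), (-1 : ℤ) ^ i * fsum F d i := by
  have h0 : ∀ i, m < i → fsum F d i = 0 := fun i hi => by
    haveI : IsEmpty (Fin (F.rk i)) := by rw [hF i hi]; infer_instance
    exact Finset.sum_of_isEmpty _
  have hz : zfin F d m = 0 := by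
    have h1 : zfin F d (m + 1) = 0 := by
      haveI : IsEmpty (Fin (F.rk (m + 1))) := by rw [hF (m + 1) (by omega)]; infer_instance
      rw [zfin, Module.finrank_zero_of_subsingleton, Nat.cast_zero]
    rw [zfin_eq, h0 (m + 1) (by omega), h1, sub_zero]
  rw [finrank_partial F d m, hz, mul_zero, add_zero]

lemma cnt_eq_ite (r : ℕ) (d a : ℤ) :
    (cnt r (d - a) : ℤ) = if a ≤ d then ((Nat.choose (r + (d - a).toNat) r : ℕ) : ℤ) else 0 := by
  by_cases h : a ≤ d <;> simp [cnt, h]

/-- the Hilbert polynomial of a twist -/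
noncomputable def binPoly (r : ℕ) (a : ℤ) : Polynomial ℚ :=
  (r.factorial : ℚ)⁻¹ • ∏ l ∈ Finset.range r, (Polynomial.X - Polynomial.C (a : ℚ) + Polynomial.C ((l : ℚ) + 1))

lemma binPoly_eval (r : ℕ) (a d : ℤ) (h : a - r ≤ d) : (binPoly r a).eval (d : ℚ) = (cnt r (d - a) : ℚ) := by
  simp only [binPoly, Polynomial.eval_smul, Polynomial.eval_prod, Polynomial.eval_add, Polynomial.eval_sub,
    Polynomial.eval_X, Polynomial.eval_C, smul_eq_mul]
  have hfac : (r.factorial : ℚ) ≠ 0 := Nat.cast_ne_zero.2 r.factorial_ne_zero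
  rw [inv_mul_eq_iff_eq_mul₀ hfac]
  unfold cnt
  split_ifs with hd
  · obtain ⟨e, he⟩ := Int.eq_ofNat_of_zero_le hd
    rw [he, Int.toNat_natCast, add_comm r e, ← Nat.cast_mul, ← Nat.descFactorial_eq_factorial_mul_choose,
      Nat.descFactorial_eq_prod_range, ← Finset.prod_range_reflect (fun l => e + r - l), Nat.cast_prod]
    refine Finset.prod_congr rfl fun l hl => ?_
    rw [Finset.mem_range] at hl
    have h2 : (d : ℚ) - a = e := by exact_mod_cast he
    rw [h2, show e + r - (r - 1 - l) = e + l + 1 by omega]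
    push_cast
    ring
  · rw [Nat.cast_zero, mul_zero]
    refine Finset.prod_eq_zero (i := (a - d).toNat - 1) (Finset.mem_range.2 (by omega)) ?_
    have h2 : (((a - d).toNat - 1 : ℕ) : ℚ) + 1 = (a : ℚ) - d := by
      have h3 : (((a - d).toNat - 1 : ℕ) : ℤ) + 1 = a - d := by omega
      exact_mod_cast h3
    rw [h2]
    ring

theorem exists_hilbert_polynomial (m : ℕ) (hF : F.HasLengthLE m) :
    ∃ P : Polynomial ℚ, ∀ d : ℤ, (∀ (i : ℕ) (b : Fin (F.rk i)), F.deg i b - (r : ℤ) ≤ d) →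
      ((Module.finrank k ↥(ℳ d) : ℤ) : ℚ) = P.eval (d : ℚ) := by
  refine ⟨∑ i ∈ Finset.range (m + 1), (-1 : Polynomial ℚ) ^ i * ∑ b : Fin (F.rk i), binPoly r (F.deg i b), fun d hd => ?_⟩
  rw [finrank_eq_sum F d m hF]
  simp only [fsum, Polynomial.eval_finsetSum, Polynomial.eval_mul, Polynomial.eval_pow, Polynomial.eval_neg,
    Polynomial.eval_one, Int.cast_sum, Int.cast_mul, Int.cast_pow, Int.cast_neg, Int.cast_one, Int.cast_natCast]
  exact Finset.sum_congr rfl fun i _ => by
    congr 1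
    exact Finset.sum_congr rfl fun b _ => (binPoly_eval r _ d (hd i b)).symm

end Groth.L12.GrSyzLib
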