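import Groth.Agent.L12.GrLCShift

/-!
# Vanishing of pieces of graded local cohomology
-/

set_option autoImplicit false

universe u

open DirectSum

namespace Groth.L12.GrLCLib

variable {ι : Type} [AddCommGroup ι] [DecidableEq ι]
variable {R : Type u} [CommRing R] {σ : Type u} [SetLike σ R] [AddSubgroupClass σ R]
variable {𝒜 : ι → σ} [GradedRing 𝒜]

variable {M₁ : Type u} [AddCommGroup M₁] [Module R M₁] {τ₁ : Type u} [SetLike τ₁ M₁] [AddSubgroupClass τ₁ M₁]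
  {ℳ₁ : ι → τ₁} [DirectSum.Decomposition ℳ₁] [SetLike.GradedSMul 𝒜 ℳ₁]
variable {M₂ : Type u} [AddCommGroup M₂] [Module R M₂] {τ₂ : Type u} [SetLike τ₂ M₂] [AddSubgroupClass τ₂ M₂]
  {ℳ₂ : ι → τ₂} [DirectSum.Decomposition ℳ₂] [SetLike.GradedSMul 𝒜 ℳ₂]
variable {M₃ : Type u} [AddCommGroup M₃] [Module R M₃] {τ₃ : Type u} [SetLike τ₃ M₃] [AddSubgroupClass τ₃ M₃]
  {ℳ₃ : ι → τ₃} [DirectSum.Decomposition ℳ₃] [SetLike.GradedSMul 𝒜 ℳ₃]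
variable (a : HomogeneousIdeal 𝒜)

/-- homogeneous preimages in cohomology -/
lemma exists_preimage {E₁ : GrLC.StarInjRes 𝒜 ℳ₁} {E₂ : GrLC.StarInjRes 𝒜 ℳ₂} {i j : ℕ}
    (F : E₁.H a i →ₗ[R] E₂.H a j) (hF : GrLC.IsGrHom (E₁.Hgr a i) (E₂.Hgr a j) F) {g : ι} {x : E₂.H a j}
    (hx : x ∈ E₂.Hgr a j g) (hr : x ∈ Set.range F) : ∃ y ∈ E₁.Hgr a i g, F y = x := by
  letI := (Hgr_isInternal a E₁ i).chooseDecomposition
  letI := (Hgr_isInternal a E₂ j).chooseDecomposition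
  obtain ⟨y, rfl⟩ := hr
  exact ⟨cp (E₁.Hgr a i) g y, cp_mem _ g y,
    (cp_map (E₁.Hgr a i) (E₂.Hgr a j) F.toAddMonoidHom hF g y).symm.trans (cp_same _ hx)⟩

lemma IsMap.zero (E₁ : GrLC.StarInjRes 𝒜 ℳ₁) (E₂ : GrLC.StarInjRes 𝒜 ℳ₂) :
    IsMap E₁ E₂ (0 : M₁ →ₗ[R] M₂) fun _ => 0 where
  gr _ _ _ _ := zero_mem _
  aug := by rw [LinearMap.zero_comp, LinearMap.comp_zero]
  comm _ := by rw [LinearMap.comp_zero, LinearMap.zero_comp]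

lemma IsMap.add {E₁ : GrLC.StarInjRes 𝒜 ℳ₁} {E₂ : GrLC.StarInjRes 𝒜 ℳ₂} {f f' : M₁ →ₗ[R] M₂}
    {φ φ' : ∀ n, (E₁.X n).carrier →ₗ[R] (E₂.X n).carrier} (hφ : IsMap E₁ E₂ f φ) (hφ' : IsMap E₁ E₂ f' φ') :
    IsMap E₁ E₂ (f + f') fun n => φ n + φ' n where
  gr n d x hx := add_mem (hφ.gr n d x hx) (hφ'.gr n d x hx)
  aug := by rw [LinearMap.add_comp, hφ.aug, hφ'.aug, LinearMap.comp_add]
  comm n := by rw [LinearMap.comp_add, hφ.comm, hφ'.comm, LinearMap.add_comp]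

lemma IsMap.Hmap_add {E₁ : GrLC.StarInjRes 𝒜 ℳ₁} {E₂ : GrLC.StarInjRes 𝒜 ℳ₂} {f f' : M₁ →ₗ[R] M₂}
    {φ φ' : ∀ n, (E₁.X n).carrier →ₗ[R] (E₂.X n).carrier} (hφ : IsMap E₁ E₂ f φ) (hφ' : IsMap E₁ E₂ f' φ') (i : ℕ) :
    (hφ.add hφ').Hmap a i = hφ.Hmap a i + hφ'.Hmap a i :=
  Submodule.linearMap_qext _ (LinearMap.ext fun _ => rfl)

section Def

variable {M : Type u} [AddCommGroup M] [Module R M] {τ : Type u} [SetLike τ M] [AddSubgroupClass τ M]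
  {ℳ : ι → τ} [DirectSum.Decomposition ℳ] [SetLike.GradedSMul 𝒜 ℳ]

variable (ℳ) in
/-- `H^i_a(M)_g = 0` -/
def Van (i : ℕ) (g : ι) : Prop := ∀ E : GrLC.StarInjRes 𝒜 ℳ, E.Hgr a i g = ⊥

lemma van_of_res (E : GrLC.StarInjRes 𝒜 ℳ) {i : ℕ} {g : ι} (h : E.Hgr a i g = ⊥) : Van a ℳ i g := fun E' => by
  obtain ⟨e, he, he'⟩ := exists_Hequiv a E' E i
  refine (AddSubgroup.eq_bot_iff_forall _).2 fun x hx => e.injective ?_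
  rw [map_zero]
  exact (AddSubgroup.mem_bot).1 (h ▸ he g x hx)

lemma van_iff (E : GrLC.StarInjRes 𝒜 ℳ) {i : ℕ} {g : ι} : Van a ℳ i g ↔ E.Hgr a i g = ⊥ :=
  ⟨fun h => h E, van_of_res a E⟩

lemma van_of_subsingleton_H (E : GrLC.StarInjRes 𝒜 ℳ) {i : ℕ} (h : Subsingleton (E.H a i)) (g : ι) : Van a ℳ i g :=
  van_of_res a E ((AddSubgroup.eq_bot_iff_forall _).2 fun x _ => h.elim x 0)

lemma van_zero_iff {g : ι} : Van a ℳ 0 g ↔ ∀ m ∈ GrLC.gam a.toIdeal M, m ∈ ℳ g → m = 0 := by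
  obtain ⟨E⟩ := nonempty_starInjRes 𝒜 ℳ
  obtain ⟨e, he⟩ := exists_H0_equiv a E
  rw [van_iff a E]
  refine ⟨fun h m hm hmg => ?_, fun h => (AddSubgroup.eq_bot_iff_forall _).2 fun x hx => ?_⟩
  · have h1 : e ⟨m, hm⟩ = 0 := (AddSubgroup.mem_bot).1 (h ▸ (he g ⟨m, hm⟩).1 hmg)
    exact congrArg Subtype.val (e.injective (h1.trans (map_zero e).symm))
  · obtain ⟨m, rfl⟩ := e.surjective x
    rw [show m = 0 from Subtype.ext (h m.1 m.2 ((he g m).2 hx)), map_zero]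

lemma van_of_torsion [IsNoetherianRing R] (hM : GrLC.gam a.toIdeal M = ⊤) {i : ℕ} (hi : 0 < i) (g : ι) :
    Van a ℳ i g := by
  obtain ⟨E⟩ := nonempty_starInjRes 𝒜 ℳ
  exact van_of_subsingleton_H a E (subsingleton_H_of_torsion E a hM i hi) g

/-- vanishing in a shifted degree -/
lemma van_shift (d : ι) {i : ℕ} {g : ι} : Van a (shG 𝒜 ℳ d).gr i g ↔ Van a ℳ i (g + d) := by
  obtain ⟨E⟩ := nonempty_starInjRes 𝒜 ℳ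
  rw [van_iff a (shiftRes E d), van_iff a E]
  refine ⟨fun h => (AddSubgroup.eq_bot_iff_forall _).2 fun x hx => ?_, fun h => (AddSubgroup.eq_bot_iff_forall _).2 fun x hx => ?_⟩
  · obtain ⟨y, rfl⟩ := (unshift E d a i).surjective x
    rw [show y = 0 from (AddSubgroup.mem_bot).1 (h ▸ (unshift_grHom E d a i g y).2 hx), map_zero]
  · refine (unshift E d a i).injective ?_
    rw [map_zero]
    exact (AddSubgroup.mem_bot).1 (h ▸ (unshift_grHom E d a i g x).1 hx)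

end Def

/-- vanishing passes through sums of composites -/
lemma van_of_sum {κ : Type*} (s : Finset κ) (p : κ → M₁ →ₗ[R] M₂) (q : κ → M₂ →ₗ[R] M₁)
    (hp : ∀ c ∈ s, GrLC.IsGrHom ℳ₁ ℳ₂ (p c)) (hq : ∀ c ∈ s, GrLC.IsGrHom ℳ₂ ℳ₁ (q c))
    (hsum : ∑ c ∈ s, q c ∘ₗ p c = LinearMap.id) {i : ℕ} {g : ι} (h : Van a ℳ₂ i g) : Van a ℳ₁ i g := by
  classical
  intro E₁
  obtain ⟨E₂⟩ := nonempty_starInjRes 𝒜 ℳ₂
  suffices H : ∀ t ⊆ s, ∃ φ, ∃ hφ : IsMap E₁ E₁ (∑ c ∈ t, q c ∘ₗ p c) φ, ∀ x ∈ E₁.Hgr a i g, hφ.Hmap a i x = 0 by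
    obtain ⟨φ, hφ, hz⟩ := H s subset_rfl
    have hφ' : IsMap E₁ E₁ LinearMap.id φ := by rwa [hsum] at hφ
    refine (AddSubgroup.eq_bot_iff_forall _).2 fun x hx => ?_
    have h1 := LinearMap.congr_fun (IsMap.Hmap_congr a hφ' (IsMap.id E₁) i) x
    rw [IsMap.Hmap_id] at h1
    exact h1.symm.trans (hz x hx)
  intro t
  induction t using Finset.induction with
  | empty =>
    intro _
    refine ⟨fun _ => 0, by rw [Finset.sum_empty]; exact IsMap.zero E₁ E₁, fun x _ => ?_⟩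
    obtain ⟨z, rfl⟩ := Submodule.Quotient.mk_surjective _ x
    exact (Submodule.Quotient.mk_eq_zero _).2 (zero_mem _)
  | insert c t hct ih =>
    intro hts
    rw [Finset.insert_subset_iff] at hts
    obtain ⟨φ, hφ, hz⟩ := ih hts.2
    obtain ⟨α, hα⟩ := exists_map E₁ E₂ (p c) (hp c hts.1)
    obtain ⟨β, hβ⟩ := exists_map E₂ E₁ (q c) (hq c hts.1)
    refine ⟨_, by rw [Finset.sum_insert hct]; exact (hα.comp hβ).add hφ, fun x hx => ?_⟩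
    have h1 : hα.Hmap a i x = 0 := (AddSubgroup.mem_bot).1 (h E₂ ▸ hα.Hmap_grHom a i g x hx)
    refine (LinearMap.congr_fun ((hα.comp hβ).Hmap_add a hφ i) x).trans ?_
    rw [LinearMap.add_apply, hz x hx, add_zero, hα.Hmap_comp a hβ i, LinearMap.comp_apply, h1, map_zero]

lemma van_of_iso (p : M₁ →ₗ[R] M₂) (q : M₂ →ₗ[R] M₁) (hp : GrLC.IsGrHom ℳ₁ ℳ₂ p) (hq : GrLC.IsGrHom ℳ₂ ℳ₁ q)
    (hqp : ∀ x, q (p x) = x) {i : ℕ} {g : ι} (h : Van a ℳ₂ i g) : Van a ℳ₁ i g :=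
  van_of_sum a ({()} : Finset Unit) (fun _ => p) (fun _ => q) (fun _ _ => hp) (fun _ _ => hq)
    (by rw [Finset.sum_singleton]; exact LinearMap.ext hqp) h

section SES

variable {f : M₁ →ₗ[R] M₂} {g : M₂ →ₗ[R] M₃} (hf : Function.Injective f) (hg : Function.Surjective g)
  (hfg : LinearMap.range f = LinearMap.ker g) (hfgr : GrLC.IsGrHom ℳ₁ ℳ₂ f) (hggr : GrLC.IsGrHom ℳ₂ ℳ₃ g)

include hf hg hfg hfgr hggr

lemma van_mid {i : ℕ} {d : ι} (h1 : Van a ℳ₁ i d) (h3 : Van a ℳ₃ i d) : Van a ℳ₂ i d := by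
  intro E₂
  obtain ⟨E₁⟩ := nonempty_starInjRes 𝒜 ℳ₁
  obtain ⟨E₃⟩ := nonempty_starInjRes 𝒜 ℳ₃
  obtain ⟨φ, hφ⟩ := exists_map E₁ E₂ f hfgr
  obtain ⟨ψ, hψ⟩ := exists_map E₂ E₃ g hggr
  obtain ⟨δ, -, hx1, -, -, -⟩ := exists_les E₁ E₂ E₃ a hf hg hfg hfgr hggr hφ hψ
  refine (AddSubgroup.eq_bot_iff_forall _).2 fun x hx => ?_
  have h0 : hψ.Hmap a i x = 0 := (AddSubgroup.mem_bot).1 (h3 E₃ ▸ hψ.Hmap_grHom a i d x hx)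
  obtain ⟨y, hy, rfl⟩ := exists_preimage a (hφ.Hmap a i) (hφ.Hmap_grHom a i) hx ((hx1 i x).1 h0)
  rw [show y = 0 from (AddSubgroup.mem_bot).1 (h1 E₁ ▸ hy), map_zero]

lemma van_right {i : ℕ} {d : ι} (h2 : Van a ℳ₂ i d) (h1 : Van a ℳ₁ (i + 1) d) : Van a ℳ₃ i d := by
  intro E₃
  obtain ⟨E₁⟩ := nonempty_starInjRes 𝒜 ℳ₁
  obtain ⟨E₂⟩ := nonempty_starInjRes 𝒜 ℳ₂
  obtain ⟨φ, hφ⟩ := exists_map E₁ E₂ f hfgr
  obtain ⟨ψ, hψ⟩ := exists_map E₂ E₃ g hggr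
  obtain ⟨δ, hδ, -, hx2, -, -⟩ := exists_les E₁ E₂ E₃ a hf hg hfg hfgr hggr hφ hψ
  refine (AddSubgroup.eq_bot_iff_forall _).2 fun x hx => ?_
  have h0 : δ i x = 0 := (AddSubgroup.mem_bot).1 (h1 E₁ ▸ hδ i d x hx)
  obtain ⟨y, hy, rfl⟩ := exists_preimage a (hψ.Hmap a i) (hψ.Hmap_grHom a i) hx ((hx2 i x).1 h0)
  rw [show y = 0 from (AddSubgroup.mem_bot).1 (h2 E₂ ▸ hy), map_zero]

lemma van_left {i : ℕ} {d : ι} (h3 : Van a ℳ₃ i d) (h2 : Van a ℳ₂ (i + 1) d) : Van a ℳ₁ (i + 1) d := by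
  intro E₁
  obtain ⟨E₂⟩ := nonempty_starInjRes 𝒜 ℳ₂
  obtain ⟨E₃⟩ := nonempty_starInjRes 𝒜 ℳ₃
  obtain ⟨φ, hφ⟩ := exists_map E₁ E₂ f hfgr
  obtain ⟨ψ, hψ⟩ := exists_map E₂ E₃ g hggr
  obtain ⟨δ, hδ, -, -, hx3, -⟩ := exists_les E₁ E₂ E₃ a hf hg hfg hfgr hggr hφ hψ
  refine (AddSubgroup.eq_bot_iff_forall _).2 fun x hx => ?_
  have h0 : hφ.Hmap a (i + 1) x = 0 := (AddSubgroup.mem_bot).1 (h2 E₂ ▸ hφ.Hmap_grHom a (i + 1) d x hx)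
  obtain ⟨y, hy, rfl⟩ := exists_preimage a (δ i) (hδ i) hx ((hx3 i x).1 h0)
  rw [show y = 0 from (AddSubgroup.mem_bot).1 (h3 E₃ ▸ hy), map_zero]

lemma van_left_zero {d : ι} (h2 : Van a ℳ₂ 0 d) : Van a ℳ₁ 0 d := by
  intro E₁
  obtain ⟨E₂⟩ := nonempty_starInjRes 𝒜 ℳ₂
  obtain ⟨E₃⟩ := nonempty_starInjRes 𝒜 ℳ₃
  obtain ⟨φ, hφ⟩ := exists_map E₁ E₂ f hfgr
  obtain ⟨ψ, hψ⟩ := exists_map E₂ E₃ g hggr
  obtain ⟨δ, -, -, -, -, hinj⟩ := exists_les E₁ E₂ E₃ a hf hg hfg hfgr hggr hφ hψ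
  refine (AddSubgroup.eq_bot_iff_forall _).2 fun x hx => hinj ?_
  rw [map_zero]
  exact (AddSubgroup.mem_bot).1 (h2 E₂ ▸ hφ.Hmap_grHom a 0 d x hx)

end SES

end Groth.L12.GrLCLib
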