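import Groth.Agent.L12.GrLCH
import Groth.Agent.L12.GrLCVan

/-!
# Graded local cohomology from an acyclic resolution
-/

set_option autoImplicit false

universe u

open DirectSum

namespace Groth.L12.GrLCLib

variable {ι : Type} [AddCommGroup ι] [DecidableEq ι]
variable {R : Type u} [CommRing R] [IsNoetherianRing R] {𝒜 : ι → AddSubgroup R} [GradedRing 𝒜]

/-- an exact homogeneous sequence with `Γ_a`-acyclic terms resolving `M` -/
structure AcSeq (a : HomogeneousIdeal 𝒜) {M : Type u} [AddCommGroup M] [Module R M] (ℳ : ι → AddSubgroup M) :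
    Type (u + 1) where
  Y : ℕ → GrLC.GMod.{u} 𝒜
  d : ∀ n, (Y n).carrier →ₗ[R] (Y (n + 1)).carrier
  ε : M →ₗ[R] (Y 0).carrier
  d_grHom : ∀ n, GrLC.IsGrHom (Y n).gr (Y (n + 1)).gr (d n)
  ε_grHom : GrLC.IsGrHom ℳ (Y 0).gr ε
  ε_injective : Function.Injective ε
  exact_zero : LinearMap.ker (d 0) = LinearMap.range ε
  exact_succ : ∀ n, LinearMap.ker (d (n + 1)) = LinearMap.range (d n)
  acyclic : ∀ n i, Subsingleton (LocCoh.H a.toIdeal (i + 1) (Y n).carrier)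

variable {a : HomogeneousIdeal 𝒜} {M : Type u} [AddCommGroup M] [Module R M] {ℳ : ι → AddSubgroup M}

/-- the boundaries of the torsion complex -/
def AcSeq.cobdy (A : AcSeq a ℳ) : (p : ℕ) → Submodule R (A.Y p).carrier
  | 0 => ⊥
  | n + 1 => (GrLC.gam a.toIdeal (A.Y n).carrier).map (A.d n)

/-- the cycles -/
def AcSeq.cocyc (A : AcSeq a ℳ) (p : ℕ) : Submodule R (A.Y p).carrier :=
  GrLC.gam a.toIdeal (A.Y p).carrier ⊓ LinearMap.ker (A.d p)

section Step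

variable [DirectSum.Decomposition ℳ] [SetLike.GradedSMul 𝒜 ℳ]
variable {Y : Type u} [AddCommGroup Y] [Module R Y] {𝒴 : ι → AddSubgroup Y} [DirectSum.Decomposition 𝒴] [SetLike.GradedSMul 𝒜 𝒴]
variable {Z : Type u} [AddCommGroup Z] [Module R Z] {𝒵 : ι → AddSubgroup Z} [DirectSum.Decomposition 𝒵] [SetLike.GradedSMul 𝒜 𝒵]
variable {f : M →ₗ[R] Y} {g : Y →ₗ[R] Z} (hf : Function.Injective f) (hg : Function.Surjective g)
  (hfg : LinearMap.range f = LinearMap.ker g) (hfgr : GrLC.IsGrHom ℳ 𝒴 f) (hggr : GrLC.IsGrHom 𝒴 𝒵 g)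
  (hY : ∀ i, Subsingleton (LocCoh.H a.toIdeal (i + 1) Y))

include hf hg hfg hfgr hggr hY

theorem exists_shift_succ (E₁ : GrLC.StarInjRes 𝒜 ℳ) (E₃ : GrLC.StarInjRes 𝒜 𝒵) (i : ℕ) :
    ∃ e : E₃.H a (i + 1) ≃ₗ[R] E₁.H a (i + 1 + 1), GrLC.IsGrHom (E₃.Hgr a (i + 1)) (E₁.Hgr a (i + 1 + 1)) e.toLinearMap := by
  obtain ⟨E₂⟩ := nonempty_starInjRes 𝒜 𝒴
  obtain ⟨φ, hφ⟩ := exists_map E₁ E₂ f hfgr
  obtain ⟨ψ, hψ⟩ := exists_map E₂ E₃ g hggr
  obtain ⟨δ, hδ, -, hx2, hx3, -⟩ := exists_les E₁ E₂ E₃ a hf hg hfg hfgr hggr hφ hψ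
  have h0 : ∀ j, Subsingleton (E₂.H a (j + 1)) := fun j => by
    obtain ⟨e⟩ := nonempty_H_equiv E₂ a (j + 1)
    haveI := hY j
    exact e.toEquiv.subsingleton
  refine ⟨LinearEquiv.ofBijective (δ (i + 1)) ⟨(injective_iff_map_eq_zero _).2 fun x hx => ?_, fun y => ?_⟩, hδ (i + 1)⟩
  · obtain ⟨y, rfl⟩ := (hx2 (i + 1) x).1 hx
    rw [@Subsingleton.elim _ (h0 i) y 0, map_zero]
  · exact (hx3 (i + 1) y).1 (@Subsingleton.elim _ (h0 (i + 1)) _ _)

theorem exists_shift_zero (E₁ : GrLC.StarInjRes 𝒜 ℳ) :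
    ∃ c : GrLC.gam a.toIdeal Z →ₗ[R] E₁.H a 1, Function.Surjective c ∧
      (∀ x, c x = 0 ↔ ∃ y ∈ GrLC.gam a.toIdeal Y, g y = x.1) ∧
      ∀ (d : ι) (x : GrLC.gam a.toIdeal Z), (x : Z) ∈ 𝒵 d → c x ∈ E₁.Hgr a 1 d := by
  obtain ⟨E₂⟩ := nonempty_starInjRes 𝒜 𝒴
  obtain ⟨E₃⟩ := nonempty_starInjRes 𝒜 𝒵
  obtain ⟨φ, hφ⟩ := exists_map E₁ E₂ f hfgr
  obtain ⟨ψ, hψ⟩ := exists_map E₂ E₃ g hggr
  obtain ⟨δ, hδ, -, hx2, hx3, -⟩ := exists_les E₁ E₂ E₃ a hf hg hfg hfgr hggr hφ hψ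
  have h0 : Subsingleton (E₂.H a 1) := by
    obtain ⟨e⟩ := nonempty_H_equiv E₂ a 1
    haveI := hY 0
    exact e.toEquiv.subsingleton
  have hmem : ∀ z : GrLC.gam a.toIdeal Z, E₃.ε z ∈ E₃.cocyc a 0 := fun z => ⟨gam_mono E₃.ε z.2, d_ε E₃ z⟩
  have hmem₂ : ∀ y : GrLC.gam a.toIdeal Y, E₂.ε y ∈ E₂.cocyc a 0 := fun y => ⟨gam_mono E₂.ε y.2, d_ε E₂ y⟩
  let L : GrLC.gam a.toIdeal Z →ₗ[R] E₃.cocyc a 0 :=
    LinearMap.codRestrict _ (E₃.ε ∘ₗ (GrLC.gam a.toIdeal Z).subtype) hmem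
  let e₃ : GrLC.gam a.toIdeal Z →ₗ[R] E₃.H a 0 := E₃.toH a 0 ∘ₗ L
  have he₃s : Function.Surjective e₃ := fun x => by
    obtain ⟨z, rfl⟩ := Submodule.Quotient.mk_surjective _ x
    obtain ⟨m, hm⟩ : z.1 ∈ LinearMap.range E₃.ε := E₃.exact_zero ▸ z.2.2
    have hmt : m ∈ GrLC.gam a.toIdeal Z := by
      obtain ⟨n, hn⟩ := z.2.1
      exact ⟨n, fun r hr => E₃.ε_injective (by rw [map_smul, hm, hn r hr, map_zero])⟩
    exact ⟨⟨m, hmt⟩, congrArg (E₃.toH a 0) (Subtype.ext hm)⟩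
  have he₃i : ∀ x, e₃ x = 0 → x = 0 := fun x hx => by
    have h1 : E₃.ε x ∈ E₃.cobdy a 0 :=
      (Submodule.Quotient.mk_eq_zero ((E₃.cobdy a 0).comap (E₃.cocyc a 0).subtype)).1 (show E₃.toH a 0 ⟨_, hmem x⟩ = 0 from hx)
    exact Subtype.ext (E₃.ε_injective (((Submodule.mem_bot R).1 h1).trans (map_zero E₃.ε).symm))
  have hnat : ∀ y : GrLC.gam a.toIdeal Y, hψ.Hmap a 0 (E₂.toH a 0 ⟨_, hmem₂ y⟩) = e₃ ⟨g y, gam_mono g y.2⟩ := fun y => by
    change E₃.toH a 0 _ = E₃.toH a 0 _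
    exact congrArg _ (Subtype.ext (LinearMap.congr_fun hψ.aug y.1))
  refine ⟨δ 0 ∘ₗ e₃, ?_, fun x => ⟨fun hx => ?_, ?_⟩, fun d x hx => hδ 0 d _ ⟨L x, E₃.ε_grHom d _ hx, rfl⟩⟩
  · intro y
    obtain ⟨z, hz⟩ := (hx3 0 y).1 (@Subsingleton.elim _ h0 _ _)
    obtain ⟨x, rfl⟩ := he₃s z
    exact ⟨x, hz⟩
  · obtain ⟨w, hw⟩ := (hx2 0 _).1 hx
    obtain ⟨z, rfl⟩ := Submodule.Quotient.mk_surjective _ w
    obtain ⟨y, hy⟩ : z.1 ∈ LinearMap.range E₂.ε := E₂.exact_zero ▸ z.2.2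
    have hyt : y ∈ GrLC.gam a.toIdeal Y := by
      obtain ⟨n, hn⟩ := z.2.1
      exact ⟨n, fun r hr => E₂.ε_injective (by rw [map_smul, hy, hn r hr, map_zero])⟩
    refine ⟨y, hyt, ?_⟩
    have h1 : e₃ ⟨g y, gam_mono g hyt⟩ = e₃ x := by
      rw [← hnat ⟨y, hyt⟩, ← hw]
      exact congrArg _ (congrArg (E₂.toH a 0) (Subtype.ext hy))
    have h2 := he₃i _ (show e₃ (⟨g y, gam_mono g hyt⟩ - x) = 0 by rw [map_sub, h1, sub_self])
    exact congrArg Subtype.val (sub_eq_zero.1 h2)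
  · rintro ⟨y, hy, hyx⟩
    have h1 : x = ⟨g y, gam_mono g hy⟩ := Subtype.ext hyx.symm
    subst h1
    exact (hx2 0 _).2 ⟨_, hnat ⟨y, hy⟩⟩

end Step

variable [DirectSum.Decomposition ℳ] [SetLike.GradedSMul 𝒜 ℳ]

/-- graded local cohomology from an acyclic resolution -/
theorem AcSeq.exists_classMap (A : AcSeq a ℳ) (F : GrLC.StarInjRes 𝒜 ℳ) (p : ℕ) :
    ∃ c : A.cocyc p →ₗ[R] F.H a p, Function.Surjective c ∧ (∀ x, c x = 0 ↔ x.1 ∈ A.cobdy p) ∧
      ∀ (g : ι) (x : A.cocyc p), (x : (A.Y p).carrier) ∈ (A.Y p).gr g → c x ∈ F.Hgr a p g := by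
  cases p with
  | zero =>
    obtain ⟨e, he⟩ := exists_H0_equiv a F
    have hz : ∀ x : A.cocyc 0, x.1 ∈ LinearMap.range A.ε := fun x => A.exact_zero ▸ x.2.2
    let eM := LinearEquiv.ofInjective A.ε A.ε_injective
    let back : A.cocyc 0 →ₗ[R] M := eM.symm.toLinearMap ∘ₗ LinearMap.codRestrict _ (A.cocyc 0).subtype hz
    have hback : ∀ x, A.ε (back x) = x.1 := fun x => congrArg Subtype.val (eM.apply_symm_apply _)
    have hbt : ∀ x, back x ∈ GrLC.gam a.toIdeal M := fun x => by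
      obtain ⟨n, hn⟩ := x.2.1
      exact ⟨n, fun r hr => A.ε_injective (by rw [map_smul, hback, hn r hr, map_zero])⟩
    refine ⟨e.toLinearMap ∘ₗ LinearMap.codRestrict _ back hbt, fun y => ?_, fun x => ?_, fun g x hx => ?_⟩
    · obtain ⟨m, rfl⟩ := e.surjective y
      refine ⟨⟨A.ε m, gam_mono A.ε m.2, A.exact_zero.ge ⟨_, rfl⟩⟩, congrArg e (Subtype.ext (A.ε_injective (hback _)))⟩
    · refine ⟨fun h => ?_, fun h => ?_⟩
      · have h1 : back x = 0 := congrArg Subtype.val (e.injective (h.trans (map_zero e).symm))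
        exact (Submodule.mem_bot R).2 (by rw [← hback x, h1, map_zero])
      · have h1 : x = 0 := Subtype.ext ((Submodule.mem_bot R).1 h)
        rw [h1, map_zero]
    · refine (he g ⟨back x, hbt x⟩).1 ?_
      change back x ∈ ℳ g
      have h1 : A.ε (cp ℳ g (back x)) = A.ε (back x) := by
        rw [show A.ε (cp ℳ g (back x)) = cp (A.Y 0).gr g (A.ε (back x)) from
          (cp_map ℳ (A.Y 0).gr A.ε.toAddMonoidHom A.ε_grHom g _).symm, hback]
        exact cp_same _ hx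
      exact A.ε_injective h1 ▸ cp_mem ℳ g (back x)
  | succ n =>
    have hKh : ∀ i, (LinearMap.ker (A.d i)).IsHomogeneous (A.Y i).gr := fun i =>
      ker_isHomogeneous (A.Y i).gr (A.Y (i + 1)).gr (A.d_grHom i)
    let K : ℕ → GrLC.GMod.{u} 𝒜 := fun i => subG 𝒜 (A.Y i).gr _ (hKh i)
    let incl : ∀ i, (K i).carrier →ₗ[R] (A.Y i).carrier := fun i => (LinearMap.ker (A.d i)).subtype
    have hto : ∀ i x, A.d i x ∈ LinearMap.ker (A.d (i + 1)) := fun i x => A.exact_succ i ▸ LinearMap.mem_range_self _ x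
    let proj : ∀ i, (A.Y i).carrier →ₗ[R] (K (i + 1)).carrier := fun i => LinearMap.codRestrict _ (A.d i) (hto i)
    have hproj : ∀ i, Function.Surjective (proj i) := fun i y => by
      obtain ⟨x, hx⟩ : y.1 ∈ LinearMap.range (A.d i) := A.exact_succ i ▸ y.2
      exact ⟨x, Subtype.ext hx⟩
    have hinclinj : ∀ i, Function.Injective (incl i) := fun i => Submodule.injective_subtype (LinearMap.ker (A.d i))
    have hex : ∀ i, LinearMap.range (incl i) = LinearMap.ker (proj i) := fun i => by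
      ext x
      exact ⟨fun ⟨y, hy⟩ => LinearMap.mem_ker.2 (Subtype.ext (hy ▸ y.2)), fun h => ⟨⟨x, congrArg Subtype.val h⟩, rfl⟩⟩
    have hinclgr : ∀ i, GrLC.IsGrHom (K i).gr (A.Y i).gr (incl i) := fun i g x hx => hx
    have hprojgr : ∀ i, GrLC.IsGrHom (A.Y i).gr (K (i + 1)).gr (proj i) := fun i g x hx => A.d_grHom i g x hx
    have down : ∀ (i j : ℕ) (G : GrLC.StarInjRes 𝒜 (K i).gr), ∃ e : G.H a (j + 1) →ₗ[R] F.H a (j + i + 1),
        Function.Bijective e ∧ GrLC.IsGrHom (G.Hgr a (j + 1)) (F.Hgr a (j + i + 1)) e := by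
      intro i
      induction i with
      | zero =>
        intro j G
        have hε : ∀ m, A.ε m ∈ LinearMap.ker (A.d 0) := fun m => A.exact_zero ▸ LinearMap.mem_range_self _ m
        let εK : M →ₗ[R] (K 0).carrier := LinearMap.codRestrict _ A.ε hε
        have hεb : Function.Bijective εK := ⟨fun x y h => A.ε_injective (congrArg Subtype.val h), fun y => by
          obtain ⟨x, hx⟩ : y.1 ∈ LinearMap.range A.ε := A.exact_zero ▸ y.2
          exact ⟨x, Subtype.ext hx⟩⟩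
        let eK := LinearEquiv.ofBijective εK hεb
        have heK : GrLC.IsGrHom (K 0).gr ℳ eK.symm.toLinearMap := fun g y hy => by
          obtain ⟨x, rfl⟩ := hεb.2 y
          have h1 : eK.symm (εK x) = x := eK.symm_apply_apply x
          change eK.symm (εK x) ∈ ℳ g
          rw [h1]
          have h2 : A.ε (cp ℳ g x) = A.ε x := by
            rw [show A.ε (cp ℳ g x) = cp (A.Y 0).gr g (A.ε x) from (cp_map ℳ (A.Y 0).gr A.ε.toAddMonoidHom A.ε_grHom g x).symm]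
            exact cp_same _ hy
          exact A.ε_injective h2 ▸ cp_mem ℳ g x
        obtain ⟨φ, hφ⟩ := exists_map G F eK.symm.toLinearMap heK
        obtain ⟨ψ, hψ⟩ := exists_map F G εK (fun g x hx => A.ε_grHom g x hx)
        refine ⟨hφ.Hmap a (j + 1), ⟨?_, ?_⟩, hφ.Hmap_grHom a (j + 1)⟩
        · have h1 : hψ.Hmap a (j + 1) ∘ₗ hφ.Hmap a (j + 1) = LinearMap.id := by
            have hid : εK ∘ₗ eK.symm.toLinearMap = LinearMap.id := LinearMap.ext eK.apply_symm_apply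
            have hc := hφ.comp hψ
            have hi : IsMap G G (εK ∘ₗ eK.symm.toLinearMap) fun _ => LinearMap.id := by rw [hid]; exact IsMap.id G
            rw [← hφ.Hmap_comp, IsMap.Hmap_congr a (hφ.comp hψ) hi]
            exact IsMap.Hmap_id a G (j + 1)
          exact Function.LeftInverse.injective (LinearMap.congr_fun h1)
        · have h1 : hφ.Hmap a (j + 1) ∘ₗ hψ.Hmap a (j + 1) = LinearMap.id := by
            have hid : eK.symm.toLinearMap ∘ₗ εK = LinearMap.id := LinearMap.ext eK.symm_apply_apply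
            have hi : IsMap F F (eK.symm.toLinearMap ∘ₗ εK) fun _ => LinearMap.id := by rw [hid]; exact IsMap.id F
            rw [← hψ.Hmap_comp, IsMap.Hmap_congr a (hψ.comp hφ) hi]
            exact IsMap.Hmap_id a F (j + 1)
          exact Function.RightInverse.surjective (LinearMap.congr_fun h1)
      | succ i ih =>
        intro j G
        obtain ⟨G'⟩ := nonempty_starInjRes 𝒜 (K i).gr
        obtain ⟨e₁, he₁⟩ := exists_shift_succ (a := a) (hinclinj i) (hproj i) (hex i) (hinclgr i) (hprojgr i) (A.acyclic i) G' G j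
        rw [show j + (i + 1) + 1 = j + 1 + i + 1 by omega]
        obtain ⟨e₂, hb₂, he₂⟩ := ih (j + 1) G'
        exact ⟨e₂ ∘ₗ e₁.toLinearMap, hb₂.comp e₁.bijective, fun g x hx => he₂ g _ (he₁ g x hx)⟩
    obtain ⟨G⟩ := nonempty_starInjRes 𝒜 (K n).gr
    obtain ⟨c, hcs, hc0, hcg⟩ := exists_shift_zero (a := a) (hinclinj n) (hproj n) (hex n) (hinclgr n) (hprojgr n) (A.acyclic n) G
    obtain ⟨e, heb, he⟩ : ∃ e : G.H a 1 →ₗ[R] F.H a (n + 1), Function.Bijective e ∧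
        GrLC.IsGrHom (G.Hgr a 1) (F.Hgr a (n + 1)) e := by
      have h := down n 0 G
      rw [show 0 + n + 1 = n + 1 by omega] at h
      exact h
    let toK : A.cocyc (n + 1) →ₗ[R] (K (n + 1)).carrier :=
      LinearMap.codRestrict _ (A.cocyc (n + 1)).subtype fun x => x.2.2
    have htoK : ∀ x, toK x ∈ GrLC.gam a.toIdeal (K (n + 1)).carrier := fun x => by
      obtain ⟨k, hk⟩ := x.2.1
      exact ⟨k, fun r hr => Subtype.ext (hk r hr)⟩
    refine ⟨e ∘ₗ c ∘ₗ LinearMap.codRestrict _ toK htoK, heb.2.comp (hcs.comp fun y => ?_), fun x => ?_,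
      fun g x hx => he g _ (hcg g ⟨toK x, htoK x⟩ hx)⟩
    · exact ⟨⟨y.1.1, gam_mono (incl (n + 1)) y.2, y.1.2⟩, rfl⟩
    · change e _ = 0 ↔ _
      refine (map_eq_zero_iff e heb.1).trans ((hc0 _).trans ⟨?_, ?_⟩)
      · rintro ⟨y, hy, hyx⟩
        exact ⟨y, hy, congrArg Subtype.val hyx⟩
      · rintro ⟨y, hy, hyx⟩
        exact ⟨y, hy, Subtype.ext hyx⟩

end Groth.L12.GrLCLib
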