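import Groth.Agent.L12.GrLCAinv
import Groth.Agent.L04.Torsion

/-!
# The pieces of local cohomology at the *maximal ideal are Artinian and vanish in high degrees
-/

set_option autoImplicit false

universe u

open DirectSum

namespace Groth.L12.GrLCLib

section Gen

variable {S : Type u} [CommRing S]

/-- a finite module killed by a maximal ideal is Artinian -/
lemma isArtinian_of_killed_maximal {M : Type u} [AddCommGroup M] [Module S M] [Module.Finite S M] (p : Ideal S)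
    [p.IsMaximal] (h : ∀ c ∈ p, ∀ x : M, c • x = 0) : IsArtinian S M := by
  have hT : Module.IsTorsionBySet S M (p : Set S) := fun x c => h c.1 c.2 x
  letI := hT.module
  haveI : IsScalarTower S (S ⧸ p) M := Module.IsTorsionBySet.isScalarTower hT
  letI := Ideal.Quotient.field p
  haveI : Module.Finite (S ⧸ p) M := Module.Finite.of_restrictScalars_finite S (S ⧸ p) M
  haveI : IsArtinian (S ⧸ p) M := isArtinian_of_fg_of_artinian'
  exact isArtinian_of_surjective_algebraMap (show Function.Surjective (algebraMap S (S ⧸ p)) from Ideal.Quotient.mk_surjective)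

end Gen

variable {R : Type u} [CommRing R] {𝒜 : ℤ → AddSubgroup R} [GradedRing 𝒜] (a : HomogeneousIdeal 𝒜)

/-- `H^i_a` has pieces vanishing in high degrees and Artinian over the degree zero part -/
def Good (i : ℕ) (M : Type u) [AddCommGroup M] [Module R M] (ℳ : ℤ → AddSubgroup M) [DirectSum.Decomposition ℳ]
    [SetLike.GradedSMul 𝒜 ℳ] : Prop :=
  (∃ r : ℤ, ∀ g, r ≤ g → Van a ℳ i g) ∧
    ∀ (E : GrLC.StarInjRes 𝒜 ℳ) (g : ℤ), IsArtinian (GrLC.deg0 𝒜) (E.Hcomp a i g)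

section Mid

variable {M₁ : Type u} [AddCommGroup M₁] [Module R M₁] {ℳ₁ : ℤ → AddSubgroup M₁} [DirectSum.Decomposition ℳ₁]
  [SetLike.GradedSMul 𝒜 ℳ₁]
variable {M₂ : Type u} [AddCommGroup M₂] [Module R M₂] {ℳ₂ : ℤ → AddSubgroup M₂} [DirectSum.Decomposition ℳ₂]
  [SetLike.GradedSMul 𝒜 ℳ₂]
variable {M₃ : Type u} [AddCommGroup M₃] [Module R M₃] {ℳ₃ : ℤ → AddSubgroup M₃} [DirectSum.Decomposition ℳ₃]
  [SetLike.GradedSMul 𝒜 ℳ₃]

lemma good_mid {f : M₁ →ₗ[R] M₂} {g : M₂ →ₗ[R] M₃} (hf : Function.Injective f) (hg : Function.Surjective g)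
    (hfg : LinearMap.range f = LinearMap.ker g) (hfgr : GrLC.IsGrHom ℳ₁ ℳ₂ f) (hggr : GrLC.IsGrHom ℳ₂ ℳ₃ g) {i : ℕ}
    (h1 : Good a i M₁ ℳ₁) (h3 : Good a i M₃ ℳ₃) : Good a i M₂ ℳ₂ := by
  refine ⟨?_, fun E₂ d => ?_⟩
  · obtain ⟨r₁, hr₁⟩ := h1.1
    obtain ⟨r₃, hr₃⟩ := h3.1
    exact ⟨max r₁ r₃, fun d hd =>
      van_mid a hf hg hfg hfgr hggr (hr₁ d (le_of_max_le_left hd)) (hr₃ d (le_of_max_le_right hd))⟩
  obtain ⟨E₁⟩ := nonempty_starInjRes 𝒜 ℳ₁
  obtain ⟨E₃⟩ := nonempty_starInjRes 𝒜 ℳ₃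
  obtain ⟨φ, hφ⟩ := exists_map E₁ E₂ f hfgr
  obtain ⟨ψ, hψ⟩ := exists_map E₂ E₃ g hggr
  obtain ⟨δ, -, hx1, -, -, -⟩ := exists_les E₁ E₂ E₃ a hf hg hfg hfgr hggr hφ hψ
  haveI := h1.2 E₁ d
  haveI := h3.2 E₃ d
  refine isArtinian_of_range_eq_ker (compMap (hφ.Hmap a i) (hφ.Hmap_grHom a i d))
    (compMap (hψ.Hmap a i) (hψ.Hmap_grHom a i d)) (le_antisymm ?_ fun x hx => ?_)
  · rintro _ ⟨z, rfl⟩
    exact LinearMap.mem_ker.2 (Subtype.ext ((hx1 i _).2 ⟨z.1, rfl⟩))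
  · obtain ⟨z, hz, hzx⟩ := exists_preimage a (hφ.Hmap a i) (hφ.Hmap_grHom a i) x.2
      ((hx1 i x.1).1 (congrArg Subtype.val (LinearMap.mem_ker.1 hx)))
    exact ⟨⟨z, hz⟩, Subtype.ext hzx⟩

end Mid

variable {M : Type u} [AddCommGroup M] [Module R M] {ℳ : ℤ → AddSubgroup M} [DirectSum.Decomposition ℳ]
  [SetLike.GradedSMul 𝒜 ℳ]

lemma good_of_torsion [IsNoetherianRing R] (hM : GrLC.gam a.toIdeal M = ⊤) {i : ℕ} (hi : 0 < i) : Good a i M ℳ :=
  ⟨⟨0, fun g _ => van_of_torsion a hM hi g⟩, fun E g => by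
    haveI := subsingleton_H_of_torsion E a hM i hi
    haveI : Subsingleton (E.Hcomp a i g) := subsingleton_of_forall_eq 0 fun x => Subtype.ext (Subsingleton.elim _ _)
    exact isArtinian_of_finite⟩

lemma good_zero [IsNoetherianRing R] [Module.Finite R M] (hpos : ∀ n : ℤ, n < 0 → 𝒜 n = ⊥)
    (hm : GrLC.IsStarLocal 𝒜 a) : Good a 0 M ℳ := by
  refine ⟨?_, fun E g => ?_⟩
  · obtain ⟨hi, hhi⟩ := exists_bddAbove_gam (posIdeal 𝒜) rfl ℳ
    refine ⟨hi, fun g hg => (van_zero_iff a).2 fun z hz hzg => hhi g hg z ?_ hzg⟩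
    obtain ⟨n, hn⟩ := hz
    exact ⟨n, fun c hc => hn c (Ideal.pow_right_mono (posIdeal_le hpos hm) n hc)⟩
  obtain ⟨e, he⟩ := exists_H0_equiv a E
  haveI := isNoetherian_comp 𝒜 ℳ g
  haveI := starLocal_isMaximal hpos hm
  let p : Ideal (GrLC.deg0 𝒜) := a.toIdeal.comap (GrLC.deg0 𝒜).subtype
  haveI hp : p.IsMaximal := by
    have hsurj : Function.Surjective ((Ideal.Quotient.mk a.toIdeal).comp (GrLC.deg0 𝒜).subtype) := fun q => by
      obtain ⟨x, rfl⟩ := Ideal.Quotient.mk_surjective q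
      refine ⟨⟨cp 𝒜 0 x, cp_mem 𝒜 0 x⟩, (Ideal.Quotient.eq.2 ?_).symm⟩
      exact posIdeal_le hpos hm (sub_cp_zero_mem_posIdeal hpos x)
    letI := Ideal.Quotient.field a.toIdeal
    haveI := Ideal.comap_isMaximal_of_surjective _ hsurj (K := (⊥ : Ideal (R ⧸ a.toIdeal))) (H := Ideal.bot_isMaximal)
    have hp' : p = Ideal.comap ((Ideal.Quotient.mk a.toIdeal).comp (GrLC.deg0 𝒜).subtype) ⊥ := by
      rw [← Ideal.comap_comap, ← RingHom.ker_eq_comap_bot, Ideal.mk_ker]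
    rwa [hp']
  haveI : IsNoetherianRing (GrLC.deg0 𝒜) := by
    haveI := isNoetherian_comp 𝒜 𝒜 0
    let e0 : GrLC.comp 𝒜 𝒜 0 ≃ₗ[GrLC.deg0 𝒜] GrLC.deg0 𝒜 :=
      { toFun := fun x => ⟨x.1, x.2⟩
        map_add' := fun _ _ => rfl
        map_smul' := fun _ _ => rfl
        invFun := fun x => ⟨x.1, x.2⟩
        left_inv := fun _ => rfl
        right_inv := fun _ => rfl }
    exact isNoetherian_of_linearEquiv e0
  let S : Submodule (GrLC.deg0 𝒜) (GrLC.comp 𝒜 ℳ g) :=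
    ((GrLC.gam a.toIdeal M).restrictScalars (GrLC.deg0 𝒜)).comap (GrLC.comp 𝒜 ℳ g).subtype
  have hS : LocCoh.IsPowerTorsion p S := fun x => by
    obtain ⟨n, hn⟩ := x.2
    refine ⟨n, fun c hc => Subtype.ext (Subtype.ext ?_)⟩
    exact hn _ (Ideal.le_comap_pow _ n hc)
  haveI : IsArtinian (GrLC.deg0 𝒜) (LocCoh.torsionBy p S) :=
    isArtinian_of_killed_maximal p fun c hc x => Subtype.ext (Groth.L04.mem_torsionBy.1 x.2 c hc)
  haveI : IsArtinian (GrLC.deg0 𝒜) S := Groth.L04.artinian_of_torsionBy (IsNoetherian.noetherian p) hS inferInstance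
  let F : S →ₗ[GrLC.deg0 𝒜] E.Hcomp a 0 g :=
    { toFun := fun x => ⟨e ⟨x.1.1, x.2⟩, (he g ⟨x.1.1, x.2⟩).1 x.1.2⟩
      map_add' := fun x y => Subtype.ext (map_add e ⟨x.1.1, x.2⟩ ⟨y.1.1, y.2⟩)
      map_smul' := fun c x => Subtype.ext (map_smul e (c : R) ⟨x.1.1, x.2⟩) }
  refine isArtinian_of_surjective _ F fun x => ?_
  obtain ⟨m, hm'⟩ := e.surjective x.1
  have hmg : (m : M) ∈ ℳ g := (he g m).2 (hm'.symm ▸ x.2)
  exact ⟨⟨⟨m.1, hmg⟩, m.2⟩, Subtype.ext hm'⟩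

/-- step up along a homogeneous regular element -/
lemma good_step (i : ℕ) {e : ℕ} {y : R} (hy : y ∈ 𝒜 (e : ℤ)) (hya : y ∈ a.toIdeal) (hreg : IsSMulRegular M y)
    (hP : (LinearMap.range (y • LinearMap.id : M →ₗ[R] M)).IsHomogeneous ℳ)
    (h : Good a i (quoG 𝒜 ℳ _ hP).carrier (quoG 𝒜 ℳ _ hP).gr) : Good a (i + 1) M ℳ := by
  obtain ⟨⟨r, hr⟩, hN⟩ := h
  let X := shG 𝒜 ℳ (-(e : ℤ))
  let f : X.carrier →ₗ[R] M := (y • LinearMap.id : M →ₗ[R] M)
  have hfgr : GrLC.IsGrHom X.gr ℳ f := fun g x hx => by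
    change y • (x : M) ∈ ℳ g
    have h := smul_mem' 𝒜 ℳ hy (show (x : M) ∈ ℳ (g + -(e : ℤ)) from hx)
    rwa [show (e : ℤ) + (g + -(e : ℤ)) = g from by ring] at h
  let NG := quoG 𝒜 ℳ (LinearMap.range (y • LinearMap.id : M →ₗ[R] M)) hP
  let ψ₀ : M →ₗ[R] NG.carrier := (LinearMap.range (y • LinearMap.id : M →ₗ[R] M)).mkQ
  have hψ₀ : GrLC.IsGrHom ℳ NG.gr ψ₀ := fun g x hx => ⟨x, hx, rfl⟩
  obtain ⟨EN⟩ := nonempty_starInjRes 𝒜 NG.gr
  have main : ∀ EQ : GrLC.StarInjRes 𝒜 ℳ, (∀ g, r - e ≤ g → EQ.Hgr a (i + 1) g = ⊥) ∧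
      ∀ g, IsArtinian (GrLC.deg0 𝒜) (EQ.Hcomp a (i + 1) g) := by
    intro EQ
    obtain ⟨ψ, hψ⟩ := exists_map EQ EN ψ₀ hψ₀
    have hφ := isMap_smul' EQ (y := y) (d := (e : ℤ)) hy
    obtain ⟨δ, hδ, -, -, hx3, -⟩ := exists_les (shiftRes EQ (-(e : ℤ))) EQ EN a (f := f) hreg
      (Submodule.mkQ_surjective _) (Submodule.ker_mkQ _).symm hfgr hψ₀ hφ hψ
    have hlift : ∀ h, ∀ x ∈ EQ.Hgr a (i + 1) h, y • x = 0 →
        ∃ z ∈ EN.Hgr a i (h + e), unshift EQ (-(e : ℤ)) a (i + 1) (δ i z) = x := by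
      intro h x hx hyx
      set x' := (unshift EQ (-(e : ℤ)) a (i + 1)).symm x with hx'
      have hxx : unshift EQ (-(e : ℤ)) a (i + 1) x' = x := LinearEquiv.apply_symm_apply _ x
      have hmem : x' ∈ (shiftRes EQ (-(e : ℤ))).Hgr a (i + 1) (h + e) := by
        rw [unshift_grHom, hxx, show h + (e : ℤ) + -(e : ℤ) = h from by ring]
        exact hx
      have h0 : hφ.Hmap a (i + 1) x' = 0 := by rw [Hmap_smul' EQ _ hy, hxx]; exact hyx
      obtain ⟨z, hz, hzx⟩ := exists_preimage a _ (hδ i) hmem ((hx3 i x').1 h0)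
      exact ⟨z, hz, by rw [hzx, hxx]⟩
    have hvan : ∀ g, r - e ≤ g → EQ.Hgr a (i + 1) g = ⊥ := by
      intro g hg
      refine (AddSubgroup.eq_bot_iff_forall _).2 fun x hx => ?_
      have key : ∀ n : ℕ, ∀ h, r - e ≤ h → ∀ x ∈ EQ.Hgr a (i + 1) h, y ^ n • x = 0 → x = 0 := by
        intro n
        induction n with
        | zero => intro h _ x _ hx; simpa using hx
        | succ n ihn =>
          intro h hh x hx hyx
          rw [pow_succ, mul_smul] at hyx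
          obtain ⟨z, hz, hzx⟩ := hlift h x hx (ihn ((e : ℤ) + h) (by omega) _ (smul_mem_Hgr EQ a (i + 1) hy hx) hyx)
          rw [← hzx, show z = 0 from (AddSubgroup.mem_bot).1 (hr (h + e) (by omega) EN ▸ hz), map_zero, map_zero]
      obtain ⟨n, hn⟩ := isPowerTorsion_H a EQ (i + 1) x
      exact key n g hg x hx (hn _ (Ideal.pow_mem_pow hya n))
    let L : EN.H a i →ₗ[R] EQ.H a (i + 1) := (unshift EQ (-(e : ℤ)) a (i + 1)).toLinearMap ∘ₗ δ i
    have hL : ∀ g, ∀ z ∈ EN.Hgr a i (g + e), L z ∈ EQ.Hgr a (i + 1) g := fun g z hz => by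
      have h := (unshift_grHom EQ (-(e : ℤ)) a (i + 1) (g + e) (δ i z)).1 (hδ i _ z hz)
      rwa [show g + (e : ℤ) + -(e : ℤ) = g from by ring] at h
    have hker : ∀ (g : ℤ) (x : EQ.Hcomp a (i + 1) g), y • x.1 = 0 ↔ x ∈ LinearMap.range (compMap L (hL g)) := by
      refine fun g x => ⟨fun hx => ?_, ?_⟩
      · obtain ⟨z, hz, hzx⟩ := hlift g x.1 x.2 hx
        exact ⟨⟨z, hz⟩, Subtype.ext hzx⟩
      · rintro ⟨z, rfl⟩
        change y • unshift EQ (-(e : ℤ)) a (i + 1) (δ i z.1) = 0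
        rw [← Hmap_smul' EQ a hy]
        exact (hx3 i (δ i z.1)).2 ⟨z.1, rfl⟩
    refine ⟨hvan, ?_⟩
    rcases Nat.eq_zero_or_pos e with he | he
    · intro g
      let y0 : GrLC.deg0 𝒜 := ⟨y, by have := hy; rwa [he, Nat.cast_zero] at this⟩
      haveI := hN EN (g + e)
      haveI : IsArtinian (GrLC.deg0 𝒜) (LocCoh.torsionBy (Ideal.span {y0}) (EQ.Hcomp a (i + 1) g)) := by
        have hmem : ∀ x : LocCoh.torsionBy (Ideal.span {y0}) (EQ.Hcomp a (i + 1) g),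
            (x : EQ.Hcomp a (i + 1) g) ∈ LinearMap.range (compMap L (hL g)) := fun x => (hker g _).1
          (congrArg Subtype.val (Groth.L04.mem_torsionBy.1 x.2 y0 (Ideal.mem_span_singleton_self _)))
        exact isArtinian_of_injective ((Submodule.subtype _).codRestrict (LinearMap.range (compMap L (hL g))) hmem)
          fun p q hpq => Subtype.ext (congrArg Subtype.val hpq :)
      refine Groth.L04.artinian_of_principal (a := y0) fun x => ?_
      obtain ⟨n, hn⟩ := isPowerTorsion_H a EQ (i + 1) x.1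
      exact ⟨n, Subtype.ext (hn (y ^ n) (Ideal.pow_mem_pow hya n))⟩
    suffices H : ∀ (k : ℕ) (g : ℤ), r - e ≤ g + k → IsArtinian (GrLC.deg0 𝒜) (EQ.Hcomp a (i + 1) g) from
      fun g => H (r - e - g).toNat g (by omega)
    intro k
    induction k using Nat.strong_induction_on with
    | _ k ihk =>
      intro g hg
      by_cases hge : r - e ≤ g
      · haveI : Subsingleton (EQ.Hcomp a (i + 1) g) := subsingleton_of_forall_eq 0 fun x =>
          Subtype.ext ((AddSubgroup.mem_bot).1 (hvan g hge ▸ (x.2 : x.1 ∈ EQ.Hgr a (i + 1) g)))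
        exact isArtinian_of_finite
      haveI := hN EN (g + e)
      haveI := ihk (k - min k e) (by omega) (g + e) (by omega)
      let g1 : EQ.Hcomp a (i + 1) g →ₗ[GrLC.deg0 𝒜] EQ.Hcomp a (i + 1) (g + e) :=
        compMap (y • LinearMap.id : EQ.H a (i + 1) →ₗ[R] EQ.H a (i + 1)) fun x hx => by
          rw [add_comm g (e : ℤ)]
          exact smul_mem_Hgr EQ a (i + 1) hy hx
      refine isArtinian_of_range_eq_ker (compMap L (hL g)) g1 ?_
      ext x
      rw [← hker g x, LinearMap.mem_ker]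
      exact ⟨fun hx => Subtype.ext hx, fun hx => congrArg Subtype.val hx⟩
  obtain ⟨EQ⟩ := nonempty_starInjRes 𝒜 ℳ
  exact ⟨⟨r - e, fun g hg => van_of_res a EQ ((main EQ).1 g hg)⟩, fun E g => (main E).2 g⟩

omit [DirectSum.Decomposition ℳ] [SetLike.GradedSMul 𝒜 ℳ] in
lemma gam_quot_gam_eq_bot [IsNoetherian R M] :
    GrLC.gam a.toIdeal (M ⧸ GrLC.gam a.toIdeal M) = ⊥ := eq_bot_iff.2 fun q hq => by
  obtain ⟨t, ht⟩ := exists_pow_gam' a (M := M)
  obtain ⟨x, rfl⟩ := Submodule.Quotient.mk_surjective _ q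
  obtain ⟨n, hn⟩ := hq
  refine (Submodule.mem_bot _).2 ((Submodule.Quotient.mk_eq_zero _).2 ⟨t + n, fun c hc => ?_⟩)
  rw [pow_add] at hc
  induction hc using Submodule.mul_induction_on' with
  | add b _ d _ hb hd => rw [add_smul, hb, hd, add_zero]
  | mem_mul_mem b hb d hd =>
    rw [mul_smul]
    exact ht _ ((Submodule.Quotient.mk_eq_zero _).1 ((Submodule.Quotient.mk_smul _ d x).trans (hn d hd))) b hb

/-- the main theorem -/
theorem good_starLocal [IsNoetherianRing R] (hpos : ∀ n : ℤ, n < 0 → 𝒜 n = ⊥) (hm : GrLC.IsStarLocal 𝒜 a) :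
    ∀ (i : ℕ) (M : Type u) [AddCommGroup M] [Module R M] (ℳ : ℤ → AddSubgroup M)
    [DirectSum.Decomposition ℳ] [SetLike.GradedSMul 𝒜 ℳ], Module.Finite R M → Good a i M ℳ := by
  intro i
  induction i with
  | zero => intro M _ _ ℳ _ _ _; exact good_zero a hpos hm
  | succ i ih =>
    have step : ∀ (M : Type u) [AddCommGroup M] [Module R M] (ℳ : ℤ → AddSubgroup M)
        [DirectSum.Decomposition ℳ] [SetLike.GradedSMul 𝒜 ℳ] [Module.Finite R M] {e : ℕ} {y : R},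
        y ∈ 𝒜 (e : ℤ) → y ∈ a.toIdeal → IsSMulRegular M y → Good a (i + 1) M ℳ := by
      intro M _ _ ℳ _ _ _ e y hy hya hreg
      have hP : (LinearMap.range (y • LinearMap.id : M →ₗ[R] M)).IsHomogeneous ℳ := by
        intro g z hz
        obtain ⟨x, rfl⟩ := hz
        change cp ℳ g (y • x) ∈ _
        rw [cp_smul_hom' 𝒜 ℳ hy]
        exact ⟨_, rfl⟩
      refine good_step a i hy hya hreg hP (ih _ _ ?_)
      exact inferInstanceAs (Module.Finite R (M ⧸ LinearMap.range (y • LinearMap.id : M →ₗ[R] M)))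
    have tors : ∀ (M : Type u) [AddCommGroup M] [Module R M] (ℳ : ℤ → AddSubgroup M)
        [DirectSum.Decomposition ℳ] [SetLike.GradedSMul 𝒜 ℳ] [Module.Finite R M],
        GrLC.gam (posIdeal 𝒜).toIdeal M = ⊤ → Good a (i + 1) M ℳ := by
      intro M _ _ ℳ _ _ _ hMtop
      let T := GrLC.gam a.toIdeal M
      let TG := subG 𝒜 ℳ T (gam_isHomogeneous 𝒜 ℳ a)
      let QG := quoG 𝒜 ℳ T (gam_isHomogeneous 𝒜 ℳ a)
      let ι₀ : TG.carrier →ₗ[R] M := T.subtype
      let π₀ : M →ₗ[R] QG.carrier := T.mkQ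
      have hTtop : GrLC.gam a.toIdeal TG.carrier = ⊤ := eq_top_iff.2 fun z _ => by
        obtain ⟨n, hn⟩ := (z : T).2
        exact ⟨n, fun c hc => Subtype.ext (hn c hc)⟩
      haveI : Module.Finite R QG.carrier := inferInstanceAs (Module.Finite R (M ⧸ T))
      refine good_mid a (ℳ₁ := TG.gr) (ℳ₃ := QG.gr) (f := ι₀) (g := π₀) T.injective_subtype
        (Submodule.mkQ_surjective T) ((Submodule.range_subtype _).trans (Submodule.ker_mkQ _).symm)
        (fun g x hx => hx) (fun g x hx => ⟨x, hx, rfl⟩) (good_of_torsion a hTtop i.succ_pos) ?_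
      obtain ⟨z, hzm, hzp⟩ : ∃ z ∈ a.toIdeal, ∀ p ∈ associatedPrimes R QG.carrier, z ∉ p := by
        by_contra hcon
        push Not at hcon
        have hsub : (a.toIdeal : Set R) ⊆ ⋃ p ∈ (↑(associatedPrimes.finite R QG.carrier).toFinset : Set (Ideal R)), (p : Set R) :=
          fun z hz => by
            obtain ⟨p, hp, hzp⟩ := hcon z hz
            exact Set.mem_biUnion ((Set.Finite.mem_toFinset _).2 hp) hzp
        obtain ⟨p, hp, hap⟩ := (Ideal.subset_union_prime ⊤ ⊤ fun p hp _ _ =>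
          ((Set.Finite.mem_toFinset _).1 hp).isPrime).1 hsub
        rw [Set.Finite.mem_toFinset] at hp
        obtain ⟨hpp, x, hx⟩ := isAssociatedPrime_iff.1 hp
        have hxg : x ∈ GrLC.gam a.toIdeal QG.carrier := ⟨1, fun c hc => by
          have hcp : c ∈ p := hap (by rwa [pow_one] at hc)
          rwa [hx, Submodule.mem_colon_singleton, Submodule.mem_bot] at hcp⟩
        rw [show GrLC.gam a.toIdeal QG.carrier = ⊥ from gam_quot_gam_eq_bot a, Submodule.mem_bot] at hxg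
        refine hpp.ne_top ((Ideal.eq_top_iff_one p).2 ?_)
        rw [hx, Submodule.mem_colon_singleton, hxg, smul_zero]
        exact zero_mem _
      refine step QG.carrier QG.gr (e := 0) (cp_mem 𝒜 _ z) (a.isHomogeneous _ hzm) ?_
      rw [isSMulRegular_iff_right_eq_zero_of_smul]
      intro x hx
      by_contra hx0
      have hmem : cp 𝒜 ((0 : ℕ) : ℤ) z ∈ {c : R | ∃ x : QG.carrier, x ≠ 0 ∧ c • x = 0} := ⟨x, hx0, hx⟩
      rw [← biUnion_associatedPrimes_eq_zero_divisors R QG.carrier] at hmem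
      obtain ⟨q, hq, hyq⟩ := Set.mem_iUnion₂.1 hmem
      refine hzp q hq ?_
      obtain ⟨hqp, w, hw⟩ := isAssociatedPrime_iff.1 hq
      have hle : (posIdeal 𝒜).toIdeal ≤ q := fun c hc => by
        obtain ⟨v, rfl⟩ := Submodule.Quotient.mk_surjective T w
        obtain ⟨n, hn⟩ : v ∈ GrLC.gam (posIdeal 𝒜).toIdeal M := hMtop ▸ Submodule.mem_top
        refine hqp.mem_of_pow_mem n ?_
        rw [hw, Submodule.mem_colon_singleton, Submodule.mem_bot]
        exact (Submodule.Quotient.mk_smul T _ v).symm.trans (by rw [hn _ (Ideal.pow_mem_pow hc n)]; rfl)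
      have := q.add_mem (hle (sub_cp_zero_mem_posIdeal hpos z)) (by simpa using hyq)
      rwa [sub_add_cancel] at this
    intro M _ _ ℳ _ _ hMfin
    let T := GrLC.gam (posIdeal 𝒜).toIdeal M
    let TG := subG 𝒜 ℳ T (gam_isHomogeneous 𝒜 ℳ (posIdeal 𝒜))
    let QG := quoG 𝒜 ℳ T (gam_isHomogeneous 𝒜 ℳ (posIdeal 𝒜))
    let ι₀ : TG.carrier →ₗ[R] M := T.subtype
    let π₀ : M →ₗ[R] QG.carrier := T.mkQ
    haveI : Module.Finite R QG.carrier := inferInstanceAs (Module.Finite R (M ⧸ T))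
    haveI : Module.Finite R TG.carrier := inferInstanceAs (Module.Finite R T)
    obtain ⟨e, y, he, hy, hreg⟩ := exists_homog_regular_pos (posIdeal 𝒜) rfl (M := M ⧸ T)
      (gam_quot_gam_eq_bot (posIdeal 𝒜))
    refine good_mid a (ℳ₁ := TG.gr) (ℳ₃ := QG.gr) (f := ι₀) (g := π₀) T.injective_subtype
      (Submodule.mkQ_surjective T) ((Submodule.range_subtype _).trans (Submodule.ker_mkQ _).symm)
      (fun g x hx => hx) (fun g x hx => ⟨x, hx, rfl⟩) (tors TG.carrier TG.gr ?_)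
      (step QG.carrier QG.gr hy (mem_starLocal_of_pos hpos hm (by omega) hy) hreg)
    exact eq_top_iff.2 fun z _ => by
      obtain ⟨n, hn⟩ := (z : T).2
      exact ⟨n, fun c hc => Subtype.ext (hn c hc)⟩

end Groth.L12.GrLCLib
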