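import Groth.Agent.L12.GrLCSocle
import Groth.Prelude.Def_GrLC2
import Mathlib.Algebra.Homology.DerivedCategory.Ext.Linear
import Mathlib.RingTheory.Localization.AtPrime.Basic

/-!
# The zeroth Bass number counts summands of the *injective envelope
-/

set_option autoImplicit false

universe u

open DirectSum CategoryTheory

namespace Groth.L12.GrLCLib

section Local

variable {A : Type u} [CommRing A] [IsLocalRing A]

variable (A) in
/-- socle -/
def soc (X : Type u) [AddCommGroup X] [Module A X] : Submodule A X :=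
  Submodule.torsionBySet A X (IsLocalRing.maximalIdeal A : Set A)

lemma mem_soc {X : Type u} [AddCommGroup X] [Module A X] {x : X} :
    x ∈ soc A X ↔ ∀ a ∈ IsLocalRing.maximalIdeal A, a • x = 0 := by
  rw [soc, Submodule.mem_torsionBySet_iff]
  exact ⟨fun h a ha => h ⟨a, ha⟩, fun h a => h a.1 a.2⟩

/-- homomorphisms from the residue field are the socle -/
noncomputable def homResidueEquiv (X : Type u) [AddCommGroup X] [Module A X] :
    (IsLocalRing.ResidueField A →ₗ[A] X) ≃ₗ[A] soc A X where
  toFun φ := ⟨φ (IsLocalRing.residue A 1), mem_soc.2 fun a ha => by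
    rw [← φ.map_smul, show a • IsLocalRing.residue A 1 = IsLocalRing.residue A (a * 1) from rfl, mul_one,
      (IsLocalRing.residue_eq_zero_iff a).2 ha, map_zero]⟩
  map_add' _ _ := rfl
  map_smul' _ _ := rfl
  invFun x := Submodule.liftQ (IsLocalRing.maximalIdeal A) (LinearMap.toSpanSingleton A X x.1) fun a ha =>
    mem_soc.1 x.2 a ha
  left_inv φ := LinearMap.ext fun z => by
    obtain ⟨a, rfl⟩ := IsLocalRing.residue_surjective z
    change a • φ (IsLocalRing.residue A 1) = φ (IsLocalRing.residue A a)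
    rw [← φ.map_smul, show a • IsLocalRing.residue A 1 = IsLocalRing.residue A (a * 1) from rfl, mul_one]
  right_inv x := Subtype.ext (one_smul A (x : X))

lemma length_ext_zero (X : Type u) [AddCommGroup X] [Module A X] :
    GrLC.bassNumLocal A X 0 = Module.length A (soc A X) := by
  refine LinearEquiv.length_eq ?_
  exact Abelian.Ext.linearEquiv₀.trans
    ((ModuleCat.homLinearEquiv (S := A)).trans (homResidueEquiv X))

lemma length_finsupp_residue (κ : Type u) :
    Module.length A (κ →₀ IsLocalRing.ResidueField A) = Cardinal.toENat (Cardinal.mk κ) := by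
  haveI : IsSimpleModule A (IsLocalRing.ResidueField A) := isSimpleModule_iff_isCoatom.2
    (Ideal.isMaximal_def.1 (IsLocalRing.maximalIdeal.isMaximal A))
  rw [Module.length_finsupp, Module.length_eq_one]
  simp [ENat.card]

end Local

variable {ι : Type} [AddCommGroup ι] [DecidableEq ι] [Module.Free ℤ ι] [Module.Finite ℤ ι]
variable {R : Type u} [CommRing R] [IsNoetherianRing R] {𝒜 : ι → AddSubgroup R} [GradedRing 𝒜]
variable {M : Type u} [AddCommGroup M] [Module R M]
variable {E : Type u} [AddCommGroup E] [Module R E] {τ : Type u} [SetLike τ E] [AddSubgroupClass τ E] {𝓔 : ι → τ}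
  [DirectSum.Decomposition 𝓔] [SetLike.GradedSMul 𝒜 𝓔]

theorem bassNum_zero_eq_card (e : M →ₗ[R] E) (hinj : Function.Injective e)
    (hess : ∀ Q : Submodule R E, Q.IsHomogeneous 𝓔 → Q ≠ ⊥ → Q ⊓ LinearMap.range e ≠ ⊥)
    (Λ : Type u) (P : Λ → HomogeneousIdeal 𝒜) (hP : ∀ α, (P α).toIdeal.IsPrime) (g : Λ → ι)
    (J : Λ → Submodule R E) (hind : iSupIndep J) (htop : iSup J = ⊤)
    (f : ∀ α, (R ⧸ (P α).toIdeal) →ₗ[R] E) (hf : ∀ α, IsPiece (P α) (g α) (J α) (f α) 𝓔)
    (p : HomogeneousIdeal 𝒜) [hp : p.toIdeal.IsPrime] :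
    GrLC.bassNum p.toIdeal M 0 = Cardinal.toENat (Cardinal.mk {α : Λ // P α = p}) := by
  classical
  let S := p.toIdeal.primeCompl
  let A := Localization.AtPrime p.toIdeal
  let em : LocalizedModule S M →ₗ[A] LocalizedModule S E := LocalizedModule.map S e
  have hem : Function.Injective em := LocalizedModule.map_injective S e hinj
  have hem' : ∀ (m : M) (s : S), em (LocalizedModule.mk m s) = LocalizedModule.mk (e m) s := fun m s => LocalizedModule.map_mk S e m s
  rw [GrLC.bassNum, length_ext_zero, ← length_finsupp_residue (A := A)]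
  let one' : {α : Λ // P α = p} → E := fun α => f α.1 (Ideal.Quotient.mk _ 1)
  -- the socle of the localised envelope lifts to `M`
  have hlift : ∀ α : {α : Λ // P α = p}, ∃ x ∈ soc A (LocalizedModule S M), em x = LocalizedModule.mk (one' α) 1 := by
    rintro ⟨α, hα⟩
    obtain ⟨y, ⟨hy, m, hm⟩, hy0⟩ := (Submodule.ne_bot_iff _).1 (hess (R ∙ one' ⟨α, hα⟩)
      (span_isHomogeneous 𝒜 𝓔 fun w hw => ⟨g α, by rw [Set.mem_singleton_iff] at hw; exact hw ▸ (hf α).f_one_mem⟩)
      (by
        rw [ne_eq, Submodule.span_singleton_eq_bot]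
        intro h0
        exact (hP α).ne_top ((Ideal.eq_top_iff_one _).2 (((hf α).smul_f_one 1).1 (by rw [one_smul]; exact h0)))))
    obtain ⟨c, rfl⟩ := Submodule.mem_span_singleton.1 hy
    have hc : c ∈ S := fun hc => hy0 (((hf α).smul_f_one c).2 (hα.symm ▸ hc))
    have heq : em (LocalizedModule.mk m ⟨c, hc⟩) = LocalizedModule.mk (one' ⟨α, hα⟩) 1 := by
      rw [hem', hm, LocalizedModule.mk_eq]
      exact ⟨1, by simp [Submonoid.smul_def]⟩
    refine ⟨_, mem_soc.2 fun a ha => hem ?_, heq⟩
    rw [map_smul, heq, map_zero]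
    obtain ⟨r, s, rfl⟩ := IsLocalization.exists_mk'_eq S a
    rw [IsLocalization.AtPrime.mk'_mem_maximal_iff _ p.toIdeal] at ha
    rw [Localization.mk_eq_mk'.symm, LocalizedModule.mk_smul_mk, ((hf α).smul_f_one r).2 (hα.symm ▸ ha),
      LocalizedModule.zero_mk]
  choose x hx hxe using hlift
  let ev : {α : Λ // P α = p} → (IsLocalRing.ResidueField A →ₗ[A] soc A (LocalizedModule S M)) := fun α =>
    Submodule.liftQ (IsLocalRing.maximalIdeal A) (LinearMap.toSpanSingleton A _ ⟨x α, hx α⟩) fun a ha =>
      Subtype.ext (mem_soc.1 (hx α) a ha)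
  let Ψ : ({α : Λ // P α = p} →₀ IsLocalRing.ResidueField A) →ₗ[A] soc A (LocalizedModule S M) :=
    Finsupp.lsum A ev
  refine (LinearEquiv.length_eq (LinearEquiv.ofBijective Ψ ⟨?_, ?_⟩)).symm
  · rw [injective_iff_map_eq_zero]
    intro l hl
    have hlift : ∀ α, ∃ (r : R) (s : S), l α = IsLocalRing.residue A (IsLocalization.mk' A r s) := fun α => by
      obtain ⟨a, ha⟩ := IsLocalRing.residue_surjective (l α)
      obtain ⟨r, s, rfl⟩ := IsLocalization.exists_mk'_eq S a
      exact ⟨r, s, ha.symm⟩
    choose r s hrs using hlift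
    have h0 : ∑ α ∈ l.support, (IsLocalization.mk' A (r α) (s α)) • LocalizedModule.mk (S := S) (one' α) 1 = 0 := by
      have h1 := congrArg (fun z : soc A (LocalizedModule S M) => em z.1) hl
      simp only [Ψ, Finsupp.lsum_apply, Finsupp.sum, Submodule.coe_sum, map_sum, ZeroMemClass.coe_zero, map_zero] at h1
      refine Eq.trans ?_ h1
      refine Finset.sum_congr rfl fun α _ => ?_
      rw [← hxe, hrs α]
      exact (map_smul em (IsLocalization.mk' A (r α) (s α)) (x α)).symm
    -- clear denominators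
    let t : {α : Λ // P α = p} → R := fun α => r α * ∏ β ∈ l.support.erase α, (s β : R)
    have h2 : LocalizedModule.mk (S := S) (∑ α ∈ l.support, t α • one' α) 1 = 0 := by
      have h3 := congrArg ((∏ β ∈ l.support, (s β : R)) • ·) h0
      simp only [smul_zero, Finset.smul_sum] at h3
      refine Eq.trans ?_ h3
      change LocalizedModule.mkLinearMap S E (∑ α ∈ l.support, t α • one' α) = _
      rw [map_sum]
      refine Finset.sum_congr rfl fun α hα => ?_
      change LocalizedModule.mk (t α • one' α) 1 = _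
      rw [← Localization.mk_eq_mk', LocalizedModule.mk_smul_mk, mul_one, LocalizedModule.smul'_mk, LocalizedModule.mk_eq]
      refine ⟨1, ?_⟩
      simp only [one_smul, Submonoid.smul_def, ← mul_smul, t, ← Finset.mul_prod_erase _ _ hα]
      congr 1
      ring
    rw [← LocalizedModule.zero_mk (1 : S), LocalizedModule.mk_eq] at h2
    obtain ⟨u, hu⟩ := h2
    simp only [one_smul, smul_zero, Submonoid.smul_def, Finset.smul_sum] at hu
    have hindep : iSupIndep fun α : {α : Λ // P α = p} => J α.1 := hind.comp Subtype.val_injective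
    have h4 : ∀ α ∈ l.support, (u : R) • t α • one' α = 0 := fun α hα => by
      have hmem : ∀ β : {α : Λ // P α = p}, (u : R) • t β • one' β ∈ J β.1 := fun β =>
        Submodule.smul_mem _ _ (Submodule.smul_mem _ _ ((hf β.1).range_le ⟨_, rfl⟩))
      have h5 : (u : R) • t α • one' α ∈ ⨆ (β) (_ : β ≠ α), J β.1 := by
        rw [← Finset.add_sum_erase _ _ hα, add_eq_zero_iff_eq_neg] at hu
        rw [hu]
        refine neg_mem (sum_mem fun β hβ => ?_)
        exact Submodule.mem_iSup_of_mem β (Submodule.mem_iSup_of_mem (Finset.ne_of_mem_erase hβ) (hmem β))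
      exact (Submodule.mem_bot R).1 ((hindep α).eq_bot ▸ ⟨hmem α, h5⟩)
    ext α
    by_contra hα
    have hαs : α ∈ l.support := Finsupp.mem_support_iff.2 hα
    have h6 := h4 α hαs
    rw [← mul_smul, (hf α.1).smul_f_one, α.2] at h6
    rcases hp.mem_or_mem h6 with h | h
    · exact u.2 h
    rcases hp.mem_or_mem h with h | h
    · refine hα ?_
      rw [hrs α, (IsLocalRing.residue_eq_zero_iff _).2 ((IsLocalization.AtPrime.mk'_mem_maximal_iff _ p.toIdeal _ _).2 h)]
      rfl
    · obtain ⟨β, -, hβ⟩ := (Ideal.IsPrime.prod_mem_iff (hp := hp)).1 h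
      exact (s β).2 hβ
  · rintro ⟨y, hy⟩
    -- the image in the envelope lies in the span of the generators
    suffices h : em y ∈ (LinearMap.range Ψ).map (em ∘ₗ (soc A (LocalizedModule S M)).subtype) by
      obtain ⟨z, ⟨w, rfl⟩, hz⟩ := h
      exact ⟨w, Subtype.ext (hem hz)⟩
    have hgen : ∀ α : {α : Λ // P α = p},
        LocalizedModule.mk (one' α) 1 ∈ (LinearMap.range Ψ).map (em ∘ₗ (soc A (LocalizedModule S M)).subtype) := by
      intro α
      refine ⟨_, ⟨Finsupp.single α (IsLocalRing.residue A 1), rfl⟩, ?_⟩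
      rw [← hxe α, show Ψ (Finsupp.single α (IsLocalRing.residue A 1)) = ev α (IsLocalRing.residue A 1) from
        Finsupp.lsum_single _ _ _ _]
      exact congrArg em (one_smul A (x α))
    have hsoc : ∀ a ∈ IsLocalRing.maximalIdeal A, a • em y = 0 := fun a ha => by
      rw [← map_smul, mem_soc.1 hy a ha, map_zero]
    generalize em y = w at hsoc ⊢
    induction w using LocalizedModule.induction_on with
    | h z s =>
      obtain ⟨T, hT⟩ : ∃ T : Λ →₀ E, (∀ α, T α ∈ J α) ∧ T.sum (fun _ v => v) = z :=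
        (Submodule.mem_iSup_iff_exists_finsupp _ _).1 (htop ▸ Submodule.mem_top)
      have hkill : ∀ c ∈ p.toIdeal, ∃ v : S, ∀ α, (v : R) • c • T α = 0 := fun c hc => by
        have h1 := hsoc (algebraMap R A c) ((IsLocalization.AtPrime.to_map_mem_maximal_iff A p.toIdeal c).2 hc)
        rw [algebraMap_smul, LocalizedModule.smul'_mk, ← LocalizedModule.zero_mk s, LocalizedModule.mk_eq] at h1
        obtain ⟨v, hv⟩ := h1
        simp only [smul_zero, Submonoid.smul_def, ← hT.2, Finsupp.sum, Finset.smul_sum] at hv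
        refine ⟨v * s, fun α => ?_⟩
        by_cases hα : α ∈ T.support
        · have hmem : ∀ β, (v : R) • (s : R) • c • T β ∈ J β := fun β =>
            Submodule.smul_mem _ _ (Submodule.smul_mem _ _ (Submodule.smul_mem _ _ (hT.1 β)))
          rw [← Finset.add_sum_erase _ _ hα, add_eq_zero_iff_eq_neg] at hv
          rw [Submonoid.coe_mul, mul_smul]
          refine (Submodule.mem_bot R).1 ((hind α).eq_bot ▸ ⟨hmem α, ?_⟩)
          change _ ∈ ⨆ (β) (_ : β ≠ α), J β
          rw [hv]
          exact neg_mem (sum_mem fun β hβ =>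
            Submodule.mem_iSup_of_mem β (Submodule.mem_iSup_of_mem (Finset.ne_of_mem_erase hβ) (hmem β)))
        · rw [Finsupp.notMem_support_iff.1 hα, smul_zero, smul_zero]
      obtain ⟨hTJ, hTz⟩ := hT
      have hmk : LocalizedModule.mk z s = ∑ α ∈ T.support, LocalizedModule.mk (S := S) (T α) s := by
        rw [← hTz, Finsupp.sum]
        have e1 : ∀ v : E, LocalizedModule.mk v s = Localization.mk (1 : R) s • LocalizedModule.mkLinearMap S E v := fun v => by
          change _ = Localization.mk (1 : R) s • LocalizedModule.mk v 1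
          rw [LocalizedModule.mk_smul_mk, one_smul, mul_one]
        simp only [e1, map_sum, Finset.smul_sum]
      rw [hmk]
      refine Submodule.sum_mem _ fun α _ => ?_
      have hzero : (∃ v : S, (v : R) • T α = 0) → LocalizedModule.mk (S := S) (T α) s = 0 := fun ⟨v, hv⟩ => by
        rw [← LocalizedModule.zero_mk s, LocalizedModule.mk_eq]
        refine ⟨v, ?_⟩
        rw [smul_zero, smul_zero, Submonoid.smul_def, Submonoid.smul_def, smul_comm, hv, smul_zero]
      by_cases hle : (P α).toIdeal ≤ p.toIdeal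
      swap
      · obtain ⟨c, hcP, hcp⟩ := SetLike.not_le_iff_exists.1 hle
        obtain ⟨n, hn⟩ := (hf α).exists_pow_smul_eq_zero (hTJ α)
        rw [hzero ⟨⟨c ^ n, fun h => hcp (hp.mem_of_pow_mem n h)⟩, hn _ (Ideal.pow_mem_pow hcP n)⟩]
        exact zero_mem _
      have hPp : ∀ c ∈ p.toIdeal, c • T α = 0 := fun c hc => by
        obtain ⟨v, hv⟩ := hkill c hc
        exact (hf α).smul_ne_zero_of_not_mem (hP α) (fun h => v.2 (hle h)) ((J α).smul_mem c (hTJ α)) (hv α)
      by_cases heq : P α = p
      swap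
      · obtain ⟨c, hcp, hcP⟩ : ∃ c ∈ p.toIdeal, c ∉ (P α).toIdeal := by
          by_contra hcon
          push Not at hcon
          exact heq (HomogeneousIdeal.ext (le_antisymm hle hcon))
        rw [show T α = 0 from (hf α).smul_ne_zero_of_not_mem (hP α) hcP (hTJ α) (hPp c hcp), LocalizedModule.zero_mk]
        exact zero_mem _
      obtain ⟨sd, hsd, -⟩ := exists_sum_cp 𝓔 (T α)
      have hcomp : ∀ d, LocalizedModule.mk (S := S) (cp 𝓔 d (T α)) s ∈
          (LinearMap.range Ψ).map (em ∘ₗ (soc A (LocalizedModule S M)).subtype) := fun d => by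
        by_cases hd : cp 𝓔 d (T α) = 0
        · rw [hd, LocalizedModule.zero_mk]; exact zero_mem _
        obtain ⟨c, b, hcb, hc0⟩ := (hf α).exists_smul_eq (cp_mem 𝓔 d _) ((hf α).isHomogeneous d (hTJ α)) hd
        have hc : c ∈ S := fun hc => hc0 (by
          obtain ⟨sc, hsc, -⟩ := exists_sum_cp 𝒜 c
          rw [← hsc, Finset.sum_smul]
          refine Finset.sum_eq_zero fun a _ => ?_
          rw [← cp_smul_hom 𝒜 𝓔 (cp_mem 𝒜 a c), show cp 𝒜 a c • T α = 0 from hPp _ (p.isHomogeneous a hc), map_zero])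
        have : LocalizedModule.mk (S := S) (cp 𝓔 d (T α)) s =
            Localization.mk b (⟨c, hc⟩ * s) • LocalizedModule.mk (one' ⟨α, heq⟩) 1 := by
          rw [LocalizedModule.mk_smul_mk, mul_one, LocalizedModule.mk_eq]
          refine ⟨1, ?_⟩
          simp only [one_smul, Submonoid.smul_def, Submonoid.coe_mul]
          rw [mul_comm c, mul_smul, hcb]
        rw [this]
        exact Submodule.smul_mem _ _ (hgen ⟨α, heq⟩)
      rw [← hsd]
      have e2 : LocalizedModule.mk (S := S) (∑ d ∈ sd, cp 𝓔 d (T α)) s =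
          Localization.mk (1 : R) s • ∑ d ∈ sd, LocalizedModule.mkLinearMap S E (cp 𝓔 d (T α)) := by
        rw [← map_sum]
        change _ = Localization.mk (1 : R) s • LocalizedModule.mk _ 1
        rw [LocalizedModule.mk_smul_mk, one_smul, mul_one]
      rw [e2, Finset.smul_sum]
      refine Submodule.sum_mem _ fun d _ => ?_
      change Localization.mk (1 : R) s • LocalizedModule.mk _ 1 ∈ _
      rw [LocalizedModule.mk_smul_mk, one_smul, mul_one]
      exact hcomp d

end Groth.L12.GrLCLib
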