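import Groth.Agent.L12.GrLCBass
import Groth.Agent.L12.GrLCExt
import Groth.Agent.L04.LC.ExtLoc

/-!
# Bass numbers from a minimal *injective resolution
-/

set_option autoImplicit false

universe u

open DirectSum CategoryTheory CategoryTheory.Abelian

namespace Groth.L12.GrLCLib

variable {ι : Type} [AddCommGroup ι] [DecidableEq ι]
variable {R : Type u} [CommRing R] [IsNoetherianRing R] {𝒜 : ι → AddSubgroup R} [GradedRing 𝒜]

section Residue

variable (p : Ideal R) [p.IsPrime]

/-- the residue field as a localised quotient -/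
theorem nonempty_residue_equiv :
    Nonempty (LocalizedModule p.primeCompl (R ⧸ p) ≃ₗ[Localization.AtPrime p]
      IsLocalRing.ResidueField (Localization.AtPrime p)) := by
  let A := Localization.AtPrime p
  let one' : LocalizedModule p.primeCompl (R ⧸ p) := LocalizedModule.mk (Ideal.Quotient.mk p 1) 1
  let ψ : A →ₗ[A] LocalizedModule p.primeCompl (R ⧸ p) := LinearMap.toSpanSingleton A _ one'
  have hψ : ∀ (r : R) (s : p.primeCompl), ψ (Localization.mk r s) = LocalizedModule.mk (Ideal.Quotient.mk p r) s := fun r s => by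
    change Localization.mk r s • one' = _
    rw [LocalizedModule.mk_smul_mk, mul_one, show r • Ideal.Quotient.mk p 1 = Ideal.Quotient.mk p (r * 1) from rfl, mul_one]
  have hsurj : Function.Surjective ψ := fun y => by
    induction y using LocalizedModule.induction_on with
    | h q s =>
      obtain ⟨r, rfl⟩ := Ideal.Quotient.mk_surjective q
      exact ⟨_, hψ r s⟩
  have hker : LinearMap.ker ψ = IsLocalRing.maximalIdeal A := by
    ext a
    induction a using Localization.induction_on with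
    | H rs =>
      obtain ⟨r, s⟩ := rs
      rw [LinearMap.mem_ker, hψ, ← LocalizedModule.zero_mk s, LocalizedModule.mk_eq, Localization.mk_eq_mk',
        IsLocalization.AtPrime.mk'_mem_maximal_iff A p]
      refine ⟨fun ⟨u, hu⟩ => ?_, fun hr => ⟨1, by rw [Ideal.Quotient.eq_zero_iff_mem.2 hr]⟩⟩
      rw [smul_zero, smul_zero, Submonoid.smul_def, Submonoid.smul_def,
        show (u : R) • (s : R) • Ideal.Quotient.mk p r = Ideal.Quotient.mk p ((u : R) * ((s : R) * r)) from rfl,
        Ideal.Quotient.eq_zero_iff_mem] at hu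
      exact ((‹p.IsPrime›.mem_or_mem hu).resolve_left u.2 |> ‹p.IsPrime›.mem_or_mem).resolve_left s.2
  exact ⟨(ψ.quotKerEquivOfSurjective hsurj).symm.trans (Submodule.quotEquivOfEq _ _ hker)⟩

end Residue

section Acyclic

variable {X : Type u} [AddCommGroup X] [Module R X] {τ : Type u} [SetLike τ X] [AddSubgroupClass τ X] {𝒳 : ι → τ}
  [DirectSum.Decomposition 𝒳] [SetLike.GradedSMul 𝒜 𝒳]

theorem subsingleton_ext_residue (hX : GrLC.IsStarInj 𝒜 𝒳) (p : HomogeneousIdeal 𝒜) [p.toIdeal.IsPrime] (i : ℕ) :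
    Subsingleton (Ext.{u} (ModuleCat.of (Localization.AtPrime p.toIdeal) (IsLocalRing.ResidueField (Localization.AtPrime p.toIdeal)))
      (ModuleCat.of (Localization.AtPrime p.toIdeal) (LocalizedModule p.toIdeal.primeCompl X)) (i + 1)) := by
  haveI h1 := subsingleton_ext_of_starInj hX i (quoG 𝒜 𝒜 p.toIdeal p.isHomogeneous)
    (inferInstanceAs (Module.Finite R (R ⧸ p.toIdeal)))
  haveI : Subsingleton (Ext.{u} (ModuleCat.of R (R ⧸ p.toIdeal)) (ModuleCat.of R X) (i + 1)) := h1
  obtain ⟨e1⟩ := Groth.L04.LC.nonempty_localized_ext_equiv p.toIdeal.primeCompl (i + 1) (R ⧸ p.toIdeal) X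
  obtain ⟨e2⟩ := nonempty_residue_equiv p.toIdeal
  have h2 : Subsingleton (LocalizedModule p.toIdeal.primeCompl (Ext.{u} (ModuleCat.of R (R ⧸ p.toIdeal)) (ModuleCat.of R X) (i + 1))) :=
    subsingleton_of_forall_eq 0 fun y => by
      induction y using LocalizedModule.induction_on with
      | h m s => rw [Subsingleton.elim m 0, LocalizedModule.zero_mk]
  have h3 := e1.symm.toEquiv.subsingleton
  refine subsingleton_of_forall_eq 0 fun x => ?_
  let iso : ModuleCat.of (Localization.AtPrime p.toIdeal) (LocalizedModule p.toIdeal.primeCompl (R ⧸ p.toIdeal)) ≅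
      ModuleCat.of (Localization.AtPrime p.toIdeal) (IsLocalRing.ResidueField (Localization.AtPrime p.toIdeal)) :=
    LinearEquiv.toModuleIso (X₁ := LocalizedModule p.toIdeal.primeCompl (R ⧸ p.toIdeal)) e2
  have h4 : (Ext.mk₀ iso.hom).comp x (zero_add (i + 1)) = 0 := @Subsingleton.elim _ h3 _ _
  have h5 := congrArg (fun y => (Ext.mk₀ iso.inv).comp y (zero_add (i + 1))) h4
  simp only [Ext.mk₀_comp_mk₀_assoc, Iso.inv_hom_id, Ext.mk₀_id_comp, Ext.comp_zero] at h5
  exact h5

end Acyclic

/-- socle elements of an essential extension come from below -/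
theorem exists_preimage_of_mem_soc {M : Type u} [AddCommGroup M] [Module R M]
    {E : Type u} [AddCommGroup E] [Module R E] {τ : Type u} [SetLike τ E] [AddSubgroupClass τ E] {𝓔 : ι → τ}
    [DirectSum.Decomposition 𝓔] [SetLike.GradedSMul 𝒜 𝓔] (e : M →ₗ[R] E)
    (hess : ∀ Q : Submodule R E, Q.IsHomogeneous 𝓔 → Q ≠ ⊥ → Q ⊓ LinearMap.range e ≠ ⊥)
    (p : HomogeneousIdeal 𝒜) [hp : p.toIdeal.IsPrime]
    {y : LocalizedModule p.toIdeal.primeCompl E} (hy : y ∈ soc (Localization.AtPrime p.toIdeal) _) :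
    y ∈ LinearMap.range (LocalizedModule.map p.toIdeal.primeCompl e) := by
  classical
  let S := p.toIdeal.primeCompl
  induction y using LocalizedModule.induction_on with
  | h z s =>
    have hkill : ∀ c ∈ p.toIdeal, ∃ v : S, (v : R) • c • z = 0 := fun c hc => by
      have h1 := mem_soc.1 hy (algebraMap R (Localization.AtPrime p.toIdeal) c)
        ((IsLocalization.AtPrime.to_map_mem_maximal_iff _ p.toIdeal c).2 hc)
      rw [algebraMap_smul, LocalizedModule.smul'_mk, ← LocalizedModule.zero_mk s, LocalizedModule.mk_eq] at h1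
      obtain ⟨v, hv⟩ := h1
      rw [smul_zero, smul_zero, Submonoid.smul_def, Submonoid.smul_def, ← mul_smul] at hv
      exact ⟨v * s, hv⟩
    obtain ⟨G, hG⟩ := IsNoetherian.noetherian p.toIdeal
    choose! v hv using hkill
    let U : S := ∏ c ∈ G, v c
    have hU : ∀ c ∈ p.toIdeal, c • (U : R) • z = 0 := fun c hc => by
      rw [← hG] at hc
      induction hc using Submodule.span_induction with
      | mem c hc =>
        have hd : (v c : R) ∣ (U : R) := by
          rw [show (U : R) = ∏ d ∈ G, (v d : R) from Submonoid.coe_finset_prod ..]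
          exact Finset.dvd_prod_of_mem _ hc
        obtain ⟨q, hq⟩ := hd
        rw [hq, ← mul_smul, show c * ((v c : R) * q) = q * ((v c : R) * c) by ring, mul_smul, mul_smul,
          hv c (hG ▸ Submodule.subset_span hc), smul_zero]
      | zero => rw [zero_smul]
      | add a b _ _ ha hb => rw [add_smul, ha, hb, add_zero]
      | smul a b _ hb => rw [smul_eq_mul, mul_smul, hb, smul_zero]
    have hhom : ∀ d, LocalizedModule.mk (S := S) (cp 𝓔 d ((U : R) • z)) (U * s) ∈
        LinearMap.range (LocalizedModule.map S e) := fun d => by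
      set w := cp 𝓔 d ((U : R) • z) with hw
      have hwp : ∀ c ∈ p.toIdeal, c • w = 0 := fun c hc => by
        obtain ⟨sc, hsc, -⟩ := exists_sum_cp 𝒜 c
        rw [← hsc, Finset.sum_smul]
        refine Finset.sum_eq_zero fun a _ => ?_
        rw [hw, ← cp_smul_hom 𝒜 𝓔 (cp_mem 𝒜 a c), show cp 𝒜 a c • (U : R) • z = 0 from hU _ (p.isHomogeneous a hc),
          map_zero]
      by_cases hzero : ∃ c : S, (c : R) • w = 0
      · obtain ⟨c, hc⟩ := hzero
        have : LocalizedModule.mk (S := S) w (U * s) = 0 := by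
          rw [← LocalizedModule.zero_mk (U * s), LocalizedModule.mk_eq]
          refine ⟨c, ?_⟩
          rw [smul_zero, smul_zero, Submonoid.smul_def, Submonoid.smul_def, smul_comm, hc, smul_zero]
        rw [this]
        exact zero_mem _
      obtain ⟨y, ⟨hy', m, hm⟩, hy0⟩ := (Submodule.ne_bot_iff _).1 (hess (R ∙ w)
        (span_isHomogeneous 𝒜 𝓔 fun x hx => ⟨d, by rw [Set.mem_singleton_iff] at hx; exact hx ▸ cp_mem 𝓔 d _⟩)
        (by
          rw [ne_eq, Submodule.span_singleton_eq_bot]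
          exact fun h0 => hzero ⟨1, by rw [h0, smul_zero]⟩))
      obtain ⟨c, rfl⟩ := Submodule.mem_span_singleton.1 hy'
      have hc : c ∈ S := fun hc => hy0 (hwp c hc)
      refine ⟨LocalizedModule.mk m (⟨c, hc⟩ * (U * s)), ?_⟩
      rw [LocalizedModule.map_mk, hm, LocalizedModule.mk_eq]
      refine ⟨1, ?_⟩
      simp only [one_smul, Submonoid.smul_def, Submonoid.coe_mul, ← mul_smul]
      congr 1
      ring
    obtain ⟨sd, hsd, -⟩ := exists_sum_cp 𝓔 ((U : R) • z)
    have hz : LocalizedModule.mk (S := S) z s = ∑ d ∈ sd, LocalizedModule.mk (S := S) (cp 𝓔 d ((U : R) • z)) (U * s) := by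
      have e1 : ∀ x : E, LocalizedModule.mk x (U * s) = Localization.mk (1 : R) (U * s) • LocalizedModule.mkLinearMap S E x := fun x => by
        change _ = Localization.mk (1 : R) (U * s) • LocalizedModule.mk x 1
        rw [LocalizedModule.mk_smul_mk, one_smul, mul_one]
      simp only [e1]
      rw [← Finset.smul_sum, ← map_sum, hsd, ← e1, LocalizedModule.mk_eq]
      refine ⟨1, ?_⟩
      simp only [one_smul, Submonoid.smul_def, Submonoid.coe_mul, ← mul_smul]
      rw [mul_comm (U : R) (s : R)]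
    rw [hz]
    exact Submodule.sum_mem _ fun d _ => hhom d

section Shift

theorem bassNum_shift {Z X Z' : Type u} [AddCommGroup Z] [Module R Z] [AddCommGroup X] [Module R X]
    [AddCommGroup Z'] [Module R Z'] {τ : Type u} [SetLike τ X] [AddSubgroupClass τ X] {𝒳 : ι → τ}
    [DirectSum.Decomposition 𝒳] [SetLike.GradedSMul 𝒜 𝒳] (hX : GrLC.IsStarInj 𝒜 𝒳)
    (f : Z →ₗ[R] X) (g : X →ₗ[R] Z') (hf : Function.Injective f) (hg : Function.Surjective g) (hfg : Function.Exact f g)
    (hess : ∀ Q : Submodule R X, Q.IsHomogeneous 𝒳 → Q ≠ ⊥ → Q ⊓ LinearMap.range f ≠ ⊥)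
    (p : HomogeneousIdeal 𝒜) [p.toIdeal.IsPrime] (i : ℕ) :
    GrLC.bassNum p.toIdeal Z (i + 1) = GrLC.bassNum p.toIdeal Z' i := by
  let A := Localization.AtPrime p.toIdeal
  let K := ModuleCat.of A (IsLocalRing.ResidueField A)
  let S := p.toIdeal.primeCompl
  have hS := Groth.L04.LC.ses_shortExact (LocalizedModule.map S f) (LocalizedModule.map S g)
    (LocalizedModule.map_injective S f hf) (LocalizedModule.map_surjective S g hg) (LocalizedModule.map_exact S f g hfg)
  have hacy := fun j => subsingleton_ext_residue (𝒳 := 𝒳) hX p j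
  let ψ : Ext.{u} K (ModuleCat.of A (LocalizedModule S Z')) i →ₗ[A] Ext.{u} K (ModuleCat.of A (LocalizedModule S Z)) (i + 1) :=
    hS.extClass.postcompOfLinear A K rfl
  have hinj : Function.Injective ψ := by
    rw [injective_iff_map_eq_zero]
    intro x hx
    obtain ⟨x₂, rfl⟩ := Ext.covariant_sequence_exact₃ K hS x rfl hx
    cases i with
    | zero =>
      obtain ⟨φ, rfl⟩ := (Ext.mk₀_bijective _ _).2 x₂
      rw [Ext.mk₀_comp_mk₀, Ext.mk₀_eq_zero_iff]
      refine ModuleCat.hom_ext (LinearMap.ext fun t => ?_)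
      have hsoc : φ.hom t ∈ soc A (LocalizedModule S X) := mem_soc.2 fun a ha => by
        rw [← φ.hom.map_smul]
        have : a • (show IsLocalRing.ResidueField A from t) = 0 := by
          obtain ⟨b, hb⟩ := IsLocalRing.residue_surjective (show IsLocalRing.ResidueField A from t)
          rw [← hb, show a • IsLocalRing.residue A b = IsLocalRing.residue A (a * b) from rfl,
            IsLocalRing.residue_eq_zero_iff]
          exact Ideal.mul_mem_right _ _ ha
        exact (congrArg φ.hom this).trans (map_zero _)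
      obtain ⟨z, hz⟩ := exists_preimage_of_mem_soc f hess p hsoc
      change LocalizedModule.map S g (φ.hom t) = 0
      rw [← hz]
      exact (LocalizedModule.map_exact S f g hfg).apply_apply_eq_zero z
    | succ j => rw [@Subsingleton.elim _ (hacy j) x₂ 0, Ext.zero_comp]
  have hsurj : Function.Surjective ψ := fun y => by
    obtain ⟨x₃, hx₃⟩ := Ext.covariant_sequence_exact₁ K hS y (@Subsingleton.elim _ (hacy i) _ _) rfl
    exact ⟨x₃, hx₃⟩
  exact (LinearEquiv.length_eq (LinearEquiv.ofBijective ψ ⟨hinj, hsurj⟩)).symm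

theorem bassNum_congr {Z Z' : Type u} [AddCommGroup Z] [Module R Z] [AddCommGroup Z'] [Module R Z'] (e : Z ≃ₗ[R] Z')
    (p : Ideal R) [p.IsPrime] (i : ℕ) : GrLC.bassNum p Z i = GrLC.bassNum p Z' i := by
  let ep := Groth.L04.LC.locEquiv p.primeCompl e
  refine LinearEquiv.length_eq ?_
  refine LinearEquiv.ofBijective
    ((Ext.mk₀ (ModuleCat.ofHom ep.toLinearMap)).postcompOfLinear (Localization.AtPrime p) _ (add_zero i)) ⟨?_, ?_⟩
  · refine Function.LeftInverse.injective
      (g := (Ext.mk₀ (ModuleCat.ofHom ep.symm.toLinearMap)).postcompOfLinear (Localization.AtPrime p) _ (add_zero i)) fun x => ?_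
    change (x.comp (Ext.mk₀ _) (add_zero i)).comp (Ext.mk₀ _) (add_zero i) = x
    rw [Ext.comp_assoc_of_second_deg_zero, Ext.mk₀_comp_mk₀, ← ModuleCat.ofHom_comp, LinearEquiv.comp_coe,
      LinearEquiv.self_trans_symm, LinearEquiv.refl_toLinearMap, ModuleCat.ofHom_id, Ext.comp_mk₀_id]
  · refine Function.RightInverse.surjective
      (g := (Ext.mk₀ (ModuleCat.ofHom ep.symm.toLinearMap)).postcompOfLinear (Localization.AtPrime p) _ (add_zero i)) fun x => ?_
    change (x.comp (Ext.mk₀ _) (add_zero i)).comp (Ext.mk₀ _) (add_zero i) = x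
    rw [Ext.comp_assoc_of_second_deg_zero, Ext.mk₀_comp_mk₀, ← ModuleCat.ofHom_comp, LinearEquiv.comp_coe,
      LinearEquiv.symm_trans_self, LinearEquiv.refl_toLinearMap, ModuleCat.ofHom_id, Ext.comp_mk₀_id]

theorem bassNum_eq_bassNum_ker {M : Type u} [AddCommGroup M] [Module R M] {ℳ : ι → AddSubgroup M}
    [DirectSum.Decomposition ℳ] [SetLike.GradedSMul 𝒜 ℳ] (E : GrLC.StarInjRes 𝒜 ℳ)
    (hmin0 : ∀ P : Submodule R (E.X 0).carrier, P.IsHomogeneous (E.X 0).gr → P ≠ ⊥ → P ⊓ LinearMap.range E.ε ≠ ⊥)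
    (hmin : ∀ (n : ℕ) (P : Submodule R (E.X (n + 1)).carrier), P.IsHomogeneous (E.X (n + 1)).gr → P ≠ ⊥ →
      P ⊓ LinearMap.range (E.d n) ≠ ⊥)
    (p : HomogeneousIdeal 𝒜) [p.toIdeal.IsPrime] (j : ℕ) :
    GrLC.bassNum p.toIdeal M j = GrLC.bassNum p.toIdeal (LinearMap.ker (E.d j)) 0 := by
  have hess : ∀ n, ∀ Q : Submodule R (E.X n).carrier, Q.IsHomogeneous (E.X n).gr → Q ≠ ⊥ →
      Q ⊓ LinearMap.range (LinearMap.ker (E.d n)).subtype ≠ ⊥ := fun n Q hQ hQ0 => by
    rw [Submodule.range_subtype]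
    cases n with
    | zero => rw [E.exact_zero]; exact hmin0 Q hQ hQ0
    | succ n => rw [E.exact_succ n]; exact hmin n Q hQ hQ0
  have step : ∀ n i, GrLC.bassNum p.toIdeal (LinearMap.ker (E.d n)) (i + 1) =
      GrLC.bassNum p.toIdeal (LinearMap.ker (E.d (n + 1))) i := fun n i => by
    let g : (E.X n).carrier →ₗ[R] LinearMap.ker (E.d (n + 1)) := (E.d n).codRestrict _ fun x => by
      rw [E.exact_succ n]
      exact LinearMap.mem_range_self _ x
    refine bassNum_shift (𝒳 := (E.X n).gr) (E.starInj n) (LinearMap.ker (E.d n)).subtype g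
      (LinearMap.ker (E.d n)).injective_subtype (fun y => ?_) (fun x => ?_) (hess n) p i
    · obtain ⟨x, hx⟩ : y.1 ∈ LinearMap.range (E.d n) := E.exact_succ n ▸ y.2
      exact ⟨x, Subtype.ext hx⟩
    · exact ⟨fun h => ⟨⟨x, congrArg Subtype.val h⟩, rfl⟩, fun ⟨z, hz⟩ => Subtype.ext (hz ▸ z.2)⟩
  have hiter : ∀ n i, GrLC.bassNum p.toIdeal (LinearMap.ker (E.d 0)) (i + n) =
      GrLC.bassNum p.toIdeal (LinearMap.ker (E.d n)) i := by
    intro n
    induction n with
    | zero => intro i; rfl
    | succ n ih => intro i; rw [← step n i, ← ih (i + 1), Nat.add_right_comm]; rfl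
  rw [← hiter j 0, Nat.zero_add j]
  refine bassNum_congr ?_ p.toIdeal j
  exact (LinearEquiv.ofInjective E.ε E.ε_injective).trans (LinearEquiv.ofEq _ _ E.exact_zero.symm)

end Shift

end Groth.L12.GrLCLib
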