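import Groth.Agent.L12.GrLCVerGor
import Groth.Agent.L12.GrLCExt
import Mathlib.LinearAlgebra.Basis.VectorSpace

/-!
# *canonical modules of graded Gorenstein rings
-/

set_option autoImplicit false

universe u

open DirectSum

namespace Groth.L12.GrLCLib

variable {R : Type u} [CommRing R] {𝒜 : ℤ → AddSubgroup R} [GradedRing 𝒜]
variable {C : Type u} [AddCommGroup C] [Module R C] {𝒞 : ℤ → AddSubgroup C} [DirectSum.Decomposition 𝒞]
  [SetLike.GradedSMul 𝒜 𝒞]
variable {m : HomogeneousIdeal 𝒜}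

/-- degrees of `m C` lie above those of `C` -/
theorem eq_bot_of_le_smul (hpos : ∀ n : ℤ, n < 0 → 𝒜 n = ⊥)
    (hm : m.toIdeal = Ideal.span (⋃ n ∈ Set.Ioi (0 : ℤ), (𝒜 n : Set R))) [Module.Finite R C]
    (N : Submodule R C) (hN : N.IsHomogeneous 𝒞) (h : ∀ z : C, z ∈ m.toIdeal • (⊤ : Submodule R C) ⊔ N) : N = ⊤ := by
  classical
  obtain ⟨n, deg, x, hx, hspan⟩ := exists_homog_gens 𝒞 (P := (⊤ : Submodule R C)) (fun _ _ _ => trivial) Module.Finite.fg_top
  by_contra hne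
  have hex : ∃ b, x b ∉ N := by
    by_contra hcon
    push Not at hcon
    exact hne (eq_top_iff.2 (hspan ▸ Submodule.span_le.2 (Set.range_subset_iff.2 hcon)))
  obtain ⟨b, hb, hmin⟩ := (Finset.univ.filter fun b => x b ∉ N).exists_min_image deg
    (hex.elim fun b hb => ⟨b, Finset.mem_filter.2 ⟨Finset.mem_univ b, hb⟩⟩)
  have hlow : ∀ (z : C) (d : ℤ), d < deg b → cp 𝒞 d z ∈ N := by
    intro z d hd
    have hz : z ∈ Submodule.span R (Set.range x) := hspan ▸ Submodule.mem_top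
    induction hz using Submodule.span_induction generalizing d with
    | mem w hw =>
      obtain ⟨c, rfl⟩ := hw
      by_cases hc : x c ∈ N
      · exact hN d hc
      · rw [cp_ne 𝒞 (hx c) fun e => absurd (hmin c (Finset.mem_filter.2 ⟨Finset.mem_univ c, hc⟩)) (by omega)]
        exact N.zero_mem
    | zero => rw [map_zero]; exact N.zero_mem
    | add u v _ _ hu hv => rw [map_add]; exact add_mem (hu d hd) (hv d hd)
    | smul r u _ hu =>
      induction r using induction_on_hom 𝒜 with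
      | h0 => rw [zero_smul, map_zero]; exact N.zero_mem
      | ha a a' ha ha' => rw [add_smul, map_add]; exact add_mem ha ha'
      | hh e r hr =>
        rw [cp_smul_hom' 𝒜 𝒞 hr]
        by_cases he : 0 ≤ e
        · exact N.smul_mem _ (hu _ (by omega))
        · rw [hpos e (not_le.1 he), AddSubgroup.mem_bot] at hr
          rw [hr, zero_smul]; exact N.zero_mem
  have hmC : ∀ z ∈ m.toIdeal • (⊤ : Submodule R C), cp 𝒞 (deg b) z ∈ N := by
    intro z hz
    refine Submodule.smul_induction_on hz (fun r hr w _ => ?_) (fun u v hu hv => by rw [map_add]; exact add_mem hu hv)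
    · rw [hm] at hr
      induction hr using Submodule.span_induction generalizing w with
      | mem r hr =>
        obtain ⟨e, he, hre⟩ := Set.mem_iUnion₂.1 hr
        rw [cp_smul_hom' 𝒜 𝒞 hre]
        exact N.smul_mem _ (hlow w _ (by have : (0 : ℤ) < e := he; omega))
      | zero => rw [zero_smul, map_zero]; exact N.zero_mem
      | add r r' _ _ hr hr' => rw [add_smul, map_add]; exact add_mem (hr w Submodule.mem_top) (hr' w Submodule.mem_top)
      | smul a r _ hr => rw [smul_eq_mul, mul_comm, mul_smul]; exact hr _ Submodule.mem_top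
  refine (Finset.mem_filter.1 hb).2 ?_
  obtain ⟨u, hu, v, hv, huv⟩ := Submodule.mem_sup.1 (h (x b))
  rw [← cp_same 𝒞 (hx b), ← huv, map_add]
  exact add_mem (hmC u hu) (hN _ hv)

variable {X : Type u} [AddCommGroup X] [Module R X] {𝒳 : ℤ → AddSubgroup X} [DirectSum.Decomposition 𝒳]
  [SetLike.GradedSMul 𝒜 𝒳]

/-- elements of a dual killed by `m` sit in the line -/
theorem IsDual.killed_mem_line (hX : IsDual 𝒜 𝒳) (hpos : ∀ n : ℤ, n < 0 → 𝒜 n = ⊥)
    (hm : m.toIdeal = Ideal.span (⋃ n ∈ Set.Ioi (0 : ℤ), (𝒜 n : Set R))) {x : X} (hx : ∀ c ∈ m.toIdeal, c • x = 0) :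
    x ∈ 𝒳 0 := by
  have h1 : cp 𝒳 0 x = x := by
    rw [← sub_eq_zero]
    refine eq_zero_of_cp 𝒳 fun g => ?_
    rw [map_sub]
    by_cases hg : g = 0
    · subst hg; rw [cp_same 𝒳 (cp_mem 𝒳 0 x), sub_self]
    · rw [cp_ne 𝒳 (cp_mem 𝒳 0 x) (Ne.symm hg), zero_sub, neg_eq_zero]
      refine hX.uniq g _ (cp_mem 𝒳 g x) fun c hc => ?_
      rcases lt_or_gt_of_ne hg with h | h
      · have hcm : c ∈ m.toIdeal := hm ▸ Ideal.subset_span (Set.mem_iUnion₂.2 ⟨-g, (by simpa using h : (0 : ℤ) < -g), hc⟩)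
        rw [← cp_smul_hom 𝒜 𝒳 hc, hx c hcm, map_zero]
      · rw [hpos _ (by omega), AddSubgroup.mem_bot] at hc
        rw [hc, zero_smul]
  exact h1 ▸ cp_mem 𝒳 0 x

/-- `Hom(C, X) ≅ X` forces `C` to be free of rank one -/
theorem exists_free_of_hom_equiv [IsNoetherianRing R] [Module.Finite R C] (hpos : ∀ n : ℤ, n < 0 → 𝒜 n = ⊥)
    (h0 : IsField (GrLC.deg0 𝒜)) (hm : m.toIdeal = Ideal.span (⋃ n ∈ Set.Ioi (0 : ℤ), (𝒜 n : Set R)))
    (hX : IsDual 𝒜 𝒳) (Φ : (C →ₗ[R] X) ≃ₗ[R] X) :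
    ∃ (a : ℤ) (f : R →ₗ[R] C), Function.Bijective f ∧ GrLC.IsGrHomDeg 𝒜 𝒞 f a := by
  classical
  letI : Field (GrLC.deg0 𝒜) := h0.toField
  obtain ⟨u, hu, hune, hline⟩ := hX.line
  have hu_m : ∀ c ∈ m.toIdeal, c • u = 0 := by
    intro c hc
    rw [hm] at hc
    induction hc using Submodule.span_induction with
    | mem c hc =>
      obtain ⟨e, he, hce⟩ := Set.mem_iUnion₂.1 hc
      have he' : (0 : ℤ) < e := he
      refine hX.uniq e _ (by have := smul_mem' 𝒜 𝒳 hce hu; rwa [add_zero] at this) fun d hd => ?_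
      rw [hpos _ (by omega), AddSubgroup.mem_bot] at hd
      rw [hd, zero_smul]
    | zero => rw [zero_smul]
    | add a b _ _ ha hb => rw [add_smul, ha, hb, add_zero]
    | smul a b _ hb => rw [smul_eq_mul, mul_smul, hb, smul_zero]
  have hsocle : ∀ x : X, (∀ c ∈ m.toIdeal, c • x = 0) → ∃ r ∈ 𝒜 0, r • u = x :=
    fun x hx => hline x (hX.killed_mem_line hpos hm hx)
  let mC : Submodule R C := m.toIdeal • ⊤
  -- separating functionals
  have hsep : ∀ (g : ℤ) (W : Submodule R C) (z : C), z ∈ 𝒞 g → z ∉ W → mC ≤ W →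
      ∃ ψ : C →ₗ[R] X, (∀ c ∈ m.toIdeal, c • ψ = 0) ∧ ψ z ≠ 0 ∧ (∀ w ∈ W, w ∈ 𝒞 g → ψ w = 0) ∧
        ∀ d ≠ g, ∀ w ∈ 𝒞 d, ψ w = 0 := by
    intro g W z hz hzW hW
    let C0 : Submodule (GrLC.deg0 𝒜) C := GrLC.comp 𝒜 𝒞 g
    let W0 : Submodule (GrLC.deg0 𝒜) C0 := (W.restrictScalars (GrLC.deg0 𝒜)).comap C0.subtype
    obtain ⟨lam, hlam, hker⟩ := Submodule.exists_le_ker_of_notMem (p := W0) (v := (⟨z, hz⟩ : C0)) hzW
    let N : GrLC.GMod.{u} 𝒜 := shG 𝒜 𝒞 g
    let μ : N.carrier → X := fun n => if hn : (n : C) ∈ 𝒞 g then ((lam ⟨(n : C), hn⟩ : GrLC.deg0 𝒜) : R) • u else 0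
    have hμ : ∀ (n : C) (hn : n ∈ 𝒞 g), μ (n : N.carrier) = ((lam ⟨n, hn⟩ : GrLC.deg0 𝒜) : R) • u := fun n hn => dif_pos hn
    have h00 : ∀ n : N.carrier, n ∈ N.gr 0 → (n : C) ∈ 𝒞 g := fun n hn => by
      have h1 : (n : C) ∈ 𝒞 (0 + g) := hn
      rwa [zero_add] at h1
    obtain ⟨f, hf, hf0⟩ := hX.exists_hom (𝒩 := N.gr) μ (fun n hn => by
        rw [hμ n (h00 n hn)]
        have h1 := smul_mem' 𝒜 𝒳 (lam ⟨_, h00 n hn⟩).2 hu
        rwa [add_zero] at h1)
      (fun a ha b hb => by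
        rw [hμ a (h00 a ha), hμ b (h00 b hb)]
        refine (hμ _ (add_mem (h00 a ha) (h00 b hb))).trans ?_
        rw [← add_smul]
        exact congrArg (· • u) (congrArg Subtype.val (lam.map_add ⟨_, h00 a ha⟩ ⟨_, h00 b hb⟩)))
      (fun r hr n hn => by
        have hrn : r • (n : C) ∈ 𝒞 g := by have := smul_mem' 𝒜 𝒞 hr (h00 n hn); rwa [zero_add] at this
        refine (hμ _ hrn).trans ?_
        rw [hμ n (h00 n hn), ← mul_smul]
        exact congrArg (· • u) (congrArg Subtype.val (lam.map_smul (⟨r, hr⟩ : GrLC.deg0 𝒜) ⟨_, h00 n hn⟩)))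
    let ψ : C →ₗ[R] X := f
    have hψ0 : ∀ w (hw : w ∈ 𝒞 g), ψ w = ((lam ⟨w, hw⟩ : GrLC.deg0 𝒜) : R) • u := fun w hw =>
      (hf0 w (show w ∈ 𝒞 (0 + g) by rwa [zero_add])).trans (hμ w hw)
    have hψW : ∀ w ∈ W, w ∈ 𝒞 g → ψ w = 0 := fun w hwW hw => by
      rw [hψ0 w hw, show lam ⟨w, hw⟩ = 0 from hker (show (⟨w, hw⟩ : C0) ∈ W0 from hwW)]
      exact zero_smul R u
    have hψm : ∀ c ∈ m.toIdeal, c • ψ = 0 := fun c hc => LinearMap.ext fun w => by
      rw [LinearMap.smul_apply, LinearMap.zero_apply, ← map_smul]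
      obtain ⟨s, hs, -⟩ := exists_sum_cp 𝒞 (c • w)
      rw [← hs, map_sum]
      refine Finset.sum_eq_zero fun d _ => ?_
      have hmem : cp 𝒞 d (c • w) ∈ mC := by
        have hh : mC.IsHomogeneous 𝒞 := by
          intro i y hy
          change cp 𝒞 i y ∈ mC
          refine Submodule.smul_induction_on hy (fun r hr v _ => ?_) (fun a b ha hb => by rw [map_add]; exact add_mem ha hb)
          · obtain ⟨t, ht, -⟩ := exists_sum_cp 𝒜 r
            rw [← ht, Finset.sum_smul, map_sum]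
            refine mC.sum_mem fun e _ => ?_
            rw [cp_smul_hom' 𝒜 𝒞 (cp_mem 𝒜 e r)]
            exact Submodule.smul_mem_smul (m.isHomogeneous e hr) Submodule.mem_top
        exact hh d (Submodule.smul_mem_smul hc Submodule.mem_top)
      set y := cp 𝒞 d (c • w)
      have hy : y ∈ 𝒞 d := cp_mem 𝒞 d _
      refine hX.uniq (d - g) _ (hf (d - g) y (show y ∈ 𝒞 (d - g + g) by rwa [sub_add_cancel])) fun b hb => ?_
      rw [← map_smul]
      have hby : b • y ∈ 𝒞 g := by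
        have := smul_mem' 𝒜 𝒞 hb hy
        rwa [show -(d - g) + d = g by ring] at this
      exact hψW _ (W.smul_mem b (hW hmem)) hby
    refine ⟨ψ, hψm, fun h => ?_, hψW, fun d hd w hw => ?_⟩
    rotate_left
    · refine eq_zero_of_mem_mem 𝒳 (hf (d - g) w (show w ∈ 𝒞 (d - g + g) by rwa [sub_add_cancel]))
        (hX.killed_mem_line hpos hm fun c hc => by rw [← LinearMap.smul_apply, hψm c hc, LinearMap.zero_apply]) ?_
      omega
    · rw [hψ0 z hz] at h
      refine hlam (by_contra fun hne => hune ?_)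
      obtain ⟨b, hb⟩ := h0.mul_inv_cancel hne
      have h2 := congrArg ((b : R) • ·) h
      simp only [smul_zero, ← mul_smul] at h2
      rwa [mul_comm, show ((lam ⟨z, hz⟩ : GrLC.deg0 𝒜) : R) * (b : R) = 1 from congrArg Subtype.val hb, one_smul] at h2
  -- killed homomorphisms form a line
  have hlineHom : ∀ ψ ψ' : C →ₗ[R] X, (∀ c ∈ m.toIdeal, c • ψ = 0) → (∀ c ∈ m.toIdeal, c • ψ' = 0) → ψ' ≠ 0 →
      ∃ t : R, ψ = t • ψ' := by
    intro ψ ψ' hψ hψ' hne
    obtain ⟨r, hr, hru⟩ := hsocle (Φ ψ) fun c hc => by rw [← map_smul, hψ c hc, map_zero]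
    obtain ⟨s, hs, hsu⟩ := hsocle (Φ ψ') fun c hc => by rw [← map_smul, hψ' c hc, map_zero]
    obtain ⟨b, hb⟩ := h0.mul_inv_cancel (a := (⟨s, hs⟩ : GrLC.deg0 𝒜)) (fun h => hne (Φ.injective (by
      rw [← hsu, show s = 0 from congrArg Subtype.val h, zero_smul, map_zero])))
    refine ⟨r * b, Φ.injective ?_⟩
    rw [map_smul, ← hsu, ← hru, ← mul_smul, mul_assoc, mul_comm (b : R) s,
      show s * (b : R) = 1 from congrArg Subtype.val hb, mul_one]
  have hne : Nontrivial (C →ₗ[R] X) := ⟨⟨Φ.symm u, 0, fun h => hune (by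
    rw [← Φ.apply_symm_apply u, h, map_zero])⟩⟩
  obtain ⟨a, c, hca, hcm⟩ : ∃ a c, c ∈ 𝒞 a ∧ c ∉ mC := by
    by_contra hcon
    push Not at hcon
    have h1 : (⊥ : Submodule R C) = ⊤ := eq_bot_of_le_smul (𝒜 := 𝒜) (𝒞 := 𝒞) hpos hm ⊥ (fun i x hx => by
      rw [(Submodule.mem_bot R).1 hx]; simp) fun z => by
      rw [sup_bot_eq]
      obtain ⟨s, hs, -⟩ := exists_sum_cp 𝒞 z
      exact hs ▸ mC.sum_mem fun d _ => hcon d _ (cp_mem 𝒞 d z)
    haveI : Subsingleton C := subsingleton_of_forall_eq 0 fun z => (Submodule.mem_bot R).1 (h1.ge Submodule.mem_top)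
    exact not_subsingleton (C →ₗ[R] X) ⟨fun f g => LinearMap.ext fun z => by rw [Subsingleton.elim z 0, map_zero, map_zero]⟩
  obtain ⟨ψ₁, hψ₁, hψ₁c, -, hψ₁o⟩ := hsep a mC c hca hcm le_rfl
  have hgen : Submodule.span R {c} = ⊤ := by
    refine eq_bot_of_le_smul hpos hm _ (span_isHomogeneous 𝒜 𝒞 fun y hy => ⟨a, (Set.mem_singleton_iff.1 hy).symm ▸ hca⟩) fun z => ?_
    obtain ⟨s, hs, -⟩ := exists_sum_cp 𝒞 z
    refine hs ▸ Submodule.sum_mem _ fun d _ => by_contra fun hz => ?_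
    obtain ⟨ψ₂, hψ₂, hψ₂z, hψ₂W, -⟩ := hsep d (mC ⊔ Submodule.span R {c}) (cp 𝒞 d z) (cp_mem 𝒞 d z) hz le_sup_left
    have hψ₁0 : ψ₁ ≠ 0 := fun h => hψ₁c (by rw [h]; rfl)
    obtain ⟨t, ht⟩ := hlineHom ψ₂ ψ₁ hψ₂ hψ₁ hψ₁0
    have hcc : c ∈ mC ⊔ Submodule.span R {c} := Submodule.mem_sup_right (Submodule.mem_span_singleton_self c)
    by_cases hda : d = a
    · subst hda
      have h1 : t • ψ₁ c = 0 := by
        rw [← LinearMap.smul_apply, ← ht]
        exact hψ₂W c hcc hca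
      -- `t` lies in `m`
      obtain ⟨r, hr, hru⟩ := hsocle (ψ₁ c) fun b hb => by rw [← LinearMap.smul_apply, hψ₁ b hb]; rfl
      have ht0 : cp 𝒜 0 t = 0 := by
        by_contra h0t
        obtain ⟨b, hb⟩ := h0.mul_inv_cancel (a := (⟨_, cp_mem 𝒜 0 t⟩ : GrLC.deg0 𝒜)) fun e => h0t (congrArg Subtype.val e)
        refine hψ₁c ?_
        have h2 : cp 𝒜 0 t • ψ₁ c = 0 := by
          have := sub_cp_zero_mem_posIdeal hpos t
          have h3 : (t - cp 𝒜 0 t) • ψ₁ c = 0 := by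
            rw [← LinearMap.smul_apply, hψ₁ _ (hm ▸ this)]; rfl
          rwa [sub_smul, h1, zero_sub, neg_eq_zero] at h3
        have h4 := congrArg ((b : R) • ·) h2
        simp only [smul_zero, ← mul_smul] at h4
        rwa [mul_comm, show cp 𝒜 0 t * (b : R) = 1 from congrArg Subtype.val hb, one_smul] at h4
      refine hψ₂z ?_
      rw [ht, LinearMap.smul_apply, ← map_smul]
      have := sub_cp_zero_mem_posIdeal hpos t
      rw [ht0, sub_zero] at this
      rw [map_smul, ← LinearMap.smul_apply, hψ₁ _ (hm ▸ this)]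
      rfl
    · refine hψ₂z ?_
      rw [ht, LinearMap.smul_apply, hψ₁o d hda _ (cp_mem 𝒞 d z), smul_zero]
  have hfaith : ∀ r : R, r • c = 0 → r = 0 := by
    intro r hr
    have hkill : ∀ x : X, r • x = 0 := fun x => by
      obtain ⟨f, rfl⟩ := Φ.surjective x
      rw [← map_smul, show r • f = 0 from LinearMap.ext fun z => by
        obtain ⟨b, rfl⟩ := Submodule.mem_span_singleton.1 (hgen.ge (Submodule.mem_top : z ∈ ⊤))
        rw [LinearMap.smul_apply, LinearMap.zero_apply, ← map_smul, smul_comm, hr, smul_zero, map_zero], map_zero]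
    refine eq_zero_of_cp 𝒜 fun d => by_contra fun hd => ?_
    let R0 : Submodule (GrLC.deg0 𝒜) R := GrLC.comp 𝒜 𝒜 d
    obtain ⟨lam, hlam, -⟩ := Submodule.exists_le_ker_of_notMem (p := (⊥ : Submodule (GrLC.deg0 𝒜) R0))
      (v := (⟨_, cp_mem 𝒜 d r⟩ : R0)) (fun h => hd (congrArg Subtype.val ((Submodule.mem_bot _).1 h)))
    let L : R → X := fun v => if hv : v ∈ 𝒜 d then ((lam ⟨v, hv⟩ : GrLC.deg0 𝒜) : R) • u else 0
    have hL : ∀ v (hv : v ∈ 𝒜 d), L v = ((lam ⟨v, hv⟩ : GrLC.deg0 𝒜) : R) • u := fun v hv => dif_pos hv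
    obtain ⟨x, hx, hxL⟩ := hX.exist (-d) L (fun v hv => by
        rw [neg_neg] at hv; rw [hL v hv]
        have h1 := smul_mem' 𝒜 𝒳 (lam ⟨v, hv⟩).2 hu
        rwa [add_zero] at h1)
      (fun v hv w hw => by
        rw [neg_neg] at hv hw
        rw [hL v hv, hL w hw, hL _ (add_mem hv hw), ← add_smul]
        exact congrArg (· • u) (congrArg Subtype.val (lam.map_add ⟨v, hv⟩ ⟨w, hw⟩)))
      (fun s hs v hv => by
        rw [neg_neg] at hv
        have hsv : s * v ∈ 𝒜 d := by have := SetLike.mul_mem_graded hs hv; rwa [zero_add] at this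
        rw [hL v hv, hL _ hsv, ← mul_smul]
        exact congrArg (· • u) (congrArg Subtype.val (lam.map_smul (⟨s, hs⟩ : GrLC.deg0 𝒜) ⟨v, hv⟩)))
    have h1 : cp 𝒜 d r • x = 0 := by
      have h2 := cp_smul_mem 𝒜 𝒳 r hx 0
      rw [hkill, map_zero, sub_neg_eq_add, zero_add] at h2
      exact h2.symm
    rw [hxL _ (by rw [neg_neg]; exact cp_mem 𝒜 d r), hL _ (cp_mem 𝒜 d r)] at h1
    obtain ⟨b, hb⟩ := h0.mul_inv_cancel hlam
    have h2 := congrArg ((b : R) • ·) h1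
    simp only [smul_zero, ← mul_smul] at h2
    rw [mul_comm, show ((lam ⟨_, cp_mem 𝒜 d r⟩ : GrLC.deg0 𝒜) : R) * (b : R) = 1 from congrArg Subtype.val hb, one_smul] at h2
    exact hune h2
  refine ⟨a, LinearMap.toSpanSingleton R C c, ⟨(injective_iff_map_eq_zero _).2 hfaith, fun z => ?_⟩, fun d r hr => smul_mem' 𝒜 𝒞 hr hca⟩
  exact Submodule.mem_span_singleton.1 (hgen.ge Submodule.mem_top)

end Groth.L12.GrLCLib
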