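import Groth.Agent.L12.GrLCVerH
import Mathlib.LinearAlgebra.Dimension.Finrank

/-!
# Dimensions of pieces of Veronese local cohomology
-/

set_option autoImplicit false

universe u

namespace Groth.L12.GrLCLib

variable {R : Type u} [CommRing R] {𝒜 : ℤ → AddSubgroup R} [GradedRing 𝒜]
variable {R' : Type u} [CommRing R'] {𝒜' : ℤ → AddSubgroup R'} [GradedRing 𝒜'] [Algebra R' R] {q : ℕ}

/-- degree zero parts of a Veronese subring agree -/
noncomputable def verDeg0 (h : IsVer 𝒜 𝒜' q) : GrLC.deg0 𝒜' ≃+* GrLC.deg0 𝒜 :=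
  RingEquiv.ofBijective
    (((algebraMap R' R).comp (GrLC.deg0 𝒜').subtype).codRestrict (GrLC.deg0 𝒜) fun r => by
      have h0 := h.mem 0 _ r.2
      rw [zero_mul] at h0
      exact h0)
    ⟨fun _ _ e => Subtype.ext (h.inj (congrArg Subtype.val e)), fun y => by
      obtain ⟨r, hr, hry⟩ := h.surj 0 y.1 (by rw [zero_mul]; exact y.2)
      exact ⟨⟨r, hr⟩, Subtype.ext hry⟩⟩

lemma verDeg0_apply (h : IsVer 𝒜 𝒜' q) (r : GrLC.deg0 𝒜') : (verDeg0 h r : R) = algebraMap R' R r := rfl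

/-- finrank is preserved by semilinear bijections of pieces -/
theorem finrank_comp_eq (h : IsVer 𝒜 𝒜' q) {X' X : Type u} [AddCommGroup X'] [Module R' X'] [AddCommGroup X] [Module R X]
    (N' : Submodule (GrLC.deg0 𝒜') X') (N : Submodule (GrLC.deg0 𝒜) X) (Θ : X' →ₛₗ[algebraMap R' R] X)
    (hΘ : Function.Injective Θ) (hN : (N'.toAddSubgroup).map (Θ : X' →+ X) = N.toAddSubgroup) :
    Module.finrank (GrLC.deg0 𝒜') N' = Module.finrank (GrLC.deg0 𝒜) N := by
  let f : N' →+ N := AddMonoidHom.mk' (fun x => ⟨Θ x, hN.le (AddSubgroup.mem_map_of_mem _ x.2)⟩)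
    fun x y => Subtype.ext (map_add Θ _ _)
  have hf : Function.Bijective f := ⟨fun x y e => Subtype.ext (hΘ (congrArg Subtype.val e)), fun y => by
    obtain ⟨x, hx, hxy⟩ := AddSubgroup.mem_map.1 (hN.ge y.2)
    exact ⟨⟨x, hx⟩, Subtype.ext hxy⟩⟩
  refine congrArg Cardinal.toNat (rank_eq_of_equiv_equiv (verDeg0 h) (AddEquiv.ofBijective f hf) (verDeg0 h).bijective fun r x => ?_)
  exact Subtype.ext ((Θ.map_smulₛₗ (r : R') (x : X')).trans rfl)

end Groth.L12.GrLCLib
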