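import Groth.Agent.L12.GrLCVerGor
import Groth.Agent.L12.GrLCVerDim
import Groth.Agent.L12.GrLCPos
import Mathlib.RingTheory.Length
import Mathlib.LinearAlgebra.Dual.Lemmas

/-!
# Types of Veronese subrings
-/

set_option autoImplicit false

universe u

open DirectSum

namespace Groth.L12.GrLCLib

/-- lengths agree when the two scalar rings have the same submodules -/
theorem length_eq_of_addEquiv {A B : Type*} [Ring A] [Ring B] {M N : Type*} [AddCommGroup M] [Module A M]
    [AddCommGroup N] [Module B N] (f : M ≃+ N) (h1 : ∀ (a : A) (x : M), ∃ b : B, f (a • x) = b • f x)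
    (h2 : ∀ (b : B) (x : M), ∃ a : A, f (a • x) = b • f x) : Module.length A M = Module.length B N := by
  let F : Submodule A M ≃o Submodule B N :=
    { toFun := fun P =>
        { carrier := {y | f.symm y ∈ P}
          add_mem' := fun {a b} ha hb => by
            simp only [Set.mem_setOf_eq, map_add] at *; exact P.add_mem ha hb
          zero_mem' := by simp
          smul_mem' := fun b y hy => by
            obtain ⟨a, ha⟩ := h2 b (f.symm y)
            rw [f.apply_symm_apply] at ha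
            simp only [Set.mem_setOf_eq] at *
            rw [← ha, f.symm_apply_apply]; exact P.smul_mem a hy }
      invFun := fun Q =>
        { carrier := {x | f x ∈ Q}
          add_mem' := fun {a b} ha hb => by
            simp only [Set.mem_setOf_eq, map_add] at *; exact Q.add_mem ha hb
          zero_mem' := by simp
          smul_mem' := fun a x hx => by
            obtain ⟨b, hb⟩ := h1 a x
            simp only [Set.mem_setOf_eq] at *
            rw [hb]; exact Q.smul_mem b hx }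
      left_inv := fun P => by ext x; change f.symm (f x) ∈ P ↔ x ∈ P; rw [f.symm_apply_apply]
      right_inv := fun Q => by ext y; change f (f.symm y) ∈ Q ↔ y ∈ Q; rw [f.apply_symm_apply]
      map_rel_iff' := fun {P P'} => ⟨fun h x hx => by
          have h' := h (show f x ∈ _ from (show f.symm (f x) ∈ P by rwa [f.symm_apply_apply]))
          change f.symm (f x) ∈ P' at h'
          rwa [f.symm_apply_apply] at h',
        fun h y hy => h hy⟩ }
  rw [Module.length, Module.length, WithBot.unbot_inj]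
  exact Order.krullDim_eq_of_orderIso F

/-- the zeroth Bass number at a maximal ideal is the length of the socle -/
theorem bassNum_zero_eq_length {R : Type u} [CommRing R] [IsNoetherianRing R] (p : Ideal R) [hp : p.IsMaximal]
    (Z : Type u) [AddCommGroup Z] [Module R Z] :
    GrLC.bassNum p Z 0 = Module.length R (Submodule.torsionBySet R Z (p : Set R)) := by
  classical
  let A := Localization.AtPrime p
  let ZA := LocalizedModule p.primeCompl Z
  let S := Submodule.torsionBySet R Z (p : Set R)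
  have hS : ∀ x ∈ S, ∀ c ∈ p, c • x = 0 := fun x hx c hc => (Submodule.mem_torsionBySet_iff _ x).1 hx ⟨c, hc⟩
  have hinv : ∀ s : p.primeCompl, ∃ a c : R, c ∈ p ∧ a * s + c = 1 := fun s => by
    obtain ⟨a, c, hc, h⟩ := hp.exists_inv s.2
    exact ⟨a, c, hc, h⟩
  have hmem : ∀ x : S, LocalizedModule.mk (x : Z) (1 : p.primeCompl) ∈ soc A ZA := fun x => mem_soc.2 fun a ha => by
    obtain ⟨r, s, rfl⟩ := IsLocalization.exists_mk'_eq p.primeCompl a
    rw [IsLocalization.AtPrime.mk'_mem_maximal_iff _ p] at ha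
    rw [← Localization.mk_eq_mk', LocalizedModule.mk_smul_mk, hS x x.2 r ha, LocalizedModule.zero_mk]
  let f₀ : S →+ soc A ZA := AddMonoidHom.mk' (fun x => ⟨_, hmem x⟩) fun x y => Subtype.ext (by
    change LocalizedModule.mk _ _ = LocalizedModule.mk _ _ + LocalizedModule.mk _ _
    simp [LocalizedModule.mk_add_mk])
  have hmk : ∀ (x : S) (r : R) (s : p.primeCompl) (a c : R), c ∈ p → a * (s : R) + c = 1 →
      LocalizedModule.mk ((r * a) • (x : Z)) (1 : p.primeCompl) = LocalizedModule.mk (r • (x : Z)) s := by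
    intro x r s a c hc h
    rw [LocalizedModule.mk_eq]
    refine ⟨1, ?_⟩
    simp only [one_smul, Submonoid.smul_def, ← mul_smul]
    conv_rhs => rw [← mul_one r, ← h, mul_add, add_smul, mul_smul r c, hS x x.2 c hc, smul_zero, add_zero]
    congr 1; ring
  have hf : Function.Bijective f₀ := by
    refine ⟨(injective_iff_map_eq_zero _).2 fun x hx => ?_, fun y => ?_⟩
    · have h1 : LocalizedModule.mk (x : Z) (1 : p.primeCompl) = 0 := congrArg Subtype.val hx
      rw [← LocalizedModule.zero_mk (1 : p.primeCompl), LocalizedModule.mk_eq] at h1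
      obtain ⟨t, ht⟩ := h1
      simp only [one_smul, smul_zero, Submonoid.smul_def] at ht
      obtain ⟨a, c, hc, h⟩ := hinv t
      refine Subtype.ext ?_
      rw [← one_smul R (x : Z), ← h, add_smul, mul_smul, ht, smul_zero, hS x x.2 c hc, add_zero]
      rfl
    · obtain ⟨y, hy⟩ := y
      induction y using LocalizedModule.induction_on with
      | h z s =>
        obtain ⟨G, hG⟩ := IsNoetherian.noetherian (R := R) (M := R) p
        have hk : ∀ c ∈ G, ∃ t : p.primeCompl, (t : R) • c • z = 0 := fun c hc => by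
          have h1 := mem_soc.1 hy (algebraMap R A c) ((IsLocalization.AtPrime.to_map_mem_maximal_iff A p c).2
            (hG ▸ Submodule.subset_span hc))
          rw [← Localization.mk_one_eq_algebraMap, LocalizedModule.mk_smul_mk, ← LocalizedModule.zero_mk (1 : p.primeCompl),
            LocalizedModule.mk_eq] at h1
          obtain ⟨t, ht⟩ := h1
          exact ⟨t, by simpa [Submonoid.smul_def] using ht⟩
        choose t ht using hk
        let T : p.primeCompl := ∏ c ∈ G.attach, t c.1 c.2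
        have hT : ∀ c ∈ p, c • (T : R) • z = 0 := by
          intro c hc
          rw [← hG] at hc
          induction hc using Submodule.span_induction with
          | mem c hc =>
            rw [← mul_smul, show (T : R) = (t c hc : R) * ∏ d ∈ G.attach.erase ⟨c, hc⟩, (t d.1 d.2 : R) by
              rw [Finset.mul_prod_erase G.attach (fun d => (t d.1 d.2 : R)) (Finset.mem_attach _ ⟨c, hc⟩), Submonoid.coe_finsetProd],
              show c * ((t c hc : R) * ∏ d ∈ G.attach.erase ⟨c, hc⟩, (t d.1 d.2 : R)) =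
                (∏ d ∈ G.attach.erase ⟨c, hc⟩, (t d.1 d.2 : R)) * ((t c hc : R) * c) by ring,
              mul_smul, mul_smul, ht c hc, smul_zero]
          | zero => rw [zero_smul]
          | add a b _ _ ha hb => rw [add_smul, ha, hb, add_zero]
          | smul r a _ ha => rw [smul_eq_mul, mul_smul, ha, smul_zero]
        let x₀ : S := ⟨(T : R) • z, (Submodule.mem_torsionBySet_iff _ _).2 fun c => hT c c.2⟩
        obtain ⟨a, c, hc, h⟩ := hinv (T * s)
        refine ⟨a • x₀, Subtype.ext ?_⟩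
        change LocalizedModule.mk (a • ((T : R) • z)) 1 = LocalizedModule.mk z s
        have h1 := hmk x₀ 1 (T * s) a c hc h
        rw [one_mul, one_smul] at h1
        refine h1.trans ?_
        rw [LocalizedModule.mk_eq]
        refine ⟨1, ?_⟩
        simp only [one_smul, Submonoid.smul_def, Submonoid.coe_mul, x₀, ← mul_smul]
        rw [mul_comm]
  rw [GrLC.bassNum, length_ext_zero]
  refine (length_eq_of_addEquiv (AddEquiv.ofBijective f₀ hf) (fun r x => ⟨algebraMap R A r, Subtype.ext ?_⟩)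
    (fun b x => ?_)).symm
  · change LocalizedModule.mk ((r • x : S) : Z) 1 = algebraMap R A r • LocalizedModule.mk (x : Z) 1
    rw [← Localization.mk_one_eq_algebraMap, LocalizedModule.mk_smul_mk, one_mul]
    rfl
  · obtain ⟨r, s, rfl⟩ := IsLocalization.exists_mk'_eq p.primeCompl b
    obtain ⟨a, c, hc, h⟩ := hinv s
    refine ⟨r * a, Subtype.ext ?_⟩
    change LocalizedModule.mk (((r * a) • x : S) : Z) 1 = IsLocalization.mk' A r s • LocalizedModule.mk (x : Z) 1
    rw [← Localization.mk_eq_mk', LocalizedModule.mk_smul_mk, mul_one]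
    exact hmk x r s a c hc h

section Pos

variable {R : Type u} [CommRing R] [IsNoetherianRing R] {𝒜 : ℤ → AddSubgroup R} [GradedRing 𝒜]

/-- a module killed by the irrelevant ideal is a module over the degree zero field -/
theorem length_eq_length_deg0 (hpos : ∀ n : ℤ, n < 0 → 𝒜 n = ⊥) {M : Type u} [AddCommGroup M] [Module R M]
    (h : ∀ c ∈ (posIdeal 𝒜).toIdeal, ∀ x : M, c • x = 0) : Module.length R M = Module.length (GrLC.deg0 𝒜) M := by
  refine length_eq_of_addEquiv (AddEquiv.refl M) (fun r x => ⟨⟨_, cp_mem 𝒜 0 r⟩, ?_⟩) fun r x => ⟨r, rfl⟩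
  change r • x = cp 𝒜 0 r • x
  rw [← sub_eq_zero, ← sub_smul]
  exact h _ (sub_cp_zero_mem_posIdeal hpos r) x

variable {X : Type u} [AddCommGroup X] [Module R X] {𝒳 : ℤ → AddSubgroup X} [DirectSum.Decomposition 𝒳]
  [SetLike.GradedSMul 𝒜 𝒳]

omit [IsNoetherianRing R] [DirectSum.Decomposition 𝒳] in
/-- in a standard graded ring, what kills against degree `q` kills against all higher degrees -/
theorem smul_eq_zero_of_standard (hpos : ∀ n : ℤ, n < 0 → 𝒜 n = ⊥)
    (hstd : Ideal.span (⋃ n ∈ Set.Ioi (0 : ℤ), (𝒜 n : Set R)) = Ideal.span ((𝒜 1 : AddSubgroup R) : Set R))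
    (x : X) (q : ℤ) (hq : 1 ≤ q) (hx : ∀ c ∈ 𝒜 q, c • x = 0) : ∀ (s : ℤ), q ≤ s → ∀ c ∈ 𝒜 s, c • x = 0 := by
  intro s hs
  obtain ⟨d, rfl⟩ : ∃ d : ℕ, s = q + d := ⟨(s - q).toNat, by rw [Int.toNat_of_nonneg (by omega)]; ring⟩
  clear hs
  induction d with
  | zero => simpa using hx
  | succ d ih =>
    intro c hc
    have hc1 : c ∈ Ideal.span ((𝒜 1 : AddSubgroup R) : Set R) :=
      hstd ▸ Ideal.subset_span (Set.mem_iUnion₂.2 ⟨q + ((d + 1 : ℕ) : ℤ), (by simp only [Set.mem_Ioi]; omega), hc⟩)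
    suffices H : ∀ r : R, cp 𝒜 (q + ((d + 1 : ℕ) : ℤ)) (r * c) • x = 0 by
      have := H 1
      rwa [one_mul, cp_same 𝒜 hc] at this
    clear hc
    induction hc1 using Submodule.span_induction with
    | mem y hy =>
      intro r
      have h1 : cp 𝒜 (q + ((d + 1 : ℕ) : ℤ)) (y * r) = y * cp 𝒜 (q + ((d + 1 : ℕ) : ℤ) - 1) r :=
        cp_smul_hom' 𝒜 𝒜 hy _ r
      rw [mul_comm r y, h1, mul_smul, show q + ((d + 1 : ℕ) : ℤ) - 1 = q + (d : ℤ) by push_cast; ring,
        ih _ (cp_mem 𝒜 _ r), smul_zero]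
    | zero => intro r; rw [mul_zero, map_zero, zero_smul]
    | add a b _ _ ha hb => intro r; rw [mul_add, map_add, add_smul, ha, hb, add_zero]
    | smul t a _ ha => intro r; rw [smul_eq_mul, ← mul_assoc]; exact ha (r * t)

omit [IsNoetherianRing R] in
/-- in a standard graded ring pieces come from products with degree one -/
theorem mem_of_standard
    (hstd : Ideal.span (⋃ n ∈ Set.Ioi (0 : ℤ), (𝒜 n : Set R)) = Ideal.span ((𝒜 1 : AddSubgroup R) : Set R))
    (t : ℤ) (ht : 1 ≤ t) (K : AddSubgroup R) (hK : ∀ b ∈ 𝒜 (t - 1), ∀ y ∈ 𝒜 1, y * b ∈ K) : ∀ c ∈ 𝒜 t, c ∈ K := by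
  intro c hc
  have hc1 : c ∈ Ideal.span ((𝒜 1 : AddSubgroup R) : Set R) :=
    hstd ▸ Ideal.subset_span (Set.mem_iUnion₂.2 ⟨t, (by simp only [Set.mem_Ioi]; omega), hc⟩)
  suffices H : ∀ r : R, cp 𝒜 t (r * c) ∈ K by
    have := H 1
    rwa [one_mul, cp_same 𝒜 hc] at this
  clear hc
  induction hc1 using Submodule.span_induction with
  | mem y hy =>
    intro r
    rw [mul_comm, show cp 𝒜 t (y * r) = y * cp 𝒜 (t - 1) r from cp_smul_hom' 𝒜 𝒜 hy _ r]
    exact hK _ (cp_mem 𝒜 _ r) y hy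
  | zero => intro r; rw [mul_zero, map_zero]; exact zero_mem _
  | add a b _ _ ha hb => intro r; rw [mul_add, map_add]; exact add_mem (ha r) (hb r)
  | smul u a _ ha => intro r; rw [smul_eq_mul, ← mul_assoc]; exact ha (r * u)

/-- pieces of a dual are duals of pieces -/
theorem IsDual.finrank_comp (h : IsDual 𝒜 𝒳) (h0 : IsField (GrLC.deg0 𝒜)) (g : ℤ) :
    Module.Finite (GrLC.deg0 𝒜) (GrLC.comp 𝒜 𝒳 g) ∧
      Module.finrank (GrLC.deg0 𝒜) (GrLC.comp 𝒜 𝒳 g) = Module.finrank (GrLC.deg0 𝒜) (GrLC.comp 𝒜 𝒜 (-g)) := by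
  classical
  letI : Field (GrLC.deg0 𝒜) := h0.toField
  haveI := isNoetherian_comp (𝒜 := 𝒜) 𝒜 (-g)
  haveI : Module.Finite (GrLC.deg0 𝒜) (GrLC.comp 𝒜 𝒜 (-g)) := Module.IsNoetherian.finite _ _
  obtain ⟨u, hu, hune, hline⟩ := h.line
  let L : GrLC.deg0 𝒜 →ₗ[GrLC.deg0 𝒜] GrLC.comp 𝒜 𝒳 0 :=
    LinearMap.toSpanSingleton _ _ ⟨u, hu⟩
  have hL : Function.Bijective L := ⟨(injective_iff_map_eq_zero _).2 fun r hr => by
      by_contra hr0
      obtain ⟨b, hb⟩ := h0.mul_inv_cancel hr0
      refine hune ?_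
      have h1 : (r : R) • u = 0 := congrArg Subtype.val hr
      rw [← one_smul R u, ← show (r : R) * (b : R) = 1 from congrArg Subtype.val hb, mul_comm, mul_smul, h1, smul_zero],
    fun y => by
      obtain ⟨r, hr, hry⟩ := hline y.1 y.2
      exact ⟨⟨r, hr⟩, Subtype.ext hry⟩⟩
  have hdeg : ∀ c ∈ 𝒜 (-g), ∀ x ∈ 𝒳 g, c • x ∈ 𝒳 0 := fun c hc x hx => by
    have := smul_mem' 𝒜 𝒳 hc hx; rwa [neg_add_cancel] at this
  let Ψ : GrLC.comp 𝒜 𝒳 g →ₗ[GrLC.deg0 𝒜] (GrLC.comp 𝒜 𝒜 (-g) →ₗ[GrLC.deg0 𝒜] GrLC.comp 𝒜 𝒳 0) :=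
    { toFun := fun x =>
        { toFun := fun c => ⟨(c : R) • (x : X), hdeg c c.2 x x.2⟩
          map_add' := fun c c' => Subtype.ext (add_smul _ _ _)
          map_smul' := fun r c => Subtype.ext (mul_smul (r : R) (c : R) (x : X)) }
      map_add' := fun x y => LinearMap.ext fun c => Subtype.ext (smul_add _ _ _)
      map_smul' := fun r x => LinearMap.ext fun c => Subtype.ext (smul_comm (c : R) (r : R) (x : X)) }
  have hΨ : Function.Bijective Ψ := by
    refine ⟨(injective_iff_map_eq_zero _).2 fun x hx => Subtype.ext (h.uniq g x x.2 fun c hc =>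
      congrArg Subtype.val (LinearMap.congr_fun hx ⟨c, hc⟩)), fun φ => ?_⟩
    let lam : R → X := fun c => if hc : c ∈ 𝒜 (-g) then (φ ⟨c, hc⟩ : X) else 0
    have hlam : ∀ c (hc : c ∈ 𝒜 (-g)), lam c = φ ⟨c, hc⟩ := fun c hc => dif_pos hc
    obtain ⟨x, hx, hxc⟩ := h.exist g lam (fun c hc => by rw [hlam c hc]; exact (φ _).2)
      (fun a ha b hb => by
        rw [hlam a ha, hlam b hb, hlam _ (add_mem ha hb), ← Submodule.coe_add, ← map_add]; rfl)
      (fun r hr c hc => by
        have hrc : r * c ∈ 𝒜 (-g) := by have := SetLike.mul_mem_graded hr hc; rwa [zero_add] at this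
        rw [hlam c hc, hlam _ hrc,
          show (⟨r * c, hrc⟩ : GrLC.comp 𝒜 𝒜 (-g)) = (⟨r, hr⟩ : GrLC.deg0 𝒜) • (⟨c, hc⟩ : GrLC.comp 𝒜 𝒜 (-g)) from rfl,
          map_smul]
        rfl)
    exact ⟨⟨x, hx⟩, LinearMap.ext fun c => Subtype.ext ((hxc c c.2).trans (hlam c c.2))⟩
  let e : GrLC.comp 𝒜 𝒳 g ≃ₗ[GrLC.deg0 𝒜] Module.Dual (GrLC.deg0 𝒜) (GrLC.comp 𝒜 𝒜 (-g)) :=
    (LinearEquiv.ofBijective Ψ hΨ).trans ((LinearEquiv.refl _ _).arrowCongr (LinearEquiv.ofBijective L hL).symm)
  exact ⟨Module.Finite.equiv e.symm, e.finrank_eq.trans Subspace.dual_finrank_eq⟩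

end Pos

variable {R : Type u} [CommRing R] {𝒜 : ℤ → AddSubgroup R} [GradedRing 𝒜]

/-- the top local cohomology of a Gorenstein ring is a dual shifted by the `a`-invariant -/
theorem exists_dual_top [LocCoh.IsGorensteinRing R] (hpos : ∀ n : ℤ, n < 0 → 𝒜 n = ⊥)
    (h0 : IsField (GrLC.deg0 𝒜)) {m : HomogeneousIdeal 𝒜} (hm : GrLC.IsStarLocal 𝒜 m) (n : ℕ)
    (hn : ringKrullDim R = n) (I : GrLC.StarInjRes 𝒜 𝒜) (a : ℤ)
    (ha : GrLC.endDeg (I.Hgr m n) = ((a : WithTop ℤ) : WithBot (WithTop ℤ))) :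
    ∃ (W : GrLC.GMod.{u} 𝒜) (φ : I.H m n ≃ₗ[R] W.carrier), IsDual 𝒜 W.gr ∧
      (∀ d x, x ∈ I.Hgr m n d → φ x ∈ W.gr (d - a)) ∧ ∀ d y, y ∈ W.gr d → φ.symm y ∈ I.Hgr m n (d + a) := by
  have hnm : m.toIdeal.height = n := by
    have h1 := ringKrullDim_eq_height_starLocal hpos hm
    rw [hn] at h1
    exact_mod_cast h1.symm
  obtain ⟨g₀, X, f, φ, hf, hφ⟩ := exists_top_hull hm n hnm I
  let W := shG 𝒜 X.gr g₀
  let f' : (R ⧸ m.toIdeal) →ₗ[R] W.carrier := f
  have hW : GrLC.IsStarInjHull 𝒜 (GrLC.quotGr 𝒜 m) W.gr f' :=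
    { injective := hf.injective
      grHom := fun i x hx => hf.grHom (i + g₀) x (by rw [add_sub_cancel_right]; exact hx)
      essential := fun P hP hne => by
        let P' : Submodule R X.carrier := P
        exact hf.essential P' (isHomogeneous_of_shG X.gr g₀ P' hP) hne
      starInj := starInj_shift hf.starInj g₀ }
  have hdual := isDual_of_hull hpos h0 hm hW
  letI := (Hgr_isInternal m I n).chooseDecomposition
  have hφ' := grHom_symm (I.Hgr m n) X.gr φ hφ
  have hga : g₀ = a := by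
    refine le_antisymm ?_ ?_
    · obtain ⟨u, hu, hune, -⟩ := hdual.line
      let u' : X.carrier := u
      have hu' : u' ∈ X.gr g₀ := by
        have h1 : u' ∈ X.gr (0 + g₀) := hu
        rwa [zero_add] at h1
      by_contra hlt
      have h1 : φ.symm u' ∈ I.Hgr m n g₀ := hφ' g₀ _ hu'
      rw [(endDeg_le_coe_iff (I.Hgr m n) a).1 ha.le g₀ (not_le.1 hlt), AddSubgroup.mem_bot] at h1
      exact hune ((LinearEquiv.map_eq_zero_iff φ.symm).1 h1)
    · have h1 : GrLC.endDeg (I.Hgr m n) ≤ ((g₀ : WithTop ℤ) : WithBot (WithTop ℤ)) := by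
        rw [endDeg_le_coe_iff]
        intro g hg
        refine (AddSubgroup.eq_bot_iff_forall _).2 fun x hx => φ.injective ?_
        rw [map_zero]
        let y : W.carrier := φ x
        have hy : y ∈ W.gr (g - g₀) := by
          change φ x ∈ X.gr (g - g₀ + g₀); rw [sub_add_cancel]; exact hφ g x hx
        exact hdual.uniq _ y hy fun c hc => by
          rw [hpos _ (show -(g - g₀) < 0 by omega), AddSubgroup.mem_bot] at hc
          rw [hc, zero_smul]
      rw [ha] at h1
      exact_mod_cast h1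
  subst hga
  refine ⟨W, φ, hdual, fun d x hx => ?_, fun d y hy => hφ' (d + g₀) y hy⟩
  change φ x ∈ X.gr (d - g₀ + g₀)
  rw [sub_add_cancel]
  exact hφ d x hx

variable {R' : Type u} [CommRing R'] {𝒜' : ℤ → AddSubgroup R'} [GradedRing 𝒜'] [Algebra R' R] {q : ℕ}

/-- the type of a Veronese subring of a standard graded Gorenstein ring -/
theorem bassNum_ver [LocCoh.IsGorensteinRing R] [LocCoh.IsCohenMacaulayRing R] (h : IsVer 𝒜 𝒜' q) (hpos : ∀ n : ℤ, n < 0 → 𝒜 n = ⊥)
    (h0 : IsField (GrLC.deg0 𝒜)) {m : HomogeneousIdeal 𝒜} (hm : GrLC.IsStarLocal 𝒜 m)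
    (hmsp : m.toIdeal = Ideal.span (⋃ n ∈ Set.Ioi (0 : ℤ), (𝒜 n : Set R)))
    (hstd : Ideal.span (⋃ n ∈ Set.Ioi (0 : ℤ), (𝒜 n : Set R)) = Ideal.span ((𝒜 1 : AddSubgroup R) : Set R))
    (n : ℕ) (hn : ringKrullDim R = n)
    (I : GrLC.StarInjRes 𝒜 𝒜) (a : ℤ) (ha : GrLC.endDeg (I.Hgr m n) = ((a : WithTop ℤ) : WithBot (WithTop ℤ)))
    (ρ : ℤ) (hρ0 : 0 ≤ ρ) (hρq : ρ < q) (hρa : (q : ℤ) ∣ a - ρ) (m' : HomogeneousIdeal 𝒜') [m'.toIdeal.IsMaximal]
    (hm'sp : m'.toIdeal = Ideal.span (⋃ j ∈ Set.Ioi (0 : ℤ), (𝒜' j : Set R'))) :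
    GrLC.bassNum m'.toIdeal R' n = (Module.finrank (GrLC.deg0 𝒜) (GrLC.comp 𝒜 𝒜 ρ) : ℕ∞) := by
  classical
  haveI := isNoetherianRing_ver h
  obtain ⟨W, φ, hW, hφ, hφ'⟩ := exists_dual_top hpos h0 hm n hn I a ha
  obtain ⟨k, hk⟩ := hρa
  have hpos' := pos_ver h hpos
  obtain rfl : m' = posIdeal 𝒜' := HomogeneousIdeal.toIdeal_injective hm'sp
  have hm' := posIdeal_isStarLocal hpos' (isField_deg0_ver h h0)
  let m' := posIdeal 𝒜'
  obtain ⟨E, hmin0, hmin⟩ := exists_minimal_res (𝒜 := 𝒜') 𝒜'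
  let g : R' →ₛₗ[algebraMap R' R] R :=
    { toFun := algebraMap R' R, map_add' := map_add _, map_smul' := fun r x => map_mul _ r x }
  have gl := fun p => exists_verH h hmsp (m' := m') rfl g h.inj (fun j => by
    ext y
    exact ⟨fun ⟨r, hr, e⟩ => e ▸ h.mem j r hr, fun hy => by
      obtain ⟨r, hr, e⟩ := h.surj j y hy
      exact ⟨r, hr, e⟩⟩) I E p
  have hlow : ∀ j < n, GrLC.gam m'.toIdeal (E.X j).carrier = ⊥ := fun j hj =>
    gam_eq_bot_of_H E hmin0 hmin j fun i hi => by
      obtain ⟨Θ, hΘ, -⟩ := gl i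
      haveI : Subsingleton (I.H m i) := subsingleton_of_forall_eq 0 fun z => by
        letI := (Hgr_isInternal m I i).chooseDecomposition
        refine eq_zero_of_cp (I.Hgr m i) fun g => ?_
        have h1 := cp_mem (I.Hgr m i) g z
        rwa [van_below_dim hpos hm hn (lt_of_le_of_lt hi hj) g I, AddSubgroup.mem_bot] at h1
      exact hΘ.subsingleton
  obtain ⟨Θ, hΘ, hΘmap⟩ := gl n
  let H' := E.H m' n
  letI := (Hgr_isInternal m' E n).chooseDecomposition
  haveI : SetLike.GradedSMul 𝒜' (E.Hgr m' n) := ⟨fun {_ _ _ _} hr hx => smul_mem_Hgr E m' n hr hx⟩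
  let S := Submodule.torsionBySet R' H' (m'.toIdeal : Set R')
  -- the socle of `ker d` is the socle of the cohomology
  have hcob : E.cobdy m' n = ⊥ := by
    cases n with
    | zero => rfl
    | succ p =>
      change Submodule.map (E.d p) _ = ⊥
      rw [hlow p p.lt_succ_self, Submodule.map_bot]
  let SK := Submodule.torsionBySet R' (LinearMap.ker (E.d n)) (m'.toIdeal : Set R')
  have hSK : ∀ z : SK, (z : LinearMap.ker (E.d n)).1 ∈ E.cocyc m' n := fun z =>
    ⟨⟨1, fun c hc => congrArg Subtype.val ((Submodule.mem_torsionBySet_iff _ _).1 z.2 ⟨c, by simpa using hc⟩)⟩, (z : LinearMap.ker (E.d n)).2⟩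
  have hinj : ∀ w : E.cocyc m' n, E.toH m' n w = 0 → w = 0 := fun w hw => by
    have h1 : w.1 ∈ E.cobdy m' n := (Submodule.Quotient.mk_eq_zero ((E.cobdy m' n).comap (E.cocyc m' n).subtype)).1 hw
    rw [hcob, Submodule.mem_bot] at h1
    exact Subtype.ext h1
  let f : SK →ₗ[R'] S :=
    { toFun := fun z => ⟨E.toH m' n ⟨_, hSK z⟩, (Submodule.mem_torsionBySet_iff _ _).2 fun c => by
        rw [← map_smul, show c.1 • (⟨_, hSK z⟩ : E.cocyc m' n) = 0 from Subtype.ext
          (congrArg Subtype.val ((Submodule.mem_torsionBySet_iff _ _).1 z.2 c) :), map_zero]⟩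
      map_add' := fun z w => Subtype.ext (map_add (E.toH m' n) ⟨_, hSK z⟩ ⟨_, hSK w⟩)
      map_smul' := fun r z => Subtype.ext (map_smul (E.toH m' n) r ⟨_, hSK z⟩) }
  have hf : Function.Bijective f := by
    refine ⟨(injective_iff_map_eq_zero _).2 fun z hz => Subtype.ext (Subtype.ext
      (congrArg Subtype.val (hinj _ (congrArg Subtype.val hz)) :)), fun y => ?_⟩
    obtain ⟨w, hw⟩ := Submodule.Quotient.mk_surjective _ y.1
    refine ⟨⟨⟨w.1, w.2.2⟩, (Submodule.mem_torsionBySet_iff _ _).2 fun c => Subtype.ext ?_⟩, Subtype.ext hw⟩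
    have h1 : c.1 • w = 0 := hinj _ (by
      rw [map_smul, show E.toH m' n w = y.1 from hw]
      exact (Submodule.mem_torsionBySet_iff _ _).1 y.2 c)
    exact (congrArg Subtype.val h1 :)
  rw [bassNum_eq_bassNum_ker E hmin0 hmin _ n, bassNum_zero_eq_length,
    show Module.length R' SK = Module.length R' S from (LinearEquiv.ofBijective f hf).length_eq,
    length_eq_length_deg0 hpos' (M := S) fun c hc x => Subtype.ext ((Submodule.mem_torsionBySet_iff _ _).1 x.2 ⟨c, hc⟩)]
  -- the socle is one piece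
  let toW : E.H m' n → W.carrier := fun y => φ (Θ y)
  have htoW : ∀ j y, y ∈ E.Hgr m' n j → toW y ∈ W.gr (j * q - a) := fun j y hy =>
    hφ _ _ (hΘmap j ▸ AddSubgroup.mem_map_of_mem _ hy)
  have htoW0 : ∀ y, toW y = 0 → y = 0 := fun y hy => hΘ (by
    rw [map_zero]; exact φ.map_eq_zero_iff.1 hy)
  have hsmul : ∀ (r : R') y, toW (r • y) = algebraMap R' R r • toW y := fun r y => by
    change φ (Θ (r • y)) = _
    rw [map_smulₛₗ, map_smul]
  have key : ∀ y, y ∈ S ↔ y ∈ E.Hgr m' n k := by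
    intro y
    constructor
    · intro hy
      have hc : ∀ j, j ≠ k → cp (E.Hgr m' n) j y = 0 := fun j hj => by
        refine htoW0 _ ?_
        set z := cp (E.Hgr m' n) j y with hz
        have hzj : z ∈ E.Hgr m' n j := cp_mem _ j y
        refine hW.uniq _ _ (htoW j z hzj) fun c hc => ?_
        rcases lt_or_gt_of_ne hj with hlt | hgt
        · have hqs : (q : ℤ) ≤ -(j * q - a) := by
            have h2 : (q : ℤ) * 1 ≤ q * (k - j) := mul_le_mul_of_nonneg_left (by omega) (by positivity)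
            linarith
          refine smul_eq_zero_of_standard hpos hstd (toW z) q (by exact_mod_cast h.pos) (fun b hb => ?_) _ hqs c hc
          obtain ⟨r, hr, rfl⟩ := h.surj 1 b (by rwa [one_mul])
          have hry : r • y = 0 := (Submodule.mem_torsionBySet_iff _ _).1 hy
            ⟨r, hm'sp ▸ Ideal.subset_span (Set.mem_iUnion₂.2 ⟨1, (by simp only [Set.mem_Ioi]; omega), hr⟩)⟩
          have h3 : r • z = 0 := by
            have h4 := cp_smul_hom 𝒜' (E.Hgr m' n) hr (g := j) y
            rw [hry, map_zero] at h4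
            exact h4.symm
          rw [← hsmul, h3]
          change φ (Θ 0) = 0
          rw [map_zero, map_zero]
        · rw [hpos _ (by
            have h2 : (q : ℤ) * 1 ≤ q * (j - k) := mul_le_mul_of_nonneg_left (by omega) (by positivity)
            linarith), AddSubgroup.mem_bot] at hc
          rw [hc, zero_smul]
      have : cp (E.Hgr m' n) k y = y := by
        rw [← sub_eq_zero]
        refine eq_zero_of_cp (E.Hgr m' n) fun j => ?_
        rw [map_sub]
        by_cases hj : j = k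
        · subst hj; rw [cp_same _ (cp_mem _ j y), sub_self]
        · rw [hc j hj, cp_ne _ (cp_mem _ k y) (Ne.symm hj), sub_zero]
      exact this ▸ cp_mem _ k y
    · refine fun hy => (Submodule.mem_torsionBySet_iff _ _).2 fun c => ?_
      obtain ⟨c, hc⟩ := c
      change c ∈ Ideal.span (⋃ j ∈ Set.Ioi (0 : ℤ), (𝒜' j : Set R')) at hc
      change c • y = 0
      induction hc using Submodule.span_induction with
      | mem c hc =>
        obtain ⟨i, hi, hci⟩ := Set.mem_iUnion₂.1 hc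
        have hi' : (0 : ℤ) < i := hi
        have hmem : c • y ∈ E.Hgr m' n (i + k) := smul_mem' 𝒜' (E.Hgr m' n) hci hy
        refine htoW0 _ (hW.uniq _ _ (htoW _ _ hmem) fun b hb => ?_)
        rw [hpos _ (by
          have h2 : (q : ℤ) * 1 ≤ q * i := mul_le_mul_of_nonneg_left (by omega) (by positivity)
          linarith), AddSubgroup.mem_bot] at hb
        rw [hb, zero_smul]
      | zero => rw [zero_smul]
      | add a b _ _ ha hb => rw [add_smul, ha, hb, add_zero]
      | smul r a _ ha => rw [smul_eq_mul, mul_smul, ha, smul_zero]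
  -- compare with the dual piece
  letI : Field (GrLC.deg0 𝒜') := (isField_deg0_ver h h0).toField
  let P' : Submodule (GrLC.deg0 𝒜') H' := S.restrictScalars (GrLC.deg0 𝒜')
  let P : Submodule (GrLC.deg0 𝒜) (I.H m n) := I.Hcomp m n (k * q)
  let eP : P ≃ₗ[GrLC.deg0 𝒜] GrLC.comp 𝒜 W.gr (-ρ) :=
    { toFun := fun x => ⟨φ x, by
        have h1 := hφ (k * q) x x.2
        rwa [show k * (q : ℤ) - a = -ρ by linarith] at h1⟩
      map_add' := fun x y => Subtype.ext (map_add φ _ _)
      map_smul' := fun r x => Subtype.ext (map_smul φ (r : R) (x : I.H m n))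
      invFun := fun y => ⟨φ.symm y, by
        have h1 := hφ' (-ρ) y y.2
        rwa [show -ρ + a = k * (q : ℤ) by linarith] at h1⟩
      left_inv := fun x => Subtype.ext (φ.symm_apply_apply _)
      right_inv := fun y => Subtype.ext (φ.apply_symm_apply _) }
  have hmap : P'.toAddSubgroup.map (Θ : H' →+ I.H m n) = P.toAddSubgroup := by
    refine Eq.trans ?_ (hΘmap k)
    congr 1
    ext y
    exact key y
  obtain ⟨hfin, hfr⟩ := hW.finrank_comp h0 (-ρ)
  rw [neg_neg] at hfr
  haveI : Module.Finite (GrLC.deg0 𝒜) P := Module.Finite.equiv eP.symm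
  have hrk : Module.finrank (GrLC.deg0 𝒜') P' = Module.finrank (GrLC.deg0 𝒜) (GrLC.comp 𝒜 𝒜 ρ) :=
    (finrank_comp_eq h P' P Θ hΘ hmap).trans (eP.finrank_eq.trans hfr)
  let fP : P' →+ P := AddMonoidHom.mk' (fun x => ⟨Θ x, hmap.le (AddSubgroup.mem_map_of_mem _ x.2)⟩)
    fun x y => Subtype.ext (map_add Θ _ _)
  have hfP : Function.Bijective fP := ⟨fun x y e => Subtype.ext (hΘ (congrArg Subtype.val e)), fun y => by
    obtain ⟨x, hx, hxy⟩ := AddSubgroup.mem_map.1 (hmap.ge y.2)
    exact ⟨⟨x, hx⟩, Subtype.ext hxy⟩⟩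
  have hl : Module.length (GrLC.deg0 𝒜') P' = Module.length (GrLC.deg0 𝒜) P :=
    length_eq_of_addEquiv (AddEquiv.ofBijective fP hfP)
      (fun r x => ⟨verDeg0 h r, Subtype.ext (Θ.map_smulₛₗ (r : R') (x : H'))⟩)
      (fun b x => ⟨(verDeg0 h).symm b, Subtype.ext ((Θ.map_smulₛₗ (((verDeg0 h).symm b : GrLC.deg0 𝒜') : R') (x : H')).trans (by
        rw [show algebraMap R' R (((verDeg0 h).symm b : GrLC.deg0 𝒜') : R') = (b : R) by
          rw [← verDeg0_apply h ((verDeg0 h).symm b), RingEquiv.apply_symm_apply]]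
        rfl))⟩)
  letI : Field (GrLC.deg0 𝒜) := h0.toField
  rw [show Module.length (GrLC.deg0 𝒜') S = Module.length (GrLC.deg0 𝒜') P' from rfl, hl,
    Module.length_eq_finrank, eP.finrank_eq, hfr]

end Groth.L12.GrLCLib
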