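import Groth.Agent.L12.GrLCCanonH
import Groth.Agent.L12.GrLCCanon
import Groth.Agent.L12.GrLCType
import Groth.Agent.L12.GrLCGorCrit
import Groth.Agent.L12.GrLCNonHom4
import Groth.Agent.L12.GrLCIterDepth
import Groth.Agent.L04.CMBasic
import Groth.Agent.L06.ExtDim
import Groth.Agent.S0339
import Mathlib.LinearAlgebra.TensorProduct.Quotient
import Mathlib.RingTheory.TensorProduct.Basic

/-!
# Canonical modules are Cohen–Macaulay of type one and finite injective dimension
-/

set_option autoImplicit false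

universe u

open DirectSum CategoryTheory CategoryTheory.Abelian
open scoped TensorProduct

namespace Groth.L12.GrLCLib

variable {R : Type u} [CommRing R] [IsNoetherianRing R] {𝒜 : ℤ → AddSubgroup R} [GradedRing 𝒜]
variable {m : HomogeneousIdeal 𝒜}

section Module

variable {M : Type u} [AddCommGroup M] [Module R M] {ℳ : ℤ → AddSubgroup M} [DirectSum.Decomposition ℳ]
  [SetLike.GradedSMul 𝒜 ℳ]

/-- the top Bass number is the length of the socle of the top cohomology -/
theorem bassNum_top_eq_socle (hm : GrLC.IsStarLocal 𝒜 m) [m.toIdeal.IsMaximal] (n : ℕ) (I : GrLC.StarInjRes 𝒜 ℳ)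
    (hlow : ∀ i < n, Subsingleton (I.H m i)) :
    GrLC.bassNum m.toIdeal M n = Module.length R (Submodule.torsionBySet R (I.H m n) (m.toIdeal : Set R)) := by
  obtain ⟨E, hmin0, hmin⟩ := exists_minimal_res (𝒜 := 𝒜) ℳ
  obtain ⟨e, -⟩ := exists_Hequiv m E I n
  have hlowE : ∀ i < n, Subsingleton (E.H m i) := fun i hi => by
    obtain ⟨e', -⟩ := exists_Hequiv m E I i
    haveI := hlow i hi
    exact e'.toEquiv.subsingleton
  have hgam : ∀ j < n, GrLC.gam m.toIdeal (E.X j).carrier = ⊥ := fun j hj =>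
    gam_eq_bot_of_H E hmin0 hmin j fun i hi => hlowE i (lt_of_le_of_lt hi hj)
  have hcob : E.cobdy m n = ⊥ := by
    cases n with
    | zero => rfl
    | succ p =>
      change Submodule.map (E.d p) _ = ⊥
      rw [hgam p p.lt_succ_self, Submodule.map_bot]
  let SK := Submodule.torsionBySet R (LinearMap.ker (E.d n)) (m.toIdeal : Set R)
  let S := Submodule.torsionBySet R (I.H m n) (m.toIdeal : Set R)
  have hSK : ∀ z : SK, (z : LinearMap.ker (E.d n)).1 ∈ E.cocyc m n := fun z =>
    ⟨⟨1, fun c hc => (congrArg Subtype.val ((Submodule.mem_torsionBySet_iff _ _).1 z.2 ⟨c, by simpa using hc⟩) :)⟩,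
      (z : LinearMap.ker (E.d n)).2⟩
  have hinj : ∀ w : E.cocyc m n, E.toH m n w = 0 → w = 0 := fun w hw => by
    have h1 : w.1 ∈ E.cobdy m n := (Submodule.Quotient.mk_eq_zero ((E.cobdy m n).comap (E.cocyc m n).subtype)).1 hw
    rw [hcob, Submodule.mem_bot] at h1
    exact Subtype.ext h1
  let f : SK →ₗ[R] S :=
    { toFun := fun z => ⟨e (E.toH m n ⟨_, hSK z⟩), (Submodule.mem_torsionBySet_iff _ _).2 fun c => by
        rw [← map_smul, ← map_smul, show c.1 • (⟨_, hSK z⟩ : E.cocyc m n) = 0 from Subtype.ext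
          (congrArg Subtype.val ((Submodule.mem_torsionBySet_iff _ _).1 z.2 c) :), map_zero, map_zero]⟩
      map_add' := fun z w => Subtype.ext ((congrArg e (map_add (E.toH m n) ⟨_, hSK z⟩ ⟨_, hSK w⟩)).trans (map_add e _ _))
      map_smul' := fun r z => Subtype.ext ((congrArg e (map_smul (E.toH m n) r ⟨_, hSK z⟩)).trans (map_smul e r _)) }
  have hf : Function.Bijective f := by
    refine ⟨(injective_iff_map_eq_zero _).2 fun z hz => Subtype.ext (Subtype.ext
      (congrArg Subtype.val (hinj _ (e.map_eq_zero_iff.1 (congrArg Subtype.val hz))) :)), fun y => ?_⟩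
    obtain ⟨w, hw⟩ := Submodule.Quotient.mk_surjective _ (e.symm y.1)
    have hw' : e (E.toH m n w) = y.1 := (congrArg e hw).trans (e.apply_symm_apply _)
    refine ⟨⟨⟨w.1, w.2.2⟩, (Submodule.mem_torsionBySet_iff _ _).2 fun c => Subtype.ext ?_⟩, Subtype.ext hw'⟩
    have h1 : c.1 • w = 0 := hinj _ (e.injective (by
      rw [map_smul, map_smul, map_zero, hw']
      exact (Submodule.mem_torsionBySet_iff _ _).1 y.2 c))
    exact (congrArg Subtype.val h1 :)
  rw [bassNum_eq_bassNum_ker E hmin0 hmin _ n, bassNum_zero_eq_length]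
  exact (LinearEquiv.ofBijective f hf).length_eq

/-- Bass numbers beyond an injective top cohomology vanish -/
theorem bassNum_eq_zero_above_module (hm : GrLC.IsStarLocal 𝒜 m) [m.toIdeal.IsPrime] {n : ℕ} (hn : m.toIdeal.height = n)
    (I : GrLC.StarInjRes 𝒜 ℳ) (hlow : ∀ i < n, Subsingleton (I.H m i)) {X : GrLC.GMod.{u} 𝒜}
    (φ : I.H m n ≃ₗ[R] X.carrier) (hX : GrLC.IsStarInj 𝒜 X.gr) (hφ : GrLC.IsGrHom (I.Hgr m n) X.gr φ.toLinearMap)
    (j : ℕ) (hj : n < j) : GrLC.bassNum m.toIdeal M j = 0 := by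
  obtain ⟨E, hmin0, hmin⟩ := exists_minimal_res (𝒜 := 𝒜) ℳ
  obtain ⟨e, he, -⟩ := exists_Hequiv m E I n
  have hgam0 : ∀ k < n, GrLC.gam m.toIdeal (E.X k).carrier = ⊥ := fun k hk =>
    gam_eq_bot_of_H E hmin0 hmin k fun i hi => by
      obtain ⟨e', -⟩ := exists_Hequiv m E I i
      haveI := hlow i (lt_of_le_of_lt hi hk)
      exact e'.toEquiv.subsingleton
  let φ' := e ≪≫ₗ φ
  have hT : (E.cocyc m n).IsHomogeneous (E.X n).gr := fun g x hx => cp_cocyc m E n g hx
  have hcob : E.cobdy m n = ⊥ := by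
    cases n with
    | zero => rfl
    | succ k =>
      change (GrLC.gam m.toIdeal (E.X k).carrier).map (E.d k) = ⊥
      rw [hgam0 k k.lt_succ_self, Submodule.map_bot]
  let T : GrLC.GMod.{u} 𝒜 := subG 𝒜 (E.X n).gr (E.cocyc m n) hT
  let q0 : E.cocyc m n →ₗ[R] X.carrier := φ'.toLinearMap ∘ₗ E.toH m n
  let q : T.carrier →ₗ[R] X.carrier := q0
  have hq : GrLC.IsGrHom T.gr X.gr q := fun g x hx => hφ g _ (he g _ ⟨x, hx, rfl⟩)
  have hinj0 : Function.Injective (E.toH m n) := by
    rw [← LinearMap.ker_eq_bot, Submodule.ker_mkQ, hcob, Submodule.comap_bot, Submodule.ker_subtype]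
  have hqinj : Function.Injective q0 := φ'.injective.comp hinj0
  have hqs : Function.Surjective q0 := φ'.surjective.comp (Submodule.mkQ_surjective _)
  let incl : T.carrier →ₗ[R] (E.X n).carrier := (E.cocyc m n).subtype
  have hincl : Function.Injective incl := Submodule.injective_subtype (E.cocyc m n)
  have hincl' : GrLC.IsGrHom T.gr (E.X n).gr incl := fun g x hx => hx
  obtain ⟨p, hp, hpc⟩ := exists_extend hX incl hincl' q hq (by rw [LinearMap.ker_eq_bot.2 hincl]; exact bot_le)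
  have hpq : ∀ t : E.cocyc m n, p t.1 = q0 t := fun t => LinearMap.congr_fun hpc t
  have hsurj : ∀ z ∈ GrLC.gam m.toIdeal (E.X n).carrier, E.d n z = 0 := by
    have hbot : GrLC.gam m.toIdeal (E.X n).carrier ⊓ LinearMap.ker p = ⊥ := by
      by_contra hne
      refine inf_ker_ne_bot E hmin0 hmin (GrLC.gam m.toIdeal (E.X n).carrier ⊓ LinearMap.ker p)
        (fun g x hx => ⟨gam_isHomogeneous 𝒜 (E.X n).gr m g hx.1, ker_isHomogeneous (E.X n).gr X.gr hp g hx.2⟩) hne
        ((Submodule.eq_bot_iff _).2 ?_)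
      rintro x ⟨⟨hxg, hxp⟩, hxd⟩
      have h1 : q0 ⟨x, ⟨hxg, hxd⟩⟩ = 0 := (hpq _).symm.trans hxp
      exact congrArg Subtype.val (hqinj (h1.trans (map_zero q0).symm))
    intro z hz
    obtain ⟨t, ht⟩ := hqs (p z)
    rw [← hpq] at ht
    have h1 : z - t.1 ∈ GrLC.gam m.toIdeal (E.X n).carrier ⊓ LinearMap.ker p :=
      ⟨sub_mem hz t.2.1, LinearMap.mem_ker.2 (by rw [map_sub]; exact sub_eq_zero.2 ht.symm)⟩
    rw [hbot, Submodule.mem_bot, sub_eq_zero] at h1
    rw [h1]
    exact t.2.2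
  have step : ∀ i, n ≤ i → (∀ z ∈ GrLC.gam m.toIdeal (E.X i).carrier, E.d i z = 0) →
      GrLC.gam m.toIdeal (E.X (i + 1)).carrier = ⊥ := fun i hi h => by
    by_contra hne
    obtain ⟨y, ⟨hy, hyd⟩, hy0⟩ :=
      (Submodule.ne_bot_iff _).1 (inf_ker_ne_bot E hmin0 hmin _ (gam_isHomogeneous 𝒜 (E.X (i + 1)).gr m) hne)
    haveI := subsingleton_H_above hm hn E (i := i + 1) (by omega)
    have h1 : y ∈ E.cobdy m (i + 1) :=
      (Submodule.Quotient.mk_eq_zero ((E.cobdy m (i + 1)).comap (E.cocyc m (i + 1)).subtype)).1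
        (Subsingleton.elim (E.toH m (i + 1) ⟨y, hy, hyd⟩) 0)
    obtain ⟨x, hx, rfl⟩ := h1
    exact hy0 (h x hx)
  have hgam : ∀ k, GrLC.gam m.toIdeal (E.X (n + 1 + k)).carrier = ⊥ := by
    intro k
    induction k with
    | zero => exact step n le_rfl hsurj
    | succ k ih =>
      refine step (n + 1 + k) (by omega) fun z hz => ?_
      rw [ih, Submodule.mem_bot] at hz
      rw [hz, map_zero]
  obtain ⟨k, rfl⟩ := Nat.exists_eq_add_of_lt hj
  rw [show n + k + 1 = n + 1 + k by omega, bassNum_eq_bassNum_ker E hmin0 hmin m]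
  by_contra hne
  obtain ⟨-, z, hz⟩ := isAssociatedPrime_iff.1
    ((mem_associatedPrimes_iff_bassNum_zero (M := LinearMap.ker (E.d (n + 1 + k))) m.toIdeal).2 hne)
  have h1 : z.1 ∈ GrLC.gam m.toIdeal (E.X (n + 1 + k)).carrier := ⟨1, fun c hc => by
    have h2 : c • z = 0 := (Submodule.mem_bot R).1 (Submodule.mem_colon_singleton.1 (hz ▸ by simpa using hc))
    exact congrArg Subtype.val h2⟩
  rw [hgam k, Submodule.mem_bot] at h1
  refine ‹m.toIdeal.IsPrime›.ne_top (eq_top_iff.2 fun c _ => hz ▸ ?_)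
  rw [Submodule.mem_colon_singleton, Submodule.mem_bot, show z = 0 from Subtype.ext h1, smul_zero]

variable (ℳ) in
include ℳ in
/-- eventual vanishing at the *maximal ideal gives finite injective dimension -/
theorem exists_injdim_of_bassNum (hm : GrLC.IsStarLocal 𝒜 m) [m.toIdeal.IsPrime] [Module.Finite R M] (N : ℕ)
    (h : ∀ j, N ≤ j → GrLC.bassNum m.toIdeal M j = 0) : ∃ k : ℕ, HasInjectiveDimensionLT (ModuleCat.of R M) k := by
  let A := Localization.AtPrime m.toIdeal
  let MA := LocalizedModule m.toIdeal.primeCompl M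
  haveI : IsNoetherianRing A := IsLocalization.isNoetherianRing m.toIdeal.primeCompl A inferInstance
  haveI : Module.Finite A MA := Module.Finite.of_isLocalizedModule m.toIdeal.primeCompl
    (LocalizedModule.mkLinearMap m.toIdeal.primeCompl M)
  obtain ⟨L, hL⟩ := (Groth.Agent.S0339.result A MA).2 ⟨N, fun i hi => Module.length_eq_zero_iff.1 (h i hi)⟩
  have hhom : ∀ (q : Ideal R) [q.IsPrime], q ≤ m.toIdeal → ∀ i, L ≤ i → GrLC.bassNum q M i = 0 := by
    intro q _ hq i hi
    let B := Localization.AtPrime q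
    haveI : Module.Finite R (R ⧸ q) := inferInstance
    obtain ⟨e1⟩ := Groth.L04.LC.nonempty_localized_ext_equiv m.toIdeal.primeCompl i (R ⧸ q) M
    obtain ⟨e2⟩ := Groth.L04.LC.nonempty_localized_ext_equiv q.primeCompl i (R ⧸ q) M
    obtain ⟨e3⟩ := nonempty_residue_equiv q
    haveI := HasInjectiveDimensionLT.subsingleton (ModuleCat.of A MA) L i hi
      (ModuleCat.of A (LocalizedModule m.toIdeal.primeCompl (R ⧸ q)))
    haveI h1 : Subsingleton (LocalizedModule m.toIdeal.primeCompl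
        (Ext.{u} (ModuleCat.of R (R ⧸ q)) (ModuleCat.of R M) i)) := e1.toEquiv.subsingleton
    haveI h2 : Subsingleton (LocalizedModule q.primeCompl (Ext.{u} (ModuleCat.of R (R ⧸ q)) (ModuleCat.of R M) i)) := by
      refine subsingleton_of_forall_eq 0 fun z => ?_
      induction z using LocalizedModule.induction_on with
      | h w s =>
        have h3 : LocalizedModule.mk (S := m.toIdeal.primeCompl) w 1 = 0 := Subsingleton.elim _ _
        rw [← LocalizedModule.zero_mk (1 : m.toIdeal.primeCompl), LocalizedModule.mk_eq] at h3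
        obtain ⟨t, ht⟩ := h3
        simp only [one_smul, smul_zero, Submonoid.smul_def] at ht
        rw [← LocalizedModule.zero_mk s, LocalizedModule.mk_eq]
        refine ⟨⟨t, fun htq => t.2 (hq htq)⟩, ?_⟩
        simp only [Submonoid.smul_def, smul_zero, smul_smul]
        rw [mul_comm, mul_smul, ht, smul_zero]
    haveI h4 : Subsingleton (Ext.{u} (ModuleCat.of B (LocalizedModule q.primeCompl (R ⧸ q)))
        (ModuleCat.of B (LocalizedModule q.primeCompl M)) i) := e2.symm.toEquiv.subsingleton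
    let iso : ModuleCat.of B (LocalizedModule q.primeCompl (R ⧸ q)) ≅
        ModuleCat.of B (IsLocalRing.ResidueField B) :=
      LinearEquiv.toModuleIso (X₁ := LocalizedModule q.primeCompl (R ⧸ q)) e3
    refine Module.length_eq_zero_iff.2 (subsingleton_of_forall_eq 0 fun z => ?_)
    have h5 : (Ext.mk₀ iso.hom).comp z (zero_add i) = 0 := Subsingleton.elim _ _
    have h6 := congrArg (fun y => (Ext.mk₀ iso.inv).comp y (zero_add i)) h5
    simp only [Ext.mk₀_comp_mk₀_assoc, Iso.inv_hom_id, Ext.mk₀_id_comp, Ext.comp_zero] at h6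
    exact h6
  refine ⟨L + 2, Groth.L06.ExtDim.hasInjectiveDimensionLT_of_forall_quotient (L + 1) _ fun J =>
    subsingleton_ext_quotient_of_bassNum (L + 1 + 1) (fun P hP => ?_) J⟩
  by_cases hh : Ideal.IsHomogeneous 𝒜 P
  · exact hhom P (le_starLocal hm hh hP.ne_top) _ (by omega)
  · haveI : (Ideal.homogeneousCore 𝒜 P).toIdeal.IsPrime := hP.homogeneousCore
    rw [(bassNum_nonHom (ℳ := ℳ) P hh).2 (L + 1)]
    exact hhom _ (le_starLocal hm (Ideal.homogeneousCore 𝒜 P).isHomogeneous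
      (Ideal.IsPrime.ne_top inferInstance)) _ (by omega)

end Module

section Canonical

variable [LocCoh.IsCohenMacaulayRing R]
variable {X : Type u} [AddCommGroup X] [Module R X] {𝒳 : ℤ → AddSubgroup X} [DirectSum.Decomposition 𝒳]
  [SetLike.GradedSMul 𝒜 𝒳]
variable (hpos : ∀ n : ℤ, n < 0 → 𝒜 n = ⊥) (h0 : IsField (GrLC.deg0 𝒜)) (hm : GrLC.IsStarLocal 𝒜 m)
  (hmsp : m.toIdeal = Ideal.span (⋃ n ∈ Set.Ioi (0 : ℤ), (𝒜 n : Set R))) (hX : IsDual 𝒜 𝒳)
variable {n : ℕ} (hn : ringKrullDim R = n) (I : GrLC.StarInjRes 𝒜 𝒜)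
variable {C : Type u} [AddCommGroup C] [Module R C] {𝒞 : ℤ → AddSubgroup C} [DirectSum.Decomposition 𝒞]
  [SetLike.GradedSMul 𝒜 𝒞]

include hpos h0 hm hmsp hX hn

/-- the top cohomology of a canonical module is the dual of the ring -/
theorem canonH_ring (hC : GrLC.IsStarCanonical 𝒜 𝒞 𝒳 m n I) (F : GrLC.StarInjRes 𝒜 𝒞) :
    (∀ i < n, Subsingleton (F.H m i)) ∧
      ∃ φ : F.H m n ≃ₗ[R] X, GrLC.IsGrHom (F.Hgr m n) 𝒳 φ.toLinearMap := by
  classical
  obtain ⟨hfin, φ, hφ⟩ := hC
  haveI := hfin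
  let Q := quoG 𝒜 𝒜 (⊥ : HomogeneousIdeal 𝒜).toIdeal (⊥ : HomogeneousIdeal 𝒜).isHomogeneous
  let π : R →ₗ[R] Q.carrier := Submodule.mkQ (⊥ : HomogeneousIdeal 𝒜).toIdeal
  have hπ : Function.Bijective π := ⟨(injective_iff_map_eq_zero π).2 fun r hr =>
      (Submodule.mem_bot R).1 ((Submodule.Quotient.mk_eq_zero _).1 hr), Submodule.mkQ_surjective _⟩
  let eπ := LinearEquiv.ofBijective π hπ
  let E : GrLC.StarInjRes 𝒜 Q.gr :=
    { X := I.X
      d := I.d
      ε := I.ε ∘ₗ eπ.symm.toLinearMap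
      d_grHom := I.d_grHom
      ε_grHom := by
        rintro g _ ⟨r, hr, rfl⟩
        change I.ε (eπ.symm (eπ r)) ∈ _
        rw [eπ.symm_apply_apply]
        exact I.ε_grHom g r hr
      ε_injective := I.ε_injective.comp eπ.symm.injective
      exact_zero := by rw [LinearMap.range_comp_of_range_eq_top _ eπ.symm.range, I.exact_zero]
      exact_succ := I.exact_succ
      starInj := I.starInj }
  have hd : Module.supportDim R (R ⧸ (⊥ : HomogeneousIdeal 𝒜).toIdeal) ≤ (n : ℕ) :=
    le_of_le_of_eq (Module.supportDim_le_ringKrullDim R _) hn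
  have hlow : ∀ i < n, Subsingleton (E.H m i) := fun i hi => subsingleton_of_forall_eq (α := I.H m i) 0 fun z => by
    letI := (Hgr_isInternal m I i).chooseDecomposition
    refine eq_zero_of_cp (I.Hgr m i) fun g => ?_
    have h1 := cp_mem (I.Hgr m i) g z
    rwa [van_below_dim hpos hm hn hi g I, AddSubgroup.mem_bot] at h1
  obtain ⟨hF, μ, hμ, hμgr, hμr⟩ := canonH hpos h0 hm hmsp hX n (⊥ : HomogeneousIdeal 𝒜) hd E hlow C 𝒞 φ hφ F
  refine ⟨hF, LinearEquiv.ofBijective μ ⟨hμ, fun z => (hμr z).2 fun c hc => ?_⟩, hμgr⟩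
  rw [(Submodule.mem_bot R).1 hc, zero_smul]

omit hpos hn [LocCoh.IsCohenMacaulayRing R] in
/-- the socle of a dual has length one -/
theorem IsDual.length_socle [m.toIdeal.IsMaximal] (hpos : ∀ n : ℤ, n < 0 → 𝒜 n = ⊥) :
    Module.length R (Submodule.torsionBySet R X (m.toIdeal : Set R)) = 1 := by
  obtain rfl : m = posIdeal 𝒜 := HomogeneousIdeal.toIdeal_injective hmsp
  let S := Submodule.torsionBySet R X ((posIdeal 𝒜).toIdeal : Set R)
  have hSk : ∀ c ∈ (posIdeal 𝒜).toIdeal, ∀ x : S, c • x = 0 := fun c hc x =>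
    Subtype.ext ((Submodule.mem_torsionBySet_iff _ _).1 x.2 ⟨c, hc⟩)
  obtain ⟨u, hu, hune, hline⟩ := hX.line
  have huS : u ∈ S := (Submodule.mem_torsionBySet_iff _ _).2 fun c => by
    obtain ⟨c, hc⟩ := c
    change c • u = 0
    obtain ⟨s, hs, -⟩ := exists_sum_cp 𝒜 c
    rw [← hs, Finset.sum_smul]
    refine Finset.sum_eq_zero fun d _ => ?_
    by_cases hd : d < (1 : ℕ)
    · rw [cp_eq_zero_of_mem_pow hpos hmsp 1 c (by rwa [pow_one]) d hd, zero_smul]
    · refine hX.uniq _ _ (smul_mem' 𝒜 𝒳 (cp_mem 𝒜 d c) hu) fun b hb => ?_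
      rw [hpos _ (by omega), AddSubgroup.mem_bot] at hb
      rw [hb, zero_smul]
  letI : Field (GrLC.deg0 𝒜) := h0.toField
  rw [length_eq_length_deg0 hpos (M := S) hSk]
  let L : GrLC.deg0 𝒜 →ₗ[GrLC.deg0 𝒜] S := LinearMap.toSpanSingleton _ _ ⟨u, huS⟩
  have hL : Function.Bijective L := by
    refine ⟨(injective_iff_map_eq_zero _).2 fun r hr => ?_, fun x => ?_⟩
    · by_contra hr0
      obtain ⟨b, hb⟩ := h0.mul_inv_cancel hr0
      refine hune ?_
      have h1 : (r : R) • u = 0 := congrArg Subtype.val hr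
      rw [← one_smul R u, ← show (r : R) * (b : R) = 1 from congrArg Subtype.val hb, mul_comm, mul_smul, h1, smul_zero]
    · obtain ⟨r, hr, hrx⟩ := hline _ (hX.killed_mem_line hpos hmsp fun c hc =>
        (Submodule.mem_torsionBySet_iff _ _).1 x.2 ⟨c, hc⟩)
      exact ⟨⟨r, hr⟩, Subtype.ext hrx⟩
  rw [← (LinearEquiv.ofBijective L hL).length_eq, Module.length_eq_finrank, Module.finrank_self, Nat.cast_one]

/-- the type of a canonical module is one -/
theorem bassNum_canonical [m.toIdeal.IsMaximal] (hC : GrLC.IsStarCanonical 𝒜 𝒞 𝒳 m n I) :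
    GrLC.bassNum m.toIdeal C n = 1 := by
  obtain ⟨F⟩ := nonempty_starInjRes 𝒜 𝒞
  obtain ⟨hlow, φ, -⟩ := canonH_ring hpos h0 hm hmsp hX hn I hC F
  rw [bassNum_top_eq_socle hm n F hlow, ← hX.length_socle h0 hm hmsp hpos]
  let f : Submodule.torsionBySet R (F.H m n) (m.toIdeal : Set R) →ₗ[R]
      Submodule.torsionBySet R X (m.toIdeal : Set R) :=
    (φ.toLinearMap ∘ₗ (Submodule.torsionBySet R (F.H m n) (m.toIdeal : Set R)).subtype).codRestrict _ fun y =>
      (Submodule.mem_torsionBySet_iff _ _).2 fun c => by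
        change c.1 • φ y.1 = 0
        rw [← map_smul, show c.1 • y.1 = 0 from (Submodule.mem_torsionBySet_iff _ _).1 y.2 c, map_zero]
  refine (LinearEquiv.ofBijective f ⟨fun a b hab => Subtype.ext (φ.injective (congrArg Subtype.val hab)), fun z => ?_⟩).length_eq
  refine ⟨⟨φ.symm z.1, (Submodule.mem_torsionBySet_iff _ _).2 fun c => ?_⟩, Subtype.ext (φ.apply_symm_apply _)⟩
  rw [← map_smul, show c.1 • z.1 = 0 from (Submodule.mem_torsionBySet_iff _ _).1 z.2 c, map_zero]

/-- canonical modules are Cohen–Macaulay of finite injective dimension -/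
theorem cm_injdim_canonical [m.toIdeal.IsMaximal] (hC : GrLC.IsStarCanonical 𝒜 𝒞 𝒳 m n I) :
    LocCoh.IsCohenMacaulayModule (Localization.AtPrime m.toIdeal) (LocalizedModule m.toIdeal.primeCompl C) ∧
      ∃ N : ℕ, HasInjectiveDimensionLT (ModuleCat.of R C) N := by
  haveI := hC.1
  have htype := bassNum_canonical hpos h0 hm hmsp hX hn I hC
  obtain ⟨F⟩ := nonempty_starInjRes 𝒜 𝒞
  obtain ⟨hlow, φ, hφ⟩ := canonH_ring hpos h0 hm hmsp hX hn I hC F
  have hnm : m.toIdeal.height = n := by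
    have h1 := ringKrullDim_eq_height_starLocal hpos hm
    rw [hn] at h1
    exact_mod_cast h1.symm
  constructor
  · let A := Localization.AtPrime m.toIdeal
    let CA := LocalizedModule m.toIdeal.primeCompl C
    haveI : IsNoetherianRing A := IsLocalization.isNoetherianRing m.toIdeal.primeCompl A inferInstance
    haveI : Module.Finite A CA := Module.Finite.of_isLocalizedModule m.toIdeal.primeCompl
      (LocalizedModule.mkLinearMap m.toIdeal.primeCompl C)
    haveI : Nontrivial CA := by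
      by_contra hcon
      rw [not_nontrivial_iff_subsingleton] at hcon
      have : GrLC.bassNum m.toIdeal C n = 0 := Module.length_eq_zero_iff.2 (subsingleton_of_forall_eq 0 fun z => by
        rw [← Ext.comp_mk₀_id z, show 𝟙 (ModuleCat.of A CA) = 0 from
          (ModuleCat.isZero_of_subsingleton (ModuleCat.of A CA)).eq_of_src _ _, Ext.mk₀_zero, Ext.comp_zero])
      rw [htype] at this
      exact one_ne_zero this
    have hdep : (n : ℕ∞) ≤ LocCoh.depth A CA := (le_depth_iff_bassNum m.toIdeal C n).2 fun i hi =>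
      bassNum_eq_zero_of_H hm F i fun j hj => hlow j (lt_of_le_of_lt hj hi)
    refine (Groth.L04.isCohenMacaulayModule_iff_supportDim_le).2 ?_
    refine (Module.supportDim_le_ringKrullDim A CA).trans ?_
    rw [IsLocalization.AtPrime.ringKrullDim_eq_height m.toIdeal A, hnm]
    exact_mod_cast hdep
  · let Xg : GrLC.GMod.{u} 𝒜 := { carrier := X, gr := 𝒳 }
    exact exists_injdim_of_bassNum 𝒞 hm (n + 1) fun j hj =>
      bassNum_eq_zero_above_module hm hnm F hlow (X := Xg) φ (hX.starInj h0) hφ j hj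

/-- the type of the ring is the number of generators of the canonical module -/
theorem type_eq_finrank [m.toIdeal.IsMaximal] {e : (R ⧸ m.toIdeal) →ₗ[R] X}
    (he : GrLC.IsStarInjHull 𝒜 (GrLC.quotGr 𝒜 m) 𝒳 e) (hC : GrLC.IsStarCanonical 𝒜 𝒞 𝒳 m n I) :
    GrLC.bassNum m.toIdeal R n = (Module.finrank (R ⧸ m.toIdeal) ((R ⧸ m.toIdeal) ⊗[R] C) : ℕ∞) := by
  classical
  obtain ⟨hfin, φ, -⟩ := hC
  haveI := hfin
  have hlow : ∀ i < n, Subsingleton (I.H m i) := fun i hi => subsingleton_of_forall_eq 0 fun z => by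
    letI := (Hgr_isInternal m I i).chooseDecomposition
    refine eq_zero_of_cp (I.Hgr m i) fun g => ?_
    have h1 := cp_mem (I.Hgr m i) g z
    rwa [van_below_dim hpos hm hn hi g I, AddSubgroup.mem_bot] at h1
  rw [bassNum_top_eq_socle hm n I hlow]
  let K := R ⧸ m.toIdeal
  letI : Field K := Ideal.Quotient.field _
  haveI : Module.Finite K (K ⊗[R] C) := Module.Finite.base_change R K C
  let S := Submodule.torsionBySet R (I.H m n) (m.toIdeal : Set R)
  have hek : ∀ c ∈ m.toIdeal, ∀ k : K, c • e k = 0 := fun c hc k => by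
    obtain ⟨r, rfl⟩ := Ideal.Quotient.mk_surjective k
    rw [← map_smul, show c • Ideal.Quotient.mk m.toIdeal r = Ideal.Quotient.mk m.toIdeal (c * r) from rfl,
      Ideal.Quotient.eq_zero_iff_mem.2 (Ideal.mul_mem_right _ _ hc), map_zero]
  have hrange : ∀ x : X, (∀ c ∈ m.toIdeal, c • x = 0) → ∃ k : K, e k = x := fun x hx => by
    obtain ⟨u, hu, hune, hline⟩ := hX.line
    have he1 : e 1 ∈ 𝒳 0 := he.grHom 0 _ ⟨1, SetLike.one_mem_graded 𝒜, rfl⟩
    have he0 : e 1 ≠ 0 := fun h => one_ne_zero (α := K) (he.injective (h.trans (map_zero e).symm))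
    obtain ⟨r, hr, hru⟩ := hline _ (hX.killed_mem_line hpos hmsp hx)
    obtain ⟨s, hs, hsu⟩ := hline _ he1
    obtain ⟨b, hb⟩ := h0.mul_inv_cancel (a := (⟨s, hs⟩ : GrLC.deg0 𝒜))
      fun h => he0 (by rw [← hsu, show s = 0 from congrArg Subtype.val h, zero_smul])
    refine ⟨Ideal.Quotient.mk m.toIdeal (r * b), ?_⟩
    rw [show Ideal.Quotient.mk m.toIdeal (r * (b : R)) = (r * (b : R)) • (1 : K) from (by
        rw [Algebra.smul_def, mul_one]; rfl),
      map_smul, ← hsu, ← mul_smul, mul_assoc, mul_comm (b : R) s, show s * (b : R) = 1 from congrArg Subtype.val hb,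
      mul_one, hru]
  let F : (C →ₗ[R] K) →ₗ[R] S :=
    { toFun := fun f => ⟨φ (e ∘ₗ f), (Submodule.mem_torsionBySet_iff _ _).2 fun c => by
        rw [← map_smul, show c.1 • (e ∘ₗ f) = 0 from LinearMap.ext fun w => hek c.1 c.2 (f w), map_zero]⟩
      map_add' := fun f g => Subtype.ext (by
        change φ (e ∘ₗ (f + g)) = φ (e ∘ₗ f) + φ (e ∘ₗ g)
        rw [LinearMap.comp_add, map_add])
      map_smul' := fun r f => Subtype.ext (by
        change φ (e ∘ₗ (r • f)) = r • φ (e ∘ₗ f)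
        rw [LinearMap.comp_smul, map_smul]) }
  have hF : Function.Bijective F := by
    refine ⟨fun f g hfg => LinearMap.ext fun w => he.injective (LinearMap.congr_fun (φ.injective (congrArg Subtype.val hfg)) w),
      fun y => ?_⟩
    have hk : ∀ w, ∃ k : K, e k = φ.symm y.1 w := fun w => hrange _ fun c hc => by
      rw [← LinearMap.smul_apply, ← map_smul, show c • y.1 = 0 from (Submodule.mem_torsionBySet_iff _ _).1 y.2 ⟨c, hc⟩,
        map_zero, LinearMap.zero_apply]
    choose f hf using hk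
    refine ⟨{ toFun := f
              map_add' := fun a b => he.injective (by rw [map_add, hf, hf, hf, map_add])
              map_smul' := fun r a => he.injective (by rw [RingHom.id_apply, map_smul, hf, hf, map_smul]) }, Subtype.ext ?_⟩
    exact (congrArg φ (LinearMap.ext hf)).trans (φ.apply_symm_apply _)
  rw [← (LinearEquiv.ofBijective F hF).length_eq,
    Module.length_eq_of_surjective (R := K) (M := C →ₗ[R] K) Ideal.Quotient.mk_surjective,
    (LinearMap.liftBaseChangeEquiv K (R := R) (M := C) (N := K)).length_eq, Module.length_eq_finrank,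
    Module.finrank_linearMap_self]

end Canonical

end Groth.L12.GrLCLib
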