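import Groth.Agent.L12.GrLCGor
import Groth.Agent.L12.GrLCH
import Groth.Agent.L12.GrLCShift
import Groth.Agent.L12.GrLCHullProps
import Groth.Agent.L04.LC.Change

/-!
# Torsion parts of minimal *injective resolutions at the *maximal ideal
-/

set_option autoImplicit false

universe u

open DirectSum

namespace Groth.L12.GrLCLib

variable {ι : Type} [AddCommGroup ι] [DecidableEq ι] [Module.Free ℤ ι] [Module.Finite ℤ ι]
variable {R : Type u} [CommRing R] [IsNoetherianRing R] {𝒜 : ι → AddSubgroup R} [GradedRing 𝒜]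
variable {m : HomogeneousIdeal 𝒜}

omit [IsNoetherianRing R] in
theorem starLocal_isPrime (hm : GrLC.IsStarLocal 𝒜 m) : m.toIdeal.IsPrime := by
  have hne : m.toIdeal ≠ ⊤ := fun h => hm.1.1 (HomogeneousIdeal.toIdeal_injective (by rw [h]; rfl))
  refine isPrime_of_homog m.isHomogeneous hne fun {x y} hx hy hxy => ?_
  by_contra hcon
  push Not at hcon
  obtain ⟨d, hd⟩ := hx
  let J : HomogeneousIdeal 𝒜 := ⟨m.toIdeal ⊔ Ideal.span {x},
    Ideal.IsHomogeneous.sup m.isHomogeneous (Ideal.homogeneous_span 𝒜 _ fun z hz => ⟨d, by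
      rw [Set.mem_singleton_iff] at hz; exact hz ▸ hd⟩)⟩
  have hlt : m < J := lt_of_le_of_ne (le_sup_left : m.toIdeal ≤ m.toIdeal ⊔ Ideal.span {x}) fun h => hcon.1 (by
    rw [h]
    exact Ideal.mem_sup_right (Ideal.mem_span_singleton_self x))
  have h1 : (1 : R) ∈ m.toIdeal ⊔ Ideal.span {x} := by
    have htop : J.toIdeal = ⊤ := by rw [hm.1.2 J hlt]; rfl
    change (1 : R) ∈ J.toIdeal
    rw [htop]
    exact Submodule.mem_top
  obtain ⟨i, hi, b, hb, hib⟩ := Submodule.mem_sup.1 h1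
  obtain ⟨c, rfl⟩ := Ideal.mem_span_singleton'.1 hb
  refine hcon.2 ?_
  rw [show y = i * y + c * (x * y) by rw [← mul_assoc, ← add_mul, hib, one_mul]]
  exact add_mem (Ideal.mul_mem_right _ _ hi) (Ideal.mul_mem_left _ _ hxy)

section Shift

variable {M : Type u} [AddCommGroup M] [Module R M] (ℳ : ι → AddSubgroup M)
  [DirectSum.Decomposition ℳ] [SetLike.GradedSMul 𝒜 ℳ]

omit [IsNoetherianRing R] [Module.Free ℤ ι] [Module.Finite ℤ ι] in
lemma isHomogeneous_of_shG (d : ι) (P : Submodule R M)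
    (hP : let Q : Submodule R (shG 𝒜 ℳ d).carrier := P; Q.IsHomogeneous (shG 𝒜 ℳ d).gr) : P.IsHomogeneous ℳ := by
  intro i x hx
  let f : M →+ (shG 𝒜 ℳ d).carrier := AddMonoidHom.id M
  have h := cp_map_deg ℳ (shG 𝒜 ℳ d).gr f (-d) (fun g y hy => by
    change y ∈ ℳ (g + -d + d); rwa [add_assoc, neg_add_cancel, add_zero]) i x
  change cp ℳ i x ∈ P
  exact (show cp ℳ i x = _ from h.symm) ▸ hP (i + -d) hx

end Shift

section Killed

variable {M : Type u} [AddCommGroup M] [Module R M] {τ : Type u} [SetLike τ M] [AddSubgroupClass τ M] {ℳ : ι → τ}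
  [DirectSum.Decomposition ℳ] [SetLike.GradedSMul 𝒜 ℳ]

omit [IsNoetherianRing R] [Module.Free ℤ ι] [Module.Finite ℤ ι] in
theorem exists_killed_homog (hm : GrLC.IsStarLocal 𝒜 m) (W : Submodule R M) (hW : W.IsHomogeneous ℳ)
    (htor : W ≤ GrLC.gam m.toIdeal M) (hne : W ≠ ⊥) :
    ∃ (g : ι) (y : M), y ∈ W ∧ y ∈ ℳ g ∧ y ≠ 0 ∧ (R ∙ y).annihilator = m.toIdeal := by
  classical
  obtain ⟨w, hw, hw0⟩ := W.exists_mem_ne_zero_of_ne_bot hne
  obtain ⟨g, hg⟩ : ∃ g, cp ℳ g w ≠ 0 := by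
    by_contra hcon
    push Not at hcon
    exact hw0 (eq_zero_of_cp ℳ hcon)
  suffices H : ∀ (n : ℕ) (g : ι) (z : M), z ∈ W → z ∈ ℳ g → z ≠ 0 → (∀ c ∈ m.toIdeal ^ n, c • z = 0) →
      ∃ (g : ι) (y : M), y ∈ W ∧ y ∈ ℳ g ∧ y ≠ 0 ∧ ∀ c ∈ m.toIdeal, c • y = 0 by
    obtain ⟨n, hn⟩ := htor (hW g hw)
    obtain ⟨g', y, hyW, hyg, hy0, hy⟩ := H n g _ (hW g hw) (cp_mem ℳ g w) hg hn
    refine ⟨g', y, hyW, hyg, hy0, ?_⟩
    let J : HomogeneousIdeal 𝒜 := ⟨(R ∙ y).annihilator, fun b c hc => by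
      rw [Submodule.mem_annihilator_span_singleton] at hc ⊢
      change cp 𝒜 b c • y = 0
      have := cp_smul_mem 𝒜 ℳ c hyg (b + g')
      rw [hc, map_zero, add_sub_cancel_right] at this
      exact this.symm⟩
    have hle : m ≤ J := fun c hc => (Submodule.mem_annihilator_span_singleton y c).2 (hy c hc)
    have hJ : J ≠ ⊤ := fun h => hy0 <| by
      have h1 : (1 : R) ∈ J.toIdeal := by rw [h]; exact Submodule.mem_top
      simpa using (Submodule.mem_annihilator_span_singleton y (1 : R)).1 h1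
    exact congrArg HomogeneousIdeal.toIdeal (hle.eq_or_lt.resolve_right fun h => hJ (hm.1.2 J h)).symm
  intro n
  induction n with
  | zero => intro g z _ _ hz0 hn; exact absurd (by simpa using hn 1 (by simp)) hz0
  | succ n ih =>
    intro g z hzW hzg hz0 hn
    by_cases hall : ∀ (e : ι), ∀ c ∈ m.toIdeal, c ∈ 𝒜 e → c • z = 0
    · refine ⟨g, z, hzW, hzg, hz0, fun c hc => ?_⟩
      obtain ⟨s, hs, -⟩ := exists_sum_cp 𝒜 c
      rw [← hs, Finset.sum_smul]
      exact Finset.sum_eq_zero fun e _ => hall e _ (m.isHomogeneous e hc) (cp_mem 𝒜 e c)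
    · push Not at hall
      obtain ⟨e, c, hc, hce, hcz⟩ := hall
      refine ih (e + g) (c • z) (W.smul_mem c hzW) (smul_mem' 𝒜 ℳ hce hzg) hcz fun b hb => ?_
      rw [← mul_smul]
      exact hn _ (by rw [pow_succ]; exact Ideal.mul_mem_mul hb hc)

omit [Module.Free ℤ ι] [Module.Finite ℤ ι] in
theorem bassNum_zero_ne_zero [m.toIdeal.IsPrime] (Z : Submodule R M) {y : M} (hy : y ∈ Z)
    (hann : (R ∙ y).annihilator = m.toIdeal) : GrLC.bassNum m.toIdeal Z 0 ≠ 0 := by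
  refine (mem_associatedPrimes_iff_bassNum_zero m.toIdeal).1 (isAssociatedPrime_iff.2 ⟨inferInstance, ⟨y, hy⟩, ?_⟩)
  ext c
  rw [← hann, Submodule.mem_annihilator_span_singleton, Submodule.mem_colon_singleton, Submodule.mem_bot]
  exact ⟨fun h => Subtype.ext h, fun h => congrArg Subtype.val h⟩

omit [Module.Free ℤ ι] [Module.Finite ℤ ι] in
/-- with Bass number one, two killed elements are dependent -/
theorem exists_dependent [m.toIdeal.IsPrime] (Z : Submodule R M) (h1 : GrLC.bassNum m.toIdeal Z 0 = 1)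
    {y y' : M} (hy : y ∈ Z) (hy' : y' ∈ Z) (hann : (R ∙ y).annihilator = m.toIdeal)
    (hann' : (R ∙ y').annihilator = m.toIdeal) : ∃ s r : R, s ∉ m.toIdeal ∧ s • y' = r • y := by
  let S := m.toIdeal.primeCompl
  let A := Localization.AtPrime m.toIdeal
  have hmem : ∀ (z : M) (hz : z ∈ Z), (R ∙ z).annihilator = m.toIdeal →
      LocalizedModule.mk (S := S) (⟨z, hz⟩ : Z) 1 ∈ soc A (LocalizedModule S Z) := fun z hz hz' => by
    refine mem_soc.2 fun b hb => ?_
    obtain ⟨r, s, rfl⟩ := IsLocalization.exists_mk'_eq S b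
    rw [IsLocalization.AtPrime.mk'_mem_maximal_iff _ m.toIdeal] at hb
    have h0 : r • (⟨z, hz⟩ : Z) = 0 := Subtype.ext ((Submodule.mem_annihilator_span_singleton z r).1 (hz' ▸ hb))
    rw [Localization.mk_eq_mk'.symm, LocalizedModule.mk_smul_mk, h0, LocalizedModule.zero_mk]
  rw [GrLC.bassNum, length_ext_zero, Module.length_eq_one_iff] at h1
  let u : soc A (LocalizedModule S Z) := ⟨_, hmem y hy hann⟩
  have hu : u ≠ 0 := fun h => by
    have h2 : LocalizedModule.mk (S := S) (⟨y, hy⟩ : Z) 1 = 0 := congrArg Subtype.val h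
    rw [← LocalizedModule.zero_mk (1 : S), LocalizedModule.mk_eq] at h2
    obtain ⟨t, ht⟩ := h2
    simp only [one_smul, smul_zero, Submonoid.smul_def] at ht
    exact t.2 (hann ▸ (Submodule.mem_annihilator_span_singleton y (t : R)).2 (congrArg Subtype.val ht))
  haveI := h1
  obtain ⟨a, ha⟩ := IsSimpleModule.toSpanSingleton_surjective (R := A) (M := soc A (LocalizedModule S Z)) hu
    (⟨_, hmem y' hy' hann'⟩ : soc A (LocalizedModule S Z))
  obtain ⟨r, s, rfl⟩ := IsLocalization.exists_mk'_eq S a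
  have h3 : IsLocalization.mk' A r s • LocalizedModule.mk (S := S) (⟨y, hy⟩ : Z) 1 = LocalizedModule.mk ⟨y', hy'⟩ 1 :=
    congrArg Subtype.val ha
  rw [← Localization.mk_eq_mk', LocalizedModule.mk_smul_mk, LocalizedModule.mk_eq] at h3
  obtain ⟨t, ht⟩ := h3
  refine ⟨(t : R) * (s : R), (t : R) * r, (t * s).2, ?_⟩
  have h4 := congrArg Subtype.val ht
  simp only [Submonoid.smul_def, Submonoid.coe_one, Submonoid.coe_mul, mul_one, one_smul, SetLike.val_smul] at h4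
  rw [mul_smul, mul_smul]
  exact h4.symm

end Killed

section Res

variable {M : Type u} [AddCommGroup M] [Module R M] (ℳ : ι → AddSubgroup M) [DirectSum.Decomposition ℳ]
  [SetLike.GradedSMul 𝒜 ℳ]

omit [IsNoetherianRing R] [Module.Free ℤ ι] [Module.Finite ℤ ι] in
/-- minimal resolutions exist -/
theorem exists_minimal_res : ∃ E : GrLC.StarInjRes 𝒜 ℳ,
    (∀ P : Submodule R (E.X 0).carrier, P.IsHomogeneous (E.X 0).gr → P ≠ ⊥ → P ⊓ LinearMap.range E.ε ≠ ⊥) ∧
    ∀ (n : ℕ) (P : Submodule R (E.X (n + 1)).carrier), P.IsHomogeneous (E.X (n + 1)).gr → P ≠ ⊥ →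
      P ⊓ LinearMap.range (E.d n) ≠ ⊥ := by
  obtain ⟨X, f, hf⟩ := exists_hull 𝒜 ℳ
  let S₀ : Stage 𝒜 := ⟨X, LinearMap.range f, range_isHomogeneous ℳ X.gr hf.grHom⟩
  refine ⟨⟨fun n => (S₀.iter n).X, fun n => (S₀.iter n).map, f, fun n => (S₀.iter n).map_grHom, hf.grHom, hf.injective,
    (S₀.iter 0).ker_map, fun n => (S₀.iter (n + 1)).ker_map, ?_⟩, hf.essential, fun n P hP hne => ?_⟩
  · intro n
    cases n with
    | zero => exact hf.starInj
    | succ n => exact (S₀.iter n).step.choose_spec.choose_spec.starInj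
  · have h := (S₀.iter n).step.choose_spec.choose_spec.essential P hP hne
    have hr : LinearMap.range (S₀.iter n).map = LinearMap.range (S₀.iter n).step.choose_spec.choose :=
      LinearMap.range_comp_of_range_eq_top _ (Submodule.range_mkQ _)
    exact fun h' => h (hr ▸ h')

variable {ℳ} (E : GrLC.StarInjRes 𝒜 ℳ)
  (hmin0 : ∀ P : Submodule R (E.X 0).carrier, P.IsHomogeneous (E.X 0).gr → P ≠ ⊥ → P ⊓ LinearMap.range E.ε ≠ ⊥)
  (hmin : ∀ (n : ℕ) (P : Submodule R (E.X (n + 1)).carrier), P.IsHomogeneous (E.X (n + 1)).gr → P ≠ ⊥ →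
    P ⊓ LinearMap.range (E.d n) ≠ ⊥)

include hmin0 hmin in
omit [IsNoetherianRing R] [Module.Free ℤ ι] [Module.Finite ℤ ι] in
lemma inf_ker_ne_bot {j : ℕ} (P : Submodule R (E.X j).carrier) (hP : P.IsHomogeneous (E.X j).gr) (hne : P ≠ ⊥) :
    P ⊓ LinearMap.ker (E.d j) ≠ ⊥ := by
  cases j with
  | zero => rw [E.exact_zero]; exact hmin0 P hP hne
  | succ n => rw [E.exact_succ n]; exact hmin n P hP hne

include hmin0 hmin in
/-- the torsion part is nonzero only where the Bass number is -/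
theorem gam_eq_bot_of_bassNum (hm : GrLC.IsStarLocal 𝒜 m) [m.toIdeal.IsPrime] {j : ℕ}
    (h : GrLC.bassNum m.toIdeal M j = 0) : GrLC.gam m.toIdeal (E.X j).carrier = ⊥ := by
  by_contra hne
  let W := GrLC.gam m.toIdeal (E.X j).carrier ⊓ LinearMap.ker (E.d j)
  have hW : W ≠ ⊥ := inf_ker_ne_bot E hmin0 hmin _ (gam_isHomogeneous 𝒜 (E.X j).gr m) hne
  obtain ⟨g, y, hyW, -, -, hann⟩ := exists_killed_homog (ℳ := (E.X j).gr) hm W
    (fun g x hx => ⟨gam_isHomogeneous 𝒜 (E.X j).gr m g hx.1, ker_isHomogeneous (E.X j).gr (E.X (j + 1)).gr (E.d_grHom j) g hx.2⟩)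
    inf_le_left hW
  rw [bassNum_eq_bassNum_ker E hmin0 hmin m j] at h
  exact bassNum_zero_ne_zero _ hyW.2 hann h

include hmin0 hmin in
/-- a single Bass number gives a single summand -/
theorem exists_gam_hull (hm : GrLC.IsStarLocal 𝒜 m) [m.toIdeal.IsPrime] {j : ℕ}
    (h : GrLC.bassNum m.toIdeal M j = 1) :
    ∃ (g₀ : ι) (X : GrLC.GMod.{u} 𝒜) (f : (R ⧸ m.toIdeal) →ₗ[R] X.carrier) (ψ : X.carrier →ₗ[R] (E.X j).carrier),
      GrLC.IsStarInjHull 𝒜 (fun i : ι => GrLC.quotGr 𝒜 m (i - g₀)) X.gr f ∧ Function.Injective ψ ∧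
      GrLC.IsGrHom X.gr (E.X j).gr ψ ∧ LinearMap.range ψ = GrLC.gam m.toIdeal (E.X j).carrier := by
  rw [bassNum_eq_bassNum_ker E hmin0 hmin m j] at h
  set Z := LinearMap.ker (E.d j)
  have hZ : Z.IsHomogeneous (E.X j).gr := ker_isHomogeneous (E.X j).gr (E.X (j + 1)).gr (E.d_grHom j)
  obtain ⟨g₀, y, hyW, hyg, -, hann⟩ : ∃ (g : ι) (y : (E.X j).carrier),
      y ∈ GrLC.gam m.toIdeal (E.X j).carrier ⊓ Z ∧ y ∈ (E.X j).gr g ∧ y ≠ 0 ∧ (R ∙ y).annihilator = m.toIdeal := by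
    refine exists_killed_homog (ℳ := (E.X j).gr) hm _
      (fun g x hx => ⟨gam_isHomogeneous 𝒜 (E.X j).gr m g hx.1, hZ g hx.2⟩) inf_le_left ?_
    refine inf_ker_ne_bot E hmin0 hmin _ (gam_isHomogeneous 𝒜 (E.X j).gr m) fun hbot => ?_
    obtain ⟨z, hz, hann⟩ : ∃ z : (E.X j).carrier, z ∈ Z ∧ (R ∙ z).annihilator = m.toIdeal := by
      obtain ⟨-, z, hz⟩ := isAssociatedPrime_iff.1 ((mem_associatedPrimes_iff_bassNum_zero (M := Z) m.toIdeal).2 (by rw [h]; exact one_ne_zero))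
      refine ⟨z.1, z.2, ?_⟩
      ext c
      rw [hz, Submodule.mem_annihilator_span_singleton, Submodule.mem_colon_singleton, Submodule.mem_bot]
      exact ⟨fun hc => Subtype.ext hc, fun hc => congrArg Subtype.val hc⟩
    have h1 : z ∈ GrLC.gam m.toIdeal (E.X j).carrier :=
      ⟨1, fun c hc => (Submodule.mem_annihilator_span_singleton z c).1 (hann ▸ by simpa using hc)⟩
    rw [hbot, Submodule.mem_bot] at h1
    subst h1
    exact ‹m.toIdeal.IsPrime›.ne_top (by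
      rw [← hann]; exact eq_top_iff.2 fun c _ => (Submodule.mem_annihilator_span_singleton _ c).2 (smul_zero c))
  obtain ⟨X, f, ψ, Q, hf, hψinj, hψ, hψy, hQ, hc⟩ := exists_summand (E.starInj j) m hyg hann
  refine ⟨g₀, X, f, ψ, hf, hψinj, hψ, le_antisymm ?_ ?_⟩
  · let X' := shG 𝒜 X.gr g₀
    let f' : (R ⧸ m.toIdeal) →ₗ[R] X'.carrier := f
    have hX' : GrLC.IsStarInjHull 𝒜 (GrLC.quotGr 𝒜 m) X'.gr f' :=
      { injective := hf.injective
        grHom := fun i x hx => hf.grHom (i + g₀) x (by rw [add_sub_cancel_right]; exact hx)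
        essential := fun P hP hne => by
          let P' : Submodule R X.carrier := P
          exact hf.essential P' (isHomogeneous_of_shG X.gr g₀ P' hP) hne
        starInj := starInj_shift hf.starInj g₀ }
    rintro _ ⟨x, rfl⟩
    let x' : X'.carrier := x
    have hx' : x' ∈ GrLC.gam m.toIdeal X'.carrier := by rw [gam_eq_top_hull hX']; exact Submodule.mem_top
    exact gam_mono ψ hx'
  · intro z hz
    obtain ⟨w, hw, q, hq, rfl⟩ := Submodule.mem_sup.1 (hc.sup_eq_top ▸ Submodule.mem_top : z ∈ LinearMap.range ψ ⊔ Q)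
    suffices hq0 : q = 0 by rw [hq0, add_zero]; exact hw
    by_contra hq0
    have hwtor : w ∈ GrLC.gam m.toIdeal (E.X j).carrier := by
      obtain ⟨n, hn⟩ := hz
      refine ⟨n, fun c hcn => ?_⟩
      have h0 := hn c hcn
      rw [smul_add] at h0
      have h1 : c • w ∈ LinearMap.range ψ ⊓ Q :=
        ⟨Submodule.smul_mem _ c hw, by rw [eq_neg_of_add_eq_zero_left h0]; exact neg_mem (Q.smul_mem c hq)⟩
      rw [hc.inf_eq_bot, Submodule.mem_bot] at h1
      exact h1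
    have hqtor : q ∈ GrLC.gam m.toIdeal (E.X j).carrier := by simpa using sub_mem hz hwtor
    have hne : Q ⊓ GrLC.gam m.toIdeal (E.X j).carrier ≠ ⊥ := fun hbot => hq0 <| by
      have : q ∈ Q ⊓ GrLC.gam m.toIdeal (E.X j).carrier := ⟨hq, hqtor⟩
      rwa [hbot, Submodule.mem_bot] at this
    have hQT : (Q ⊓ GrLC.gam m.toIdeal (E.X j).carrier).IsHomogeneous (E.X j).gr :=
      fun g x hx => ⟨hQ g hx.1, gam_isHomogeneous 𝒜 (E.X j).gr m g hx.2⟩
    obtain ⟨g', y', hy', hyg', hy'0, hann'⟩ := exists_killed_homog (ℳ := (E.X j).gr) hm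
      (Q ⊓ GrLC.gam m.toIdeal (E.X j).carrier ⊓ Z) (fun g x hx => ⟨hQT g hx.1, hZ g hx.2⟩)
      (inf_le_left.trans inf_le_right) (inf_ker_ne_bot E hmin0 hmin _ hQT hne)
    obtain ⟨s, r, hs, hsr⟩ := exists_dependent Z h hyW.2 hy'.2 hann hann'
    have hyψ : y ∈ LinearMap.range ψ := hψy ▸ LinearMap.mem_range_self ψ _
    have h1 : s • y' ∈ LinearMap.range ψ ⊓ Q := ⟨hsr ▸ Submodule.smul_mem _ r hyψ, Q.smul_mem s hy'.1.1⟩
    rw [hc.inf_eq_bot, Submodule.mem_bot] at h1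
    exact hs (hann' ▸ (Submodule.mem_annihilator_span_singleton y' s).2 h1)

end Res

end Groth.L12.GrLCLib
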