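import Groth.Agent.L12.GrLCMatlis
import Groth.Agent.L12.GrLCShift
import Groth.Agent.L12.GrLCPos
import Groth.Agent.L12.GrLCTop
import Groth.Agent.L04.LC.Vanish
import Groth.Agent.L04.LC.Annihilate
import Mathlib.RingTheory.KrullDimension.Regular

/-!
# Local cohomology of graded canonical modules

If `C` is dual to the top local cohomology of a Cohen–Macaulay `R ⧸ J`, then the local cohomology of `C`
sits in the top degree and is the dual of `R ⧸ J`.
-/

set_option autoImplicit false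

universe u

open DirectSum Pointwise

namespace Groth.L12.GrLCLib

variable {R : Type u} [CommRing R] [IsNoetherianRing R] {𝒜 : ℤ → AddSubgroup R} [GradedRing 𝒜]
variable {X : Type u} [AddCommGroup X] [Module R X] {𝒳 : ℤ → AddSubgroup X} [DirectSum.Decomposition 𝒳]
  [SetLike.GradedSMul 𝒜 𝒳]
variable {m : HomogeneousIdeal 𝒜}

omit [IsNoetherianRing R] in
/-- powers of the irrelevant ideal live in high degrees -/
theorem cp_eq_zero_of_mem_pow (hpos : ∀ n : ℤ, n < 0 → 𝒜 n = ⊥)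
    (hm : m.toIdeal = Ideal.span (⋃ n ∈ Set.Ioi (0 : ℤ), (𝒜 n : Set R))) :
    ∀ (k : ℕ), ∀ c ∈ m.toIdeal ^ k, ∀ d : ℤ, d < k → cp 𝒜 d c = 0 := by
  let J : ℕ → Ideal R := fun k =>
    { carrier := {v | ∀ d : ℤ, d < k → cp 𝒜 d v = 0}
      add_mem' := fun {a b} ha hb d hd => by rw [map_add, ha d hd, hb d hd, add_zero]
      zero_mem' := fun d _ => map_zero _
      smul_mem' := fun r v hv d hd => (cp_mul_trunc hpos hv r).2 d hd }
  intro k
  change ∀ c ∈ m.toIdeal ^ k, c ∈ J k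
  induction k with
  | zero =>
    intro c _ d hd
    have h1 := cp_mem 𝒜 d c
    rwa [hpos d (by simpa using hd), AddSubgroup.mem_bot] at h1
  | succ k ih =>
    intro c hc
    rw [pow_succ] at hc
    refine (Ideal.mul_le.2 fun a ha s hs => ?_ : m.toIdeal ^ k * m.toIdeal ≤ J (k + 1)) hc
    have ha' := ih a ha
    rw [hm] at hs
    induction hs using Submodule.span_induction with
    | mem y hy =>
      obtain ⟨e, he, hye⟩ := Set.mem_iUnion₂.1 hy
      intro d hd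
      have he' : (0 : ℤ) < e := he
      rw [mul_comm, show cp 𝒜 d (y * a) = y * cp 𝒜 (d - e) a from cp_smul_hom' 𝒜 𝒜 hye d a,
        ha' (d - e) (by push_cast at hd; omega), mul_zero]
    | zero => rw [mul_zero]; exact zero_mem _
    | add p q _ _ hp hq => rw [mul_add]; exact add_mem hp hq
    | smul r p _ hp => rw [smul_eq_mul, mul_left_comm]; exact (J (k + 1)).mul_mem_left r hp

omit [IsNoetherianRing R] in
/-- duals are torsion -/
theorem IsDual.mem_gam (hX : IsDual 𝒜 𝒳) (hpos : ∀ n : ℤ, n < 0 → 𝒜 n = ⊥)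
    (hm : m.toIdeal = Ideal.span (⋃ n ∈ Set.Ioi (0 : ℤ), (𝒜 n : Set R))) (x : X) : x ∈ GrLC.gam m.toIdeal X := by
  induction x using induction_on_hom 𝒳 with
  | h0 => exact zero_mem _
  | ha a b ha hb => exact add_mem ha hb
  | hh g y hy =>
    refine ⟨(-g).toNat + 1, fun c hc => ?_⟩
    obtain ⟨s, hs, -⟩ := exists_sum_cp 𝒜 c
    rw [← hs, Finset.sum_smul]
    refine Finset.sum_eq_zero fun d _ => ?_
    by_cases hd : d < ((-g).toNat + 1 : ℕ)
    · rw [cp_eq_zero_of_mem_pow hpos hm _ c hc d hd, zero_smul]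
    · refine hX.uniq _ _ (smul_mem' 𝒜 𝒳 (cp_mem 𝒜 d c) hy) fun b hb => ?_
      rw [hpos _ (by push_cast at hd; omega), AddSubgroup.mem_bot] at hb
      rw [hb, zero_smul]

omit [IsNoetherianRing R] in
/-- what kills a module kills its local cohomology -/
theorem smul_H_eq_zero {M : Type u} [AddCommGroup M] [Module R M] {ℳ : ℤ → AddSubgroup M}
    [DirectSum.Decomposition ℳ] [SetLike.GradedSMul 𝒜 ℳ] (E : GrLC.StarInjRes 𝒜 ℳ) (a : HomogeneousIdeal 𝒜)
    (i : ℕ) [IsNoetherianRing R] {c : R} (h : ∀ x : M, c • x = 0) (z : E.H a i) : c • z = 0 := by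
  obtain ⟨e⟩ := nonempty_H_equiv E a i
  exact e.injective (by rw [map_smul, Groth.L04.LC.smul_H_eq_zero_of_annihilator a.toIdeal i h, map_zero])

section Dual

variable (hX : IsDual 𝒜 𝒳) (h0 : IsField (GrLC.deg0 𝒜))

include hX h0 in
/-- what kills `Hom(C, X)` kills `C` -/
theorem IsDual.smul_eq_zero_of_hom {C : Type u} [AddCommGroup C] [Module R C] {𝒞 : ℤ → AddSubgroup C}
    [DirectSum.Decomposition 𝒞] [SetLike.GradedSMul 𝒜 𝒞] [Module.Finite R C] (J : HomogeneousIdeal 𝒜)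
    (h : ∀ c ∈ J.toIdeal, ∀ ψ : C →ₗ[R] X, c • ψ = 0) : ∀ c ∈ J.toIdeal, ∀ w : C, c • w = 0 := by
  intro c hc w
  obtain ⟨s, hs, -⟩ := exists_sum_cp 𝒜 c
  rw [← hs, Finset.sum_smul]
  refine Finset.sum_eq_zero fun d _ => ?_
  have hd : cp 𝒜 d c ∈ J.toIdeal := J.isHomogeneous d hc
  induction w using induction_on_hom 𝒞 with
  | h0 => rw [smul_zero]
  | ha a b ha hb => rw [smul_add, ha, hb, add_zero]
  | hh g y hy =>
    refine hX.eval_inj h0 (smul_mem' 𝒜 𝒞 (cp_mem 𝒜 d c) hy) fun ψ _ => ?_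
    rw [map_smul, ← LinearMap.smul_apply, h _ hd ψ, LinearMap.zero_apply]

end Dual

/-- the supporting dimension of a module killed by an ideal -/
theorem supportDim_le_of_killed {M : Type u} [AddCommGroup M] [Module R M] [Module.Finite R M] (J : Ideal R)
    (h : ∀ c ∈ J, ∀ x : M, c • x = 0) : Module.supportDim R M ≤ Module.supportDim R (R ⧸ J) := by
  rw [Module.supportDim_eq_ringKrullDim_quotient_annihilator, Module.supportDim_quotient_eq_ringKrullDim]
  exact ringKrullDim_le_of_surjective (Ideal.Quotient.factor (fun c hc => Module.mem_annihilator.2 (h c hc)))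
    (Ideal.Quotient.factor_surjective _)

/-- zero-dimensional homogeneous quotients are torsion -/
theorem exists_pow_le_of_dim_zero (hm : GrLC.IsStarLocal 𝒜 m) (J : HomogeneousIdeal 𝒜)
    (hd : Module.supportDim R (R ⧸ J.toIdeal) ≤ (0 : ℕ)) : ∃ k, m.toIdeal ^ k ≤ J.toIdeal := by
  refine Ideal.exists_pow_le_of_le_radical_of_fg ?_ (IsNoetherian.noetherian _)
  rw [Ideal.radical_eq_sInf]
  refine le_sInf ?_
  rintro P ⟨hJP, hP⟩
  have hdim : ringKrullDim (R ⧸ J.toIdeal) ≤ 0 := by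
    rw [← Module.supportDim_quotient_eq_ringKrullDim]; simpa using hd
  haveI : Ring.KrullDimLE 0 (R ⧸ J.toIdeal) := Ring.krullDimLE_iff.2 hdim
  have hmax : ∀ Q : Ideal R, Q.IsPrime → J.toIdeal ≤ Q → Q.IsMaximal := fun Q hQ hJQ => by
    haveI := hQ
    haveI : (Q.map (Ideal.Quotient.mk J.toIdeal)).IsPrime :=
      Ideal.map_isPrime_of_surjective Ideal.Quotient.mk_surjective (by rwa [Ideal.mk_ker])
    haveI : (Q.map (Ideal.Quotient.mk J.toIdeal)).IsMaximal := inferInstance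
    have h1 := Ideal.comap_isMaximal_of_surjective (Ideal.Quotient.mk J.toIdeal) Ideal.Quotient.mk_surjective
      (K := Q.map (Ideal.Quotient.mk J.toIdeal))
    rwa [Ideal.comap_map_of_surjective _ Ideal.Quotient.mk_surjective, ← RingHom.ker_eq_comap_bot, Ideal.mk_ker,
      sup_eq_left.2 hJQ] at h1
  haveI := hP
  have hcore : (Ideal.homogeneousCore 𝒜 P).toIdeal.IsPrime := hP.homogeneousCore
  have hJc : J.toIdeal ≤ (Ideal.homogeneousCore 𝒜 P).toIdeal := by
    rw [← J.isHomogeneous.toIdeal_homogeneousCore_eq_self]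
    exact Ideal.homogeneousCore_mono 𝒜 hJP
  have h2 : (Ideal.homogeneousCore 𝒜 P).toIdeal = P :=
    (hmax _ hcore hJc).eq_of_le hP.ne_top (Ideal.toIdeal_homogeneousCore_le 𝒜 P)
  have h3 : (Ideal.homogeneousCore 𝒜 P).toIdeal = m.toIdeal :=
    (hmax _ hcore hJc).eq_of_le (starLocal_ne_top hm)
      (le_starLocal hm (Ideal.homogeneousCore 𝒜 P).isHomogeneous hcore.ne_top)
  rw [← h2, h3]

variable (hpos : ∀ n : ℤ, n < 0 → 𝒜 n = ⊥) (h0 : IsField (GrLC.deg0 𝒜)) (hm : GrLC.IsStarLocal 𝒜 m)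
  (hmsp : m.toIdeal = Ideal.span (⋃ n ∈ Set.Ioi (0 : ℤ), (𝒜 n : Set R))) (hX : IsDual 𝒜 𝒳)

include hpos h0 hm hmsp hX

/-- base case: dimension zero -/
theorem canonH_zero (J : HomogeneousIdeal 𝒜) (hd : Module.supportDim R (R ⧸ J.toIdeal) ≤ (0 : ℕ))
    (E : GrLC.StarInjRes 𝒜 (quoG 𝒜 𝒜 J.toIdeal J.isHomogeneous).gr)
    (C : Type u) [AddCommGroup C] [Module R C] (𝒞 : ℤ → AddSubgroup C) [DirectSum.Decomposition 𝒞]
    [SetLike.GradedSMul 𝒜 𝒞] [Module.Finite R C] (φ : (C →ₗ[R] X) ≃ₗ[R] E.H m 0)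
    (hφ : GrLC.IsGrHom (fun d => (GrLC.homDeg 𝒜 𝒞 𝒳 d).toAddSubgroup) (E.Hgr m 0) φ.toLinearMap)
    (F : GrLC.StarInjRes 𝒜 𝒞) :
    ∃ μ : F.H m 0 →ₗ[R] X, Function.Injective μ ∧ GrLC.IsGrHom (F.Hgr m 0) 𝒳 μ ∧
      ∀ z, z ∈ LinearMap.range μ ↔ ∀ c ∈ J.toIdeal, c • z = 0 := by
  classical
  obtain ⟨k, hk⟩ := exists_pow_le_of_dim_zero hm J hd
  let Q := quoG 𝒜 𝒜 J.toIdeal J.isHomogeneous
  letI := (Hgr_isInternal m E 0).chooseDecomposition
  letI := (Hgr_isInternal m F 0).chooseDecomposition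
  let π : R →ₗ[R] Q.carrier := Submodule.mkQ J.toIdeal
  have hπs : Function.Surjective π := Submodule.mkQ_surjective _
  have hJQ : ∀ c ∈ J.toIdeal, ∀ v : Q.carrier, c • v = 0 := fun c hc v => by
    obtain ⟨r, rfl⟩ := hπs v
    rw [← map_smul]
    exact (Submodule.Quotient.mk_eq_zero _).2 (Ideal.mul_mem_right _ _ hc)
  have hQt : ∀ v : Q.carrier, v ∈ GrLC.gam m.toIdeal Q.carrier := fun v => ⟨k, fun c hc => hJQ c (hk hc) v⟩
  obtain ⟨eQ, heQ⟩ := exists_H0_equiv m E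
  let e0 : Q.carrier →ₗ[R] E.H m 0 := eQ.toLinearMap ∘ₗ LinearMap.id.codRestrict _ hQt
  have he0 : ∀ g v, v ∈ Q.gr g → e0 v ∈ E.Hgr m 0 g := fun g v hv => (heQ g ⟨v, hQt v⟩).1 hv
  have hJC : ∀ c ∈ J.toIdeal, ∀ w : C, c • w = 0 := hX.smul_eq_zero_of_hom (𝒞 := 𝒞) h0 J fun c hc ψ =>
    φ.injective (by rw [map_smul, map_zero]; exact smul_H_eq_zero E m 0 (hJQ c hc) (φ ψ))
  have hCt : ∀ w : C, w ∈ GrLC.gam m.toIdeal C := fun w => ⟨k, fun c hc => hJC c (hk hc) w⟩
  obtain ⟨eC, heC⟩ := exists_H0_equiv m F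
  let ψ₁ : C →ₗ[R] X := φ.symm (e0 (π 1))
  have hψ₁ : ψ₁ ∈ GrLC.homDeg 𝒜 𝒞 𝒳 0 := by
    refine mem_homDeg_of_map φ hφ ?_
    rw [φ.apply_symm_apply]
    exact he0 0 _ ⟨1, SetLike.one_mem_graded 𝒜, rfl⟩
  have hψr : ∀ r : R, φ.symm (e0 (π r)) = r • ψ₁ := fun r => by
    rw [← map_smul, ← map_smul, ← map_smul, smul_eq_mul, mul_one]
  have hψdeg : ∀ g, ∀ c ∈ 𝒞 g, ψ₁ c ∈ 𝒳 g := fun g c hc => by
    have := hψ₁ g c hc; rwa [add_zero] at this
  let μ : F.H m 0 →ₗ[R] X := ψ₁ ∘ₗ (GrLC.gam m.toIdeal C).subtype ∘ₗ eC.symm.toLinearMap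
  have hμe : ∀ w, μ (eC ⟨w, hCt w⟩) = ψ₁ w := fun w =>
    congrArg (fun v : GrLC.gam m.toIdeal C => ψ₁ v.1) (eC.symm_apply_apply ⟨w, hCt w⟩)
  -- every homogeneous map is a multiple of `ψ₁`
  have hmult : ∀ g ψ, ψ ∈ GrLC.homDeg 𝒜 𝒞 𝒳 g → ∃ r ∈ 𝒜 g, ψ = r • ψ₁ := fun g ψ hψ => by
    obtain ⟨v, hv⟩ := eQ.surjective (φ ψ)
    have hvg : v.1 ∈ Q.gr g := (heQ g v).2 (hv.symm ▸ hφ g ψ hψ)
    obtain ⟨r, hr, hrv⟩ := hvg
    refine ⟨r, hr, ?_⟩
    rw [← hψr r, show e0 (π r) = φ ψ from (congrArg eQ (Subtype.ext hrv)).trans hv, φ.symm_apply_apply]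
  refine ⟨μ, (injective_iff_map_eq_zero μ).2 fun y hy => eq_zero_of_cp (F.Hgr m 0) fun g => ?_, fun g y hy => ?_,
    fun z => ⟨?_, fun hz => ?_⟩⟩
  · have hμgr : ∀ d, ∀ w ∈ F.Hgr m 0 d, μ w ∈ 𝒳 d := fun d w hw => by
      obtain ⟨v, rfl⟩ := eC.surjective w
      exact (hμe v.1) ▸ hψdeg d _ ((heC d v).2 hw)
    have h1 : μ (cp (F.Hgr m 0) g y) = 0 := by
      have h2 := cp_map (F.Hgr m 0) 𝒳 μ.toAddMonoidHom hμgr g y
      change cp 𝒳 g (μ y) = μ (cp (F.Hgr m 0) g y) at h2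
      rw [← h2, hy, map_zero]
    obtain ⟨w, hw⟩ := eC.surjective (cp (F.Hgr m 0) g y)
    have hwg : w.1 ∈ 𝒞 g := (heC g w).2 (hw.symm ▸ cp_mem _ g y)
    rw [← hw, show w = (⟨w.1, hCt w.1⟩ : GrLC.gam m.toIdeal C) from rfl, hμe] at h1
    rw [← hw]
    refine eC.map_eq_zero_iff.2 (Subtype.ext (hX.eval_inj h0 hwg fun ψ hψ => ?_))
    obtain ⟨r, -, rfl⟩ := hmult _ ψ hψ
    rw [LinearMap.smul_apply, h1, smul_zero]
  · obtain ⟨v, rfl⟩ := eC.surjective y
    exact (hμe v.1) ▸ hψdeg g _ ((heC g v).2 hy)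
  · rintro ⟨y, rfl⟩ c hc
    rw [← map_smul, smul_H_eq_zero F m 0 (hJC c hc), map_zero]
  · suffices H : ∀ g, cp 𝒳 g z ∈ LinearMap.range μ by
      obtain ⟨s, hs, -⟩ := exists_sum_cp 𝒳 z
      exact hs ▸ sum_mem fun g _ => H g
    intro g
    set y := cp 𝒳 g z with hy
    have hyJ : ∀ c ∈ J.toIdeal, c • y = 0 := fun c hc => by
      obtain ⟨s, hs, -⟩ := exists_sum_cp 𝒜 c
      rw [← hs, Finset.sum_smul]
      refine Finset.sum_eq_zero fun d _ => ?_
      rw [hy, ← cp_smul_hom 𝒜 𝒳 (cp_mem 𝒜 d c), hz (cp 𝒜 d c) (J.isHomogeneous d hc), map_zero]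
    let T : Q.carrier →ₗ[R] X := Submodule.liftQ J.toIdeal (LinearMap.toSpanSingleton R X y) fun c hc => hyJ c hc
    have hT : ∀ r, T (π r) = r • y := fun r => rfl
    have hTe : ∀ r, T (eQ.symm (φ (r • ψ₁))).1 = r • y := fun r => by
      rw [← hψr, φ.apply_symm_apply, show eQ.symm (e0 (π r)) = (⟨π r, hQt _⟩ : GrLC.gam m.toIdeal Q.carrier) from
        eQ.symm_apply_apply ⟨π r, hQt _⟩, hT]
    obtain ⟨c, ⟨hcg, hc⟩, -⟩ := hX.exists_eval h0 g (fun ψ : C →ₗ[R] X => T (eQ.symm (φ ψ)).1) (fun ψ hψ => by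
        obtain ⟨r, hr, rfl⟩ := hmult _ ψ hψ
        change T (eQ.symm (φ (r • ψ₁))).1 ∈ 𝒳 0
        rw [hTe]
        have h1 := smul_mem' 𝒜 𝒳 hr (show y ∈ 𝒳 g from cp_mem 𝒳 g z)
        rwa [neg_add_cancel] at h1)
      (fun a _ b _ => by simp only [map_add, Submodule.coe_add])
      (fun r _ a _ => by simp only [map_smul, Submodule.coe_smul]) (C := C) (𝒞 := 𝒞)
    refine ⟨eC ⟨c, hCt c⟩, ?_⟩
    rw [hμe, ← sub_eq_zero]
    refine hX.uniq g _ (sub_mem (hψdeg g c hcg) (cp_mem 𝒳 g z)) fun r hr => ?_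
    have hrψ : r • ψ₁ ∈ GrLC.homDeg 𝒜 𝒞 𝒳 (-g) := fun d w hw => by
      have h1 := smul_mem' 𝒜 𝒳 hr (hψdeg d w hw)
      rw [add_comm] at h1
      exact h1
    rw [smul_sub, ← LinearMap.smul_apply, hc _ hrψ]
    change T (eQ.symm (φ (r • ψ₁))).1 - r • y = 0
    rw [hTe, sub_self]

/-- the local cohomology of a module dual to the top cohomology of a Cohen–Macaulay quotient -/
theorem canonH : ∀ (n : ℕ) (J : HomogeneousIdeal 𝒜), Module.supportDim R (R ⧸ J.toIdeal) ≤ (n : ℕ) →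
    ∀ (E : GrLC.StarInjRes 𝒜 (quoG 𝒜 𝒜 J.toIdeal J.isHomogeneous).gr), (∀ i < n, Subsingleton (E.H m i)) →
    ∀ (C : Type u) [AddCommGroup C] [Module R C] (𝒞 : ℤ → AddSubgroup C) [DirectSum.Decomposition 𝒞]
      [SetLike.GradedSMul 𝒜 𝒞] [Module.Finite R C] (φ : (C →ₗ[R] X) ≃ₗ[R] E.H m n),
      GrLC.IsGrHom (fun d => (GrLC.homDeg 𝒜 𝒞 𝒳 d).toAddSubgroup) (E.Hgr m n) φ.toLinearMap →
      ∀ (F : GrLC.StarInjRes 𝒜 𝒞), (∀ i < n, Subsingleton (F.H m i)) ∧
        ∃ μ : F.H m n →ₗ[R] X, Function.Injective μ ∧ GrLC.IsGrHom (F.Hgr m n) 𝒳 μ ∧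
          ∀ z, z ∈ LinearMap.range μ ↔ ∀ c ∈ J.toIdeal, c • z = 0 := by
  classical
  intro n
  induction n with
  | zero =>
    intro J hd E _ C _ _ 𝒞 _ _ _ φ hφ F
    exact ⟨fun i hi => absurd hi (Nat.not_lt_zero i), canonH_zero hpos h0 hm hmsp hX J hd E C 𝒞 φ hφ F⟩
  | succ n ih =>
    intro J hd E hE C _ _ 𝒞 _ _ _ φ hφ F
    let Q := quoG 𝒜 𝒜 J.toIdeal J.isHomogeneous
    let π : R →ₗ[R] Q.carrier := Submodule.mkQ J.toIdeal
    have hπs : Function.Surjective π := Submodule.mkQ_surjective _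
    haveI : Module.Finite R Q.carrier := Module.Finite.of_surjective π hπs
    have hJQ : ∀ c ∈ J.toIdeal, ∀ v : Q.carrier, c • v = 0 := fun c hc v => by
      obtain ⟨r, rfl⟩ := hπs v
      rw [← map_smul]
      exact (Submodule.Quotient.mk_eq_zero _).2 (Ideal.mul_mem_right _ _ hc)
    -- a regular element
    have hgam : GrLC.gam m.toIdeal Q.carrier = ⊥ := by
      obtain ⟨e, -⟩ := exists_H0_equiv m E
      haveI := hE 0 (Nat.succ_pos n)
      refine (Submodule.eq_bot_iff _).2 fun v hv => ?_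
      exact congrArg Subtype.val (e.injective (Subsingleton.elim (e ⟨v, hv⟩) (e 0)))
    obtain ⟨e, x, he, hx, hreg⟩ := exists_homog_regular_pos (M := Q.carrier) m hmsp hgam
    have hxm : x ∈ m.toIdeal := hmsp ▸ Ideal.subset_span (Set.mem_iUnion₂.2 ⟨(e : ℤ), (Int.natCast_pos.2 he : (0 : ℤ) < e), hx⟩)
    let J' : HomogeneousIdeal 𝒜 := ⟨J.toIdeal ⊔ Ideal.span {x}, J.isHomogeneous.sup
      (Ideal.homogeneous_span 𝒜 _ fun y hy => ⟨(e : ℤ), (Set.mem_singleton_iff.1 hy).symm ▸ hx⟩)⟩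
    have hxJ' : x ∈ J'.toIdeal := Ideal.mem_sup_right (Ideal.mem_span_singleton_self x)
    have hJJ' : J.toIdeal ≤ J'.toIdeal := le_sup_left
    -- the dimension drops
    have hd' : Module.supportDim R (R ⧸ J'.toIdeal) ≤ (n : ℕ) := by
      have hreg' : IsSMulRegular (R ⧸ J.toIdeal) x := hreg
      have h1 := Module.supportDim_quotSMulTop_succ_le_of_notMem_minimalPrimes (R := R) (M := R ⧸ J.toIdeal) (x := x)
        (fun p hp => hreg'.notMem_of_mem_minimalPrimes hp)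
      have hker : x • (⊤ : Submodule R (R ⧸ J.toIdeal)) ≤ LinearMap.ker (Submodule.factor hJJ') := by
        intro w hw
        obtain ⟨v, -, rfl⟩ := (Submodule.mem_smul_pointwise_iff_exists _ _ _).1 hw
        obtain ⟨r, rfl⟩ := Submodule.mkQ_surjective J.toIdeal v
        rw [LinearMap.mem_ker, ← map_smul]
        exact (Submodule.Quotient.mk_eq_zero _).2 (Ideal.mul_mem_right _ _ hxJ')
      have h2 : Module.supportDim R (R ⧸ J'.toIdeal) ≤ Module.supportDim R (QuotSMulTop x (R ⧸ J.toIdeal)) :=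
        Module.supportDim_le_of_surjective (Submodule.liftQ _ _ hker) (by
          rw [← LinearMap.range_eq_top, Submodule.range_liftQ, LinearMap.range_eq_top]
          exact Submodule.factor_surjective hJJ')
      have h3 := (add_le_add h2 le_rfl).trans (h1.trans hd)
      generalize Module.supportDim R (R ⧸ J'.toIdeal) = s' at h3 ⊢
      induction s' using WithBot.recBotCoe with
      | bot => exact bot_le
      | coe a =>
        have h4 : a + 1 ≤ (n : ℕ∞) + 1 := by exact_mod_cast h3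
        exact_mod_cast (ENat.add_le_add_iff_right (by simp)).1 h4
    let Q' := quoG 𝒜 𝒜 J'.toIdeal J'.isHomogeneous
    haveI : Module.Finite R Q'.carrier := Module.Finite.of_surjective (Submodule.mkQ J'.toIdeal : R →ₗ[R] Q'.carrier)
      (Submodule.mkQ_surjective _)
    -- the sequence for `R ⧸ J`
    let f : (shG 𝒜 Q.gr (-(e : ℤ))).carrier →ₗ[R] Q.carrier := (x • LinearMap.id : Q.carrier →ₗ[R] Q.carrier)
    let g : Q.carrier →ₗ[R] Q'.carrier := Submodule.factor hJJ'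
    have hfgr : GrLC.IsGrHom (shG 𝒜 Q.gr (-(e : ℤ))).gr Q.gr f := fun d v hv => by
      change x • (v : Q.carrier) ∈ Q.gr d
      have h := smul_mem' 𝒜 Q.gr hx (show (v : Q.carrier) ∈ Q.gr (d + -(e : ℤ)) from hv)
      rwa [show (e : ℤ) + (d + -(e : ℤ)) = d from by ring] at h
    have hggr : GrLC.IsGrHom Q.gr Q'.gr g := by
      rintro d _ ⟨r, hr, rfl⟩
      exact ⟨r, hr, rfl⟩
    have hg : Function.Surjective g := Submodule.factor_surjective hJJ'
    have hfg : LinearMap.range f = LinearMap.ker g := by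
      ext v
      obtain ⟨r, rfl⟩ := hπs v
      constructor
      · rintro ⟨w, hw⟩
        obtain ⟨s, rfl⟩ := hπs w
        rw [← hw, LinearMap.mem_ker]
        change g (x • π s) = 0
        rw [← map_smul]
        exact (Submodule.Quotient.mk_eq_zero _).2 (Ideal.mul_mem_right _ _ hxJ')
      · intro hv
        have h1 : r ∈ J.toIdeal ⊔ Ideal.span {x} := (Submodule.Quotient.mk_eq_zero _).1 hv
        obtain ⟨j, hj, y, hy, rfl⟩ := Submodule.mem_sup.1 h1
        obtain ⟨s, rfl⟩ := Ideal.mem_span_singleton'.1 hy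
        refine ⟨π s, ?_⟩
        change x • π s = π (j + s * x)
        rw [map_add, show π j = 0 from (Submodule.Quotient.mk_eq_zero _).2 hj, zero_add, mul_comm, ← smul_eq_mul, map_smul]
    obtain ⟨E'⟩ := nonempty_starInjRes 𝒜 Q'.gr
    obtain ⟨gmap, hgm⟩ := exists_map E E' g hggr
    have hfm := isMap_smul' E (y := x) (d := (e : ℤ)) hx
    obtain ⟨δ, hδ, hx1, hx2, hx3, -⟩ := exists_les (shiftRes E (-(e : ℤ))) E E' m (f := f) hreg hg hfg hfgr hggr hfm hgm
    let L : E'.H m n →ₗ[R] E.H m (n + 1) := (unshift E (-(e : ℤ)) m (n + 1)).toLinearMap ∘ₗ δ n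
    have hL : ∀ d, ∀ z ∈ E'.Hgr m n d, L z ∈ E.Hgr m (n + 1) (d + -(e : ℤ)) := fun d z hz =>
      (unshift_grHom E (-(e : ℤ)) m (n + 1) d (δ n z)).1 (hδ n d z hz)
    have hE' : ∀ i < n, Subsingleton (E'.H m i) := fun i hi => subsingleton_of_forall_eq 0 fun z => by
      haveI := hE i (Nat.lt_succ_of_lt hi)
      haveI := hE (i + 1) (Nat.succ_lt_succ hi)
      haveI : Subsingleton ((shiftRes E (-(e : ℤ))).H m (i + 1)) := (unshift E (-(e : ℤ)) m (i + 1)).toEquiv.subsingleton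
      obtain ⟨w, rfl⟩ := (hx2 i z).1 (Subsingleton.elim _ _)
      rw [Subsingleton.elim w 0, map_zero]
    have hLinj : Function.Injective L := (injective_iff_map_eq_zero L).2 fun z hz => by
      haveI := hE n n.lt_succ_self
      obtain ⟨w, rfl⟩ := (hx2 n z).1 ((unshift E (-(e : ℤ)) m (n + 1)).map_eq_zero_iff.1 hz)
      rw [Subsingleton.elim w 0, map_zero]
    have hLker : ∀ y, x • y = 0 ↔ ∃ z, L z = y := fun y => by
      constructor
      · intro hy
        obtain ⟨z, hz⟩ := (hx3 n ((unshift E (-(e : ℤ)) m (n + 1)).symm y)).1 (by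
          rw [Hmap_smul' E m hx, LinearEquiv.apply_symm_apply]; exact hy)
        exact ⟨z, by change unshift E _ m (n + 1) (δ n z) = y; rw [hz, LinearEquiv.apply_symm_apply]⟩
      · rintro ⟨z, rfl⟩
        change x • unshift E _ m (n + 1) (δ n z) = 0
        rw [← Hmap_smul' E m hx]
        exact (hx3 n (δ n z)).2 ⟨z, rfl⟩
    have hdivE : ∀ y : E.H m (n + 1), ∃ y', x • y' = y := fun y => by
      haveI : Subsingleton (E'.H m (n + 1)) := by
        obtain ⟨eq⟩ := nonempty_H_equiv E' m (n + 1)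
        haveI := Groth.L04.LC.subsingleton_H_of_supportDim_lt m.toIdeal Q'.carrier (n + 1)
          (lt_of_le_of_lt hd' (by exact_mod_cast n.lt_succ_self))
        exact eq.toEquiv.subsingleton
      obtain ⟨w, hw⟩ := (hx1 (n + 1) y).1 (Subsingleton.elim _ _)
      exact ⟨unshift E (-(e : ℤ)) m (n + 1) w, by rw [← Hmap_smul' E m hx]; exact hw⟩
    -- `C`
    have hJC : ∀ c ∈ J.toIdeal, ∀ w : C, c • w = 0 := hX.smul_eq_zero_of_hom (𝒞 := 𝒞) h0 J fun c hc ψ =>
      φ.injective (by rw [map_smul, map_zero]; exact smul_H_eq_zero E m (n + 1) (hJQ c hc) (φ ψ))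
    have hregC : IsSMulRegular C x := (isSMulRegular_iff_right_eq_zero_of_smul (M := C) (r := x)).2 fun c hc =>
      eq_zero_of_cp 𝒞 fun d => by
        have h1 : x • cp 𝒞 d c = 0 := by
          rw [← cp_smul_hom 𝒜 𝒞 hx, hc, map_zero]
        refine hX.eval_inj h0 (cp_mem 𝒞 d c) fun ψ _ => ?_
        obtain ⟨y', hy'⟩ := hdivE (φ ψ)
        obtain ⟨ψ', rfl⟩ := φ.surjective y'
        rw [← map_smul] at hy'
        rw [← φ.injective hy', LinearMap.smul_apply, ← map_smul, h1, map_zero]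
    let P : Submodule R C := LinearMap.range (x • LinearMap.id : C →ₗ[R] C)
    have hPm : ∀ w, w ∈ P ↔ ∃ v, x • v = w := fun w => Iff.rfl
    have hP : P.IsHomogeneous 𝒞 := fun i w hw => by
      obtain ⟨v, rfl⟩ := (hPm w).1 hw
      refine (hPm _).2 ⟨cp 𝒞 (i - e) v, ?_⟩
      exact (cp_smul_hom' 𝒜 𝒞 hx i v).symm
    let Ce := shG 𝒜 𝒞 (e : ℤ)
    let Cq := quoG 𝒜 𝒞 P hP
    let C1 := shG 𝒜 Cq.gr (e : ℤ)
    let p₀ : C →ₗ[R] Cq.carrier := P.mkQ
    have hp₀ : Function.Surjective p₀ := Submodule.mkQ_surjective P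
    let p : Ce.carrier →ₗ[R] C1.carrier := p₀
    have hpgr : GrLC.IsGrHom Ce.gr C1.gr p := fun d w hw => ⟨w, hw, rfl⟩
    haveI : Module.Finite R C1.carrier := Module.Finite.of_surjective (p₀ : C →ₗ[R] C1.carrier) hp₀
    have hJ'C1 : ∀ c ∈ J'.toIdeal, ∀ w : C1.carrier, c • w = 0 := fun c hc w => by
      obtain ⟨v, rfl⟩ := hp₀ w
      obtain ⟨j, hj, y, hy, rfl⟩ := Submodule.mem_sup.1 hc
      obtain ⟨s, rfl⟩ := Ideal.mem_span_singleton'.1 hy
      change (j + s * x) • p₀ v = 0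
      rw [← map_smul, add_smul, hJC j hj, zero_add, mul_comm, mul_smul]
      exact (Submodule.Quotient.mk_eq_zero P).2 ((hPm _).2 ⟨s • v, rfl⟩)
    -- the dual of the quotient
    let pre : (C1.carrier →ₗ[R] X) →ₗ[R] (C →ₗ[R] X) := (p₀ : C →ₗ[R] C1.carrier).lcomp R X
    have hpre : ∀ ψ, ∃ z, L z = φ (pre ψ) := fun ψ => (hLker _).1 (by
      rw [← map_smul, φ.map_eq_zero_iff]
      refine LinearMap.ext fun v => ?_
      change x • ψ (p₀ v) = 0
      rw [← map_smul, hJ'C1 x hxJ', map_zero])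
    choose Φ hΦ using hpre
    let φ1' : (C1.carrier →ₗ[R] X) →ₗ[R] E'.H m n :=
      { toFun := Φ
        map_add' := fun a b => hLinj (by rw [map_add, hΦ, hΦ, hΦ, map_add, map_add])
        map_smul' := fun r a => hLinj (by rw [RingHom.id_apply, map_smul, hΦ, hΦ, map_smul, map_smul]) }
    have hφ1 : Function.Bijective φ1' := by
      refine ⟨fun a b hab => LinearMap.ext fun w => ?_, fun z => ?_⟩
      · obtain ⟨v, rfl⟩ := hp₀ w
        have h1 : φ (pre a) = φ (pre b) := by rw [← hΦ, ← hΦ]; exact congrArg L hab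
        exact LinearMap.congr_fun (φ.injective h1) v
      · obtain ⟨ψ, hψ⟩ := φ.surjective (L z)
        have hxψ : x • ψ = 0 := φ.injective (by rw [map_smul, hψ, map_zero]; exact (hLker _).2 ⟨z, rfl⟩)
        have hle : P ≤ LinearMap.ker ψ := fun w hw => by
          obtain ⟨v, rfl⟩ := (hPm w).1 hw
          rw [LinearMap.mem_ker, map_smul, ← LinearMap.smul_apply, hxψ, LinearMap.zero_apply]
        refine ⟨(P.liftQ ψ hle : C1.carrier →ₗ[R] X), hLinj ?_⟩
        refine (hΦ _).trans (Eq.trans ?_ hψ)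
        exact congrArg φ (LinearMap.ext fun v => rfl)
    letI := (Hgr_isInternal m E' n).chooseDecomposition
    letI := (Hgr_isInternal m E (n + 1)).chooseDecomposition
    have hφ1gr : GrLC.IsGrHom (fun d => (GrLC.homDeg 𝒜 C1.gr 𝒳 d).toAddSubgroup) (E'.Hgr m n)
        (LinearEquiv.ofBijective φ1' hφ1).toLinearMap := by
      intro d ψ hψ
      change Φ ψ ∈ E'.Hgr m n d
      have hdeg : pre ψ ∈ GrLC.homDeg 𝒜 𝒞 𝒳 (d + -(e : ℤ)) := fun i w hw => by
        have h1 : (p₀ w : C1.carrier) ∈ C1.gr (i - e) := by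
          refine ⟨w, ?_, rfl⟩
          change w ∈ 𝒞 (i - e + e); rwa [sub_add_cancel]
        have h2 := hψ (i - e) _ h1
        rw [show i - (e : ℤ) + d = i + (d + -(e : ℤ)) by ring] at h2
        exact h2
      have h1 : φ (pre ψ) ∈ E.Hgr m (n + 1) (d + -(e : ℤ)) := hφ _ _ hdeg
      rw [← hΦ] at h1
      refine (mem_iff_cp (E'.Hgr m n)).2 (hLinj ?_)
      have h2 := cp_map_deg (E'.Hgr m n) (E.Hgr m (n + 1)) L.toAddMonoidHom (-(e : ℤ)) hL d (Φ ψ)
      change cp (E.Hgr m (n + 1)) _ (L (Φ ψ)) = L (cp (E'.Hgr m n) d (Φ ψ)) at h2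
      rw [← h2, cp_same _ h1]
    obtain ⟨F1⟩ := nonempty_starInjRes 𝒜 C1.gr
    obtain ⟨hF1, μ1, hμ1, hμ1gr, hμ1r⟩ := ih J' hd' E' hE' C1.carrier C1.gr (LinearEquiv.ofBijective φ1' hφ1) hφ1gr F1
    -- the sequence for `C`
    let fC : C →ₗ[R] Ce.carrier := (x • LinearMap.id : C →ₗ[R] C)
    have hfCgr : GrLC.IsGrHom 𝒞 Ce.gr fC := fun d w hw => by
      change x • w ∈ 𝒞 (d + e)
      rw [add_comm]
      exact smul_mem' 𝒜 𝒞 hx hw
    have hfgC : LinearMap.range fC = LinearMap.ker p := (Submodule.ker_mkQ P).symm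
    obtain ⟨pm, hpm⟩ := exists_map (shiftRes F (e : ℤ)) F1 p hpgr
    have hfCm := isMap_smul F (y := x) (d := (e : ℤ)) hx
    obtain ⟨δC, hδC, hc1, hc2, hc3, hc0⟩ := exists_les F (shiftRes F (e : ℤ)) F1 m (f := fC) hregC hp₀ hfgC hfCgr hpgr hfCm hpm
    have htors : ∀ i, (∀ y : F.H m i, x • y = 0 → y = 0) → Subsingleton (F.H m i) := fun i hi =>
      subsingleton_of_forall_eq 0 fun y => by
        obtain ⟨k, hk⟩ := isPowerTorsion_H m F i y
        have key : ∀ k : ℕ, x ^ k • y = 0 → y = 0 := fun k => by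
          induction k with
          | zero => simp
          | succ k ihk => exact fun h => ihk (hi _ (by rw [← mul_smul, ← pow_succ', h]))
        exact key k (hk _ (Ideal.pow_mem_pow hxm k))
    have hF : ∀ i < n + 1, Subsingleton (F.H m i) := fun i hi => htors i fun y hy => by
      have h1 : hfCm.Hmap m i y = 0 :=
        (unshift F (e : ℤ) m i).map_eq_zero_iff.1 (by rw [Hmap_smul F m hx]; exact hy)
      rcases i with _ | i
      · exact hc0 (h1.trans (map_zero _).symm)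
      · haveI := hF1 i (Nat.lt_of_succ_lt_succ hi)
        obtain ⟨w, rfl⟩ := (hc3 i y).1 h1
        rw [Subsingleton.elim w 0, map_zero]
    refine ⟨hF, ?_⟩
    letI := (Hgr_isInternal m F (n + 1)).chooseDecomposition
    haveI : SetLike.GradedSMul 𝒜 (F.Hgr m (n + 1)) := ⟨fun {_ _ _ _} hr hv => smul_mem_Hgr F m (n + 1) hr hv⟩
    letI := (Hgr_isInternal m F1 n).chooseDecomposition
    haveI : SetLike.GradedSMul 𝒜 (F1.Hgr m n) := ⟨fun {_ _ _ _} hr hv => smul_mem_Hgr F1 m n hr hv⟩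
    have hδinj : Function.Injective (δC n) := (injective_iff_map_eq_zero _).2 fun z hz => by
      haveI := hF n n.lt_succ_self
      haveI : Subsingleton ((shiftRes F (e : ℤ)).H m n) := (unshift F (e : ℤ) m n).toEquiv.subsingleton
      obtain ⟨w, rfl⟩ := (hc2 n z).1 hz
      rw [Subsingleton.elim w 0, map_zero]
    obtain ⟨μ, hμgr, hμc⟩ := exists_extend (hX.starInj h0) (δC n) (hδC n) μ1 hμ1gr
      (by rw [LinearMap.ker_eq_bot.2 hδinj]; exact bot_le)
    have hxker : ∀ y : F.H m (n + 1), x • y = 0 → ∃ v, δC n v = y := fun y hy =>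
      (hc3 n y).1 ((unshift F (e : ℤ) m (n + 1)).map_eq_zero_iff.1 (by rw [Hmap_smul F m hx]; exact hy))
    have hμinj : Function.Injective μ := (injective_iff_map_eq_zero μ).2 fun y hy => by
      obtain ⟨k, hk⟩ := isPowerTorsion_H m F (n + 1) y
      have key : ∀ k : ℕ, ∀ y : F.H m (n + 1), μ y = 0 → x ^ k • y = 0 → y = 0 := fun k => by
        induction k with
        | zero => intro y _ h; simpa using h
        | succ k ihk =>
          intro y hμy h
          have h1 : x • y = 0 := ihk _ (by rw [map_smul, hμy, smul_zero]) (by rw [← mul_smul, ← pow_succ, h])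
          obtain ⟨v, rfl⟩ := hxker y h1
          rw [← LinearMap.comp_apply, hμc] at hμy
          rw [hμ1 (hμy.trans (map_zero μ1).symm), map_zero]
      exact key k y hy (hk _ (Ideal.pow_mem_pow hxm k))
    have hdivF : ∀ y : F.H m (n + 1), ∃ y', x • y' = y := fun y => by
      haveI : Subsingleton (F1.H m (n + 1)) := by
        obtain ⟨eq⟩ := nonempty_H_equiv F1 m (n + 1)
        haveI := Groth.L04.LC.subsingleton_H_of_supportDim_lt m.toIdeal C1.carrier (n + 1)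
          (lt_of_le_of_lt ((supportDim_le_of_killed J'.toIdeal hJ'C1).trans hd') (by exact_mod_cast n.lt_succ_self))
        exact eq.toEquiv.subsingleton
      obtain ⟨w, hw⟩ := (hc1 (n + 1) ((unshift F (e : ℤ) m (n + 1)).symm y)).1 (Subsingleton.elim _ _)
      exact ⟨w, by rw [← Hmap_smul F m hx, hw, LinearEquiv.apply_symm_apply]⟩
    refine ⟨μ, hμinj, hμgr, fun z => ⟨?_, fun hz => ?_⟩⟩
    · rintro ⟨y, rfl⟩ c hc
      rw [← map_smul, smul_H_eq_zero F m (n + 1) (hJC c hc), map_zero]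
    · obtain ⟨k, hk⟩ := hX.mem_gam hpos hmsp z
      have key : ∀ k : ℕ, ∀ z : X, (∀ c ∈ J.toIdeal, c • z = 0) → x ^ k • z = 0 → z ∈ LinearMap.range μ := fun k => by
        induction k with
        | zero => intro z _ h; rw [pow_zero, one_smul] at h; rw [h]; exact zero_mem _
        | succ k ihk =>
          intro z hz h
          obtain ⟨y, hy⟩ := ihk (x • z) (fun c hc => by rw [smul_comm, hz c hc, smul_zero])
            (by rw [← mul_smul, ← pow_succ, h])
          obtain ⟨y', rfl⟩ := hdivF y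
          have hw : ∀ c ∈ J'.toIdeal, c • (z - μ y') = 0 := fun c hc => by
            obtain ⟨j, hj, b, hb, rfl⟩ := Submodule.mem_sup.1 hc
            obtain ⟨s, rfl⟩ := Ideal.mem_span_singleton'.1 hb
            rw [add_smul, smul_sub j, hz j hj, ← map_smul μ j, smul_H_eq_zero F m (n + 1) (hJC j hj), map_zero, sub_zero,
              zero_add, mul_smul, smul_sub x, ← hy, map_smul, sub_self, smul_zero]
          obtain ⟨v, hv⟩ := (hμ1r _).2 hw
          refine ⟨δC n v + y', ?_⟩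
          rw [map_add, ← LinearMap.comp_apply μ (δC n), hμc, hv, sub_add_cancel]
      exact key k z hz (hk _ (Ideal.pow_mem_pow hxm k))

end Groth.L12.GrLCLib
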