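import Groth.Agent.L12.GrLCBase
import Mathlib.LinearAlgebra.FreeModule.Finite.Basic
import Mathlib.RingTheory.GradedAlgebra.Homogeneous.Ideal

/-!
# Coarsening a grading along a homomorphism of grading groups
-/

set_option autoImplicit false

universe u

open DirectSum

namespace Groth.L12.GrLCLib

variable {ι κ : Type} [AddCommGroup ι] [DecidableEq ι] [AddCommGroup κ] [DecidableEq κ]

section Module

variable {M : Type u} [AddCommGroup M] (ℳ : ι → AddSubgroup M) [DirectSum.Decomposition ℳ] (f : ι →+ κ)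

/-- the pieces of the coarser grading -/
def fib (n : κ) : AddSubgroup M := ⨆ d : {d : ι // f d = n}, ℳ d.1

omit [DirectSum.Decomposition ℳ] [DecidableEq ι] [DecidableEq κ] in
lemma mem_fib {n : κ} {d : ι} (hd : f d = n) {x : M} (hx : x ∈ ℳ d) : x ∈ fib ℳ f n :=
  AddSubgroup.mem_iSup_of_mem (⟨d, hd⟩ : {d : ι // f d = n}) hx

/-- the projection onto a coarse piece -/
noncomputable def pcp (n : κ) : M →+ M :=
  (DirectSum.toAddMonoid fun d => if f d = n then (ℳ d).subtype else 0).comp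
    (decomposeAddEquiv ℳ).toAddMonoidHom

lemma pcp_mem {d : ι} {x : M} (hx : x ∈ ℳ d) (n : κ) : pcp ℳ f n x = if f d = n then x else 0 := by
  change DirectSum.toAddMonoid _ (decompose ℳ x) = _
  rw [decompose_of_mem ℳ hx, DirectSum.toAddMonoid_of]
  split_ifs <;> rfl

lemma fib_isInternal : DirectSum.IsInternal (fib ℳ f) := by
  refine isInternal_of_pr _ (pcp ℳ f) (fun n x hx => ?_) (fun n m hnm x hx => ?_) fun x => ?_
  · refine AddSubgroup.iSup_induction (C := fun x => pcp ℳ f n x = x) _ hx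
      (fun d y hy => by rw [pcp_mem ℳ f hy, if_pos d.2]) (map_zero _)
      (fun a b ha hb => by rw [map_add, ha, hb])
  · refine AddSubgroup.iSup_induction (C := fun x => pcp ℳ f m x = 0) _ hx
      (fun d y hy => by rw [pcp_mem ℳ f hy, if_neg (by rw [d.2]; exact hnm)]) (map_zero _)
      (fun a b ha hb => by rw [map_add, ha, hb, add_zero])
  · obtain ⟨s, hs, -⟩ := exists_sum_cp ℳ x
    rw [← hs]
    exact sum_mem fun d _ => AddSubgroup.mem_iSup_of_mem (f d) (mem_fib ℳ f rfl (cp_mem ℳ d x))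

@[reducible] noncomputable def fibDec : DirectSum.Decomposition (fib ℳ f) :=
  (fib_isInternal ℳ f).chooseDecomposition

lemma cp_fib_of_mem [DirectSum.Decomposition (fib ℳ f)] {d : ι} {x : M} (hx : x ∈ ℳ d) (n : κ) :
    cp (fib ℳ f) n x = if f d = n then x else 0 := by
  split_ifs with h
  · exact cp_same _ (mem_fib ℳ f h hx)
  · exact cp_ne _ (mem_fib ℳ f rfl hx) h

lemma cp_fib_sum [DirectSum.Decomposition (fib ℳ f)] (x : M) (s : Finset ι) (n : κ) :
    cp (fib ℳ f) n (∑ d ∈ s, cp ℳ d x) = ∑ d ∈ s.filter (fun d => f d = n), cp ℳ d x := by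
  rw [map_sum, Finset.sum_filter]
  exact Finset.sum_congr rfl fun d _ => cp_fib_of_mem ℳ f (cp_mem ℳ d x) n

lemma cp_fib_comm {κ' : Type} [AddCommGroup κ'] [DecidableEq κ'] (g : ι →+ κ')
    [DirectSum.Decomposition (fib ℳ f)] [DirectSum.Decomposition (fib ℳ g)] (n : κ) (m : κ') (x : M) :
    cp (fib ℳ f) n (cp (fib ℳ g) m x) = cp (fib ℳ g) m (cp (fib ℳ f) n x) := by
  induction x using induction_on_hom ℳ with
  | h0 => simp
  | hh d y hy =>
    rw [cp_fib_of_mem ℳ g hy, cp_fib_of_mem ℳ f hy]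
    split_ifs <;> simp [cp_fib_of_mem ℳ g hy, cp_fib_of_mem ℳ f hy, *]
  | ha a b ha hb => simp only [map_add, ha, hb]

end Module

section Ring

variable {R : Type u} [CommRing R] (𝒜 : ι → AddSubgroup R) [GradedRing 𝒜] (f : ι →+ κ)

theorem fib_gradedMonoid : SetLike.GradedMonoid (fib 𝒜 f) where
  one_mem := mem_fib 𝒜 f (map_zero f) (SetLike.one_mem_graded 𝒜)
  mul_mem n m x y hx hy := by
    refine AddSubgroup.iSup_induction (C := fun x => x * y ∈ fib 𝒜 f (n + m)) _ hx (fun d a ha => ?_)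
      (by rw [zero_mul]; exact zero_mem _) (fun a b ha hb => by rw [add_mul]; exact add_mem ha hb)
    refine AddSubgroup.iSup_induction (C := fun y => a * y ∈ fib 𝒜 f (n + m)) _ hy (fun e b hb => ?_)
      (by rw [mul_zero]; exact zero_mem _) (fun u v hu hv => by rw [mul_add]; exact add_mem hu hv)
    exact mem_fib 𝒜 f (by rw [map_add, d.2, e.2]) (SetLike.mul_mem_graded ha hb)

/-- the coarse graded ring -/
@[reducible] noncomputable def fibRing : GradedRing (fib 𝒜 f) :=
  { fib_gradedMonoid 𝒜 f, fibDec 𝒜 f with }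

variable {M : Type u} [AddCommGroup M] [Module R M] (ℳ : ι → AddSubgroup M) [SetLike.GradedSMul 𝒜 ℳ]

theorem fib_gradedSMul : SetLike.GradedSMul (fib 𝒜 f) (fib ℳ f) where
  smul_mem {n m r x} hr hx := by
    refine AddSubgroup.iSup_induction (C := fun r => r • x ∈ fib ℳ f (n + m)) _ hr (fun d a ha => ?_)
      (by rw [zero_smul]; exact zero_mem _) (fun a b ha hb => by rw [add_smul]; exact add_mem ha hb)
    refine AddSubgroup.iSup_induction (C := fun x => a • x ∈ fib ℳ f (n + m)) _ hx (fun e b hb => ?_)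
      (by rw [smul_zero]; exact zero_mem _) (fun u v hu hv => by rw [smul_add]; exact add_mem hu hv)
    exact mem_fib ℳ f (by rw [vadd_eq_add, map_add, d.2, e.2]) (SetLike.GradedSMul.smul_mem (A := 𝒜) (B := ℳ) ha hb)

end Ring

section Core

variable {R : Type u} [CommRing R] (𝒜 : ι → AddSubgroup R) [GradedRing 𝒜] (f : ι →+ κ)

/-- homogeneity for a coarse grading -/
def IsCoarseHom (I : Ideal R) : Prop :=
  letI := fibRing 𝒜 f
  I.IsHomogeneous (fib 𝒜 f)

/-- the core for a coarse grading -/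
noncomputable def coreAt (I : Ideal R) : Ideal R :=
  letI := fibRing 𝒜 f
  (Ideal.homogeneousCore (fib 𝒜 f) I).toIdeal

lemma coreAt_le (I : Ideal R) : coreAt 𝒜 f I ≤ I :=
  letI := fibRing 𝒜 f
  Ideal.toIdeal_homogeneousCore_le _ I

lemma coreAt_isCoarseHom (I : Ideal R) : IsCoarseHom 𝒜 f (coreAt 𝒜 f I) :=
  letI := fibRing 𝒜 f
  (Ideal.homogeneousCore (fib 𝒜 f) I).isHomogeneous

lemma isCoarseHom_of_isHomogeneous {I : Ideal R} (hI : I.IsHomogeneous 𝒜) : IsCoarseHom 𝒜 f I := by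
  letI := fibRing 𝒜 f
  intro n x hx
  obtain ⟨s, hs, -⟩ := exists_sum_cp 𝒜 x
  change cp (fib 𝒜 f) n x ∈ I
  rw [← hs, cp_fib_sum 𝒜 f x]
  exact Ideal.sum_mem _ fun d _ => hI d hx

lemma le_coreAt {I J : Ideal R} (hJ : IsCoarseHom 𝒜 f J) (h : J ≤ I) : J ≤ coreAt 𝒜 f I := by
  letI := fibRing 𝒜 f
  intro x hx
  obtain ⟨s, hs, -⟩ := exists_sum_cp (fib 𝒜 f) x
  rw [← hs]
  exact Ideal.sum_mem _ fun n _ =>
    Ideal.mem_homogeneousCore_of_homogeneous_of_mem ⟨n, cp_mem _ n x⟩ (h (hJ n hx))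

lemma coreAt_isCoarseHom_of {κ' : Type} [AddCommGroup κ'] [DecidableEq κ'] (g : ι →+ κ') {I : Ideal R}
    (hI : IsCoarseHom 𝒜 g I) : IsCoarseHom 𝒜 g (coreAt 𝒜 f I) := by
  letI := fibRing 𝒜 f
  letI := fibRing 𝒜 g
  intro m x hx
  change cp (fib 𝒜 g) m x ∈ _
  obtain ⟨s, hs, -⟩ := exists_sum_cp (fib 𝒜 f) (cp (fib 𝒜 g) m x)
  rw [← hs]
  refine Ideal.sum_mem _ fun n _ => Ideal.mem_homogeneousCore_of_homogeneous_of_mem ⟨n, cp_mem _ n _⟩ ?_
  rw [cp_fib_comm 𝒜 f g n m x]
  exact hI m (coreAt_le 𝒜 f I ((coreAt_isCoarseHom 𝒜 f I) n hx))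

/-- an ideal homogeneous along a separating family of homomorphisms is homogeneous -/
theorem isHomogeneous_of_coarse {J : Type*} [Finite J] (c : J → ι →+ κ) (hc : ∀ d e, (∀ j, c j d = c j e) → d = e)
    {I : Ideal R} (hI : ∀ j, IsCoarseHom 𝒜 (c j) I) : I.IsHomogeneous 𝒜 := by
  classical
  haveI := Fintype.ofFinite J
  intro d x hx
  obtain ⟨s, hs, hs'⟩ := exists_sum_cp 𝒜 x
  have key : ∀ T : Finset J, ∑ e ∈ s.filter (fun e => ∀ j ∈ T, c j e = c j d), cp 𝒜 e x ∈ I := by
    intro T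
    induction T using Finset.induction with
    | empty => simpa [hs] using hx
    | insert a T _ ih =>
      letI := fibRing 𝒜 (c a)
      have h1 : cp (fib 𝒜 (c a)) (c a d) _ ∈ I := (hI a) (c a d) ih
      rw [cp_fib_sum 𝒜 (c a) x, Finset.filter_filter] at h1
      convert h1 using 2
      refine Finset.filter_congr fun e _ => ?_
      simp only [Finset.forall_mem_insert]
      exact And.comm
  have h2 := key Finset.univ
  change cp 𝒜 d x ∈ I
  by_cases hd : d ∈ s
  · rwa [show s.filter (fun e => ∀ j ∈ Finset.univ, c j e = c j d) = {d} from Finset.ext fun e => by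
      simp only [Finset.mem_filter, Finset.mem_univ, forall_true_left, Finset.mem_singleton]
      exact ⟨fun h => hc e d h.2, fun h => by subst h; exact ⟨hd, fun _ => rfl⟩⟩, Finset.sum_singleton] at h2
  · rw [not_not.1 fun h => hd (hs' d h)]
    exact I.zero_mem

end Core

end Groth.L12.GrLCLib
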