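import Groth.Agent.L29.Dual.GorensteinRing
import Groth.Agent.L12.GrLCIterDepth
import Groth.Agent.L04.Depth2
import Groth.Agent.S0341
import Groth.Prelude.Def_GrLC2

/-!
# Bass numbers of a Gorenstein local ring
-/

set_option autoImplicit false

universe u

open CategoryTheory CategoryTheory.Abelian IsLocalRing

attribute [local instance] HasDerivedCategory.standard

namespace Groth.L12.GrLCLib

set_option backward.isDefEq.respectTransparency false in
theorem bassNumLocal_gorenstein {A : Type u} [CommRing A] [LocCoh.IsGorensteinLocalRing A] (n : ℕ) (hn : ringKrullDim A = n) (i : ℕ) :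
    GrLC.bassNumLocal A A i = if i = n then 1 else 0 := by
  have h := Groth.L29.Gorenstein.isGorensteinLocalRing_iff_isDualizing.1 (inferInstance : LocCoh.IsGorensteinLocalRing A)
  obtain ⟨m, hm, ⟨em⟩⟩ := Groth.L29.HomD.residue_degree (maximalIdeal A) h
  have he : ∀ j : ℕ, Nonempty (Ext.{u} (ModuleCat.of A (ResidueField A)) (ModuleCat.of A A) j ≃ₗ[A]
      (Dual.inD A (A ⧸ maximalIdeal A) ⟶ (Dual.inD A A)⟦(j : ℤ)⟧)) := fun j => ⟨Ext.homLinearEquiv⟩
  have h0 : ∀ j : ℕ, (j : ℤ) ≠ m → Subsingleton (Ext.{u} (ModuleCat.of A (ResidueField A)) (ModuleCat.of A A) j) :=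
    fun j hj => by
      obtain ⟨e⟩ := he j
      haveI := hm j hj
      exact e.toEquiv.subsingleton
  have hmn : m = n := by
    haveI : LocCoh.IsCohenMacaulayLocalRing A := Groth.Agent.S0341.result A
    have hd : LocCoh.depth A A = n := by
      have h1 := LocCoh.IsCohenMacaulayLocalRing.supportDim_eq_depth (R := A)
      rw [Module.supportDim_self_eq_ringKrullDim, hn] at h1
      exact WithBot.coe_inj.1 h1.symm
    obtain ⟨-, hnt⟩ := (Groth.L04.idealDepth_eq_succ_iff (I := maximalIdeal A) (M := A) n).1 hd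
    by_contra hne
    exact (not_subsingleton_iff_nontrivial.2 hnt) (h0 n (Ne.symm hne))
  subst hmn
  rw [GrLC.bassNumLocal]
  split_ifs with hi
  · subst hi
    obtain ⟨e⟩ := he i
    haveI : IsSimpleModule A (A ⧸ maximalIdeal A) := isSimpleModule_iff_isCoatom.2
      (Ideal.isMaximal_def.1 (IsLocalRing.maximalIdeal.isMaximal A))
    rw [(e ≪≫ₗ em).length_eq, Module.length_eq_one]
  · haveI := h0 i (by exact_mod_cast hi)
    exact Module.length_eq_zero_iff.2 inferInstance

/-- Bass numbers of a Gorenstein ring -/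
theorem bassNum_gorenstein {R : Type u} [CommRing R] [LocCoh.IsGorensteinRing R] (p : Ideal R) [p.IsPrime] (n : ℕ)
    (hn : p.height = n) (i : ℕ) : GrLC.bassNum p R i = if i = n then 1 else 0 := by
  let A := Localization.AtPrime p
  haveI : LocCoh.IsGorensteinLocalRing A := LocCoh.IsGorensteinRing.isGorensteinLocalRing_localization p
  have hdim : ringKrullDim A = n := by
    rw [IsLocalization.AtPrime.ringKrullDim_eq_height p, hn]; rfl
  rw [← bassNumLocal_gorenstein n hdim i, GrLC.bassNum]

end Groth.L12.GrLCLib
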