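import Groth.Agent.L12.GrLCBase
import Mathlib.Algebra.Module.Injective
import Mathlib.Algebra.Category.ModuleCat.EnoughInjectives
import Mathlib.Order.Zorn

/-!
# Graded injective modules: extension lemma, hulls, resolutions
-/

set_option autoImplicit false

universe u

open DirectSum

namespace Groth.L12.GrLCLib

variable {ι : Type} [AddCommGroup ι] [DecidableEq ι]
variable {R : Type u} [CommRing R] {σ : Type u} [SetLike σ R] [AddSubgroupClass σ R]
variable {𝒜 : ι → σ} [GradedRing 𝒜]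

/-- Extending along a homogeneous map into a *injective. -/
theorem exists_extend {Y : Type u} [AddCommGroup Y] [Module R Y] {τ : Type u} [SetLike τ Y] [AddSubgroupClass τ Y]
    {𝒴 : ι → τ} [DirectSum.Decomposition 𝒴] [SetLike.GradedSMul 𝒜 𝒴] (hY : GrLC.IsStarInj 𝒜 𝒴)
    {X : Type u} [AddCommGroup X] [Module R X] {τ' : Type u} [SetLike τ' X] [AddSubgroupClass τ' X]
    {𝒳 : ι → τ'} [DirectSum.Decomposition 𝒳] [SetLike.GradedSMul 𝒜 𝒳]
    {Z : Type u} [AddCommGroup Z] [Module R Z] {τ'' : Type u} [SetLike τ'' Z] [AddSubgroupClass τ'' Z]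
    {𝒵 : ι → τ''} [DirectSum.Decomposition 𝒵] [SetLike.GradedSMul 𝒜 𝒵]
    (ψ : X →ₗ[R] Z) (hψ : GrLC.IsGrHom 𝒳 𝒵 ψ) (φ : X →ₗ[R] Y) (hφ : GrLC.IsGrHom 𝒳 𝒴 φ)
    (hker : LinearMap.ker ψ ≤ LinearMap.ker φ) :
    ∃ h : Z →ₗ[R] Y, GrLC.IsGrHom 𝒵 𝒴 h ∧ h ∘ₗ ψ = φ := by
  have hK := ker_isHomogeneous 𝒳 𝒵 hψ
  let f : (X ⧸ LinearMap.ker ψ) →ₗ[R] Z := Submodule.liftQ _ ψ le_rfl
  let g : (X ⧸ LinearMap.ker ψ) →ₗ[R] Y := Submodule.liftQ _ φ hker
  have hinj : Function.Injective f := LinearMap.ker_eq_bot.1 (Submodule.ker_liftQ_eq_bot _ _ _ le_rfl)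
  obtain ⟨h, hh, hc⟩ := hY (quoG 𝒜 𝒳 _ hK) (toG 𝒜 𝒵) f
    (by rintro d _ ⟨x, hx, rfl⟩; exact hψ d x hx) hinj g (by rintro d _ ⟨x, hx, rfl⟩; exact hφ d x hx)
  exact ⟨h, hh, LinearMap.ext fun x => LinearMap.congr_fun hc (Submodule.Quotient.mk x)⟩

lemma starInj_prod {M : Type u} [AddCommGroup M] [Module R M] {τ : Type u} [SetLike τ M] [AddSubgroupClass τ M]
    {ℳ : ι → τ} [DirectSum.Decomposition ℳ] [SetLike.GradedSMul 𝒜 ℳ]
    {N : Type u} [AddCommGroup N] [Module R N] {τ' : Type u} [SetLike τ' N] [AddSubgroupClass τ' N]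
    {𝒩 : ι → τ'} [DirectSum.Decomposition 𝒩] [SetLike.GradedSMul 𝒜 𝒩]
    (hM : GrLC.IsStarInj 𝒜 ℳ) (hN : GrLC.IsStarInj 𝒜 𝒩) : GrLC.IsStarInj 𝒜 (prodG 𝒜 ℳ 𝒩).gr := by
  intro A B f hf hinj g hg
  obtain ⟨h1, hh1, hc1⟩ := hM A B f hf hinj (LinearMap.fst R M N ∘ₗ g) (fun d x hx => (hg d x hx).1)
  obtain ⟨h2, hh2, hc2⟩ := hN A B f hf hinj (LinearMap.snd R M N ∘ₗ g) (fun d x hx => (hg d x hx).2)
  exact ⟨h1.prod h2, fun d x hx => ⟨hh1 d x hx, hh2 d x hx⟩, LinearMap.ext fun a =>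
    Prod.ext (LinearMap.congr_fun hc1 a) (LinearMap.congr_fun hc2 a)⟩

lemma starInj_shift {M : Type u} [AddCommGroup M] [Module R M] {τ : Type u} [SetLike τ M] [AddSubgroupClass τ M]
    {ℳ : ι → τ} [DirectSum.Decomposition ℳ] [SetLike.GradedSMul 𝒜 ℳ] (hM : GrLC.IsStarInj 𝒜 ℳ) (d : ι) :
    GrLC.IsStarInj 𝒜 (shG 𝒜 ℳ d).gr := by
  intro A B f hf hinj g hg
  obtain ⟨h, hh, hc⟩ := hM (shG 𝒜 A.gr (-d)) (shG 𝒜 B.gr (-d)) f (fun e x hx => hf _ x hx) hinj g (fun e x hx => by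
    have : g x ∈ ℳ (e + -d + d) := hg (e + -d) x hx
    rwa [neg_add_cancel_right] at this)
  refine ⟨h, fun e x hx => ?_, hc⟩
  refine hh (e + d) x ?_
  change x ∈ asub B.gr (e + d + -d)
  rw [add_neg_cancel_right]
  exact hx

lemma starInj_toG {M : Type u} [AddCommGroup M] [Module R M] {τ : Type u} [SetLike τ M] [AddSubgroupClass τ M]
    {ℳ : ι → τ} [DirectSum.Decomposition ℳ] [SetLike.GradedSMul 𝒜 ℳ] (hM : GrLC.IsStarInj 𝒜 ℳ) :
    GrLC.IsStarInj 𝒜 (toG 𝒜 ℳ).gr := hM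

variable (𝒜)
variable {M : Type u} [AddCommGroup M] [Module R M] {τ : Type u} [SetLike τ M] [AddSubgroupClass τ M]
  (ℳ : ι → τ) [DirectSum.Decomposition ℳ] [SetLike.GradedSMul 𝒜 ℳ]

/-- A module with no proper *essential extension is *injective. -/
theorem starInj_of_noEss
    (H : ∀ (N : GrLC.GMod.{u} 𝒜) (f : M →ₗ[R] N.carrier), GrLC.IsStarEss ℳ N.gr f → Function.Surjective f) :
    GrLC.IsStarInj 𝒜 ℳ := by
  intro A B f hf hinj g hg
  let X := prodG 𝒜 ℳ B.gr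
  let ρ : A.carrier →ₗ[R] X.carrier := g.prod (-f)
  have hρ : GrLC.IsGrHom A.gr X.gr ρ := fun d a ha =>
    AddSubgroup.mem_prod.2 ⟨hg d a ha, neg_mem (hf d a ha)⟩
  have hW := range_isHomogeneous A.gr X.gr hρ
  let P := quoG 𝒜 X.gr _ hW
  let π : X.carrier →ₗ[R] P.carrier := (LinearMap.range ρ).mkQ
  let inl' : M →ₗ[R] X.carrier := LinearMap.inl R M B.carrier
  let inr' : B.carrier →ₗ[R] X.carrier := LinearMap.inr R M B.carrier
  let i : M →ₗ[R] P.carrier := π ∘ₗ inl'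
  have hi : GrLC.IsGrHom ℳ P.gr i := fun d m hm => ⟨(m, 0), ⟨hm, zero_mem _⟩, rfl⟩
  have hiinj : Function.Injective i := by
    rw [← LinearMap.ker_eq_bot, Submodule.eq_bot_iff]
    intro m hm
    obtain ⟨a, ha⟩ := (Submodule.Quotient.mk_eq_zero _).1 (LinearMap.mem_ker.1 hm)
    have h2 : -f a = 0 := congrArg Prod.snd ha
    have h3 : a = 0 := hinj (by rw [map_zero]; exact neg_eq_zero.1 h2)
    have h1 : g a = m := congrArg Prod.fst ha
    rw [← h1, h3, map_zero]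
  let S : Set (Submodule R P.carrier) := {Q | Q.IsHomogeneous P.gr ∧ Q ⊓ LinearMap.range i = ⊥}
  have hbot : (⊥ : Submodule R P.carrier) ∈ S := ⟨fun g x hx => by simp [(Submodule.mem_bot R).1 hx], bot_inf_eq _⟩
  obtain ⟨Q, -, hQ⟩ := zorn_le_nonempty₀ S (fun c hc hchain Q₀ hQ₀ => by
    refine ⟨sSup c, ⟨fun d x hx => ?_, ?_⟩, fun Q hQ => le_sSup hQ⟩
    · obtain ⟨Q, hQ, hxQ⟩ := (Submodule.mem_sSup_of_directed ⟨Q₀, hQ₀⟩ hchain.directedOn).1 hx
      exact le_sSup hQ ((hc hQ).1 d hxQ)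
    · rw [Submodule.eq_bot_iff]
      intro x hx
      obtain ⟨Q, hQ, hxQ⟩ := (Submodule.mem_sSup_of_directed ⟨Q₀, hQ₀⟩ hchain.directedOn).1 hx.1
      exact (Submodule.mem_bot R).1 ((hc hQ).2 ▸ ⟨hxQ, hx.2⟩)) ⊥ hbot
  obtain ⟨⟨hQh, hQd⟩, hmax⟩ := hQ
  let Y := quoG 𝒜 P.gr Q hQh
  let π' : P.carrier →ₗ[R] Y.carrier := Q.mkQ
  let j : M →ₗ[R] Y.carrier := π' ∘ₗ i
  have hjinj : Function.Injective j := by
    rw [← LinearMap.ker_eq_bot, Submodule.eq_bot_iff]
    intro m hm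
    refine hiinj ?_
    rw [map_zero]
    exact (Submodule.mem_bot R).1 (hQd ▸ ⟨(Submodule.Quotient.mk_eq_zero Q).1 (LinearMap.mem_ker.1 hm), ⟨m, rfl⟩⟩)
  have hπ' : GrLC.IsGrHom P.gr Y.gr π' := fun e y hy => ⟨y, hy, rfl⟩
  have hess : GrLC.IsStarEss ℳ Y.gr j := by
    refine ⟨hjinj, fun d m hm => ⟨i m, hi d m hm, rfl⟩, fun T hT hTne => ?_⟩
    intro hTd
    have hcom : (T.comap π').IsHomogeneous P.gr := fun d x hx => by
      have := hT d hx
      rwa [show ((decompose Y.gr (π' x) d : Y.gr d) : Y.carrier) = π' (cp P.gr d x) from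
        cp_map P.gr Y.gr π'.toAddMonoidHom hπ' d x] at this
    have hmem : T.comap π' ∈ S := by
      refine ⟨hcom, ?_⟩
      rw [Submodule.eq_bot_iff]
      rintro x ⟨hx, m, rfl⟩
      have : j m = 0 := (Submodule.mem_bot R).1 (hTd ▸ ⟨hx, ⟨m, rfl⟩⟩)
      rw [hjinj (this.trans (map_zero j).symm), map_zero]
    have hle : Q ≤ T.comap π' := fun x hx => by
      rw [Submodule.mem_comap, show π' x = 0 from (Submodule.Quotient.mk_eq_zero Q).2 hx]
      exact zero_mem _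
    refine hTne (eq_bot_iff.2 fun y hy => ?_)
    obtain ⟨x, rfl⟩ := Submodule.mkQ_surjective Q y
    exact (Submodule.mem_bot R).2 ((Submodule.Quotient.mk_eq_zero Q).2 (hmax hmem hle hy))
  have hsurj := H Y j hess
  let e : M ≃ₗ[R] Y.carrier := LinearEquiv.ofBijective j ⟨hjinj, hsurj⟩
  refine ⟨e.symm.toLinearMap ∘ₗ π' ∘ₗ π ∘ₗ inr',
    fun d b hb => ?_, LinearMap.ext fun a => ?_⟩
  · set w : Y.carrier := π' (π (inr' b))
    have hw : w ∈ Y.gr d := ⟨_, ⟨((0 : M), b), AddSubgroup.mem_prod.2 ⟨zero_mem _, hb⟩, rfl⟩, rfl⟩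
    change e.symm w ∈ ℳ d
    have hm := cp_map ℳ Y.gr j.toAddMonoidHom hess.grHom d (e.symm w)
    rw [show j.toAddMonoidHom (e.symm w) = w from e.apply_symm_apply w, cp_same _ hw] at hm
    have : e.symm w = cp ℳ d (e.symm w) := hjinj ((e.apply_symm_apply w).trans hm)
    rw [this]
    exact cp_mem ℳ d _
  · refine e.injective ?_
    simp only [LinearMap.comp_apply, LinearEquiv.coe_coe, LinearEquiv.apply_symm_apply]
    change π' (π (inr' (f a))) = π' (π (inl' (g a)))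
    refine congrArg π' ((Submodule.Quotient.eq (LinearMap.range ρ)).2 ⟨-a, ?_⟩)
    change ((g (-a), -f (-a)) : M × B.carrier) = ((0 : M), f a) - (g a, (0 : B.carrier))
    exact Prod.ext (by simp) (by simp)

/-- A *injective module has no proper *essential extension. -/
theorem surjective_of_starEss (hM : GrLC.IsStarInj 𝒜 ℳ) {N : Type u} [AddCommGroup N] [Module R N] {τ' : Type u}
    [SetLike τ' N] [AddSubgroupClass τ' N] {𝒩 : ι → τ'} [DirectSum.Decomposition 𝒩] [SetLike.GradedSMul 𝒜 𝒩]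
    {f : M →ₗ[R] N} (hf : GrLC.IsStarEss ℳ 𝒩 f) : Function.Surjective f := by
  obtain ⟨h, hh, hc⟩ := exists_extend hM f hf.grHom LinearMap.id (fun _ _ hx => hx)
    (by rw [LinearMap.ker_eq_bot.2 hf.injective]; exact bot_le)
  have hker : LinearMap.ker h = ⊥ := by
    by_contra hne
    refine hf.essential _ (ker_isHomogeneous 𝒩 ℳ hh) hne ?_
    rw [Submodule.eq_bot_iff]
    rintro x ⟨hx, m, rfl⟩
    have h1 : h (f m) = m := LinearMap.congr_fun hc m
    rw [show m = 0 from h1.symm.trans (LinearMap.mem_ker.1 hx), map_zero]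
  intro x
  exact ⟨h x, LinearMap.ker_eq_bot.1 hker (LinearMap.congr_fun hc (h x))⟩

section Hull

variable {I : Type u} [AddCommGroup I] [Module R I] (e : M →ₗ[R] I)

/-- a graded essential extension inside `I` -/
structure Ext' where
  P : ι → AddSubgroup I
  smul_mem : ∀ {a g : ι} {r : R} {x : I}, r ∈ 𝒜 a → x ∈ P g → r • x ∈ P (a + g)
  indep : ∀ (s : Finset ι) (v : ι → I), (∀ g ∈ s, v g ∈ P g) → ∑ g ∈ s, v g = 0 → ∀ g ∈ s, v g = 0
  le : ∀ g, ∀ m ∈ ℳ g, e m ∈ P g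
  ess : ∀ x, x ∈ ⨆ g, P g → x ≠ 0 → ∃ r : R, r • x ≠ 0 ∧ r • x ∈ LinearMap.range e

instance : PartialOrder (Ext' 𝒜 ℳ e) :=
  PartialOrder.lift Ext'.P fun a b h => by cases a; cases b; cases h; rfl

variable {𝒜 ℳ e}

/-- the submodule spanned by an extension -/
def Ext'.sub (W : Ext' 𝒜 ℳ e) : Submodule R I where
  toAddSubmonoid := (⨆ g, W.P g).toAddSubmonoid
  smul_mem' r x hx := by
    refine AddSubgroup.iSup_induction (C := fun x => r • x ∈ ⨆ g, W.P g) _ hx (fun g y hy => ?_)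
      (by rw [smul_zero]; exact zero_mem _) (fun a b ha hb => by rw [smul_add]; exact add_mem ha hb)
    induction r using induction_on_hom 𝒜 with
    | h0 => rw [zero_smul]; exact zero_mem _
    | hh a c hc => exact AddSubgroup.mem_iSup_of_mem (a + g) (W.smul_mem hc hy)
    | ha a b iha ihb => rw [add_smul]; exact add_mem iha ihb

lemma Ext'.mem_sub (W : Ext' 𝒜 ℳ e) (g : ι) (x : I) (hx : x ∈ W.P g) : x ∈ W.sub :=
  AddSubgroup.mem_iSup_of_mem g hx

lemma Ext'.isInternal (W : Ext' 𝒜 ℳ e) :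
    DirectSum.IsInternal fun g => (W.P g).comap W.sub.subtype.toAddMonoidHom := by
  classical
  refine ⟨fun x y hxy => ?_, fun v => ?_⟩
  · rw [← sub_eq_zero]
    have hz : DirectSum.coeAddMonoidHom (fun g => (W.P g).comap W.sub.subtype.toAddMonoidHom) (x - y) = 0 := by
      rw [map_sub, sub_eq_zero]; exact hxy
    generalize x - y = z at hz ⊢
    refine DFinsupp.ext fun g => ?_
    by_contra hg
    rw [← DirectSum.sum_support_of z, map_sum] at hz
    have hz' := congrArg W.sub.subtype hz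
    rw [map_sum, map_zero] at hz'
    have hz'' := W.indep z.support (fun g => ((z g : W.sub) : I)) (fun g _ => (z g).2) (by
      rw [← hz']
      exact Finset.sum_congr rfl fun i _ => by rw [DirectSum.coeAddMonoidHom_of]; rfl) g
      (DFinsupp.mem_support_iff.2 hg)
    exact hg (Subtype.ext (Subtype.ext hz''))
  · obtain ⟨v, hv⟩ := v
    obtain ⟨z, hz⟩ : ∃ z, ((DirectSum.coeAddMonoidHom (fun g => (W.P g).comap W.sub.subtype.toAddMonoidHom) z : W.sub) : I) = v := by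
      refine AddSubgroup.iSup_induction
        (C := fun x => ∃ z, ((DirectSum.coeAddMonoidHom (fun g => (W.P g).comap W.sub.subtype.toAddMonoidHom) z : W.sub) : I) = x)
        _ hv (fun g y hy => ⟨DirectSum.of (fun i => ↥((W.P i).comap W.sub.subtype.toAddMonoidHom)) g ⟨⟨y, W.mem_sub g y hy⟩, hy⟩,
          by rw [DirectSum.coeAddMonoidHom_of]⟩) ⟨0, by rw [map_zero]; rfl⟩ ?_
      rintro a b ⟨za, hza⟩ ⟨zb, hzb⟩
      exact ⟨za + zb, by rw [map_add, Submodule.coe_add, hza, hzb]⟩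
    exact ⟨z, Subtype.ext hz⟩

/-- an extension as a graded module -/
noncomputable def Ext'.toG (W : Ext' 𝒜 ℳ e) : GrLC.GMod.{u} 𝒜 :=
  { carrier := W.sub
    gr := fun g => (W.P g).comap W.sub.subtype.toAddMonoidHom
    dec := W.isInternal.chooseDecomposition
    gsmul := ⟨fun {_ _ _ _} hr hx => W.smul_mem hr hx⟩ }

variable (𝒜 ℳ e)
variable [Module.Injective R I]

theorem exists_hull_in (he : Function.Injective e) :
    ∃ (E : GrLC.GMod.{u} 𝒜) (f : M →ₗ[R] E.carrier), GrLC.IsStarInjHull 𝒜 ℳ E.gr f ∧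
      ∃ j : E.carrier →ₗ[R] I, Function.Injective j ∧ j ∘ₗ f = e := by
  classical
  have hrange : ∀ x : I, x ∈ ⨆ g, (asub ℳ g).map e.toAddMonoidHom → x ∈ LinearMap.range e := fun x hx => by
    have h : (⨆ g, (asub ℳ g).map e.toAddMonoidHom) ≤ (LinearMap.range e).toAddSubgroup := iSup_le fun g => by
      rintro _ ⟨m, -, rfl⟩
      exact ⟨m, rfl⟩
    exact h hx
  let E₀ : Ext' 𝒜 ℳ e :=
    { P := fun g => (asub ℳ g).map e.toAddMonoidHom
      smul_mem := by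
        rintro a g r _ hr ⟨m, hm, rfl⟩
        exact ⟨r • m, smul_mem' 𝒜 ℳ hr hm, map_smul e r m⟩
      indep := fun s v hv hsum g hg => by
        choose! m hm hmv using hv
        have h1 : e (∑ g ∈ s, m g) = 0 := by
          rw [map_sum, ← hsum]
          exact Finset.sum_congr rfl fun x hx => hmv x hx
        have h2 := congrArg (cp ℳ g) (he (h1.trans (map_zero e).symm))
        rw [map_sum, Finset.sum_eq_single g (fun b hb hbg => cp_ne ℳ (hm b hb) hbg) (fun h => absurd hg h),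
          cp_same ℳ (hm g hg), map_zero] at h2
        rw [← hmv g hg, h2]
        exact map_zero e
      le := fun g m hm => ⟨m, hm, rfl⟩
      ess := fun x hx hx0 => ⟨1, by rwa [one_smul], by rw [one_smul]; exact hrange x hx⟩ }
  obtain ⟨Ω, -, hΩ⟩ := zorn_le_nonempty₀ (Set.univ : Set (Ext' 𝒜 ℳ e)) (fun c _ hchain x₀ hx₀ => by
    have hdir : DirectedOn (· ≤ ·) c := hchain.directedOn
    have hmem : ∀ g (x : I), x ∈ (⨆ W : c, W.1.P g) ↔ ∃ W ∈ c, x ∈ W.P g := fun g x => by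
      haveI : Nonempty c := ⟨⟨x₀, hx₀⟩⟩
      rw [AddSubgroup.mem_iSup_of_directed]
      · exact ⟨fun ⟨W, hW⟩ => ⟨W.1, W.2, hW⟩, fun ⟨W, hW, h⟩ => ⟨⟨W, hW⟩, h⟩⟩
      · intro a b
        obtain ⟨z, hz, ha, hb⟩ := hdir a.1 a.2 b.1 b.2
        exact ⟨⟨z, hz⟩, ha g, hb g⟩
    have hfin : ∀ (s : Finset ι) (v : ι → I), (∀ g ∈ s, v g ∈ ⨆ W : c, W.1.P g) → ∃ W ∈ c, ∀ g ∈ s, v g ∈ W.P g := by
      intro s v hv
      induction s using Finset.induction with
      | empty => exact ⟨x₀, hx₀, by simp⟩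
      | insert a s _ ih =>
        obtain ⟨W, hW, hWs⟩ := ih fun g hg => hv g (Finset.mem_insert_of_mem hg)
        obtain ⟨W', hW', hWa⟩ := (hmem a _).1 (hv a (Finset.mem_insert_self _ _))
        obtain ⟨Z, hZ, h1, h2⟩ := hdir W hW W' hW'
        refine ⟨Z, hZ, fun g hg => ?_⟩
        rcases Finset.mem_insert.1 hg with rfl | hg
        · exact h2 g hWa
        · exact h1 g (hWs g hg)
    refine ⟨
      { P := fun g => ⨆ W : c, W.1.P g
        smul_mem := fun {a g r x} hr hx => by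
          obtain ⟨W, hW, hx⟩ := (hmem _ _).1 hx
          exact (hmem _ _).2 ⟨W, hW, W.smul_mem hr hx⟩
        indep := fun s v hv hsum => by
          obtain ⟨W, -, hWv⟩ := hfin s v hv
          exact W.indep s v hWv hsum
        le := fun g m hm => (hmem _ _).2 ⟨x₀, hx₀, x₀.le g m hm⟩
        ess := fun x hx hx0 => by
          obtain ⟨W, hW, hxW⟩ : ∃ W ∈ c, x ∈ ⨆ g, W.P g := by
            refine AddSubgroup.iSup_induction (C := fun x => ∃ W ∈ c, x ∈ ⨆ g, W.P g) _ hx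
              (fun g y hy => ?_) ⟨x₀, hx₀, zero_mem _⟩ ?_
            · obtain ⟨W, hW, hy⟩ := (hmem _ _).1 hy
              exact ⟨W, hW, AddSubgroup.mem_iSup_of_mem g hy⟩
            · rintro a b ⟨W, hW, ha⟩ ⟨W', hW', hb⟩
              obtain ⟨Z, hZ, h1, h2⟩ := hdir W hW W' hW'
              exact ⟨Z, hZ, add_mem (iSup_mono (fun g => h1 g) ha) (iSup_mono (fun g => h2 g) hb)⟩
          exact W.ess x hxW hx0 },
      Set.mem_univ _, fun W hW g => le_iSup (fun V : c => V.1.P g) ⟨W, hW⟩⟩) E₀ (Set.mem_univ _)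
  obtain ⟨-, hmax⟩ := hΩ
  let E := Ω.toG
  let N := Ω.sub
  have hmemN : ∀ g x, x ∈ Ω.P g → x ∈ N := Ω.mem_sub
  have heN : ∀ m : M, e m ∈ N := fun m => by
    induction m using induction_on_hom ℳ with
    | h0 => rw [map_zero]; exact zero_mem _
    | hh g m hm => exact hmemN g _ (Ω.le g m hm)
    | ha a b iha ihb => rw [map_add]; exact add_mem iha ihb
  let f : M →ₗ[R] E.carrier := LinearMap.codRestrict N e heN
  have hf : GrLC.IsStarEss ℳ E.gr f := by
    refine ⟨fun a b h => he (congrArg Subtype.val h), fun g m hm => Ω.le g m hm, fun P _ hP => ?_⟩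
    obtain ⟨x, hxP, hx⟩ := P.exists_mem_ne_zero_of_ne_bot hP
    obtain ⟨r, hr0, m, hm⟩ := Ω.ess x.1 x.2 (fun h => hx (Subtype.ext h))
    exact (Submodule.ne_bot_iff _).2 ⟨r • x, ⟨P.smul_mem r hxP, m, Subtype.ext hm⟩, fun h => hr0 (congrArg Subtype.val h)⟩
  let incl : E.carrier →ₗ[R] I := N.subtype
  refine ⟨E, f, ⟨hf, starInj_of_noEss 𝒜 E.gr fun L k hk => ?_⟩, incl, N.injective_subtype, rfl⟩
  obtain ⟨ψ, hψ⟩ := Module.Injective.out k hk.injective incl
  have hψinj : Function.Injective ψ := by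
    rw [← LinearMap.ker_eq_bot]
    by_contra hne
    refine essential_of_starEss 𝒜 E.gr L.gr hk _ hne ((Submodule.eq_bot_iff _).2 ?_)
    rintro x ⟨hx, n, rfl⟩
    have h1 : incl n = 0 := (hψ n).symm.trans (LinearMap.mem_ker.1 hx)
    rw [show n = 0 from N.injective_subtype (h1.trans (map_zero incl).symm)]
    exact map_zero k
  let Ω' : Ext' 𝒜 ℳ e :=
    { P := fun g => (L.gr g).map ψ.toAddMonoidHom
      smul_mem := by
        rintro a g r _ hr ⟨l, hl, rfl⟩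
        exact ⟨r • l, smul_mem' 𝒜 L.gr hr hl, map_smul ψ r l⟩
      indep := fun s v hv hsum g hg => by
        choose! l hl hlv using hv
        have h1 : ψ (∑ g ∈ s, l g) = 0 := by
          rw [map_sum, ← hsum]
          exact Finset.sum_congr rfl fun x hx => hlv x hx
        have h2 := congrArg (cp L.gr g) (hψinj (h1.trans (map_zero ψ).symm))
        rw [map_sum, Finset.sum_eq_single g (fun b hb hbg => cp_ne L.gr (hl b hb) hbg) (fun h => absurd hg h),
          cp_same L.gr (hl g hg), map_zero] at h2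
        rw [← hlv g hg, h2]
        exact map_zero ψ
      le := fun g m hm => ⟨k (f m), hk.grHom g _ (hf.grHom g m hm), hψ (f m)⟩
      ess := fun x hx hx0 => by
        have hxr : x ∈ LinearMap.range ψ := by
          refine AddSubgroup.iSup_induction (C := fun x => x ∈ LinearMap.range ψ) _ hx ?_ (zero_mem _)
            (fun a b ha hb => add_mem ha hb)
          rintro g _ ⟨l, -, rfl⟩
          exact ⟨l, rfl⟩
        obtain ⟨l, rfl⟩ := hxr
        have hl0 : l ≠ 0 := fun h => hx0 (by rw [h, map_zero])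
        obtain ⟨y, ⟨hy, n, hn⟩, hy0⟩ := (Submodule.ne_bot_iff _).1
          (essential_of_starEss 𝒜 E.gr L.gr hk (Submodule.span R {l}) (by rwa [ne_eq, Submodule.span_singleton_eq_bot]))
        obtain ⟨r, rfl⟩ := Submodule.mem_span_singleton.1 hy
        have hn' : r • ψ l = incl n := by rw [← map_smul, ← hn]; exact hψ n
        have hn0 : incl n ≠ 0 := fun h => hy0 (by rw [← hn, show n = 0 from N.injective_subtype (h.trans (map_zero incl).symm), map_zero])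
        obtain ⟨s, hs0, hs⟩ := Ω.ess (incl n) n.2 hn0
        exact ⟨s * r, by rwa [mul_smul, hn'], by rwa [mul_smul, hn']⟩ }
  have hle : Ω ≤ Ω' := fun g x hx => ⟨k ⟨x, hmemN g x hx⟩, hk.grHom g _ hx, hψ _⟩
  intro l
  induction l using induction_on_hom L.gr with
  | h0 => exact ⟨0, map_zero k⟩
  | hh g l hl =>
    have hmem : ψ l ∈ Ω.P g := hmax (Set.mem_univ Ω') hle g ⟨l, hl, rfl⟩
    exact ⟨⟨ψ l, hmemN g _ hmem⟩, hψinj (hψ _)⟩
  | ha a b iha ihb =>
    obtain ⟨x, rfl⟩ := iha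
    obtain ⟨y, rfl⟩ := ihb
    exact ⟨x + y, map_add k x y⟩

end Hull

/-- *injective envelopes exist. -/
theorem exists_hull : ∃ (E : GrLC.GMod.{u} 𝒜) (f : M →ₗ[R] E.carrier), GrLC.IsStarInjHull 𝒜 ℳ E.gr f := by
  obtain ⟨pr⟩ := CategoryTheory.EnoughInjectives.presentation (ModuleCat.of R M)
  haveI := pr.injective
  haveI : Module.Injective R pr.J := Module.injective_module_of_injective_object R pr.J
  obtain ⟨E, f, hf, -⟩ := exists_hull_in 𝒜 ℳ pr.f.hom ((ModuleCat.mono_iff_injective _).1 pr.mono)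
  exact ⟨E, f, hf⟩

/-- *injective envelopes are unique. -/
theorem hull_unique {E₁ : Type u} [AddCommGroup E₁] [Module R E₁] {τ₁ : Type u} [SetLike τ₁ E₁] [AddSubgroupClass τ₁ E₁]
    {𝓔₁ : ι → τ₁} [DirectSum.Decomposition 𝓔₁] [SetLike.GradedSMul 𝒜 𝓔₁]
    {E₂ : Type u} [AddCommGroup E₂] [Module R E₂] {τ₂ : Type u} [SetLike τ₂ E₂] [AddSubgroupClass τ₂ E₂]
    {𝓔₂ : ι → τ₂} [DirectSum.Decomposition 𝓔₂] [SetLike.GradedSMul 𝒜 𝓔₂]
    {f₁ : M →ₗ[R] E₁} {f₂ : M →ₗ[R] E₂} (h₁ : GrLC.IsStarInjHull 𝒜 ℳ 𝓔₁ f₁) (h₂ : GrLC.IsStarInjHull 𝒜 ℳ 𝓔₂ f₂) :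
    ∃ β : E₁ ≃ₗ[R] E₂, GrLC.IsGrHom 𝓔₁ 𝓔₂ β.toLinearMap ∧ β.toLinearMap ∘ₗ f₁ = f₂ := by
  obtain ⟨β, hβ, hc⟩ := exists_extend h₂.starInj f₁ h₁.grHom f₂ h₂.grHom
    (by rw [LinearMap.ker_eq_bot.2 h₁.injective]; exact bot_le)
  have hinj : Function.Injective β := by
    rw [← LinearMap.ker_eq_bot]
    by_contra hne
    refine h₁.essential _ (ker_isHomogeneous 𝓔₁ 𝓔₂ hβ) hne ((Submodule.eq_bot_iff _).2 ?_)
    rintro x ⟨hx, m, rfl⟩
    have h0 : f₂ m = 0 := by rw [← hc]; exact LinearMap.mem_ker.1 hx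
    rw [h₂.injective (h0.trans (map_zero f₂).symm), map_zero]
  have hess : GrLC.IsStarEss 𝓔₁ 𝓔₂ β := by
    refine ⟨hinj, hβ, fun P hP hne h => h₂.essential P hP hne (eq_bot_iff.2 (le_trans (inf_le_inf_left P ?_) h.le))⟩
    rintro _ ⟨m, rfl⟩
    exact ⟨f₁ m, LinearMap.congr_fun hc m⟩
  exact ⟨LinearEquiv.ofBijective β ⟨hinj, surjective_of_starEss 𝒜 𝓔₁ h₁.starInj hess⟩, hβ, hc⟩

/-- a stage of the construction of a resolution -/
structure Stage where
  X : GrLC.GMod.{u} 𝒜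
  D : Submodule R X.carrier
  hD : D.IsHomogeneous X.gr

variable {𝒜} in
theorem Stage.step (S : Stage 𝒜) :
    ∃ (E : GrLC.GMod.{u} 𝒜) (f : (quoG 𝒜 S.X.gr S.D S.hD).carrier →ₗ[R] E.carrier),
      GrLC.IsStarInjHull 𝒜 (quoG 𝒜 S.X.gr S.D S.hD).gr E.gr f :=
  exists_hull 𝒜 (quoG 𝒜 S.X.gr S.D S.hD).gr

variable {𝒜} in
/-- the differential of a stage -/
noncomputable def Stage.map (S : Stage 𝒜) : S.X.carrier →ₗ[R] S.step.choose.carrier :=
  S.step.choose_spec.choose ∘ₗ (S.D.mkQ : S.X.carrier →ₗ[R] (quoG 𝒜 S.X.gr S.D S.hD).carrier)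

variable {𝒜} in
lemma Stage.map_grHom (S : Stage 𝒜) : GrLC.IsGrHom S.X.gr S.step.choose.gr S.map :=
  fun g x hx => S.step.choose_spec.choose_spec.grHom g _ ⟨x, hx, rfl⟩

variable {𝒜} in
lemma Stage.ker_map (S : Stage 𝒜) : LinearMap.ker S.map = S.D := by
  ext x
  rw [LinearMap.mem_ker]
  change S.step.choose_spec.choose (S.D.mkQ x) = 0 ↔ _
  rw [← Submodule.Quotient.mk_eq_zero S.D]
  exact ⟨fun h => S.step.choose_spec.choose_spec.injective (h.trans (map_zero _).symm), fun h => by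
    rw [show S.D.mkQ x = 0 from h]; exact map_zero _⟩

variable {𝒜} in
/-- the next stage -/
noncomputable def Stage.next (S : Stage 𝒜) : Stage 𝒜 where
  X := S.step.choose
  D := LinearMap.range S.map
  hD := range_isHomogeneous S.X.gr S.step.choose.gr S.map_grHom

variable {𝒜} in
/-- iteration -/
noncomputable def Stage.iter (S : Stage 𝒜) : ℕ → Stage 𝒜
  | 0 => S
  | n + 1 => (S.iter n).next

/-- Enough *injectives: resolutions exist. -/
theorem nonempty_starInjRes : Nonempty (GrLC.StarInjRes 𝒜 ℳ) := by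
  obtain ⟨E, f, hf⟩ := exists_hull 𝒜 ℳ
  let S₀ : Stage 𝒜 := ⟨E, LinearMap.range f, range_isHomogeneous ℳ E.gr hf.grHom⟩
  refine ⟨⟨fun n => (S₀.iter n).X, fun n => (S₀.iter n).map, f, fun n => (S₀.iter n).map_grHom, hf.grHom, hf.injective,
    (S₀.iter 0).ker_map, fun n => (S₀.iter (n + 1)).ker_map, ?_⟩⟩
  intro n
  cases n with
  | zero => exact hf.starInj
  | succ n => exact (S₀.iter n).step.choose_spec.choose_spec.starInj

end Groth.L12.GrLCLib
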