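import Groth.Agent.L12.GrLCKoszul
import Mathlib.Data.Matrix.Block
import Mathlib.Logic.Equiv.Fin.Basic

/-!
# The Koszul chase over a general homogeneous graded ring
-/

set_option autoImplicit false

universe u

open DirectSum

namespace Groth.L12.GrLCLib

variable {R : Type u} [CommRing R] {σ : Type u} [SetLike σ R] [AddSubgroupClass σ R]

section Koszul

/-- Koszul matrices on a list of elements of degree one, with null-homotopies. -/
theorem exists_koszul (𝒜 : ℤ → σ) [GradedRing 𝒜] (xs : List R) (hxs : ∀ x ∈ xs, x ∈ 𝒜 1) :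
    ∃ (rk : ℕ → ℕ) (D : ∀ p, Matrix (Fin (rk p)) (Fin (rk (p + 1))) R),
      0 < rk 0 ∧ (∀ p, xs.length < p → rk p = 0) ∧
      (∀ p a b, D p a b ∈ 𝒜 1 ∧ D p a b ∈ Ideal.span {x | x ∈ xs}) ∧
      (∀ p, D p * D (p + 1) = 0) ∧
      ∀ x ∈ Ideal.span {x | x ∈ xs}, ∃ h : ∀ p, Matrix (Fin (rk (p + 1))) (Fin (rk p)) R,
        D 0 * h 0 = x • 1 ∧ ∀ p, D (p + 1) * h (p + 1) + h p * D p = x • 1 := by
  classical
  induction xs with
  | nil =>
    refine ⟨fun p => match p with | 0 => 1 | _ + 1 => 0, fun p => 0, Nat.one_pos, fun p hp => ?_,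
      fun p a b => ⟨zero_mem _, zero_mem _⟩, fun p => by simp, fun x hx => ?_⟩
    · cases p with
      | zero => simp at hp
      | succ p => rfl
    · have hx0 : x = 0 := by simpa using hx
      subst hx0
      exact ⟨fun p => 0, by simp, fun p => by simp⟩
  | cons x xs ih =>
    obtain ⟨rk, D, h0, hlen, hD, hDD, hhom⟩ := ih fun y hy => hxs y (List.mem_cons_of_mem _ hy)
    let pr : ℕ → ℕ := fun p => match p with | 0 => 0 | p + 1 => rk p
    let rk' : ℕ → ℕ := fun p => rk p + pr p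
    let C : ∀ p, Matrix (Fin (pr p)) (Fin (pr (p + 1))) R := fun p => match p with | 0 => 0 | p + 1 => D p
    let D' : ∀ p, Matrix (Fin (rk' p)) (Fin (rk' (p + 1))) R := fun p =>
      (Matrix.fromBlocks (D p) (x • (1 : Matrix (Fin (rk p)) (Fin (rk p)) R)) 0 (-C p)).submatrix
        finSumFinEquiv.symm finSumFinEquiv.symm
    have hxmem : x ∈ Ideal.span {y | y ∈ x :: xs} := Ideal.subset_span List.mem_cons_self
    have hmono : Ideal.span {y | y ∈ xs} ≤ Ideal.span {y | y ∈ x :: xs} :=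
      Ideal.span_mono fun y hy => List.mem_cons_of_mem _ hy
    have hDmem : ∀ p a b, D p a b ∈ 𝒜 1 ∧ D p a b ∈ Ideal.span {y | y ∈ x :: xs} :=
      fun p a b => ⟨(hD p a b).1, hmono (hD p a b).2⟩
    have hone : ∀ (y : R) (m n : ℕ), y • (1 : Matrix (Fin (m + n)) (Fin (m + n)) R) =
        (Matrix.fromBlocks (y • 1) 0 0 (y • 1)).submatrix finSumFinEquiv.symm finSumFinEquiv.symm := fun y m n => by
      rw [← Matrix.submatrix_one_equiv (finSumFinEquiv (m := m) (n := n)).symm, ← Matrix.fromBlocks_one]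
      ext a b
      simp only [Matrix.smul_apply, Matrix.submatrix_apply]
      rcases finSumFinEquiv.symm a with e | e <;> rcases finSumFinEquiv.symm b with f | f <;> simp
    refine ⟨rk', D', Nat.lt_of_lt_of_le h0 (Nat.le_add_right _ _), fun p hp => ?_, fun p a b => ?_, fun p => ?_,
      fun y hy => ?_⟩
    · rw [List.length_cons] at hp
      cases p with
      | zero => simp at hp
      | succ p =>
        change rk (p + 1) + rk p = 0
        rw [hlen (p + 1) (by omega), hlen p (by omega)]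
    · simp only [D', Matrix.submatrix_apply]
      rcases finSumFinEquiv.symm a with e | e <;> rcases finSumFinEquiv.symm b with c | c
      · exact hDmem p e c
      · change (x • (1 : Matrix (Fin (rk p)) (Fin (rk p)) R)) e c ∈ 𝒜 1 ∧ (x • (1 : Matrix (Fin (rk p)) (Fin (rk p)) R)) e c ∈ _
        rw [Matrix.smul_apply, Matrix.one_apply]
        split_ifs
        · rw [smul_eq_mul, mul_one]; exact ⟨hxs x List.mem_cons_self, hxmem⟩
        · rw [smul_zero]; exact ⟨zero_mem _, zero_mem _⟩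
      · exact ⟨zero_mem _, zero_mem _⟩
      · cases p with
        | zero => exact Fin.elim0 e
        | succ p => exact ⟨neg_mem (hDmem p e c).1, neg_mem (hDmem p e c).2⟩
    · have hC : C p * C (p + 1) = 0 := by
        cases p with
        | zero => exact Matrix.ext fun a => Fin.elim0 a
        | succ p => exact hDD p
      change Matrix.submatrix _ _ _ * Matrix.submatrix _ _ _ = 0
      rw [Matrix.submatrix_mul_equiv, Matrix.fromBlocks_multiply]
      have hblk : x • (1 : Matrix (Fin (rk p)) (Fin (rk p)) R) * -C (p + 1) = -(x • D p) := by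
        rw [Matrix.smul_mul, Matrix.one_mul, smul_neg]
      ext a b
      simp only [Matrix.submatrix_apply, Matrix.zero_apply]
      rcases finSumFinEquiv.symm a with e | e <;> rcases finSumFinEquiv.symm b with f | f
      · simp [hDD, Matrix.smul_mul]
      · simp only [Matrix.fromBlocks_apply₁₂, hblk, Matrix.mul_smul, Matrix.mul_one]
        simp
      · simp
      · simp [Matrix.neg_mul, Matrix.mul_neg, hC]
    · obtain ⟨c, z, hz, rfl⟩ : ∃ c, ∃ z ∈ Ideal.span {w | w ∈ xs}, y = c * x + z := by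
        have : {w | w ∈ x :: xs} = insert x {w | w ∈ xs} := by ext; simp
        rw [this, Ideal.mem_span_insert] at hy
        exact hy
      obtain ⟨h, hh0, hh⟩ := hhom z hz
      let F : ∀ p, Matrix (Fin (pr (p + 1))) (Fin (pr p)) R := fun p => match p with | 0 => 0 | p + 1 => h p
      let h' : ∀ p, Matrix (Fin (rk' (p + 1))) (Fin (rk' p)) R := fun p =>
        (Matrix.fromBlocks (h p) 0 (c • (1 : Matrix (Fin (rk p)) (Fin (rk p)) R)) (-F p)).submatrix
          finSumFinEquiv.symm finSumFinEquiv.symm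
      have hxc : ∀ (n : ℕ), (x • (1 : Matrix (Fin n) (Fin n) R)) * (c • 1) = (c * x) • 1 := fun n => by
        rw [Matrix.smul_mul, Matrix.one_mul, smul_smul, mul_comm]
      refine ⟨h', ?_, fun p => ?_⟩
      · change Matrix.submatrix _ _ _ * Matrix.submatrix _ _ _ = _
        rw [Matrix.submatrix_mul_equiv, Matrix.fromBlocks_multiply, hone]
        ext a b
        simp only [Matrix.submatrix_apply]
        rcases finSumFinEquiv.symm a with e | e <;> rcases finSumFinEquiv.symm b with f | f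
        · change (D 0 * h 0 + (x • (1 : Matrix (Fin (rk 0)) (Fin (rk 0)) R)) * (c • (1 : Matrix (Fin (rk 0)) (Fin (rk 0)) R))) e f =
            ((c * x + z) • (1 : Matrix (Fin (rk 0)) (Fin (rk 0)) R)) e f
          rw [hh0, hxc, ← add_smul, add_comm]
        · exact Fin.elim0 f
        · exact Fin.elim0 e
        · exact Fin.elim0 e
      · have hCF : C (p + 1) * F (p + 1) + F p * C p = z • 1 := by
          cases p with
          | zero =>
            change D 0 * h 0 + (0 : Matrix (Fin (rk 0)) (Fin 0) R) * (0 : Matrix (Fin 0) (Fin (rk 0)) R) = _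
            rw [Matrix.zero_mul, add_zero, hh0]
          | succ p => exact hh p
        change Matrix.submatrix _ _ _ * Matrix.submatrix _ _ _ + Matrix.submatrix _ _ _ * Matrix.submatrix _ _ _ = _
        rw [Matrix.submatrix_mul_equiv, Matrix.submatrix_mul_equiv, Matrix.fromBlocks_multiply,
          Matrix.fromBlocks_multiply, hone]
        ext a b
        simp only [Matrix.add_apply, Matrix.submatrix_apply]
        rcases finSumFinEquiv.symm a with e | e <;> rcases finSumFinEquiv.symm b with f | f <;>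
          simp only [Matrix.fromBlocks_apply₁₁, Matrix.fromBlocks_apply₁₂, Matrix.fromBlocks_apply₂₁,
            Matrix.fromBlocks_apply₂₂, ← Matrix.add_apply] <;> congr 1
        · rw [Matrix.mul_zero, add_zero, hxc, add_smul, ← hh p]
          refine congrFun (congrFun ?_ e) f
          exact (add_right_comm _ _ _).trans (add_comm _ _)
        · rw [Matrix.mul_zero, zero_add, Matrix.zero_mul, add_zero, Matrix.smul_mul, Matrix.one_mul, smul_neg,
            Matrix.mul_smul, Matrix.mul_one]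
          exact neg_add_cancel _
        · rw [Matrix.zero_mul, zero_add, Matrix.mul_zero, add_zero, Matrix.neg_mul, Matrix.mul_smul, Matrix.mul_one,
            Matrix.smul_mul, Matrix.one_mul]
          exact neg_add_cancel _
        · rw [Matrix.zero_mul, zero_add, Matrix.neg_mul, Matrix.mul_neg, neg_neg, Matrix.neg_mul, Matrix.mul_neg,
            neg_neg, Matrix.smul_mul, Matrix.one_mul, smul_smul, ← add_assoc, add_comm (C (p + 1) * F (p + 1)),
            add_assoc, hCF, ← add_smul]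

end Koszul

section Chase

variable {𝒜 : ℤ → σ} [GradedRing 𝒜]
variable {M : Type u} [AddCommGroup M] [Module R M] {τ : Type u} [SetLike τ M] [AddSubgroupClass τ M]
  {ℳ : ℤ → τ} [DirectSum.Decomposition ℳ] [SetLike.GradedSMul 𝒜 ℳ] (a : HomogeneousIdeal 𝒜)

lemma gam_eq_top_of_smul' {A : Type u} [AddCommGroup A] [Module R A]
    (h : ∀ x ∈ a.toIdeal, ∀ y : A, x • y = 0) : GrLC.gam a.toIdeal A = ⊤ :=
  eq_top_iff.2 fun y _ => ⟨1, fun c hc => h c (by rwa [pow_one] at hc) y⟩

lemma van_of_subsingleton' [IsNoetherianRing R] [Subsingleton M] (i : ℕ) (g : ℤ) : Van a ℳ i g := by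
  rcases Nat.eq_zero_or_pos i with rfl | hi
  · exact (van_zero_iff a).2 fun m _ _ => Subsingleton.elim _ _
  · exact van_of_torsion a (eq_top_iff.2 fun m _ => ⟨0, fun c _ => Subsingleton.elim _ _⟩) hi g

/-- `M^n` placed in a single degree shift inherits vanishing -/
lemma van_powG' {n : ℕ} (p : ℤ) {i : ℕ} {g : ℤ} (h : Van a ℳ i (g - p)) :
    Van a (powG 𝒜 ℳ (fun _ : Fin n => p)).gr i g := by
  let X := powG 𝒜 ℳ (fun _ : Fin n => p)
  let Y := shG 𝒜 ℳ (-p)
  let pr : Fin n → (X.carrier →ₗ[R] Y.carrier) := fun b => (LinearMap.proj b : (Fin n → M) →ₗ[R] M)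
  let inj : Fin n → (Y.carrier →ₗ[R] X.carrier) := fun b =>
    (LinearMap.single R (fun _ : Fin n => M) b : M →ₗ[R] (Fin n → M))
  refine van_of_sum (ℳ₁ := X.gr) (ℳ₂ := Y.gr) a Finset.univ pr inj (fun b _ d v hv => ?_) (fun b _ d v hv => ?_) ?_ ?_
  · change v b ∈ ℳ (d + -p)
    rw [← sub_eq_add_neg]
    exact hv b (Set.mem_univ b)
  · intro c _
    change Pi.single (M := fun _ : Fin n => M) b v c ∈ ℳ (d - p)
    rcases eq_or_ne c b with rfl | hne
    · rw [Pi.single_eq_same, sub_eq_add_neg]; exact hv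
    · rw [Pi.single_eq_of_ne hne]; exact zero_mem _
  · refine LinearMap.ext fun v => funext fun c => ?_
    change (∑ b, inj b ∘ₗ pr b) v c = v c
    rw [LinearMap.sum_apply]
    change (∑ b, Pi.single (M := fun _ : Fin n => M) b ((v : Fin n → M) b)) c = v c
    rw [Finset.univ_sum_single]
  · exact (van_shift a (-p)).2 (by rwa [← sub_eq_add_neg])

variable [IsNoetherianRing R]

omit [IsNoetherianRing R] in
variable (𝒜) in
/-- a linear complex of finite free modules whose homology is killed by `a`, as for a Koszul complex -/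
structure KData (a : HomogeneousIdeal 𝒜) where
  /-- ranks -/
  rk : ℕ → ℕ
  /-- differentials -/
  D : ∀ p, Matrix (Fin (rk p)) (Fin (rk (p + 1))) R
  /-- length -/
  len : ℕ
  rk_pos : 0 < rk 0
  rk_eq_zero : ∀ p, len < p → rk p = 0
  mem : ∀ p a' b, D p a' b ∈ 𝒜 1 ∧ D p a' b ∈ a.toIdeal
  sq : ∀ p, D p * D (p + 1) = 0
  hom : ∀ x ∈ a.toIdeal, ∃ h : ∀ p, Matrix (Fin (rk (p + 1))) (Fin (rk p)) R,
    D 0 * h 0 = x • 1 ∧ ∀ p, D (p + 1) * h (p + 1) + h p * D p = x • 1

theorem nonempty_kData (ha : a.toIdeal = Ideal.span (𝒜 1 : Set R)) : Nonempty (KData 𝒜 a) := by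
  classical
  obtain ⟨s, hs, hspan⟩ := (Submodule.fg_span_iff_fg_span_finset_subset (𝒜 1 : Set R)).1
    (IsNoetherian.noetherian (Ideal.span (𝒜 1 : Set R)))
  obtain ⟨rk, D, hrk0, hrk, hD, hDD, hhom⟩ := exists_koszul 𝒜 s.toList fun x hx => hs (Finset.mem_toList.1 hx)
  have hJ : Ideal.span {x | x ∈ s.toList} = a.toIdeal := by
    rw [ha]
    simp only [Finset.mem_toList]
    exact hspan.symm
  rw [hJ] at hhom
  simp only [hJ] at hD
  exact ⟨⟨rk, D, s.toList.length, hrk0, hrk, hD, hDD, hhom⟩⟩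

/-- The chase: vanishing of the cohomology of the boundaries, membership in `aM`, and exactness at the first spot. -/
theorem koszul_chase_full (κ : KData 𝒜 a) (g : ℤ) :
    (∀ i : ℕ, 0 < i → (∀ p : ℕ, Van a ℳ (i + p) (g - (p + 1 : ℕ))) → Van a ℳ i g) ∧
      (Van a ℳ 0 g → (∀ p : ℕ, Van a ℳ (1 + p) (g - (p + 1 : ℕ))) →
        ∀ z ∈ ℳ g, z ∈ a.toIdeal • (⊤ : Submodule R M)) ∧
      (Van a ℳ 0 (g - 1) → (∀ p : ℕ, 1 ≤ p → Van a ℳ p (g - (p + 1 : ℕ))) →
        ∀ w : Fin (κ.rk 1) → M, (∀ b, w b ∈ ℳ (g - 1)) → mmap (κ.D 0) w = 0 →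
          ∃ v : Fin (κ.rk 2) → M, mmap (κ.D 1) v = w) := by
  classical
  obtain ⟨rk, D, L, hrk0, hrk, hD, hDD, hhom⟩ := κ
  let K : ℕ → GrLC.GMod.{u} 𝒜 := fun p => powG 𝒜 ℳ (fun _ : Fin (rk p) => (p : ℤ))
  let δ : ∀ p, (K (p + 1)).carrier →ₗ[R] (K p).carrier := fun p =>
    (mmap (M := M) (D p) : (Fin (rk (p + 1)) → M) →ₗ[R] (Fin (rk p) → M))
  have hδ : ∀ p, GrLC.IsGrHom (K (p + 1)).gr (K p).gr (δ p) := fun p d v hv b _ =>
    mmap_mem 𝒜 ℳ (D p) (fun _ => ((p + 1 : ℕ) : ℤ)) (fun _ => (p : ℤ))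
      (fun b c => by rw [Nat.cast_succ, add_sub_cancel_left]; exact (hD p b c).1) (fun c => hv c (Set.mem_univ c)) b
  let B : ℕ → GrLC.GMod.{u} 𝒜 := fun p =>
    subG 𝒜 (K p).gr (LinearMap.range (δ p)) (range_isHomogeneous (K (p + 1)).gr (K p).gr (hδ p))
  have hBZ : ∀ p, LinearMap.range (δ (p + 1)) ≤ LinearMap.ker (δ p) := by
    rintro p _ ⟨v, rfl⟩
    rw [LinearMap.mem_ker]
    change mmap (D p) (mmap (M := M) (D (p + 1)) v) = 0
    rw [mmap_comp, hDD p]
    funext b
    simp [mmap_apply]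
  have key : ∀ (j p : ℕ), L + 1 ≤ p + j → ∀ i : ℕ,
      (∀ p' : ℕ, p ≤ p' → Van a ℳ (i + p') (g - (p' + 1 : ℕ))) → Van a (B p).gr (i + p) g := by
    intro j
    induction j with
    | zero =>
      intro p hp i _
      haveI : IsEmpty (Fin (rk p)) := by rw [hrk p (by omega)]; infer_instance
      haveI : Subsingleton (B p).carrier :=
        subsingleton_of_forall_eq 0 fun x => Subtype.ext (funext fun b => isEmptyElim (b : Fin (rk p)))
      exact van_of_subsingleton' a _ _
    | succ j ihj =>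
      intro p hp i hM
      let Z := subG 𝒜 (K (p + 1)).gr (LinearMap.ker (δ p)) (ker_isHomogeneous (K (p + 1)).gr (K p).gr (hδ p))
      let inc : Z.carrier →ₗ[R] (K (p + 1)).carrier := (LinearMap.ker (δ p)).subtype
      let res : (K (p + 1)).carrier →ₗ[R] (B p).carrier := (δ p).rangeRestrict
      refine van_right (ℳ₁ := Z.gr) (ℳ₂ := (K (p + 1)).gr) (ℳ₃ := (B p).gr) a (f := inc) (g := res)
        (LinearMap.ker (δ p)).injective_subtype (δ p).surjective_rangeRestrict
        ((Submodule.range_subtype _).trans (LinearMap.ker_rangeRestrict _).symm) (fun d v hv => hv)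
        (fun d v hv => hδ p d v hv) (van_powG' a _ (hM p le_rfl)) ?_
      let j' : (B (p + 1)).carrier →ₗ[R] Z.carrier := Submodule.inclusion (hBZ p)
      have hj : GrLC.IsGrHom (B (p + 1)).gr Z.gr j' := fun d v hv => hv
      let Q := quoG 𝒜 Z.gr (LinearMap.range j') (range_isHomogeneous (B (p + 1)).gr Z.gr hj)
      let q : Z.carrier →ₗ[R] Q.carrier := (LinearMap.range j').mkQ
      have hq : GrLC.IsGrHom Z.gr Q.gr q := fun d v hv => ⟨v, hv, rfl⟩
      refine van_mid (ℳ₁ := (B (p + 1)).gr) (ℳ₂ := Z.gr) (M₃ := Q.carrier) (ℳ₃ := Q.gr) a (f := j') (g := q)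
        (Submodule.inclusion_injective _) (Submodule.mkQ_surjective _) (Submodule.ker_mkQ _).symm hj hq ?_
        (van_of_torsion a (gam_eq_top_of_smul' a fun x hx y => ?_) (by omega) _)
      · have := ihj (p + 1) (by omega) i fun p' hp' => hM p' (by omega)
        rwa [show i + (p + 1) = i + p + 1 from by omega] at this
      · obtain ⟨⟨z, hz⟩, rfl⟩ := Submodule.Quotient.mk_surjective _ y
        obtain ⟨h, -, hh⟩ := hhom x hx
        refine (Submodule.Quotient.mk_eq_zero _).2 ⟨⟨x • z, ⟨mmap (M := M) (h (p + 1)) z, ?_⟩⟩, rfl⟩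
        change mmap (D (p + 1)) (mmap (M := M) (h (p + 1)) z) = x • z
        have hz' : mmap (M := M) (D p) z = 0 := LinearMap.mem_ker.1 hz
        have h2 : mmap (h p * D p) z = 0 := by rw [← mmap_comp, hz', map_zero]
        have h3 := congrArg (fun A => mmap (M := M) A z) (hh p)
        rw [mmap_add, h2, add_zero, mmap_smul_one] at h3
        rw [mmap_comp]
        exact h3
  let b₀ : Fin (rk 0) := ⟨0, hrk0⟩
  let Q := quoG 𝒜 (K 0).gr (LinearMap.range (δ 0)) (range_isHomogeneous (K 1).gr (K 0).gr (hδ 0))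
  let inc : (B 0).carrier →ₗ[R] (K 0).carrier := (LinearMap.range (δ 0)).subtype
  let q : (K 0).carrier →ₗ[R] Q.carrier := (LinearMap.range (δ 0)).mkQ
  have hq : GrLC.IsGrHom (K 0).gr Q.gr q := fun d v hv => ⟨v, hv, rfl⟩
  have hQtor : GrLC.gam a.toIdeal Q.carrier = ⊤ := gam_eq_top_of_smul' a fun x hx y => by
    obtain ⟨z, rfl⟩ := Submodule.Quotient.mk_surjective _ y
    obtain ⟨h, hh, -⟩ := hhom x hx
    refine (Submodule.Quotient.mk_eq_zero _).2 ⟨mmap (M := M) (h 0) z, ?_⟩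
    change mmap (D 0) (mmap (M := M) (h 0) z) = x • z
    rw [mmap_comp, hh, mmap_smul_one]
    rfl
  have hsingle : ∀ (d : ℤ), ∀ v ∈ ℳ d, Pi.single (M := fun _ : Fin (rk 0) => M) b₀ v ∈ (K 0).gr d := by
    intro d v hv c _
    change Pi.single (M := fun _ : Fin (rk 0) => M) b₀ v c ∈ ℳ (d - ((0 : ℕ) : ℤ))
    rcases eq_or_ne c b₀ with rfl | hne
    · rw [Pi.single_eq_same, Nat.cast_zero, sub_zero]; exact hv
    · rw [Pi.single_eq_of_ne hne]; exact zero_mem _
  refine ⟨fun i hi hM => ?_, fun h0 hM z hz => ?_, fun h0 hM w hw hw0 => ?_⟩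
  · let pr : (K 0).carrier →ₗ[R] M := (LinearMap.proj b₀ : (Fin (rk 0) → M) →ₗ[R] M)
    let inj : M →ₗ[R] (K 0).carrier := (LinearMap.single R (fun _ : Fin (rk 0) => M) b₀ : M →ₗ[R] (Fin (rk 0) → M))
    refine van_of_iso (ℳ₁ := ℳ) (ℳ₂ := (K 0).gr) a inj pr hsingle (fun d v hv => ?_)
      (fun v => Pi.single_eq_same (M := fun _ : Fin (rk 0) => M) b₀ v) ?_
    · have := hv b₀ (Set.mem_univ b₀)
      change v b₀ ∈ ℳ (d - ((0 : ℕ) : ℤ)) at this
      rwa [Nat.cast_zero, sub_zero] at this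
    · exact van_mid (ℳ₁ := (B 0).gr) (ℳ₂ := (K 0).gr) (M₃ := Q.carrier) (ℳ₃ := Q.gr) a (f := inc) (g := q)
        (LinearMap.range (δ 0)).injective_subtype (Submodule.mkQ_surjective _)
        ((Submodule.range_subtype _).trans (Submodule.ker_mkQ _).symm) (fun d v hv => hv) hq
        (key (L + 1) 0 (by omega) i fun p' _ => hM p') (van_of_torsion a hQtor hi _)
  · have hQ0 : Van a Q.gr 0 g := van_right (ℳ₁ := (B 0).gr) (ℳ₂ := (K 0).gr) (M₃ := Q.carrier) (ℳ₃ := Q.gr) a
        (f := inc) (g := q) (LinearMap.range (δ 0)).injective_subtype (Submodule.mkQ_surjective _)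
        ((Submodule.range_subtype _).trans (Submodule.ker_mkQ _).symm) (fun d v hv => hv) hq
        (van_powG' a _ (by rwa [Nat.cast_zero, sub_zero]))
        (key (L + 1) 0 (by omega) 1 fun p' _ => hM p')
    let v : (K 0).carrier := Pi.single (M := fun _ : Fin (rk 0) => M) b₀ z
    have hmem : v ∈ LinearMap.range (δ 0) := (Submodule.Quotient.mk_eq_zero _).1
      ((van_zero_iff a).1 hQ0 (q v) (hQtor ▸ Submodule.mem_top) (hq g v (hsingle g z hz)))
    obtain ⟨w, hw⟩ := hmem
    have hz' : z = ∑ c, D 0 b₀ c • (w : Fin (rk 1) → M) c := by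
      have h1 : mmap (M := M) (D 0) w b₀ = Pi.single (M := fun _ : Fin (rk 0) => M) b₀ z b₀ := congrFun hw b₀
      rwa [mmap_apply, Pi.single_eq_same, eq_comm] at h1
    rw [hz']
    exact Submodule.sum_mem _ fun c _ => Submodule.smul_mem_smul (hD 0 b₀ c).2 Submodule.mem_top
  · let Z := subG 𝒜 (K 1).gr (LinearMap.ker (δ 0)) (ker_isHomogeneous (K 1).gr (K 0).gr (hδ 0))
    let zin : Z.carrier →ₗ[R] (K 1).carrier := (LinearMap.ker (δ 0)).subtype
    let res : (K 1).carrier →ₗ[R] (B 0).carrier := (δ 0).rangeRestrict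
    let j' : (B 1).carrier →ₗ[R] Z.carrier := Submodule.inclusion (hBZ 0)
    have hj : GrLC.IsGrHom (B 1).gr Z.gr j' := fun d v hv => hv
    let Q₁ := quoG 𝒜 Z.gr (LinearMap.range j') (range_isHomogeneous (B 1).gr Z.gr hj)
    let q₁ : Z.carrier →ₗ[R] Q₁.carrier := (LinearMap.range j').mkQ
    have hq₁ : GrLC.IsGrHom Z.gr Q₁.gr q₁ := fun d v hv => ⟨v, hv, rfl⟩
    have hZ0 : Van a Z.gr 0 g := van_left_zero (ℳ₁ := Z.gr) (ℳ₂ := (K 1).gr) (ℳ₃ := (B 0).gr) a (f := zin) (g := res)
      (LinearMap.ker (δ 0)).injective_subtype (δ 0).surjective_rangeRestrict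
      ((Submodule.range_subtype _).trans (LinearMap.ker_rangeRestrict _).symm) (fun d v hv => hv)
      (fun d v hv => hδ 0 d v hv) (van_powG' a _ (by rwa [Nat.cast_one]))
    have hB1 : Van a (B 1).gr 1 g := by
      have := key (L + 1) 1 (by omega) 0 fun p' hp' => by rw [zero_add]; exact hM p' hp'
      rwa [zero_add] at this
    have hQ₁ : Van a Q₁.gr 0 g := van_right (ℳ₁ := (B 1).gr) (ℳ₂ := Z.gr) (M₃ := Q₁.carrier) (ℳ₃ := Q₁.gr) a
      (f := j') (g := q₁) (Submodule.inclusion_injective _) (Submodule.mkQ_surjective _)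
      (Submodule.ker_mkQ _).symm hj hq₁ hZ0 hB1
    have htor : GrLC.gam a.toIdeal Q₁.carrier = ⊤ := gam_eq_top_of_smul' a fun x hx y => by
      obtain ⟨⟨z, hz⟩, rfl⟩ := Submodule.Quotient.mk_surjective _ y
      obtain ⟨h, -, hh⟩ := hhom x hx
      refine (Submodule.Quotient.mk_eq_zero _).2 ⟨⟨x • z, ⟨mmap (M := M) (h 1) z, ?_⟩⟩, rfl⟩
      change mmap (D 1) (mmap (M := M) (h 1) z) = x • z
      have hz' : mmap (M := M) (D 0) z = 0 := LinearMap.mem_ker.1 hz
      have h2 : mmap (h 0 * D 0) z = 0 := by rw [← mmap_comp, hz', map_zero]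
      have h3 := congrArg (fun A => mmap (M := M) A z) (hh 0)
      rw [mmap_add, h2, add_zero, mmap_smul_one] at h3
      rw [mmap_comp]
      exact h3
    let wz : Z.carrier := (⟨w, LinearMap.mem_ker.2 hw0⟩ : LinearMap.ker (δ 0))
    have hwz : wz ∈ Z.gr g := fun b _ => show w b ∈ ℳ (g - ((1 : ℕ) : ℤ)) by rw [Nat.cast_one]; exact hw b
    obtain ⟨⟨_, v, rfl⟩, hv⟩ := (Submodule.Quotient.mk_eq_zero _).1
      ((van_zero_iff a).1 hQ₁ (q₁ wz) (htor ▸ Submodule.mem_top) (hq₁ g wz hwz))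
    exact ⟨v, congrArg Subtype.val hv⟩

/-- Vanishing from the Koszul complex of generators in degree one; in low degree, membership in `aM`. -/
theorem koszul_chase (ha : a.toIdeal = Ideal.span (𝒜 1 : Set R)) (g : ℤ) :
    (∀ i : ℕ, 0 < i → (∀ p : ℕ, Van a ℳ (i + p) (g - (p + 1 : ℕ))) → Van a ℳ i g) ∧
      (Van a ℳ 0 g → (∀ p : ℕ, Van a ℳ (1 + p) (g - (p + 1 : ℕ))) →
        ∀ z ∈ ℳ g, z ∈ a.toIdeal • (⊤ : Submodule R M)) := by
  obtain ⟨κ⟩ := nonempty_kData a ha
  obtain ⟨h1, h2, -⟩ := koszul_chase_full (ℳ := ℳ) a κ g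
  exact ⟨h1, h2⟩

end Chase

end Groth.L12.GrLCLib
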