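import Groth.Agent.L12.GrLCVan
import Groth.Agent.L12.GrRegSeq
import Mathlib.RingTheory.MvPolynomial.Ideal

/-!
# Weakly regular modules: vanishing propagates upwards

The linear resolution of the residue field, tensored with a module, gives a complex with torsion
homology; chasing it shows that a weakly `d`-regular module is weakly `d'`-regular for `d' ≥ d`.
-/

set_option autoImplicit false

universe u

open DirectSum

namespace Groth.L12.GrLCLib

section Pow

variable {ι : Type} [AddCommGroup ι] [DecidableEq ι]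
variable {R : Type u} [CommRing R] {σ : Type u} [SetLike σ R] [AddSubgroupClass σ R]
variable (𝒜 : ι → σ) [GradedRing 𝒜]
variable {M : Type u} [AddCommGroup M] [Module R M] {τ : Type u} [SetLike τ M] [AddSubgroupClass τ M]
  (ℳ : ι → τ) [DirectSum.Decomposition ℳ] [SetLike.GradedSMul 𝒜 ℳ]

omit [Module R M] [SetLike.GradedSMul 𝒜 ℳ] in
lemma pow_isInternal {n : ℕ} (deg : Fin n → ι) :
    DirectSum.IsInternal fun g => AddSubgroup.pi (Set.univ : Set (Fin n)) fun b => asub ℳ (g - deg b) := by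
  classical
  refine isInternal_of_pr _ (fun g => AddMonoidHom.mk' (fun v b => cp ℳ (g - deg b) (v b))
    fun v w => funext fun b => by simp) (fun g v hv => funext fun b => cp_same ℳ (hv b (Set.mem_univ b)))
    (fun g h hgh v hv => funext fun b => cp_ne ℳ (hv b (Set.mem_univ b)) fun e => hgh (sub_left_injective e))
    fun v => ?_
  rw [show v = ∑ b, Pi.single b (v b) from (Finset.univ_sum_single v).symm]
  refine sum_mem fun b _ => ?_
  obtain ⟨s, hs, -⟩ := exists_sum_cp ℳ (v b)
  rw [← hs, ← AddMonoidHom.single_apply, map_sum]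
  refine sum_mem fun g _ => AddSubgroup.mem_iSup_of_mem (g + deg b) fun c _ => ?_
  change AddMonoidHom.single (fun _ : Fin n => M) b (cp ℳ g (v b)) c ∈ ℳ (g + deg b - deg c)
  rw [AddMonoidHom.single_apply]
  rcases eq_or_ne c b with rfl | hne
  · rw [Pi.single_eq_same, add_sub_cancel_right]; exact cp_mem ℳ g _
  · rw [Pi.single_eq_of_ne hne]; exact zero_mem _

/-- `M ⊗` a free module with a homogeneous basis in the degrees `deg` -/
noncomputable def powG {n : ℕ} (deg : Fin n → ι) : GrLC.GMod.{u} 𝒜 :=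
  { carrier := Fin n → M
    gr := fun g => AddSubgroup.pi (Set.univ : Set (Fin n)) fun b => asub ℳ (g - deg b)
    dec := (pow_isInternal ℳ deg).chooseDecomposition
    gsmul := ⟨fun {i j c v} hc hv b _ => by
      change c • v b ∈ ℳ (i + j - deg b)
      rw [add_sub_assoc]
      exact smul_mem' 𝒜 ℳ hc (hv b (Set.mem_univ b))⟩ }

/-- a matrix acting on column vectors with entries in a module -/
def mmap {m n : ℕ} (D : Matrix (Fin m) (Fin n) R) : (Fin n → M) →ₗ[R] (Fin m → M) :=
  LinearMap.pi fun a => ∑ b, D a b • LinearMap.proj b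

omit [Module R M] in
lemma mmap_apply [Module R M] {m n : ℕ} (D : Matrix (Fin m) (Fin n) R) (v : Fin n → M) (a : Fin m) :
    mmap D v a = ∑ b, D a b • v b := by
  simp [mmap]

lemma mmap_comp {l m n : ℕ} (D : Matrix (Fin l) (Fin m) R) (D' : Matrix (Fin m) (Fin n) R) (v : Fin n → M) :
    mmap D (mmap D' v) = mmap (D * D') v := by
  funext a
  simp only [mmap_apply, Finset.smul_sum, smul_smul, Matrix.mul_apply, Finset.sum_smul]
  exact Finset.sum_comm

lemma mmap_add {m n : ℕ} (D D' : Matrix (Fin m) (Fin n) R) (v : Fin n → M) :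
    mmap (D + D') v = mmap D v + mmap D' v := by
  funext a
  simp [mmap_apply, add_smul, Finset.sum_add_distrib]

lemma mmap_smul_one {n : ℕ} (c : R) (v : Fin n → M) : mmap (c • (1 : Matrix (Fin n) (Fin n) R)) v = c • v := by
  classical
  funext a
  simp [mmap_apply, Matrix.one_apply, ite_smul]

omit [DirectSum.Decomposition ℳ] in
lemma mmap_mem {m n : ℕ} (D : Matrix (Fin m) (Fin n) R) (deg : Fin n → ι) (deg' : Fin m → ι)
    (hD : ∀ a b, D a b ∈ 𝒜 (deg b - deg' a)) {g : ι} {v : Fin n → M} (hv : ∀ b, v b ∈ ℳ (g - deg b)) (a : Fin m) :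
    mmap D v a ∈ ℳ (g - deg' a) := by
  rw [mmap_apply]
  refine sum_mem fun b _ => ?_
  have h := smul_mem' 𝒜 ℳ (hD a b) (hv b)
  rwa [show deg b - deg' a + (g - deg b) = g - deg' a by abel] at h

end Pow

end Groth.L12.GrLCLib

namespace Groth.L12.GrLCLib

open Groth.L12.GrSyzLib

variable {k : Type u} [Field k] {r : ℕ}

section Resolution

variable (k r)

lemma mm_eq_span_X : mm k (Fin (r + 1)) =
    Ideal.span (MvPolynomial.X '' (Set.univ : Set (Fin (r + 1)))) := by
  classical
  refine le_antisymm (fun p hp => ?_) (Ideal.span_le.2 ?_)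
  · rw [MvPolynomial.mem_ideal_span_X_image]
    intro m hm
    by_contra hcon
    push Not at hcon
    have : m = 0 := Finsupp.ext fun i => hcon i trivial
    subst this
    rw [MvPolynomial.mem_support_iff] at hm
    exact hm (mem_mm_iff.1 hp)
  · rintro _ ⟨i, -, rfl⟩
    exact mem_mm_iff.2 (MvPolynomial.constantCoeff_X _ i)

/-- the minimal resolution of the residue field is linear, of finite length, and multiplication by an
element of the irrelevant ideal is null-homotopic on it -/
theorem exists_linear_resolution :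
    ∃ (rk : ℕ → ℕ) (D : ∀ p, Matrix (Fin (rk p)) (Fin (rk (p + 1))) (MvPolynomial (Fin (r + 1)) k)),
      0 < rk 0 ∧ (∀ p, r + 1 < p → rk p = 0) ∧
      (∀ p a b, D p a b ∈ GrSyz.stdGr k (Fin (r + 1)) 1) ∧
      (∀ p, D p * D (p + 1) = 0) ∧
      ∀ x ∈ mm k (Fin (r + 1)), ∃ h : ∀ p, Matrix (Fin (rk (p + 1))) (Fin (rk p)) (MvPolynomial (Fin (r + 1)) k),
        D 0 * h 0 = x • 1 ∧ ∀ p, D (p + 1) * h (p + 1) + h p * D p = x • 1 := by
  classical
  set J : Ideal (MvPolynomial (Fin (r + 1)) k) := Ideal.span (MvPolynomial.X '' (Set.univ : Set (Fin (r + 1))))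
    with hJdef
  letI := quotDec (GrSyz.stdGr k (Fin (r + 1))) (span_X_isHom k (Fin (r + 1)) Set.univ)
  obtain ⟨G, hG, hlen⟩ := exists_res_hasLengthLE (k := k) (σ := Fin (r + 1))
    (ℳ := quotGrM (GrSyz.stdGr k (Fin (r + 1))) J)
  have hgen := isGenLE_of_isRegLE G hG (isRegLE_quot_X k (Fin (r + 1)) Set.univ)
  have hker : ∀ v, Fintype.linearCombination (MvPolynomial (Fin (r + 1)) k) G.aug v = 0 →
      ∀ b, v b ∈ mm k (Fin (r + 1)) := fun v hv b =>
    mem_range_dLin G hG 0 v (G.exact_zero ▸ LinearMap.mem_ker.2 hv) b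
  have hkill : ∀ x ∈ mm k (Fin (r + 1)), ∀ y : MvPolynomial (Fin (r + 1)) k ⧸ J, x • y = 0 := fun x hx y => by
    obtain ⟨z, rfl⟩ := Submodule.Quotient.mk_surjective _ y
    rw [← Submodule.Quotient.mk_smul, Submodule.Quotient.mk_eq_zero, smul_eq_mul]
    exact J.mul_mem_right z (by rw [hJdef, ← mm_eq_span_X]; exact hx)
  have hdd : ∀ p, G.d p * G.d (p + 1) = 0 := fun p => by
    refine Matrix.mulVec_injective.eq_iff.1 (funext fun v => ?_)
    rw [Matrix.zero_mulVec, ← Matrix.mulVec_mulVec]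
    exact LinearMap.mem_ker.1 (G.exact_succ p ▸ LinearMap.mem_range_self (G.dLin (p + 1)) v)
  have hdeg0 : ∀ b, G.deg 0 b = 0 := fun b => by
    by_contra hne
    have haug : G.aug b = 0 := by
      obtain ⟨z, hz, hzb⟩ := G.aug_mem b
      rw [← hzb, LinearMap.restrictScalars_apply, Submodule.mkQ_apply, Submodule.Quotient.mk_eq_zero, hJdef,
        ← mm_eq_span_X]
      exact mem_mm_iff.2 (constantCoeff_of_mem hne hz)
    have := hker (Pi.single b 1) (by rw [Fintype.linearCombination_apply_single, haug, smul_zero]) b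
    rw [Pi.single_eq_same] at this
    exact one_notMem_mm this
  have hdeg : ∀ p b, G.deg p b = p := by
    intro p
    induction p with
    | zero => simpa using hdeg0
    | succ p ih =>
      intro b
      refine le_antisymm (by simpa using hgen (p + 1) b) ?_
      by_contra hlt
      have hcol : G.dLin p (Pi.single b 1) = 0 := funext fun a => by
        rw [GrSyz.FreeRes.dLin, Matrix.mulVecLin_apply, Matrix.mulVec_single_one]
        change G.d p a b = 0
        have h1 := G.d_mem p a b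
        have h2 := hG p a b
        rcases eq_or_ne (G.deg (p + 1) b - G.deg p a) 0 with h0 | h0
        · rw [h0] at h1
          rw [eq_C_of_mem_zero h1, mem_mm_iff.1 h2, map_zero]
        · rw [stdGr_neg (by rw [ih a] at h0 ⊢; omega)] at h1
          exact (Submodule.mem_bot k).1 h1
      have := mem_range_dLin G hG (p + 1) _ (G.exact_succ p ▸ LinearMap.mem_ker.2 hcol) b
      rw [Pi.single_eq_same] at this
      exact one_notMem_mm this
  refine ⟨G.rk, G.d, ?_, fun p hp => hlen p (by simpa using hp), fun p a b => ?_, hdd, fun x hx => ?_⟩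
  · by_contra h0
    obtain ⟨v, hv⟩ := G.aug_surjective (Submodule.Quotient.mk 1)
    rw [Fintype.linearCombination_apply, Finset.sum_eq_zero (fun b _ => absurd b.2 (by omega)), eq_comm,
      Submodule.Quotient.mk_eq_zero, hJdef, ← mm_eq_span_X] at hv
    exact one_notMem_mm hv
  · have := G.d_mem p a b
    rwa [hdeg, hdeg, Nat.cast_succ, add_sub_cancel_left] at this
  · have lift : ∀ (p : ℕ) (n : ℕ) (u : Matrix (Fin (G.rk p)) (Fin n) (MvPolynomial (Fin (r + 1)) k)),
        (∀ v, u.mulVec v ∈ LinearMap.range (G.dLin p)) →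
        ∃ w : Matrix (Fin (G.rk (p + 1))) (Fin n) (MvPolynomial (Fin (r + 1)) k), G.d p * w = u := by
      intro p n u hu
      choose w hw using fun b : Fin n => hu (Pi.single b 1)
      refine ⟨fun a b => w b a, Matrix.ext fun a b => ?_⟩
      have := congrFun (hw b) a
      rw [Matrix.mulVec_single_one] at this
      exact this
    obtain ⟨h0, hh0⟩ := lift 0 (G.rk 0) (x • 1) fun v => by
      change _ ∈ LinearMap.range (Matrix.mulVecLin (G.d 0))
      rw [← G.exact_zero, LinearMap.mem_ker, Matrix.smul_mulVec, Matrix.one_mulVec, map_smul]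
      exact hkill x hx _
    have step : ∀ (p : ℕ) (h : Matrix (Fin (G.rk (p + 1))) (Fin (G.rk p)) (MvPolynomial (Fin (r + 1)) k)),
        G.d p * (x • 1 - h * G.d p) = 0 →
        ∃ h' : Matrix (Fin (G.rk (p + 2))) (Fin (G.rk (p + 1))) (MvPolynomial (Fin (r + 1)) k),
          G.d (p + 1) * h' + h * G.d p = x • 1 := fun p h hh => by
      obtain ⟨h', hh'⟩ := lift (p + 1) _ (x • 1 - h * G.d p) fun v => by
        change _ ∈ LinearMap.range (Matrix.mulVecLin (G.d (p + 1)))
        rw [← G.exact_succ p, LinearMap.mem_ker, Matrix.mulVecLin_apply, Matrix.mulVec_mulVec, hh,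
          Matrix.zero_mulVec]
      exact ⟨h', by rw [hh', sub_add_cancel]⟩
    let T := fun p => {h : Matrix (Fin (G.rk (p + 1))) (Fin (G.rk p)) (MvPolynomial (Fin (r + 1)) k) //
        G.d p * (x • 1 - h * G.d p) = 0}
    have nxt : ∀ p (h : T p), ∃ h' : T (p + 1), G.d (p + 1) * h'.1 + h.1 * G.d p = x • 1 := fun p h => by
      obtain ⟨h', hh'⟩ := step p h.1 h.2
      refine ⟨⟨h', ?_⟩, hh'⟩
      rw [Matrix.mul_sub, ← Matrix.mul_assoc, eq_sub_of_add_eq hh', Matrix.sub_mul, Matrix.mul_assoc, hdd p,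
        Matrix.mul_zero, sub_zero, Matrix.smul_mul, Matrix.one_mul, Matrix.mul_smul, Matrix.mul_one, sub_self]
    choose N hN using nxt
    let hs : ∀ p, T p := fun p => Nat.rec (motive := T) ⟨h0, by
      rw [Matrix.mul_sub, ← Matrix.mul_assoc, hh0, Matrix.mul_smul, Matrix.mul_one, Matrix.smul_mul,
        Matrix.one_mul, sub_self]⟩ N p
    exact ⟨fun p => (hs p).1, hh0, fun p => hN p (hs p)⟩

end Resolution

section ClaimA

variable {M : Type u} [AddCommGroup M] [Module (MvPolynomial (Fin (r + 1)) k) M]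
  {τ : Type u} [SetLike τ M] [AddSubgroupClass τ M]
  {ℳ : ℤ → τ} [DirectSum.Decomposition ℳ] [SetLike.GradedSMul (GrSyz.stdGr k (Fin (r + 1))) ℳ]

local notation "𝔪₀" => GrSyz.irrel (GrSyz.stdGr k (Fin (r + 1)))

lemma gam_eq_top_of_smul {A : Type u} [AddCommGroup A] [Module (MvPolynomial (Fin (r + 1)) k) A]
    (h : ∀ x ∈ mm k (Fin (r + 1)), ∀ y : A, x • y = 0) : GrLC.gam (𝔪₀).toIdeal A = ⊤ :=
  eq_top_iff.2 fun y _ => ⟨1, fun c hc => h c (by rwa [pow_one] at hc) y⟩

lemma van_of_subsingleton [Subsingleton M] (i : ℕ) (g : ℤ) : Van 𝔪₀ ℳ i g := by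
  obtain ⟨E⟩ := nonempty_starInjRes (GrSyz.stdGr k (Fin (r + 1))) ℳ
  have hy : (MvPolynomial.X (0 : Fin (r + 1)) : MvPolynomial (Fin (r + 1)) k) ∈ GrSyz.stdGr k (Fin (r + 1)) 1 :=
    MvPolynomial.isWeightedHomogeneous_X k _ _
  exact van_of_subsingleton_H _ E (subsingleton_H_of_bijective E _ hy
    (mem_mm_iff.2 (MvPolynomial.constantCoeff_X _ _))
    ⟨fun _ _ _ => Subsingleton.elim _ _, fun x => ⟨x, Subsingleton.elim _ _⟩⟩ i) g

/-- `M^n` placed in a single degree shift inherits vanishing -/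
lemma van_powG {n : ℕ} (p : ℤ) {i : ℕ} {g : ℤ} (h : Van 𝔪₀ ℳ i (g - p)) :
    Van 𝔪₀ (powG (GrSyz.stdGr k (Fin (r + 1))) ℳ (fun _ : Fin n => p)).gr i g := by
  let X := powG (GrSyz.stdGr k (Fin (r + 1))) ℳ (fun _ : Fin n => p)
  let Y := shG (GrSyz.stdGr k (Fin (r + 1))) ℳ (-p)
  let pr : Fin n → (X.carrier →ₗ[MvPolynomial (Fin (r + 1)) k] Y.carrier) := fun b =>
    (LinearMap.proj b : (Fin n → M) →ₗ[MvPolynomial (Fin (r + 1)) k] M)
  let inj : Fin n → (Y.carrier →ₗ[MvPolynomial (Fin (r + 1)) k] X.carrier) := fun b =>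
    (LinearMap.single (MvPolynomial (Fin (r + 1)) k) (fun _ : Fin n => M) b : M →ₗ[_] (Fin n → M))
  refine van_of_sum (ℳ₁ := X.gr) (ℳ₂ := Y.gr) 𝔪₀ Finset.univ pr inj (fun b _ d v hv => ?_) (fun b _ d v hv => ?_) ?_ ?_
  · change v b ∈ ℳ (d + -p)
    rw [← sub_eq_add_neg]
    exact hv b (Set.mem_univ b)
  · intro c _
    change Pi.single (M := fun _ : Fin n => M) b v c ∈ ℳ (d - p)
    rcases eq_or_ne c b with rfl | hne
    · rw [Pi.single_eq_same, sub_eq_add_neg]; exact hv
    · rw [Pi.single_eq_of_ne hne]; exact zero_mem _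
  · refine LinearMap.ext fun v => funext fun c => ?_
    change (∑ b, inj b ∘ₗ pr b) v c = v c
    rw [LinearMap.sum_apply]
    change (∑ b, Pi.single (M := fun _ : Fin n => M) b ((v : Fin n → M) b)) c = v c
    rw [Finset.univ_sum_single]
  · exact (van_shift 𝔪₀ (-p)).2 (by rwa [← sub_eq_add_neg])

/-- A weakly `d`-regular module has vanishing cohomology in all degrees above. -/
theorem van_above {d : ℤ} (hd : ∀ i : ℕ, 0 < i → Van 𝔪₀ ℳ i (d - i + 1)) :
    ∀ (i : ℕ), 0 < i → ∀ e : ℤ, d - i + 1 ≤ e → Van 𝔪₀ ℳ i e := by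
  classical
  obtain ⟨rk, D, hrk0, hrk, hD, hDD, hhom⟩ := exists_linear_resolution k r
  suffices H : ∀ (m : ℕ) (i : ℕ), 0 < i → Van 𝔪₀ ℳ i (d - i + 1 + m) from fun i hi e he => by
    have := H (e - (d - i + 1)).toNat i hi
    rwa [Int.toNat_of_nonneg (by omega), add_sub_cancel] at this
  intro m
  induction m with
  | zero => simpa using hd
  | succ m ih =>
    let K : ℕ → GrLC.GMod.{u} (GrSyz.stdGr k (Fin (r + 1))) := fun p =>
      powG (GrSyz.stdGr k (Fin (r + 1))) ℳ (fun _ : Fin (rk p) => (p : ℤ))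
    let δ : ∀ p, (K (p + 1)).carrier →ₗ[MvPolynomial (Fin (r + 1)) k] (K p).carrier := fun p =>
      (mmap (M := M) (D p) : (Fin (rk (p + 1)) → M) →ₗ[_] (Fin (rk p) → M))
    have hδ : ∀ p, GrLC.IsGrHom (K (p + 1)).gr (K p).gr (δ p) := fun p g v hv a _ =>
      mmap_mem (GrSyz.stdGr k (Fin (r + 1))) ℳ (D p) (fun _ => ((p + 1 : ℕ) : ℤ)) (fun _ => (p : ℤ))
        (fun a b => by rw [Nat.cast_succ, add_sub_cancel_left]; exact hD p a b) (fun b => hv b (Set.mem_univ b)) a
    let B : ℕ → GrLC.GMod.{u} (GrSyz.stdGr k (Fin (r + 1))) := fun p =>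
      subG (GrSyz.stdGr k (Fin (r + 1))) (K p).gr (LinearMap.range (δ p))
        (range_isHomogeneous (K (p + 1)).gr (K p).gr (hδ p))
    have hBZ : ∀ p, LinearMap.range (δ (p + 1)) ≤ LinearMap.ker (δ p) := by
      rintro p _ ⟨v, rfl⟩
      rw [LinearMap.mem_ker]
      change mmap (D p) (mmap (M := M) (D (p + 1)) v) = 0
      rw [mmap_comp, hDD p]
      funext a
      simp [mmap_apply]
    have key : ∀ (j : ℕ) (p : ℕ), r + 2 ≤ p + j → ∀ i : ℕ, 0 < i →
        Van 𝔪₀ (B p).gr (i + p) (d - i + 1 + (m + 1 : ℕ)) := by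
      intro j
      induction j with
      | zero =>
        intro p hp i _
        haveI : IsEmpty (Fin (rk p)) := by rw [hrk p (by omega)]; infer_instance
        haveI : Subsingleton (B p).carrier :=
          subsingleton_of_forall_eq 0 fun x => Subtype.ext (funext fun b => isEmptyElim (b : Fin (rk p)))
        exact van_of_subsingleton _ _
      | succ j ihj =>
        intro p hp i hi
        let Z := subG (GrSyz.stdGr k (Fin (r + 1))) (K (p + 1)).gr (LinearMap.ker (δ p))
          (ker_isHomogeneous (K (p + 1)).gr (K p).gr (hδ p))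
        let inc : Z.carrier →ₗ[MvPolynomial (Fin (r + 1)) k] (K (p + 1)).carrier := (LinearMap.ker (δ p)).subtype
        let res : (K (p + 1)).carrier →ₗ[MvPolynomial (Fin (r + 1)) k] (B p).carrier := (δ p).rangeRestrict
        refine van_right (ℳ₁ := Z.gr) (ℳ₂ := (K (p + 1)).gr) (ℳ₃ := (B p).gr) 𝔪₀ (f := inc) (g := res)
          (LinearMap.ker (δ p)).injective_subtype (δ p).surjective_rangeRestrict
          ((Submodule.range_subtype _).trans (LinearMap.ker_rangeRestrict _).symm) (fun g v hv => hv)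
          (fun g v hv => hδ p g v hv) ?_ ?_
        · refine van_powG _ ?_
          have h := ih (i + p) (by omega)
          convert h using 1
          push_cast
          ring
        · let j' : (B (p + 1)).carrier →ₗ[MvPolynomial (Fin (r + 1)) k] Z.carrier := Submodule.inclusion (hBZ p)
          have hj : GrLC.IsGrHom (B (p + 1)).gr Z.gr j' := fun g v hv => hv
          let Q := quoG (GrSyz.stdGr k (Fin (r + 1))) Z.gr (LinearMap.range j')
            (range_isHomogeneous (B (p + 1)).gr Z.gr hj)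
          let q : Z.carrier →ₗ[MvPolynomial (Fin (r + 1)) k] Q.carrier := (LinearMap.range j').mkQ
          have hq : GrLC.IsGrHom Z.gr Q.gr q := fun g v hv => ⟨v, hv, rfl⟩
          refine van_mid (ℳ₁ := (B (p + 1)).gr) (ℳ₂ := Z.gr) (M₃ := Q.carrier) (ℳ₃ := Q.gr) 𝔪₀ (f := j') (g := q)
            (Submodule.inclusion_injective _) (Submodule.mkQ_surjective _) (Submodule.ker_mkQ _).symm hj
            hq ?_ (van_of_torsion 𝔪₀ (gam_eq_top_of_smul fun x hx y => ?_) (by omega) _)
          · have := ihj (p + 1) (by omega) i hi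
            rwa [show i + (p + 1) = i + p + 1 from by omega] at this
          · obtain ⟨⟨z, hz⟩, rfl⟩ := Submodule.Quotient.mk_surjective _ y
            obtain ⟨h, -, hh⟩ := hhom x hx
            refine (Submodule.Quotient.mk_eq_zero _).2 ⟨⟨x • z, ⟨mmap (M := M) (h (p + 1)) z, ?_⟩⟩, rfl⟩
            change mmap (D (p + 1)) (mmap (M := M) (h (p + 1)) z) = x • z
            have hz' : mmap (M := M) (D p) z = 0 := LinearMap.mem_ker.1 hz
            have h2 : mmap (h p * D p) z = 0 := by rw [← mmap_comp, hz', map_zero]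
            have h3 := congrArg (fun A => mmap (M := M) A z) (hh p)
            rw [mmap_add, h2, add_zero, mmap_smul_one] at h3
            rw [mmap_comp]
            exact h3
    intro i hi
    let b₀ : Fin (rk 0) := ⟨0, hrk0⟩
    let pr : (K 0).carrier →ₗ[MvPolynomial (Fin (r + 1)) k] M :=
      (LinearMap.proj b₀ : (Fin (rk 0) → M) →ₗ[MvPolynomial (Fin (r + 1)) k] M)
    let inj : M →ₗ[MvPolynomial (Fin (r + 1)) k] (K 0).carrier :=
      (LinearMap.single (MvPolynomial (Fin (r + 1)) k) (fun _ : Fin (rk 0) => M) b₀ : M →ₗ[_] (Fin (rk 0) → M))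
    refine van_of_iso (ℳ₁ := ℳ) (ℳ₂ := (K 0).gr) 𝔪₀ inj pr (fun g v hv c _ => ?_) (fun g v hv => ?_)
      (fun v => Pi.single_eq_same (M := fun _ : Fin (rk 0) => M) b₀ v) ?_
    · change Pi.single (M := fun _ : Fin (rk 0) => M) b₀ v c ∈ ℳ (g - ((0 : ℕ) : ℤ))
      rcases eq_or_ne c b₀ with rfl | hne
      · rw [Pi.single_eq_same, Nat.cast_zero, sub_zero]; exact hv
      · rw [Pi.single_eq_of_ne hne]; exact zero_mem _
    · have := hv b₀ (Set.mem_univ b₀)
      change v b₀ ∈ ℳ (g - ((0 : ℕ) : ℤ)) at this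
      rwa [Nat.cast_zero, sub_zero] at this
    · let Q := quoG (GrSyz.stdGr k (Fin (r + 1))) (K 0).gr (LinearMap.range (δ 0))
        (range_isHomogeneous (K 1).gr (K 0).gr (hδ 0))
      let inc : (B 0).carrier →ₗ[MvPolynomial (Fin (r + 1)) k] (K 0).carrier := (LinearMap.range (δ 0)).subtype
      let q : (K 0).carrier →ₗ[MvPolynomial (Fin (r + 1)) k] Q.carrier := (LinearMap.range (δ 0)).mkQ
      have hq : GrLC.IsGrHom (K 0).gr Q.gr q := fun g v hv => ⟨v, hv, rfl⟩
      refine van_mid (ℳ₁ := (B 0).gr) (ℳ₂ := (K 0).gr) (M₃ := Q.carrier) (ℳ₃ := Q.gr) 𝔪₀ (f := inc) (g := q)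
        (LinearMap.range (δ 0)).injective_subtype (Submodule.mkQ_surjective _)
        ((Submodule.range_subtype _).trans (Submodule.ker_mkQ _).symm) (fun g v hv => hv)
        hq ?_ (van_of_torsion 𝔪₀ (gam_eq_top_of_smul fun x hx y => ?_) hi _)
      · exact key (r + 2) 0 (by omega) i hi
      · obtain ⟨z, rfl⟩ := Submodule.Quotient.mk_surjective _ y
        obtain ⟨h, hh, -⟩ := hhom x hx
        refine (Submodule.Quotient.mk_eq_zero _).2 ⟨mmap (M := M) (h 0) z, ?_⟩
        change mmap (D 0) (mmap (M := M) (h 0) z) = x • z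
        rw [mmap_comp, hh, mmap_smul_one]
        rfl

end ClaimA

end Groth.L12.GrLCLib
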