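import Groth.Agent.L12.GrLCDual
import Groth.Agent.L12.GrLCPos
import Mathlib.LinearAlgebra.Dual.Lemmas

/-!
# Graded Matlis duality, piece by piece
-/

set_option autoImplicit false

universe u

open DirectSum

namespace Groth.L12.GrLCLib

variable {R : Type u} [CommRing R] {𝒜 : ℤ → AddSubgroup R} [GradedRing 𝒜]
variable {C : Type u} [AddCommGroup C] [Module R C] {𝒞 : ℤ → AddSubgroup C} [DirectSum.Decomposition 𝒞]
  [SetLike.GradedSMul 𝒜 𝒞]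
variable {X : Type u} [AddCommGroup X] [Module R X] {𝒳 : ℤ → AddSubgroup X} [DirectSum.Decomposition 𝒳]
  [SetLike.GradedSMul 𝒜 𝒳]

section Part

variable (𝒜 𝒞 𝒳) in
include 𝒜 in
/-- the part of degree `g` of a linear map -/
theorem exists_homPart (ψ : C →ₗ[R] X) (g : ℤ) :
    ∃ f : C →ₗ[R] X, GrLC.IsGrHomDeg 𝒞 𝒳 f g ∧ ∀ (d : ℤ), ∀ c ∈ 𝒞 d, f c = cp 𝒳 (d + g) (ψ c) := by
  classical
  let φd : ∀ d, 𝒞 d →+ X := fun d => (cp 𝒳 (d + g)).comp (ψ.toAddMonoidHom.comp (𝒞 d).subtype)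
  let F : C →+ X := (DirectSum.toAddMonoid φd).comp (decomposeAddEquiv 𝒞).toAddMonoidHom
  have hF : ∀ d, ∀ c ∈ 𝒞 d, F c = cp 𝒳 (d + g) (ψ c) := fun d c hc => by
    change DirectSum.toAddMonoid φd (decompose 𝒞 c) = _
    rw [decompose_of_mem 𝒞 hc, DirectSum.toAddMonoid_of]
    rfl
  let f : C →ₗ[R] X :=
    { toFun := F
      map_add' := F.map_add
      map_smul' := fun r c => by
        change F (r • c) = r • F c
        induction r using induction_on_hom 𝒜 with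
        | h0 => simp
        | ha a b ha hb => rw [add_smul, add_smul, map_add, ha, hb]
        | hh e z hz =>
          induction c using induction_on_hom 𝒞 with
          | h0 => simp
          | ha a b ha hb => rw [smul_add, map_add, map_add, smul_add, ha, hb]
          | hh d w hw =>
            rw [hF _ _ (smul_mem' 𝒜 𝒞 hz hw), hF d w hw, map_smul, cp_smul_hom' 𝒜 𝒳 hz,
              show e + d + g - e = d + g by ring] }
  exact ⟨f, fun d c hc => (hF d c hc).symm ▸ cp_mem 𝒳 _ _, hF⟩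

/-- a linear map out of a finite module is a sum of homogeneous ones -/
theorem exists_sum_homPart [Module.Finite R C] (ψ : C →ₗ[R] X) :
    ∃ (s : Finset ℤ) (f : ℤ → (C →ₗ[R] X)), (∀ g, f g ∈ GrLC.homDeg 𝒜 𝒞 𝒳 g) ∧
      (∀ g d, ∀ c ∈ 𝒞 d, f g c = cp 𝒳 (d + g) (ψ c)) ∧ ∑ g ∈ s, f g = ψ := by
  classical
  choose f hf hfc using exists_homPart 𝒜 𝒞 𝒳 ψ
  obtain ⟨n, deg, x, hx, hspan⟩ := exists_homog_gens 𝒞 (P := (⊤ : Submodule R C)) (fun _ _ _ => trivial) Module.Finite.fg_top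
  choose t ht ht' using fun b => exists_sum_cp 𝒳 (ψ (x b))
  refine ⟨Finset.univ.biUnion fun b => (t b).image fun i => i - deg b, f, fun g => hf g, hfc, ?_⟩
  refine LinearMap.ext_on_range hspan fun b => ?_
  rw [LinearMap.sum_apply]
  simp only [hfc _ _ _ (hx b)]
  conv_rhs => rw [← ht b]
  have h1 : ∑ i ∈ t b, cp 𝒳 i (ψ (x b)) = ∑ g ∈ (t b).image fun i => i - deg b, cp 𝒳 (deg b + g) (ψ (x b)) := by
    rw [Finset.sum_image (fun i _ j _ h => sub_left_inj.1 h)]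
    exact Finset.sum_congr rfl fun i _ => by rw [add_sub_cancel]
  rw [h1]
  refine (Finset.sum_subset ?_ fun g _ hg => ?_).symm
  · exact fun g hg => Finset.mem_biUnion.2 ⟨b, Finset.mem_univ b, hg⟩
  · by_contra hne
    exact hg (Finset.mem_image.2 ⟨deg b + g, ht' b _ hne, by ring⟩)

/-- a homogeneous bijection out of `Hom` reflects degrees -/
theorem mem_homDeg_of_map [Module.Finite R C] {Y : Type u} [AddCommGroup Y] [Module R Y] {𝒴 : ℤ → AddSubgroup Y}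
    [DirectSum.Decomposition 𝒴] (φ : (C →ₗ[R] X) ≃ₗ[R] Y)
    (hφ : GrLC.IsGrHom (fun d => (GrLC.homDeg 𝒜 𝒞 𝒳 d).toAddSubgroup) 𝒴 φ.toLinearMap) {g : ℤ} {ψ : C →ₗ[R] X}
    (h : φ ψ ∈ 𝒴 g) : ψ ∈ GrLC.homDeg 𝒜 𝒞 𝒳 g := by
  classical
  obtain ⟨s, f, hf, -, hs⟩ := exists_sum_homPart (𝒜 := 𝒜) (𝒞 := 𝒞) (𝒳 := 𝒳) ψ
  have hsum : φ ψ = ∑ h ∈ s, φ (f h) := by rw [← hs, map_sum]
  have hz : ∀ h ∈ s, h ≠ g → f h = 0 := fun h' hh' hne => φ.map_eq_zero_iff.1 (by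
    have h1 := congrArg (cp 𝒴 h') hsum
    rw [map_sum, cp_ne 𝒴 h hne.symm, Finset.sum_eq_single h' (fun b _ hb => cp_ne 𝒴 (show φ (f b) ∈ 𝒴 b from hφ b _ (hf b)) hb)
      (fun hn => absurd hh' hn), cp_same 𝒴 (show φ (f h') ∈ 𝒴 h' from hφ h' _ (hf h'))] at h1
    exact h1.symm)
  rw [← hs]
  by_cases hg : g ∈ s
  · rw [Finset.sum_eq_single g (fun b hb hne => hz b hb hne) (fun hn => absurd hg hn)]; exact hf g
  · rw [Finset.sum_eq_zero fun b hb => hz b hb fun e => hg (e ▸ hb)]; exact zero_mem _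

end Part

variable (hX : IsDual 𝒜 𝒳) (h0 : IsField (GrLC.deg0 𝒜)) [IsNoetherianRing R] [Module.Finite R C]

include hX h0 in
/-- homogeneous elements are the functionals on opposite pieces of `Hom` -/
theorem IsDual.exists_eval (g : ℤ) (lam : (C →ₗ[R] X) → X) (hl : ∀ ψ ∈ GrLC.homDeg 𝒜 𝒞 𝒳 (-g), lam ψ ∈ 𝒳 0)
    (hadd : ∀ ψ ∈ GrLC.homDeg 𝒜 𝒞 𝒳 (-g), ∀ ψ' ∈ GrLC.homDeg 𝒜 𝒞 𝒳 (-g), lam (ψ + ψ') = lam ψ + lam ψ')
    (hsm : ∀ r ∈ 𝒜 0, ∀ ψ ∈ GrLC.homDeg 𝒜 𝒞 𝒳 (-g), lam (r • ψ) = r • lam ψ) :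
    ∃! c, c ∈ 𝒞 g ∧ ∀ ψ ∈ GrLC.homDeg 𝒜 𝒞 𝒳 (-g), ψ c = lam ψ := by
  classical
  letI : Field (GrLC.deg0 𝒜) := h0.toField
  haveI := isNoetherian_comp (𝒜 := 𝒜) 𝒞 g
  haveI : Module.Finite (GrLC.deg0 𝒜) (GrLC.comp 𝒜 𝒞 g) := Module.IsNoetherian.finite _ _
  obtain ⟨u, hu, hune, hline⟩ := hX.line
  let L0 : GrLC.deg0 𝒜 →ₗ[GrLC.deg0 𝒜] GrLC.comp 𝒜 𝒳 0 := LinearMap.toSpanSingleton _ _ ⟨u, hu⟩
  have hL0 : Function.Bijective L0 := ⟨(injective_iff_map_eq_zero _).2 fun r hr => by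
      by_contra hr0
      obtain ⟨b, hb⟩ := h0.mul_inv_cancel hr0
      refine hune ?_
      have h1 : (r : R) • u = 0 := congrArg Subtype.val hr
      rw [← one_smul R u, ← show (r : R) * (b : R) = 1 from congrArg Subtype.val hb, mul_comm, mul_smul, h1, smul_zero],
    fun y => by
      obtain ⟨r, hr, hry⟩ := hline y.1 y.2
      exact ⟨⟨r, hr⟩, Subtype.ext hry⟩⟩
  let L := LinearEquiv.ofBijective L0 hL0
  let H := GrLC.homDeg 𝒜 𝒞 𝒳 (-g)
  let Cg := GrLC.comp 𝒜 𝒞 g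
  have hdeg : ∀ ψ ∈ H, ∀ c ∈ 𝒞 g, ψ c ∈ 𝒳 0 := fun ψ hψ c hc => by
    have := hψ g c hc; rwa [add_neg_cancel] at this
  let res : H →ₗ[GrLC.deg0 𝒜] Module.Dual (GrLC.deg0 𝒜) Cg :=
    { toFun := fun ψ =>
        { toFun := fun c => L.symm ⟨(ψ : C →ₗ[R] X) c, hdeg ψ ψ.2 c c.2⟩
          map_add' := fun c c' => by rw [← map_add]; exact congrArg L.symm (Subtype.ext (map_add _ _ _))
          map_smul' := fun r c => by
            rw [RingHom.id_apply, ← map_smul]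
            exact congrArg L.symm (Subtype.ext ((ψ : C →ₗ[R] X).map_smul (r : R) (c : C))) }
      map_add' := fun ψ ψ' => LinearMap.ext fun c => by
        rw [LinearMap.add_apply]
        exact (congrArg L.symm (Subtype.ext rfl)).trans (map_add L.symm (⟨(ψ : C →ₗ[R] X) c, hdeg ψ ψ.2 c c.2⟩ : GrLC.comp 𝒜 𝒳 0) ⟨(ψ' : C →ₗ[R] X) c, hdeg ψ' ψ'.2 c c.2⟩)
      map_smul' := fun r ψ => LinearMap.ext fun c => by
        rw [RingHom.id_apply, LinearMap.smul_apply]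
        exact (congrArg L.symm (Subtype.ext rfl)).trans (map_smul L.symm r (⟨(ψ : C →ₗ[R] X) c, hdeg ψ ψ.2 c c.2⟩ : GrLC.comp 𝒜 𝒳 0)) }
  have hres0 : ∀ (ψ : H) (c : Cg), (L (res ψ c) : X) = (ψ : C →ₗ[R] X) c := fun ψ c =>
    congrArg Subtype.val (L.apply_symm_apply _)
  let N : GrLC.GMod.{u} 𝒜 := shG 𝒜 𝒞 g
  have hN : ∀ (ψ : C →ₗ[R] X), ψ ∈ H → GrLC.IsGrHom N.gr 𝒳 (ψ : N.carrier →ₗ[R] X) := fun ψ hψ i c hc => by
    have h1 := hψ (i + g) c hc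
    rwa [add_neg_cancel_right] at h1
  have hres : Function.Bijective res := by
    refine ⟨(injective_iff_map_eq_zero _).2 fun ψ hψ => Subtype.ext ?_, fun f => ?_⟩
    · refine hX.hom_ext (𝒩 := N.gr) _ 0 (hN _ ψ.2) (fun _ _ _ => zero_mem _) fun c hc => ?_
      have hc' : (c : C) ∈ 𝒞 g := by
        have h1 : (c : C) ∈ 𝒞 (0 + g) := hc
        rwa [zero_add] at h1
      have h2 := congrArg (fun x : GrLC.deg0 𝒜 => ((L x : GrLC.comp 𝒜 𝒳 0) : X)) (LinearMap.congr_fun hψ ⟨(c : C), hc'⟩)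
      simp only [hres0, LinearMap.zero_apply, map_zero, ZeroMemClass.coe_zero] at h2
      exact h2
    · let μ : N.carrier → X := fun c => if hc : (c : C) ∈ 𝒞 g then (L (f ⟨(c : C), hc⟩) : X) else 0
      have hμ : ∀ (c : C) (hc : c ∈ 𝒞 g), μ (c : N.carrier) = L (f ⟨c, hc⟩) := fun c hc => dif_pos hc
      have h00 : ∀ c : N.carrier, c ∈ N.gr 0 → (c : C) ∈ 𝒞 g := fun c hc => by
        have h1 : (c : C) ∈ 𝒞 (0 + g) := hc
        rwa [zero_add] at h1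
      obtain ⟨η, hη, hη0⟩ := hX.exists_hom (𝒩 := N.gr) μ (fun c hc => by rw [hμ c (h00 c hc)]; exact (L _).2)
        (fun a ha b hb => by
          rw [hμ a (h00 a ha), hμ b (h00 b hb)]
          refine (hμ _ (add_mem (h00 a ha) (h00 b hb))).trans ?_
          rw [← Submodule.coe_add, ← map_add, ← map_add]; rfl)
        (fun r hr c hc => by
          have hrc : r • (c : C) ∈ 𝒞 g := by have := smul_mem' 𝒜 𝒞 hr (h00 c hc); rwa [zero_add] at this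
          refine (hμ _ hrc).trans ?_
          rw [hμ c (h00 c hc), show (⟨r • (c : C), hrc⟩ : Cg) = (⟨r, hr⟩ : GrLC.deg0 𝒜) • (⟨(c : C), h00 c hc⟩ : Cg) from rfl,
            map_smul, map_smul]
          rfl)
      let η' : C →ₗ[R] X := η
      have hη' : η' ∈ H := fun d c hc => by
        rw [← sub_eq_add_neg]
        exact hη (d - g) c (show c ∈ 𝒞 (d - g + g) by rwa [sub_add_cancel])
      refine ⟨⟨η', hη'⟩, LinearMap.ext fun c => L.injective (Subtype.ext ?_)⟩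
      rw [hres0]
      exact (hη0 (c : C) (show (c : C) ∈ 𝒞 (0 + g) by rw [zero_add]; exact c.2)).trans (hμ c c.2)
  let e := LinearEquiv.ofBijective res hres
  let lam0 : H →ₗ[GrLC.deg0 𝒜] GrLC.deg0 𝒜 :=
    { toFun := fun ψ => L.symm ⟨lam ψ, hl ψ ψ.2⟩
      map_add' := fun ψ ψ' => (congrArg L.symm (Subtype.ext (hadd _ ψ.2 _ ψ'.2))).trans (map_add L.symm _ _)
      map_smul' := fun r ψ => (congrArg L.symm (Subtype.ext (hsm _ r.2 _ ψ.2))).trans (map_smul L.symm r _) }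
  let c := (Module.evalEquiv (GrLC.deg0 𝒜) Cg).symm (lam0 ∘ₗ e.symm.toLinearMap)
  refine ⟨c, ⟨c.2, fun ψ hψ => ?_⟩, fun c' hc' => ?_⟩
  · rw [← hres0 ⟨ψ, hψ⟩ c]
    have h1 : res ⟨ψ, hψ⟩ c = lam0 ⟨ψ, hψ⟩ := by
      have h2 := Module.apply_evalEquiv_symm_apply (R := GrLC.deg0 𝒜) (M := Cg) (e ⟨ψ, hψ⟩) (lam0 ∘ₗ e.symm.toLinearMap)
      rw [LinearMap.comp_apply, LinearEquiv.coe_coe, e.symm_apply_apply] at h2
      exact h2
    rw [h1]
    exact congrArg Subtype.val (L.apply_symm_apply _)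
  · have h1 : (Module.evalEquiv (GrLC.deg0 𝒜) Cg) ⟨c', hc'.1⟩ = lam0 ∘ₗ e.symm.toLinearMap := LinearMap.ext fun f => by
      obtain ⟨ψ, rfl⟩ := hres.2 f
      refine L.injective (Subtype.ext ?_)
      rw [LinearMap.comp_apply, show e.symm.toLinearMap (res ψ) = ψ from e.symm_apply_apply ψ]
      change (L (res ψ ⟨c', hc'.1⟩) : X) = _
      rw [hres0, hc'.2 ψ ψ.2]
      exact (congrArg Subtype.val (L.apply_symm_apply (⟨lam ψ, hl ψ ψ.2⟩ : GrLC.comp 𝒜 𝒳 0))).symm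
    have h2 : (⟨c', hc'.1⟩ : Cg) = c := by
      change _ = (Module.evalEquiv (GrLC.deg0 𝒜) Cg).symm _
      rw [← h1, LinearEquiv.symm_apply_apply]
    exact congrArg Subtype.val h2

include hX h0 in
/-- homogeneous functionals separate points -/
theorem IsDual.eval_inj {g : ℤ} {c : C} (hc : c ∈ 𝒞 g) (h : ∀ ψ ∈ GrLC.homDeg 𝒜 𝒞 𝒳 (-g), ψ c = 0) : c = 0 := by
  obtain ⟨d, -, hd⟩ := hX.exists_eval h0 g (fun _ : C →ₗ[R] X => (0 : X)) (fun _ _ => zero_mem _) (fun _ _ _ _ => (add_zero 0).symm)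
    (fun r _ _ _ => (smul_zero r).symm) (C := C) (𝒞 := 𝒞)
  exact (hd c ⟨hc, h⟩).trans (hd 0 ⟨zero_mem _, fun ψ _ => map_zero ψ⟩).symm

end Groth.L12.GrLCLib
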