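import Groth.Agent.L12.GrLCBass2

/-!
# Localisation of graded modules at non-graded primes over `ℤ`-gradings
-/

set_option autoImplicit false

universe u

open DirectSum

namespace Groth.L12.GrLCLib

section Principal

variable {R : Type u} [CommRing R] {𝒜 : ℤ → AddSubgroup R} [GradedRing 𝒜]

/-- Modulo its graded core a non-graded prime is locally principal. -/
theorem exists_principal {P : Ideal R} [hP : P.IsPrime] (q : HomogeneousIdeal 𝒜) (hle : q.toIdeal ≤ P)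
    (hq : ∀ (d : ℤ), ∀ c ∈ 𝒜 d, c ∈ P → c ∈ q.toIdeal) (hne : q.toIdeal ≠ P) :
    ∃ f ∈ P, f ∉ q.toIdeal ∧ ∀ g ∈ P, ∃ c ∉ P, ∃ h : R, c * g - h * f ∈ q.toIdeal := by
  classical
  let W : R → ℕ → Prop := fun g n => ∀ d d' : ℤ, cp 𝒜 d g ∉ q.toIdeal → cp 𝒜 d' g ∉ q.toIdeal → d - d' ≤ n
  have hW : ∀ g : R, ∃ n, W g n := fun g => by
    obtain ⟨s, -, hs⟩ := exists_sum_cp 𝒜 g
    refine ⟨2 * ∑ d ∈ s, d.natAbs, fun d d' hd hd' => ?_⟩
    have h1 := Finset.single_le_sum (f := fun d : ℤ => d.natAbs) (fun _ _ => Nat.zero_le _)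
      (hs d fun h => hd (h ▸ zero_mem _))
    have h2 := Finset.single_le_sum (f := fun d : ℤ => d.natAbs) (fun _ _ => Nat.zero_le _)
      (hs d' fun h => hd' (h ▸ zero_mem _))
    omega
  have hex : ∃ n, ∃ f ∈ P, f ∉ q.toIdeal ∧ W f n := by
    obtain ⟨f, hf, hfq⟩ : ∃ f ∈ P, f ∉ q.toIdeal := by
      by_contra hcon
      push Not at hcon
      exact hne (le_antisymm hle hcon)
    obtain ⟨n, hn⟩ := hW f
    exact ⟨n, f, hf, hfq, hn⟩
  obtain ⟨f, hfP, hfq, hfW⟩ := Nat.find_spec hex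
  have hmin : ∀ g ∈ P, g ∉ q.toIdeal → ∀ n, W g n → Nat.find hex ≤ n := fun g hg hgq n hn =>
    Nat.find_min' hex ⟨g, hg, hgq, hn⟩
  refine ⟨f, hfP, hfq, ?_⟩
  -- extreme components
  have top : ∀ g : R, g ∉ q.toIdeal → ∃ G, cp 𝒜 G g ∉ q.toIdeal ∧ ∀ d, cp 𝒜 d g ∉ q.toIdeal → d ≤ G := fun g hg => by
    obtain ⟨s, hs, hs'⟩ := exists_sum_cp 𝒜 g
    have hne : (s.filter fun d => cp 𝒜 d g ∉ q.toIdeal).Nonempty := by
      by_contra hemp
      rw [Finset.not_nonempty_iff_eq_empty, Finset.filter_eq_empty_iff] at hemp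
      exact hg (hs ▸ Ideal.sum_mem _ fun d hd => not_not.1 (hemp hd))
    obtain ⟨G, hG, hGmax⟩ := (s.filter fun d => cp 𝒜 d g ∉ q.toIdeal).exists_max_image id hne
    exact ⟨G, (Finset.mem_filter.1 hG).2, fun d hd =>
      hGmax d (Finset.mem_filter.2 ⟨hs' d fun h => hd (h ▸ zero_mem _), hd⟩)⟩
  obtain ⟨F, hF, hFmax⟩ := top f hfq
  have hFP : cp 𝒜 F f ∉ P := fun h => hF (hq F _ (cp_mem 𝒜 F f) h)
  suffices H : ∀ n, ∀ g ∈ P, W g n → ∃ c ∉ P, ∃ h : R, c * g - h * f ∈ q.toIdeal from fun g hg => by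
    obtain ⟨n, hn⟩ := hW g
    exact H n g hg hn
  have hone : (1 : R) ∉ P := fun h => hP.ne_top ((Ideal.eq_top_iff_one P).2 h)
  intro n
  induction n using Nat.strong_induction_on with
  | _ n ih =>
    intro g hg hgW
    by_cases hgq : g ∈ q.toIdeal
    · exact ⟨1, hone, 0, by simpa using hgq⟩
    obtain ⟨G, hG, hGmax⟩ := top g hgq
    have hn0 : Nat.find hex ≤ n := hmin g hg hgq n hgW
    have hf1 : 1 ≤ Nat.find hex := by
      by_contra hlt
      refine hFP (?_ : cp 𝒜 F f ∈ P)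
      obtain ⟨s, hs, -⟩ := exists_sum_cp 𝒜 f
      have hdiff : f - cp 𝒜 F f ∈ q.toIdeal := by
        have : ∀ d, d ≠ F → cp 𝒜 d f ∈ q.toIdeal := fun d hd => by
          by_contra hd'
          have h1 := hfW d F hd' hF
          have h2 := hfW F d hF hd'
          omega
        by_cases hFs : F ∈ s
        · rw [show f - cp 𝒜 F f = ∑ d ∈ s.erase F, cp 𝒜 d f from sub_eq_iff_eq_add'.2
            ((Finset.add_sum_erase _ _ hFs).trans hs).symm]
          exact Ideal.sum_mem _ fun d hd => this d (Finset.ne_of_mem_erase hd)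
        · refine absurd ?_ hfq
          rw [← hs]
          exact Ideal.sum_mem _ fun d hd => this d fun h => hFs (h ▸ hd)
      have := P.sub_mem hfP (hle hdiff)
      rwa [sub_sub_cancel] at this
    set g' := cp 𝒜 F f * g - cp 𝒜 G g * f with hg'
    have hg'P : g' ∈ P := P.sub_mem (P.mul_mem_left _ hg) (P.mul_mem_left _ hfP)
    have hcp : ∀ d, cp 𝒜 d g' = cp 𝒜 F f * cp 𝒜 (d - F) g - cp 𝒜 G g * cp 𝒜 (d - G) f := fun d => by
      rw [hg', map_sub]
      exact congrArg₂ (· - ·) (cp_smul_hom' 𝒜 𝒜 (cp_mem 𝒜 F f) d g) (cp_smul_hom' 𝒜 𝒜 (cp_mem 𝒜 G g) d f)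
    have hbound : ∀ d, cp 𝒜 d g' ∉ q.toIdeal → d < F + G ∧ F + G - (n : ℤ) ≤ d := fun d hd => by
      have hd0 : d ≠ F + G := by
        rintro rfl
        rw [hcp, add_sub_cancel_left, add_sub_cancel_right, mul_comm, sub_self] at hd
        exact hd (zero_mem _)
      rw [hcp] at hd
      by_cases h1 : cp 𝒜 (d - F) g ∈ q.toIdeal
      · have h2 : cp 𝒜 (d - G) f ∉ q.toIdeal := fun h2 =>
          hd (sub_mem (Ideal.mul_mem_left _ _ h1) (Ideal.mul_mem_left _ _ h2))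
        have := hFmax _ h2
        have := hfW F (d - G) hF h2
        omega
      · have := hGmax _ h1
        have := hgW G (d - F) hG h1
        omega
    obtain ⟨c, hc, h, hh⟩ := ih (n - 1) (by omega) g' hg'P fun d d' hd hd' => by
      have := hbound d hd
      have := hbound d' hd'
      omega
    refine ⟨c * cp 𝒜 F f, fun hcon => (hP.mem_or_mem hcon).elim hc hFP, h + c * cp 𝒜 G g, ?_⟩
    convert hh using 1
    rw [hg']
    ring

end Principal

section Basis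

variable {ι : Type} [AddCommGroup ι] [DecidableEq ι]
variable {R : Type u} [CommRing R] {𝒜 : ι → AddSubgroup R} [GradedRing 𝒜]
variable {K : Type u} [AddCommGroup K] [Module R K] {τ : Type u} [SetLike τ K] [AddSubgroupClass τ K] {𝒦 : ι → τ}
  [DirectSum.Decomposition 𝒦] [SetLike.GradedSMul 𝒜 𝒦]

/-- a maximal family of homogeneous elements killed by `q` independent at `q` -/
theorem exists_homog_basis (q : HomogeneousIdeal 𝒜) [hq : q.toIdeal.IsPrime] :
    ∃ (Λ : Type u) (v : Λ → K), (∀ α, ∀ c ∈ q.toIdeal, c • v α = 0) ∧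
      (∀ (t : Finset Λ) (c : Λ → R), ∑ α ∈ t, c α • v α = 0 → ∀ α ∈ t, c α ∈ q.toIdeal) ∧
      ∀ (d : ι), ∀ z ∈ 𝒦 d, (∀ c ∈ q.toIdeal, c • z = 0) →
        ∃ (a : ι) (c : R), c ∈ 𝒜 a ∧ c ∉ q.toIdeal ∧ c • z ∈ Submodule.span R (Set.range v) := by
  classical
  let H : Set (Set K) := {T | (∀ z ∈ T, (∃ d, z ∈ 𝒦 d) ∧ ∀ c ∈ q.toIdeal, c • z = 0) ∧
    ∀ (t : Finset K) (c : K → R), (t : Set K) ⊆ T → ∑ z ∈ t, c z • z = 0 → ∀ z ∈ t, c z ∈ q.toIdeal}
  obtain ⟨T, -, hT⟩ := zorn_subset_nonempty H (fun C hC hchain hne => by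
    refine ⟨⋃₀ C, ⟨fun z hz => ?_, fun t c ht hsum => ?_⟩, fun S hS => Set.subset_sUnion_of_mem hS⟩
    · obtain ⟨S, hS, hzS⟩ := hz
      exact (hC hS).1 z hzS
    · obtain ⟨S, hS, htS⟩ := (hchain.directedOn.exists_mem_subset_of_finset_subset_biUnion hne
        (f := id) (s := t) (by rwa [Set.sUnion_eq_biUnion] at ht))
      exact (hC hS).2 t c htS hsum) ∅ ⟨fun z hz => absurd hz (Set.notMem_empty z), fun t c ht _ z hz =>
        absurd (ht hz) (Set.notMem_empty z)⟩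
  refine ⟨T, fun α => α.1, fun α => (hT.prop.1 α.1 α.2).2, fun t c hsum α hα => ?_, fun d z hz hkill => ?_⟩
  · have := hT.prop.2 (t.image Subtype.val) (fun z => if h : z ∈ T then c ⟨z, h⟩ else 0)
      (fun z hz => by
        obtain ⟨β, -, rfl⟩ := Finset.mem_image.1 hz
        exact β.2) (by
        rw [Finset.sum_image fun a _ b _ h => Subtype.ext h]
        refine Eq.trans (Finset.sum_congr rfl fun β _ => ?_) hsum
        rw [dif_pos β.2]) α.1 (Finset.mem_image_of_mem _ hα)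
    rwa [dif_pos α.2] at this
  have hone : (1 : R) ∉ q.toIdeal := fun h => hq.ne_top ((Ideal.eq_top_iff_one _).2 h)
  rw [Subtype.range_coe]
  by_cases hzT : z ∈ T
  · exact ⟨0, 1, SetLike.one_mem_graded 𝒜, hone, by rw [one_smul]; exact Submodule.subset_span hzT⟩
  obtain ⟨t, c, htT, hsum, w, hw, hcw⟩ : ∃ (t : Finset K) (c : K → R), (t : Set K) ⊆ insert z T ∧
      ∑ x ∈ t, c x • x = 0 ∧ ∃ w ∈ t, c w ∉ q.toIdeal := by
    by_contra hcon
    push Not at hcon
    have hmem : insert z T ∈ H := ⟨fun x hx => by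
      rcases hx with rfl | hx
      · exact ⟨⟨d, hz⟩, hkill⟩
      · exact hT.prop.1 x hx, fun t c ht hsum => hcon t c ht hsum⟩
    exact hzT (hT.eq_of_subset hmem (Set.subset_insert z T) ▸ Set.mem_insert z T)
  have hzt : z ∈ t := by
    by_contra hzt
    exact hcw (hT.prop.2 t c (fun x hx => (htT hx).resolve_left fun h => hzt (h ▸ hx)) hsum w hw)
  have hrest : ∀ x ∈ t.erase z, x ∈ T := fun x hx =>
    (htT (Finset.mem_of_mem_erase hx)).resolve_left (Finset.ne_of_mem_erase hx)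
  have hcz : c z ∉ q.toIdeal := fun hcz => by
    rw [← Finset.add_sum_erase _ _ hzt, hkill _ hcz, zero_add] at hsum
    by_cases hwz : w = z
    · exact hcw (hwz ▸ hcz)
    exact hcw (hT.prop.2 _ c (fun x hx => hrest x hx) hsum w (Finset.mem_erase.2 ⟨hwz, hw⟩))
  obtain ⟨a, ha⟩ : ∃ a, cp 𝒜 a (c z) ∉ q.toIdeal := by
    by_contra hcon
    push Not at hcon
    obtain ⟨s, hs, -⟩ := exists_sum_cp 𝒜 (c z)
    exact hcz (hs ▸ Ideal.sum_mem _ fun d _ => hcon d)
  refine ⟨a, _, cp_mem 𝒜 a (c z), ha, ?_⟩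
  rw [← Finset.add_sum_erase _ _ hzt, add_eq_zero_iff_eq_neg] at hsum
  have h1 := congrArg (cp 𝒦 (a + d)) hsum
  rw [cp_smul_mem 𝒜 𝒦 (c z) hz, add_sub_cancel_right, map_neg, map_sum] at h1
  rw [h1]
  refine neg_mem (Submodule.sum_mem _ fun x hx => ?_)
  obtain ⟨dx, hdx⟩ := (hT.prop.1 x (hrest x hx)).1
  rw [cp_smul_mem 𝒜 𝒦 (c x) hdx]
  exact Submodule.smul_mem _ _ (Submodule.subset_span (hrest x hx))

variable [IsNoetherianRing R]

/-- elements of a localisation killed by `q` have a homogeneous-wise killed numerator -/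
theorem exists_killed_numerator (q : HomogeneousIdeal 𝒜) (P : Ideal R) [P.IsPrime]
    (z : K) (s : P.primeCompl)
    (hy : ∀ c ∈ q.toIdeal, algebraMap R (Localization.AtPrime P) c • LocalizedModule.mk z s = 0) :
    ∃ (D : Finset ι) (w : ι → K) (t : P.primeCompl), (∀ d, w d ∈ 𝒦 d ∧ ∀ c ∈ q.toIdeal, c • w d = 0) ∧
      LocalizedModule.mk z s = ∑ d ∈ D, LocalizedModule.mk (S := P.primeCompl) (w d) t := by
  classical
  let S := P.primeCompl
  have hkill : ∀ c ∈ q.toIdeal, ∃ v : S, (v : R) • c • z = 0 := fun c hc => by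
    have h1 := hy c hc
    rw [algebraMap_smul, LocalizedModule.smul'_mk, ← LocalizedModule.zero_mk s, LocalizedModule.mk_eq] at h1
    obtain ⟨v, hv⟩ := h1
    rw [smul_zero, smul_zero, Submonoid.smul_def, Submonoid.smul_def, ← mul_smul] at hv
    exact ⟨v * s, hv⟩
  obtain ⟨G, hG⟩ := IsNoetherian.noetherian q.toIdeal
  choose! v hv using hkill
  let U : S := ∏ c ∈ G, v c
  have hU : ∀ c ∈ q.toIdeal, c • (U : R) • z = 0 := fun c hc => by
    rw [← hG] at hc
    induction hc using Submodule.span_induction with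
    | mem c hc =>
      have hd : (v c : R) ∣ (U : R) := by
        rw [show (U : R) = ∏ d ∈ G, (v d : R) from Submonoid.coe_finset_prod ..]
        exact Finset.dvd_prod_of_mem _ hc
      obtain ⟨r, hr⟩ := hd
      rw [hr, ← mul_smul, show c * ((v c : R) * r) = r * ((v c : R) * c) by ring, mul_smul, mul_smul,
        hv c (hG ▸ Submodule.subset_span hc), smul_zero]
    | zero => rw [zero_smul]
    | add a b _ _ ha hb => rw [add_smul, ha, hb, add_zero]
    | smul a b _ hb => rw [smul_eq_mul, mul_smul, hb, smul_zero]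
  obtain ⟨D, hD, -⟩ := exists_sum_cp 𝒦 ((U : R) • z)
  refine ⟨D, fun d => cp 𝒦 d ((U : R) • z), U * s, fun d => ⟨cp_mem 𝒦 d _, fun c hc => ?_⟩, ?_⟩
  · obtain ⟨sc, hsc, -⟩ := exists_sum_cp 𝒜 c
    rw [← hsc, Finset.sum_smul]
    refine Finset.sum_eq_zero fun a _ => ?_
    rw [← cp_smul_hom 𝒜 𝒦 (cp_mem 𝒜 a c),
      show cp 𝒜 a c • (U : R) • z = 0 from hU _ (q.isHomogeneous a hc), map_zero]
  · have e1 : ∀ x : K, LocalizedModule.mk x (U * s) = Localization.mk (1 : R) (U * s) • LocalizedModule.mkLinearMap S K x := fun x => by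
      change _ = Localization.mk (1 : R) (U * s) • LocalizedModule.mk x 1
      rw [LocalizedModule.mk_smul_mk, one_smul, mul_one]
    simp only [e1]
    rw [← Finset.smul_sum, ← map_sum, hD, ← e1, LocalizedModule.mk_eq]
    refine ⟨1, ?_⟩
    simp only [one_smul, Submonoid.smul_def, Submonoid.coe_mul, ← mul_smul]
    rw [mul_comm (U : R) (s : R)]

/-- elements killed by `q` in the localisation of an essential extension come from below -/
theorem exists_preimage_of_killed {M : Type u} [AddCommGroup M] [Module R M] (e : M →ₗ[R] K)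
    (he : (LinearMap.range e).IsHomogeneous 𝒦)
    (hess : ∀ Q : Submodule R K, Q.IsHomogeneous 𝒦 → Q ≠ ⊥ → Q ⊓ LinearMap.range e ≠ ⊥)
    (q : HomogeneousIdeal 𝒜) (P : Ideal R) [P.IsPrime] (hqP : ∀ (a : ι), ∀ c ∈ 𝒜 a, c ∈ P → c ∈ q.toIdeal)
    (y : LocalizedModule P.primeCompl K)
    (hy : ∀ c ∈ q.toIdeal, algebraMap R (Localization.AtPrime P) c • y = 0) :
    y ∈ LinearMap.range (LocalizedModule.map P.primeCompl e) := by
  classical
  induction y using LocalizedModule.induction_on with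
  | h z s =>
    obtain ⟨D, w, t, hw, hsum⟩ := exists_killed_numerator (𝒦 := 𝒦) q P z s hy
    rw [hsum]
    refine Submodule.sum_mem _ fun d _ => ?_
    by_cases hw0 : w d = 0
    · rw [hw0, LocalizedModule.zero_mk]; exact zero_mem _
    obtain ⟨y', ⟨hy', hye⟩, hy0⟩ := (Submodule.ne_bot_iff _).1 (hess (R ∙ w d)
      (span_isHomogeneous 𝒜 𝒦 fun x hx => ⟨d, by rw [Set.mem_singleton_iff] at hx; exact hx ▸ (hw d).1⟩)
      (by rwa [ne_eq, Submodule.span_singleton_eq_bot]))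
    obtain ⟨c, rfl⟩ := Submodule.mem_span_singleton.1 hy'
    obtain ⟨a, ha⟩ : ∃ a, cp 𝒜 a c ∉ q.toIdeal := by
      by_contra hcon
      push Not at hcon
      obtain ⟨sc, hsc, -⟩ := exists_sum_cp 𝒜 c
      exact hy0 ((hw d).2 c (hsc ▸ Ideal.sum_mem _ fun b _ => hcon b))
    have hcP : cp 𝒜 a c ∈ P.primeCompl := fun h => ha (hqP a _ (cp_mem 𝒜 a c) h)
    obtain ⟨m, hm⟩ : cp 𝒜 a c • w d ∈ LinearMap.range e := by
      have h1 : cp 𝒦 (a + d) (c • w d) ∈ LinearMap.range e := he (a + d) hye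
      rwa [cp_smul_mem 𝒜 𝒦 c (hw d).1, add_sub_cancel_right] at h1
    refine ⟨LocalizedModule.mk m (⟨_, hcP⟩ * t), ?_⟩
    rw [LocalizedModule.map_mk, hm, LocalizedModule.mk_eq]
    refine ⟨1, ?_⟩
    simp only [one_smul, Submonoid.smul_def, Submonoid.coe_mul, ← mul_smul]
    congr 1
    ring

end Basis

end Groth.L12.GrLCLib
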