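import Groth.Agent.L12.GrLCNonHom

/-!
# Bass numbers at non-graded primes
-/

set_option autoImplicit false

universe u

open DirectSum CategoryTheory CategoryTheory.Abelian

namespace Groth.L12.GrLCLib

section Killed

variable {R : Type u} [CommRing R] (q : Ideal R) (P : Ideal R) [P.IsPrime]
variable (K : Type u) [AddCommGroup K] [Module R K]

/-- the extended ideal -/
abbrev extId : Ideal (Localization.AtPrime P) := q.map (algebraMap R (Localization.AtPrime P))

/-- elements of the localisation killed by `q` -/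
def killed : Submodule (Localization.AtPrime P) (LocalizedModule P.primeCompl K) :=
  Submodule.torsionBySet (Localization.AtPrime P) _ (extId q P : Set (Localization.AtPrime P))

variable {q P K}

lemma mem_killed {y : LocalizedModule P.primeCompl K} :
    y ∈ killed q P K ↔ ∀ c ∈ q, algebraMap R (Localization.AtPrime P) c • y = 0 := by
  rw [killed, Submodule.mem_torsionBySet_iff]
  refine ⟨fun h c hc => h ⟨_, Ideal.mem_map_of_mem _ hc⟩, fun h => ?_⟩
  rintro ⟨a, ha⟩
  change a • y = 0
  induction ha using Submodule.span_induction with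
  | mem a ha => obtain ⟨c, hc, rfl⟩ := ha; exact h c hc
  | zero => rw [zero_smul]
  | add a b _ _ ha hb => rw [add_smul, ha, hb, add_zero]
  | smul a b _ hb => rw [smul_eq_mul, mul_smul, hb, smul_zero]

end Killed

variable {ι : Type} [AddCommGroup ι] [DecidableEq ι]
variable {R : Type u} [CommRing R] [IsNoetherianRing R] {𝒜 : ι → AddSubgroup R} [GradedRing 𝒜]
variable {K : Type u} [AddCommGroup K] [Module R K] {τ : Type u} [SetLike τ K] [AddSubgroupClass τ K] {𝒦 : ι → τ}
  [DirectSum.Decomposition 𝒦] [SetLike.GradedSMul 𝒜 𝒦]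

include 𝒦 in
/-- the part killed by a graded prime is generated by a homogeneous basis at every prime above it -/
theorem exists_killed_presentation (q : HomogeneousIdeal 𝒜) [hq : q.toIdeal.IsPrime] :
    ∃ Λ : Type u, ∀ (P : Ideal R) [P.IsPrime], q.toIdeal ≤ P → (∀ (a : ι), ∀ c ∈ 𝒜 a, c ∈ P → c ∈ q.toIdeal) →
      ∃ Ψ : (Λ →₀ Localization.AtPrime P) →ₗ[Localization.AtPrime P] killed q.toIdeal P K,
        Function.Surjective Ψ ∧ ∀ l, Ψ l = 0 ↔ ∀ α, l α ∈ extId q.toIdeal P := by
  classical
  obtain ⟨Λ, v, hv, hindep, hspan⟩ := exists_homog_basis (K := K) (𝒦 := 𝒦) q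
  refine ⟨Λ, fun P hP hle hqP => ?_⟩
  let A := Localization.AtPrime P
  let S := P.primeCompl
  let v' : Λ → killed q.toIdeal P K := fun α => ⟨LocalizedModule.mk (v α) 1, mem_killed.2 fun c hc => by
    rw [algebraMap_smul, LocalizedModule.smul'_mk, hv α c hc, LocalizedModule.zero_mk]⟩
  let Ψ : (Λ →₀ A) →ₗ[A] killed q.toIdeal P K := Finsupp.linearCombination A v'
  refine ⟨Ψ, ?_, fun l => ?_⟩
  · rw [← LinearMap.range_eq_top, eq_top_iff]
    rintro ⟨y, hy⟩ -
    suffices h : y ∈ (LinearMap.range Ψ).map (killed q.toIdeal P K).subtype by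
      obtain ⟨z, hz, hzy⟩ := h
      exact (Subtype.ext hzy : z = ⟨y, hy⟩) ▸ hz
    have hgen : ∀ α (a : A), a • LocalizedModule.mk (v α) 1 ∈ (LinearMap.range Ψ).map (killed q.toIdeal P K).subtype :=
      fun α a => ⟨a • v' α, ⟨Finsupp.single α a, Finsupp.linearCombination_single A a α⟩, rfl⟩
    have hy' := mem_killed.1 hy
    clear hy
    induction y using LocalizedModule.induction_on with
    | h z s =>
      obtain ⟨D, w, t, hw, hsum⟩ := exists_killed_numerator (𝒦 := 𝒦) q P z s hy'
      rw [hsum]
      refine Submodule.sum_mem _ fun d _ => ?_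
      obtain ⟨a, c, hca, hcq, hc⟩ := hspan d (w d) (hw d).1 (hw d).2
      have hcP : c ∈ S := fun h => hcq (hqP a c hca h)
      obtain ⟨l, hl⟩ := Finsupp.mem_span_range_iff_exists_finsupp.1 hc
      have hwd : LocalizedModule.mk (S := S) (w d) t = Localization.mk (1 : R) (⟨c, hcP⟩ * t) • LocalizedModule.mkLinearMap S K (c • w d) := by
        change _ = Localization.mk (1 : R) (⟨c, hcP⟩ * t) • LocalizedModule.mk (c • w d) 1
        rw [LocalizedModule.mk_smul_mk, one_smul, mul_one, LocalizedModule.mk_eq]
        refine ⟨1, ?_⟩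
        simp only [one_smul, Submonoid.smul_def, Submonoid.coe_mul, ← mul_smul]
        rw [mul_comm (t : R) c]
      rw [hwd, ← hl, Finsupp.sum, map_sum, Finset.smul_sum]
      refine Submodule.sum_mem _ fun α _ => ?_
      rw [map_smul, ← algebraMap_smul A (l α), ← mul_smul]
      exact hgen α _
  · constructor
    · intro hl α
      by_cases hα : α ∈ l.support
      swap
      · rw [Finsupp.notMem_support_iff.1 hα]; exact zero_mem _
      have hl' : ∑ β ∈ l.support, l β • LocalizedModule.mk (S := S) (v β) 1 = 0 := by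
        have := congrArg Subtype.val hl
        simpa [Ψ, Finsupp.linearCombination_apply, Finsupp.sum, v'] using this
      obtain ⟨b, hb⟩ := IsLocalization.exist_integer_multiples_of_finset S (l.support.image l)
      choose! r hr using fun β (hβ : β ∈ l.support) => hb (l β) (Finset.mem_image_of_mem l hβ)
      have h2 : LocalizedModule.mk (S := S) (∑ β ∈ l.support, r β • v β) 1 = 0 := by
        have h3 := congrArg ((algebraMap R A (b : R)) • ·) hl'
        simp only [smul_zero, Finset.smul_sum] at h3
        refine Eq.trans ?_ h3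
        change LocalizedModule.mkLinearMap S K (∑ β ∈ l.support, r β • v β) = _
        rw [map_sum]
        refine Finset.sum_congr rfl fun β hβ => ?_
        rw [map_smul, ← mul_smul, ← algebraMap_smul A (r β), hr β hβ, Algebra.smul_def]
        rfl
      rw [← LocalizedModule.zero_mk (1 : S), LocalizedModule.mk_eq] at h2
      obtain ⟨u, hu⟩ := h2
      simp only [one_smul, smul_zero, Submonoid.smul_def, Finset.smul_sum, ← mul_smul] at hu
      have h4 := hindep l.support (fun β => (u : R) * r β) hu α hα
      have hrq : r α ∈ q.toIdeal := (hq.mem_or_mem h4).resolve_left fun h => u.2 (hle h)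
      have h5 : algebraMap R A (r α) ∈ extId q.toIdeal P := Ideal.mem_map_of_mem _ hrq
      rw [hr α hα, Algebra.smul_def, mul_comm] at h5
      exact (Ideal.mul_unit_mem_iff_mem _ (IsLocalization.map_units A b)).1 h5
    · intro hl
      refine (Finsupp.linearCombination_apply A l).trans (Finset.sum_eq_zero fun α _ => Subtype.ext ?_)
      exact (Submodule.mem_torsionBySet_iff _ _).1 (v' α).2 ⟨l α, hl α⟩

section Ext

variable (q : Ideal R) (P : Ideal R) [P.IsPrime]

/-- `Ext` from the extended quotient -/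
abbrev U (Z : Type u) [AddCommGroup Z] [Module R Z] (i : ℕ) : Type u :=
  Ext.{u} (ModuleCat.of (Localization.AtPrime P) (Localization.AtPrime P ⧸ extId q P))
    (ModuleCat.of (Localization.AtPrime P) (LocalizedModule P.primeCompl Z)) i

omit [IsNoetherianRing R] in
/-- the localised quotient -/
theorem nonempty_quot_equiv :
    Nonempty (LocalizedModule P.primeCompl (R ⧸ q) ≃ₗ[Localization.AtPrime P] (Localization.AtPrime P ⧸ extId q P)) := by
  let A := Localization.AtPrime P
  let one' : LocalizedModule P.primeCompl (R ⧸ q) := LocalizedModule.mk (Ideal.Quotient.mk q 1) 1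
  let ψ : A →ₗ[A] LocalizedModule P.primeCompl (R ⧸ q) := LinearMap.toSpanSingleton A _ one'
  have hψ : ∀ (r : R) (s : P.primeCompl), ψ (Localization.mk r s) = LocalizedModule.mk (Ideal.Quotient.mk q r) s := fun r s => by
    change Localization.mk r s • one' = _
    rw [LocalizedModule.mk_smul_mk, mul_one, show r • Ideal.Quotient.mk q 1 = Ideal.Quotient.mk q (r * 1) from rfl, mul_one]
  have hsurj : Function.Surjective ψ := fun y => by
    induction y using LocalizedModule.induction_on with
    | h z s =>
      obtain ⟨r, rfl⟩ := Ideal.Quotient.mk_surjective z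
      exact ⟨_, hψ r s⟩
  have hker : LinearMap.ker ψ = extId q P := by
    ext a
    induction a using Localization.induction_on with
    | H rs =>
      obtain ⟨r, s⟩ := rs
      rw [LinearMap.mem_ker, hψ, ← LocalizedModule.zero_mk s, LocalizedModule.mk_eq, Localization.mk_eq_mk',
        IsLocalization.mk'_mem_map_algebraMap_iff]
      constructor
      · rintro ⟨u, hu⟩
        rw [smul_zero, smul_zero, Submonoid.smul_def, Submonoid.smul_def,
          show (u : R) • (s : R) • Ideal.Quotient.mk q r = Ideal.Quotient.mk q ((u : R) * ((s : R) * r)) from rfl,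
          Ideal.Quotient.eq_zero_iff_mem] at hu
        exact ⟨(u : R) * s, (u * s).2, by simpa [mul_assoc] using hu⟩
      · rintro ⟨u, huS, hu⟩
        refine ⟨⟨u, huS⟩, ?_⟩
        rw [smul_zero, smul_zero, Submonoid.smul_def, Submonoid.smul_def,
          show u • (s : R) • Ideal.Quotient.mk q r = Ideal.Quotient.mk q (u * ((s : R) * r)) from rfl,
          Ideal.Quotient.eq_zero_iff_mem]
        simpa [mul_left_comm] using q.mul_mem_left (s : R) hu
  exact ⟨(ψ.quotKerEquivOfSurjective hsurj).symm.trans (Submodule.quotEquivOfEq _ _ hker)⟩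

end Ext

theorem subsingleton_U_of_starInj (hK : GrLC.IsStarInj 𝒜 𝒦) (q : HomogeneousIdeal 𝒜) (P : Ideal R) [P.IsPrime] (i : ℕ) :
    Subsingleton (U q.toIdeal P K (i + 1)) := by
  haveI h1 := subsingleton_ext_of_starInj hK i (quoG 𝒜 𝒜 q.toIdeal q.isHomogeneous)
    (inferInstanceAs (Module.Finite R (R ⧸ q.toIdeal)))
  haveI : Subsingleton (Ext.{u} (ModuleCat.of R (R ⧸ q.toIdeal)) (ModuleCat.of R K) (i + 1)) := h1
  obtain ⟨e1⟩ := Groth.L04.LC.nonempty_localized_ext_equiv P.primeCompl (i + 1) (R ⧸ q.toIdeal) K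
  obtain ⟨e2⟩ := nonempty_quot_equiv q.toIdeal P
  have h2 : Subsingleton (LocalizedModule P.primeCompl (Ext.{u} (ModuleCat.of R (R ⧸ q.toIdeal)) (ModuleCat.of R K) (i + 1))) :=
    subsingleton_of_forall_eq 0 fun y => by
      induction y using LocalizedModule.induction_on with
      | h m s => rw [Subsingleton.elim m 0, LocalizedModule.zero_mk]
  have h3 := e1.symm.toEquiv.subsingleton
  refine subsingleton_of_forall_eq 0 fun x => ?_
  let iso : ModuleCat.of (Localization.AtPrime P) (LocalizedModule P.primeCompl (R ⧸ q.toIdeal)) ≅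
      ModuleCat.of (Localization.AtPrime P) (Localization.AtPrime P ⧸ extId q.toIdeal P) :=
    LinearEquiv.toModuleIso (X₁ := LocalizedModule P.primeCompl (R ⧸ q.toIdeal)) e2
  have h4 : (Ext.mk₀ iso.hom).comp x (zero_add (i + 1)) = 0 := @Subsingleton.elim _ h3 _ _
  have h5 := congrArg (fun y => (Ext.mk₀ iso.inv).comp y (zero_add (i + 1))) h4
  simp only [Ext.mk₀_comp_mk₀_assoc, Iso.inv_hom_id, Ext.mk₀_id_comp, Ext.comp_zero] at h5
  exact h5

section Shift

/-- `Ext⁰` from the extended quotient is the killed part -/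
noncomputable def uZeroEquiv (q P : Ideal R) [P.IsPrime] (Z : Type u) [AddCommGroup Z] [Module R Z] :
    U q P Z 0 ≃ₗ[Localization.AtPrime P] killed q P Z :=
  (Abelian.Ext.linearEquiv₀.trans (ModuleCat.homLinearEquiv (S := Localization.AtPrime P))).trans
    { toFun := fun φ => ⟨φ (Ideal.Quotient.mk _ 1), (Submodule.mem_torsionBySet_iff _ _).2 fun a => by
        change (a : Localization.AtPrime P) • φ (Ideal.Quotient.mk (extId q P) 1) = 0
        rw [← φ.map_smul, show (a : Localization.AtPrime P) • Ideal.Quotient.mk (extId q P) 1 =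
          Ideal.Quotient.mk (extId q P) (a * 1) from rfl, mul_one, Ideal.Quotient.eq_zero_iff_mem.2 a.2, map_zero]⟩
      map_add' := fun _ _ => rfl
      map_smul' := fun _ _ => rfl
      invFun := fun x => Submodule.liftQ (extId q P) (LinearMap.toSpanSingleton (Localization.AtPrime P) _ x.1) fun a ha =>
        (Submodule.mem_torsionBySet_iff _ _).1 x.2 ⟨a, ha⟩
      left_inv := fun φ => LinearMap.ext fun z => by
        obtain ⟨a, rfl⟩ := Ideal.Quotient.mk_surjective z
        change a • φ (Ideal.Quotient.mk (extId q P) 1) = φ (Ideal.Quotient.mk (extId q P) a)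
        rw [← φ.map_smul, show a • Ideal.Quotient.mk (extId q P) 1 = Ideal.Quotient.mk (extId q P) (a * 1) from rfl, mul_one]
      right_inv := fun x => Subtype.ext (by
        change (1 : Localization.AtPrime P) • (x : LocalizedModule P.primeCompl Z) = x
        exact one_smul _ _) }

theorem nonempty_U_shift {Z Z' : Type u} [AddCommGroup Z] [Module R Z]
    [AddCommGroup Z'] [Module R Z'] (hK : GrLC.IsStarInj 𝒜 𝒦)
    (f : Z →ₗ[R] K) (g : K →ₗ[R] Z') (hf : Function.Injective f) (hg : Function.Surjective g) (hfg : Function.Exact f g)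
    (hfh : (LinearMap.range f).IsHomogeneous 𝒦)
    (hess : ∀ Q : Submodule R K, Q.IsHomogeneous 𝒦 → Q ≠ ⊥ → Q ⊓ LinearMap.range f ≠ ⊥)
    (q : HomogeneousIdeal 𝒜) (P : Ideal R) [P.IsPrime] (hqP : ∀ (a : ι), ∀ c ∈ 𝒜 a, c ∈ P → c ∈ q.toIdeal) (i : ℕ) :
    Nonempty (U q.toIdeal P Z' i ≃ₗ[Localization.AtPrime P] U q.toIdeal P Z (i + 1)) := by
  let A := Localization.AtPrime P
  let Q := ModuleCat.of A (A ⧸ extId q.toIdeal P)
  let S := P.primeCompl
  have hS := Groth.L04.LC.ses_shortExact (LocalizedModule.map S f) (LocalizedModule.map S g)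
    (LocalizedModule.map_injective S f hf) (LocalizedModule.map_surjective S g hg) (LocalizedModule.map_exact S f g hfg)
  have hacy := fun j => subsingleton_U_of_starInj hK q P j
  let ψ : U q.toIdeal P Z' i →ₗ[A] U q.toIdeal P Z (i + 1) := hS.extClass.postcompOfLinear A Q rfl
  refine ⟨LinearEquiv.ofBijective ψ ⟨?_, fun y => ?_⟩⟩
  · rw [injective_iff_map_eq_zero]
    intro x hx
    obtain ⟨x₂, rfl⟩ := Ext.covariant_sequence_exact₃ Q hS x rfl hx
    cases i with
    | zero =>
      obtain ⟨φ, rfl⟩ := (Ext.mk₀_bijective _ _).2 x₂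
      rw [Ext.mk₀_comp_mk₀, Ext.mk₀_eq_zero_iff]
      refine ModuleCat.hom_ext (LinearMap.ext fun t => ?_)
      have hk : ∀ c ∈ q.toIdeal, algebraMap R A c • φ.hom t = 0 := fun c hc => by
        obtain ⟨b, hb⟩ := Ideal.Quotient.mk_surjective (show A ⧸ extId q.toIdeal P from t)
        have : algebraMap R A c • (show A ⧸ extId q.toIdeal P from t) = 0 := by
          rw [← hb, show algebraMap R A c • Ideal.Quotient.mk (extId q.toIdeal P) b =
            Ideal.Quotient.mk (extId q.toIdeal P) (algebraMap R A c * b) from rfl, Ideal.Quotient.eq_zero_iff_mem]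
          exact Ideal.mul_mem_right _ _ (Ideal.mem_map_of_mem _ hc)
        rw [← φ.hom.map_smul]
        exact (congrArg φ.hom this).trans (map_zero _)
      obtain ⟨z, hz⟩ := exists_preimage_of_killed f hfh hess q P hqP _ hk
      change LocalizedModule.map S g (φ.hom t) = 0
      rw [← hz]
      exact (LocalizedModule.map_exact S f g hfg).apply_apply_eq_zero z
    | succ j => rw [@Subsingleton.elim _ (hacy j) x₂ 0, Ext.zero_comp]
  · obtain ⟨x₃, hx₃⟩ := Ext.covariant_sequence_exact₁ Q hS y (@Subsingleton.elim _ (hacy i) _ _) rfl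
    exact ⟨x₃, hx₃⟩

end Shift

end Groth.L12.GrLCLib
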