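import Groth.Agent.L12.GrLCNonHom2

/-!
# Bass numbers at a prime lying one step above its graded core
-/

set_option autoImplicit false

universe u

open DirectSum CategoryTheory CategoryTheory.Abelian

namespace Groth.L12.GrLCLib

section Presentation

variable {A : Type u} [CommRing A] [IsLocalRing A] {J : Ideal A} {a : A}
  {W : Type u} [AddCommGroup W] [Module A W] {Λ : Type u} {Ψ : (Λ →₀ A) →ₗ[A] W}

lemma smul_injective_of_presentation [J.IsPrime] (ha : a ∉ J) (hs : Function.Surjective Ψ)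
    (hk : ∀ l, Ψ l = 0 ↔ ∀ α, l α ∈ J) {y : W} (hy : a • y = 0) : y = 0 := by
  obtain ⟨l, rfl⟩ := hs y
  rw [← map_smul, hk] at hy
  refine (hk l).2 fun α => ?_
  exact (‹J.IsPrime›.mem_or_mem (show a * l α ∈ J from hy α)).resolve_left ha

lemma length_quot_of_presentation (hm : IsLocalRing.maximalIdeal A = J ⊔ Ideal.span {a})
    (hs : Function.Surjective Ψ) (hk : ∀ l, Ψ l = 0 ↔ ∀ α, l α ∈ J) :
    Module.length A (W ⧸ LinearMap.range (a • LinearMap.id : W →ₗ[A] W)) = Cardinal.toENat (Cardinal.mk Λ) := by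
  classical
  rw [← length_finsupp_residue (A := A)]
  let Φ : (Λ →₀ A) →ₗ[A] W ⧸ LinearMap.range (a • LinearMap.id : W →ₗ[A] W) := (Submodule.mkQ _).comp Ψ
  let π : (Λ →₀ A) →ₗ[A] (Λ →₀ IsLocalRing.ResidueField A) :=
    Finsupp.mapRange.linearMap (Algebra.linearMap A (IsLocalRing.ResidueField A))
  have hπ : Function.Surjective π := Finsupp.mapRange_surjective _ (map_zero _) IsLocalRing.residue_surjective
  have hΦ : Function.Surjective Φ := (Submodule.mkQ_surjective _).comp hs
  have hker : LinearMap.ker Φ = LinearMap.ker π := by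
    ext l
    have hπl : l ∈ LinearMap.ker π ↔ ∀ α, l α ∈ IsLocalRing.maximalIdeal A := by
      rw [LinearMap.mem_ker, Finsupp.ext_iff]
      exact forall_congr' fun α => IsLocalRing.residue_eq_zero_iff (l α)
    rw [hπl, LinearMap.mem_ker]
    change Submodule.Quotient.mk (Ψ l) = 0 ↔ _
    rw [Submodule.Quotient.mk_eq_zero]
    constructor
    · rintro ⟨y, hy⟩ α
      obtain ⟨l', rfl⟩ := hs y
      change a • Ψ l' = Ψ l at hy
      rw [← map_smul, ← sub_eq_zero, ← map_sub, hk] at hy
      have h1 : a * l' α - l α ∈ J := hy α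
      rw [hm]
      have h2 : l α = a * l' α - (a * l' α - l α) := by ring
      rw [h2]
      exact sub_mem (Ideal.mem_sup_right (Ideal.mul_mem_right _ _ (Ideal.mem_span_singleton_self a))) (Ideal.mem_sup_left h1)
    · intro hl
      have : ∀ α, ∃ c : A, l α - a * c ∈ J := fun α => by
        obtain ⟨j, hj, b, hb, hjb⟩ := Submodule.mem_sup.1 (hm ▸ hl α)
        obtain ⟨c, rfl⟩ := Ideal.mem_span_singleton'.1 hb
        exact ⟨c, by rw [← hjb, mul_comm c a, add_sub_cancel_right]; exact hj⟩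
      choose c hc using this
      let l' : Λ →₀ A := Finsupp.onFinset l.support (fun α => if α ∈ l.support then c α else 0)
        fun α h => by by_contra hα; exact h (if_neg hα)
      refine ⟨Ψ l', ?_⟩
      change a • Ψ l' = Ψ l
      rw [← map_smul, eq_comm, ← sub_eq_zero, ← map_sub, hk]
      intro α
      change l α - a * l' α ∈ J
      by_cases hα : α ∈ l.support
      · change l α - a * (if α ∈ l.support then c α else 0) ∈ J
        rw [if_pos hα]
        exact hc α
      · have h0 : l α = 0 := Finsupp.notMem_support_iff.1 hα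
        simp [l', h0]
  exact ((Φ.quotKerEquivOfSurjective hΦ).symm.trans
    ((Submodule.quotEquivOfEq _ _ hker).trans (π.quotKerEquivOfSurjective hπ))).length_eq

end Presentation

variable {ι : Type} [AddCommGroup ι] [DecidableEq ι]
variable {R : Type u} [CommRing R] [IsNoetherianRing R] {𝒜 : ι → AddSubgroup R} [GradedRing 𝒜]

variable (q : HomogeneousIdeal 𝒜) [hq : q.toIdeal.IsPrime] (P : Ideal R) [hP : P.IsPrime]

include hq in
/-- the zeroth Bass number at a graded prime counts a homogeneous basis of the killed part -/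
lemma bassNum_zero_self {M : Type u} [AddCommGroup M] [Module R M] {Λ : Type u}
    (Ψ : (Λ →₀ Localization.AtPrime q.toIdeal) →ₗ[Localization.AtPrime q.toIdeal] killed q.toIdeal q.toIdeal M)
    (hs : Function.Surjective Ψ) (hk : ∀ l, Ψ l = 0 ↔ ∀ α, l α ∈ extId q.toIdeal q.toIdeal) :
    GrLC.bassNum q.toIdeal M 0 = Cardinal.toENat (Cardinal.mk Λ) := by
  have hm : IsLocalRing.maximalIdeal (Localization.AtPrime q.toIdeal) = extId q.toIdeal q.toIdeal :=
    Localization.AtPrime.map_eq_maximalIdeal.symm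
  rw [GrLC.bassNum, length_ext_zero, ← length_quot_of_presentation (a := 0) (J := extId q.toIdeal q.toIdeal) (Ψ := Ψ)
    (by rw [hm, Ideal.span_singleton_zero, sup_bot_eq]) hs hk]
  refine LinearEquiv.length_eq ((LinearEquiv.ofEq _ _ ?_).trans (Submodule.quotEquivOfEqBot _ ?_).symm)
  · rw [soc, killed, hm]
  · rw [zero_smul, LinearMap.range_zero]

variable (hle : q.toIdeal ≤ P) (hqP : ∀ (d : ι), ∀ c ∈ 𝒜 d, c ∈ P → c ∈ q.toIdeal)
  (a : Localization.AtPrime P) (ha : a ∉ extId q.toIdeal P)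
  (hm : IsLocalRing.maximalIdeal (Localization.AtPrime P) = extId q.toIdeal P ⊔ Ideal.span {a})

include hq hle in
lemma extId_isPrime : (extId q.toIdeal P).IsPrime :=
  IsLocalization.isPrime_of_isPrime_disjoint P.primeCompl (Localization.AtPrime P) q.toIdeal hq
    (Set.disjoint_left.2 fun _ hx hxq => hx (hle hxq))

include hq hle hqP ha hm in
/-- the two facts carried by the induction -/
theorem U_structure : ∀ (i : ℕ) (M : Type u) [AddCommGroup M] [Module R M] (ℳ : ι → AddSubgroup M)
    [DirectSum.Decomposition ℳ] [SetLike.GradedSMul 𝒜 ℳ],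
    (∀ y : U q.toIdeal P M i, a • y = 0 → y = 0) ∧
      Module.length (Localization.AtPrime P) (U q.toIdeal P M i ⧸ LinearMap.range
        (a • LinearMap.id : U q.toIdeal P M i →ₗ[Localization.AtPrime P] U q.toIdeal P M i)) =
        GrLC.bassNum q.toIdeal M i := by
  haveI := extId_isPrime q P hle
  intro i
  induction i with
  | zero =>
    intro M _ _ ℳ _ _
    obtain ⟨Λ, hΛ⟩ := exists_killed_presentation (K := M) (𝒦 := ℳ) q
    obtain ⟨Ψ, hs, hk⟩ := hΛ P hle hqP
    obtain ⟨Ψ₀, hs₀, hk₀⟩ := hΛ q.toIdeal le_rfl fun _ c _ hc => hc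
    let e := uZeroEquiv q.toIdeal P M
    let Ψ' : (Λ →₀ Localization.AtPrime P) →ₗ[Localization.AtPrime P] U q.toIdeal P M 0 := e.symm.toLinearMap.comp Ψ
    have hs' : Function.Surjective Ψ' := e.symm.surjective.comp hs
    have hk' : ∀ l, Ψ' l = 0 ↔ ∀ α, l α ∈ extId q.toIdeal P := fun l =>
      (LinearEquiv.map_eq_zero_iff e.symm).trans (hk l)
    exact ⟨fun y => smul_injective_of_presentation ha hs' hk',
      (length_quot_of_presentation hm hs' hk').trans (bassNum_zero_self q Ψ₀ hs₀ hk₀).symm⟩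
  | succ i ih =>
    intro M _ _ ℳ _ _
    obtain ⟨X, f, hf⟩ := exists_hull 𝒜 ℳ
    have hfh := range_isHomogeneous ℳ X.gr hf.grHom
    let Z := quoG 𝒜 X.gr (LinearMap.range f) hfh
    let g : X.carrier →ₗ[R] Z.carrier := (LinearMap.range f).mkQ
    obtain ⟨e⟩ := nonempty_U_shift (𝒦 := X.gr) hf.starInj f g hf.injective (Submodule.mkQ_surjective _)
      (LinearMap.exact_map_mkQ_range f) hfh hf.essential q P hqP i
    obtain ⟨hinj, hlen⟩ := ih Z.carrier Z.gr
    refine ⟨fun y hy => ?_, ?_⟩
    · have h1 : a • e.symm y = 0 := by rw [← map_smul, hy, map_zero]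
      exact (LinearEquiv.map_eq_zero_iff e.symm).1 (hinj _ h1)
    · rw [bassNum_shift (𝒳 := X.gr) hf.starInj f g hf.injective (Submodule.mkQ_surjective _)
        (LinearMap.exact_map_mkQ_range f) hf.essential q i, ← hlen]
      refine (LinearEquiv.length_eq (Submodule.Quotient.equiv _ _ e ?_)).symm
      ext y
      constructor
      · rintro ⟨_, ⟨x, rfl⟩, rfl⟩
        exact ⟨e x, (map_smul e a x).symm⟩
      · rintro ⟨x, rfl⟩
        exact ⟨_, ⟨e.symm x, rfl⟩, by
          change e (a • e.symm x) = a • x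
          rw [map_smul, LinearEquiv.apply_symm_apply]⟩

variable {M : Type u} [AddCommGroup M] [Module R M] {ℳ : ι → AddSubgroup M} [DirectSum.Decomposition ℳ]
  [SetLike.GradedSMul 𝒜 ℳ]

include hq hle hqP ha hm ℳ in
/-- Bass numbers at a prime one step above its core -/
theorem bassNum_above : GrLC.bassNum P M 0 = 0 ∧ ∀ i, GrLC.bassNum P M (i + 1) = GrLC.bassNum q.toIdeal M i := by
  haveI := extId_isPrime q P hle
  let A := Localization.AtPrime P
  let J := extId q.toIdeal P
  have hU := fun i => U_structure q P hle hqP a ha hm i M ℳ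
  let μ : (A ⧸ J) →ₗ[A] (A ⧸ J) := a • LinearMap.id
  let π : (A ⧸ J) →ₗ[A] IsLocalRing.ResidueField A :=
    Submodule.liftQ J (Algebra.linearMap A (IsLocalRing.ResidueField A)) fun x hx =>
      (IsLocalRing.residue_eq_zero_iff x).2 (hm ▸ Ideal.mem_sup_left hx)
  have hμinj : Function.Injective μ := by
    rw [injective_iff_map_eq_zero]
    intro z hz
    obtain ⟨x, rfl⟩ := Ideal.Quotient.mk_surjective z
    change a • Ideal.Quotient.mk J x = 0 at hz
    rw [show a • Ideal.Quotient.mk J x = Ideal.Quotient.mk J (a * x) from rfl, Ideal.Quotient.eq_zero_iff_mem] at hz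
    exact Ideal.Quotient.eq_zero_iff_mem.2 ((Ideal.IsPrime.mem_or_mem ‹J.IsPrime› hz).resolve_left ha)
  have hπ : Function.Surjective π := fun z => by
    obtain ⟨x, rfl⟩ := IsLocalRing.residue_surjective z
    exact ⟨Ideal.Quotient.mk J x, rfl⟩
  have hex : Function.Exact μ π := by
    intro z
    obtain ⟨x, rfl⟩ := Ideal.Quotient.mk_surjective z
    constructor
    · intro h0
      have hx : x ∈ J ⊔ Ideal.span {a} := hm ▸ (IsLocalRing.residue_eq_zero_iff x).1 h0
      obtain ⟨j, hj, b, hb, rfl⟩ := Submodule.mem_sup.1 hx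
      obtain ⟨c, rfl⟩ := Ideal.mem_span_singleton'.1 hb
      refine ⟨Ideal.Quotient.mk J c, ?_⟩
      change a • Ideal.Quotient.mk J c = _
      rw [show a • Ideal.Quotient.mk J c = Ideal.Quotient.mk J (a * c) from rfl, map_add,
        Ideal.Quotient.eq_zero_iff_mem.2 hj, zero_add, mul_comm]
    · rintro ⟨y, hy⟩
      obtain ⟨c, rfl⟩ := Ideal.Quotient.mk_surjective y
      rw [← hy]
      exact (IsLocalRing.residue_eq_zero_iff (a * c)).2
        (hm ▸ Ideal.mem_sup_right (Ideal.mul_mem_right _ _ (Ideal.mem_span_singleton_self a)))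
  have hS := Groth.L04.LC.ses_shortExact μ π hμinj hπ hex
  let MP := ModuleCat.of A (LocalizedModule P.primeCompl M)
  have hmul : ∀ {i : ℕ} (y : U q.toIdeal P M i),
      (Ext.mk₀ (ModuleCat.ofHom μ)).comp y (zero_add i) = a • y := fun y => by
    change (Ext.mk₀ (a • 𝟙 (ModuleCat.of A (A ⧸ J)))).comp y (zero_add _) = a • y
    rw [Ext.mk₀_smul, Ext.smul_comp, Ext.mk₀_id_comp]
  refine ⟨?_, fun i => ?_⟩
  · rw [GrLC.bassNum, GrLC.bassNumLocal, Module.length_eq_zero_iff]
    refine subsingleton_of_forall_eq 0 fun x => ?_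
    obtain ⟨φ, rfl⟩ := (Ext.mk₀_bijective _ _).2 x
    have h1 : a • (Ext.mk₀ (ModuleCat.ofHom π)).comp (Ext.mk₀ φ) (zero_add 0) = 0 := by
      rw [← hmul, Ext.mk₀_comp_mk₀, Ext.mk₀_comp_mk₀, Ext.mk₀_eq_zero_iff, ← Category.assoc,
        ← ModuleCat.ofHom_comp, show π.comp μ = 0 from LinearMap.ext fun z => hex.apply_apply_eq_zero z]
      exact Limits.zero_comp
    have h2 := (hU 0).1 _ h1
    rw [Ext.mk₀_comp_mk₀, Ext.mk₀_eq_zero_iff] at h2
    rw [Ext.mk₀_eq_zero_iff]
    refine ModuleCat.hom_ext (LinearMap.ext fun z => ?_)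
    obtain ⟨y, rfl⟩ := hπ z
    exact LinearMap.congr_fun (congrArg ModuleCat.Hom.hom h2) y
  · let ψ : U q.toIdeal P M i →ₗ[A] Ext.{u} (ModuleCat.of A (IsLocalRing.ResidueField A)) MP (i + 1) :=
      hS.extClass.precompOfLinear A MP (add_comm 1 i)
    have hker : LinearMap.ker ψ = LinearMap.range (a • LinearMap.id : U q.toIdeal P M i →ₗ[A] U q.toIdeal P M i) := by
      ext x
      constructor
      · intro hx
        obtain ⟨x₂, hx₂⟩ := Ext.contravariant_sequence_exact₁ hS MP x (add_comm 1 i) (LinearMap.mem_ker.1 hx)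
        exact ⟨x₂, (hmul x₂).symm.trans hx₂⟩
      · rintro ⟨y, rfl⟩
        rw [LinearMap.mem_ker]
        change hS.extClass.comp (a • y) (add_comm 1 i) = 0
        rw [← hmul y]
        exact hS.extClass_comp_assoc _
    have hsurj : Function.Surjective ψ := fun x => by
      have h1 : a • (Ext.mk₀ (ModuleCat.ofHom π)).comp x (zero_add (i + 1)) = 0 := by
        rw [← hmul, Ext.mk₀_comp_mk₀_assoc, ← ModuleCat.ofHom_comp,
          show π.comp μ = 0 from LinearMap.ext fun z => hex.apply_apply_eq_zero z, ModuleCat.ofHom_zero,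
          Ext.mk₀_zero, Ext.zero_comp]
      obtain ⟨y, hy⟩ := Ext.contravariant_sequence_exact₃ hS MP x ((hU (i + 1)).1 _ h1) (add_comm 1 i)
      exact ⟨y, hy⟩
    rw [← (hU i).2]
    exact (LinearEquiv.length_eq ((Submodule.quotEquivOfEq _ _ hker.symm).trans (ψ.quotKerEquivOfSurjective hsurj))).symm

end Groth.L12.GrLCLib
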