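import Groth.Agent.L12.GrLCAinv
import Groth.Agent.L12.GrAB
import Mathlib.RingTheory.KrullDimension.NonZeroDivisors
import Mathlib.RingTheory.RegularLocalRing.Polynomial

/-!
# Standard graded algebras with smallest possible regularity are polynomial rings
-/

set_option autoImplicit false

universe u

open DirectSum MvPolynomial

namespace Groth.L12.GrLCLib

variable {K : Type u} [Field K] {R : Type u} [CommRing R] [Algebra K R] {𝒜 : ℤ → AddSubgroup R} [GradedRing 𝒜]
  {N : ℕ} {v : Fin N → R}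

section Basic

variable (halg : ∀ c : K, algebraMap K R c ∈ 𝒜 0) (hv : ∀ b, v b ∈ 𝒜 1)

include halg hv

lemma aeval_mem {g : ℤ} {p : MvPolynomial (Fin N) K} (hp : p ∈ GrSyz.stdGr K (Fin N) g) :
    aeval v p ∈ 𝒜 g := by
  classical
  rw [p.as_sum, map_sum]
  refine sum_mem fun d hd => ?_
  rw [aeval_monomial, Finsupp.prod]
  have hw : Finsupp.weight (fun _ : Fin N => (1 : ℤ)) d = g := hp (mem_support_iff.1 hd)
  have hprod := SetLike.prod_mem_graded 𝒜 (fun b => ((d b : ℤ))) (fun b => v b ^ d b) (F := d.support) fun b _ => by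
    have := SetLike.pow_mem_graded (d b) (hv b)
    rwa [nsmul_one] at this
  have hsum : ∑ b ∈ d.support, ((d b : ℤ)) = g := by
    rw [← hw, Finsupp.weight_apply, Finsupp.sum]
    exact Finset.sum_congr rfl fun b _ => by simp
  rw [hsum] at hprod
  have := SetLike.mul_mem_graded (halg (coeff d p)) hprod
  rwa [zero_add] at this

lemma cp_aeval (g : ℤ) (p : MvPolynomial (Fin N) K) :
    cp 𝒜 g (aeval v p) = aeval v (cp (GrSyz.stdGr K (Fin N)) g p) :=
  cp_map (GrSyz.stdGr K (Fin N)) 𝒜 (aeval v).toRingHom.toAddMonoidHom (fun _ _ hx => aeval_mem halg hv hx) g p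

variable (hpos : ∀ n : ℤ, n < 0 → 𝒜 n = ⊥) (h0 : ∀ x ∈ 𝒜 0, ∃ c : K, algebraMap K R c = x)
  (hspan : ∀ x ∈ 𝒜 1, ∃ c : Fin N → K, ∑ b, algebraMap K R (c b) * v b = x)
  (hstd : (posIdeal 𝒜).toIdeal = Ideal.span ((𝒜 1 : AddSubgroup R) : Set R))

omit halg hv in
include hspan in
lemma span_one_le : Ideal.span ((𝒜 1 : AddSubgroup R) : Set R) ≤ Ideal.span (Set.range v) :=
  Ideal.span_le.2 fun x hx => by
    obtain ⟨c, rfl⟩ := hspan x hx
    exact Ideal.sum_mem _ fun b _ => Ideal.mul_mem_left _ _ (Ideal.subset_span ⟨b, rfl⟩)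

include hpos h0 hspan hstd in
lemma exists_preimage_poly (g : ℤ) : ∀ x ∈ 𝒜 g, ∃ p ∈ GrSyz.stdGr K (Fin N) g, aeval v p = x := by
  classical
  rcases lt_or_ge g 0 with hg | hg
  · intro x hx
    rw [hpos g hg, AddSubgroup.mem_bot] at hx
    exact ⟨0, zero_mem _, by rw [hx, map_zero]⟩
  obtain ⟨n, rfl⟩ := Int.eq_ofNat_of_zero_le hg
  clear hg
  induction n with
  | zero =>
    intro x hx
    obtain ⟨c, rfl⟩ := h0 x hx
    exact ⟨C c, GrSyzLib.C_mem_zero c, aeval_C v c⟩
  | succ n ih =>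
    intro x hx
    have hmem : x ∈ Ideal.span (Set.range v) := span_one_le hspan (hstd ▸ (Ideal.subset_span
      (Set.mem_biUnion (Set.mem_Ioi.2 (by omega : (0 : ℤ) < ((n + 1 : ℕ) : ℤ))) hx) : x ∈ (posIdeal 𝒜).toIdeal))
    obtain ⟨c, hc⟩ := (Submodule.mem_span_range_iff_exists_fun R).1 hmem
    choose q hq hqc using fun b => ih (cp 𝒜 (n : ℤ) (c b)) (cp_mem 𝒜 _ _)
    refine ⟨∑ b, q b * X b, sum_mem fun b _ => ?_, ?_⟩
    · have := SetLike.mul_mem_graded (hq b) (show (X b : MvPolynomial (Fin N) K) ∈ GrSyz.stdGr K (Fin N) 1 from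
        isWeightedHomogeneous_X K _ b)
      rwa [Nat.cast_succ]
    · rw [map_sum, ← cp_same 𝒜 hx, ← hc, map_sum]
      refine Finset.sum_congr rfl fun b _ => ?_
      rw [map_mul, aeval_X, hqc b, cp_smul_mem 𝒜 𝒜 (c b) (hv b), Nat.cast_succ, add_sub_cancel_right]
      rfl

include hpos h0 hspan hstd in
lemma aeval_surjective : Function.Surjective (aeval v : MvPolynomial (Fin N) K →ₐ[K] R) := by
  intro x
  obtain ⟨s, hs, -⟩ := exists_sum_cp 𝒜 x
  choose p _ hpx using fun g => exists_preimage_poly halg hv hpos h0 hspan hstd g (cp 𝒜 g x) (cp_mem 𝒜 g x)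
  exact ⟨∑ g ∈ s, p g, by rw [map_sum]; simp only [hpx, hs]⟩

variable [IsNoetherianRing R] [Nontrivial R]
  (hind : ∀ c : Fin N → K, ∑ b, algebraMap K R (c b) * v b = 0 → c = 0)

include hpos h0 hspan hstd hind in
/-- Regularity zero forces a standard graded algebra to be the polynomial ring. -/
theorem aeval_injective (hreg : ∀ (i : ℕ) (g : ℤ), -(i : ℤ) < g → Van (posIdeal 𝒜) 𝒜 i g) :
    Function.Injective (aeval v : MvPolynomial (Fin N) K →ₐ[K] R) := by
  classical
  let 𝒮 := GrSyz.stdGr K (Fin N)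
  obtain ⟨rk, D, hrk0, hrk, hD, hDD, hhom⟩ := exists_koszul 𝒮 (List.ofFn fun b : Fin N => (X b : MvPolynomial (Fin N) K))
    fun p hp => by
      obtain ⟨b, rfl⟩ := List.mem_ofFn.1 hp
      exact isWeightedHomogeneous_X K _ b
  have hJ : Ideal.span {p | p ∈ List.ofFn fun b : Fin N => (X b : MvPolynomial (Fin N) K)} =
      Ideal.span (Set.range (X : Fin N → MvPolynomial (Fin N) K)) := by
    congr 1; ext; simp [List.mem_ofFn]
  rw [hJ] at hhom
  let φ : MvPolynomial (Fin N) K →+* R := (aeval v).toRingHom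
  have hsurj : Function.Surjective φ := aeval_surjective halg hv hpos h0 hspan hstd
  have hposI : (posIdeal 𝒜).toIdeal ≤ Ideal.span (Set.range v) := hstd.le.trans (span_one_le hspan)
  let κ : KData 𝒜 (posIdeal 𝒜) :=
    { rk := rk
      D := fun p => (D p).map φ
      len := (List.ofFn fun b : Fin N => (X b : MvPolynomial (Fin N) K)).length
      rk_pos := hrk0
      rk_eq_zero := hrk
      mem := fun p a b => ⟨aeval_mem halg hv (hD p a b).1,
        hstd ▸ Ideal.subset_span (aeval_mem halg hv (hD p a b).1)⟩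
      sq := fun p => by rw [← Matrix.map_mul, hDD, Matrix.map_zero _ (map_zero φ)]
      hom := fun x hx => by
        have : x ∈ Ideal.map φ (Ideal.span (Set.range X)) := by
          rw [Ideal.map_span, ← Set.range_comp]
          have hr : (φ ∘ X : Fin N → R) = v := funext fun b => aeval_X v b
          rw [hr]
          exact hposI hx
        obtain ⟨P, hP, rfl⟩ := (Ideal.mem_map_iff_of_surjective φ hsurj).1 this
        obtain ⟨h, hh0, hh⟩ := hhom P hP
        have hone : ∀ n, ((P • (1 : Matrix (Fin n) (Fin n) (MvPolynomial (Fin N) K))).map φ) =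
            φ P • (1 : Matrix (Fin n) (Fin n) R) := fun n => by
          ext i j
          simp [Matrix.one_apply, apply_ite φ]
        refine ⟨fun p => (h p).map φ, ?_, fun p => ?_⟩
        · rw [← Matrix.map_mul, hh0, hone]
        · rw [← Matrix.map_mul, ← Matrix.map_mul, ← Matrix.map_add φ (map_add φ), hh, hone] }
  have key : ∀ (n : ℕ) (g : ℤ), g < n → ∀ p ∈ 𝒮 g, aeval v p = 0 → p = 0 := by
    intro n
    induction n with
    | zero =>
      intro g hg p hp _
      rw [show 𝒮 g = ⊥ from GrSyzLib.stdGr_neg (by simpa using hg)] at hp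
      exact (Submodule.mem_bot K).1 hp
    | succ n ih =>
      intro g hg p hp hp0
      rcases lt_trichotomy g 0 with hgneg | rfl | hgpos
      · rw [show 𝒮 g = ⊥ from GrSyzLib.stdGr_neg hgneg] at hp
        exact (Submodule.mem_bot K).1 hp
      · rw [GrSyzLib.eq_C_of_mem_zero hp, aeval_C, map_eq_zero] at hp0
        rw [GrSyzLib.eq_C_of_mem_zero hp, hp0, map_zero]
      have hpJ : p ∈ Ideal.span (Set.range (X : Fin N → MvPolynomial (Fin N) K)) := by
        rw [← Set.image_univ, mem_ideal_span_X_image]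
        intro m hm
        by_contra hcon
        push Not at hcon
        have : m = 0 := Finsupp.ext fun i => hcon i trivial
        subst this
        exact mem_support_iff.1 hm (GrSyzLib.constantCoeff_of_mem (by omega) hp)
      rcases eq_or_lt_of_le (show (1 : ℤ) ≤ g by omega) with rfl | hg2
      · obtain ⟨c, hc⟩ := (Submodule.mem_span_range_iff_exists_fun (MvPolynomial (Fin N) K)).1 hpJ
        have hp' : p = ∑ b, C (constantCoeff (cp 𝒮 0 (c b))) * X b := by
          rw [← cp_same 𝒮 hp, ← hc, map_sum]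
          refine Finset.sum_congr rfl fun b _ => ?_
          rw [cp_smul_mem 𝒮 𝒮 (c b) (isWeightedHomogeneous_X K _ b : (X b : MvPolynomial (Fin N) K) ∈ 𝒮 1), sub_self,
            ← GrSyzLib.eq_C_of_mem_zero (cp_mem 𝒮 0 (c b))]
          rfl
        rw [hp'] at hp0
        simp only [map_sum, map_mul, aeval_C, aeval_X] at hp0
        have hc0 := hind _ hp0
        rw [hp']
        exact Finset.sum_eq_zero fun b _ => by
          rw [show constantCoeff (cp 𝒮 0 (c b)) = 0 from congrFun hc0 b, map_zero, zero_mul]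
      obtain ⟨h, hh0, -⟩ := hhom p hpJ
      let b₀ : Fin (rk 0) := ⟨0, hrk0⟩
      let q : Fin (rk 1) → MvPolynomial (Fin N) K := fun b => cp 𝒮 (g - 1) (h 0 b b₀)
      have hrow : ∀ a, ∑ b, D 0 a b * q b = (p • (1 : Matrix (Fin (rk 0)) (Fin (rk 0)) (MvPolynomial (Fin N) K))) a b₀ := by
        intro a
        have h1 : ∑ b, D 0 a b * h 0 b b₀ = (p • (1 : Matrix (Fin (rk 0)) (Fin (rk 0)) (MvPolynomial (Fin N) K))) a b₀ := by
          rw [← hh0, Matrix.mul_apply]
        have h2 : (p • (1 : Matrix (Fin (rk 0)) (Fin (rk 0)) (MvPolynomial (Fin N) K))) a b₀ ∈ 𝒮 g := by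
          rw [Matrix.smul_apply, Matrix.one_apply]
          split_ifs
          · rwa [smul_eq_mul, mul_one]
          · rw [smul_zero]; exact zero_mem _
        rw [← cp_same 𝒮 h2, ← h1, map_sum]
        exact Finset.sum_congr rfl fun b _ => (cp_smul_hom' 𝒮 𝒮 (hD 0 a b).1 g _).symm
      have hw0 : mmap (M := R) (κ.D 0) (fun b => φ (q b)) = 0 := by
        funext a
        rw [mmap_apply]
        change ∑ b, φ (D 0 a b) * φ (q b) = 0
        simp only [← map_mul, ← map_sum, hrow a, Matrix.smul_apply, smul_eq_mul]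
        rw [map_mul, show φ p = 0 from hp0, zero_mul]
      obtain ⟨v', hv'⟩ := (koszul_chase_full (ℳ := 𝒜) (posIdeal 𝒜) κ g).2.2 (hreg 0 (g - 1) (by simp; omega))
        (fun i hi => hreg i _ (by push_cast; omega)) (fun b => φ (q b)) (fun b => aeval_mem halg hv (cp_mem 𝒮 _ _)) hw0
      choose W hW hWv using fun c : Fin (rk 2) =>
        exists_preimage_poly halg hv hpos h0 hspan hstd (g - 2) (cp 𝒜 (g - 2) (v' c)) (cp_mem 𝒜 _ _)
      have hq1 : ∀ b, q b - ∑ c, D 1 b c * W c = 0 := fun b => by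
        refine ih (g - 1) (by omega) _ (sub_mem (cp_mem 𝒮 _ _) (sum_mem fun c _ => ?_)) ?_
        · have := SetLike.mul_mem_graded (hD 1 b c).1 (hW c)
          rwa [show (1 : ℤ) + (g - 2) = g - 1 from by ring] at this
        · have h1 : ∑ c, φ (D 1 b c) * v' c = φ (q b) := by
            have := congrFun hv' b
            rwa [mmap_apply] at this
          have h2 : φ (q b) ∈ 𝒜 (g - 1) := aeval_mem halg hv (cp_mem 𝒮 _ _)
          rw [map_sub, sub_eq_zero, map_sum]
          change φ (q b) = _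
          rw [← cp_same 𝒜 h2, ← h1, map_sum]
          refine Finset.sum_congr rfl fun c _ => ?_
          rw [map_mul (aeval v), hWv c]
          refine (cp_smul_hom' 𝒜 𝒜 (aeval_mem halg hv (hD 1 b c).1) (g - 1) (v' c)).trans ?_
          rw [show g - 1 - 1 = g - 2 from by ring]
          rfl
      have hp2 : p = ∑ b, D 0 b₀ b * q b := by
        rw [hrow b₀, Matrix.smul_apply, Matrix.one_apply_eq, smul_eq_mul, mul_one]
      rw [hp2]
      calc ∑ b, D 0 b₀ b * q b = ∑ b, D 0 b₀ b * ∑ c, D 1 b c * W c :=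
            Finset.sum_congr rfl fun b _ => by rw [sub_eq_zero.1 (hq1 b)]
        _ = ∑ c, (D 0 * D 1) b₀ c * W c := by
            simp only [Finset.mul_sum, Matrix.mul_apply, Finset.sum_mul, mul_assoc]
            exact Finset.sum_comm
        _ = 0 := by simp [hDD 0]
  rw [injective_iff_map_eq_zero]
  intro p hp
  refine eq_zero_of_cp 𝒮 fun g => key (g.toNat + 1) g (by omega) _ (cp_mem 𝒮 g p) ?_
  rw [← cp_aeval halg hv, hp, map_zero]

end Basic

section Iff

variable {R : Type u} [CommRing R] {𝒜 : ℤ → AddSubgroup R} [GradedRing 𝒜]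

/-- on the ideal of positive degrees taking the linear component is semilinear -/
lemma cp_one_mul_of_mem (hpos : ∀ n : ℤ, n < 0 → 𝒜 n = ⊥) {y : R}
    (hy : y ∈ Ideal.span ((𝒜 1 : AddSubgroup R) : Set R)) :
    cp 𝒜 0 y = 0 ∧ ∀ c : R, cp 𝒜 1 (c * y) = cp 𝒜 0 c * cp 𝒜 1 y := by
  have key : ∀ (d : R) {x : R}, x ∈ 𝒜 1 → cp 𝒜 0 (d * x) = 0 ∧ cp 𝒜 1 (d * x) = cp 𝒜 0 d * x := fun d x hx => by
    refine ⟨?_, ?_⟩
    · rw [← smul_eq_mul, cp_smul_mem 𝒜 𝒜 d hx]
      have := cp_mem 𝒜 ((0 : ℤ) - 1) d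
      rw [hpos _ (by norm_num), AddSubgroup.mem_bot] at this
      rw [this, zero_smul]
    · rw [← smul_eq_mul, cp_smul_mem 𝒜 𝒜 d hx, sub_self, smul_eq_mul]
  have hmem0 : ∀ c d : R, cp 𝒜 0 (c * cp 𝒜 0 d) = cp 𝒜 0 c * cp 𝒜 0 d := fun c d => by
    rw [← smul_eq_mul, cp_smul_mem 𝒜 𝒜 c (cp_mem 𝒜 0 d), sub_zero, smul_eq_mul]
  induction hy using Submodule.span_induction with
  | mem x hx =>
    have h1 := key 1 hx
    rw [one_mul] at h1
    exact ⟨h1.1, fun c => by rw [cp_same 𝒜 hx, (key c hx).2]⟩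
  | zero => simp
  | add x y _ _ hx hy => exact ⟨by rw [map_add, hx.1, hy.1, add_zero], fun c => by
      rw [mul_add, map_add, hx.2, hy.2, map_add, mul_add]⟩
  | smul d x hx ih =>
    have hpow : ∀ z : R, z ∈ Ideal.span ((𝒜 1 : AddSubgroup R) : Set R) → cp 𝒜 0 z = 0 := fun z hz => by
      induction hz using Submodule.span_induction with
      | mem z hz => simpa using (key 1 hz).1
      | zero => simp
      | add a b _ _ ha hb => rw [map_add, ha, hb, add_zero]
      | smul d z hz ihz =>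
        obtain ⟨s, hs, -⟩ := exists_sum_cp 𝒜 z
        rw [smul_eq_mul, ← hs, Finset.mul_sum, map_sum]
        refine Finset.sum_eq_zero fun g _ => ?_
        rw [← smul_eq_mul, cp_smul_mem 𝒜 𝒜 d (cp_mem 𝒜 g z)]
        rcases lt_trichotomy g 0 with h | rfl | h
        · have := cp_mem 𝒜 g z
          rw [hpos g h, AddSubgroup.mem_bot] at this
          rw [this, smul_zero]
        · rw [ihz, smul_zero]
        · have := cp_mem 𝒜 ((0 : ℤ) - g) d
          rw [hpos _ (by omega), AddSubgroup.mem_bot] at this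
          rw [this, zero_smul]
    refine ⟨hpow _ (Submodule.smul_mem _ d hx), fun c => ?_⟩
    rw [smul_eq_mul, ← mul_assoc, ih.2, ih.2 d]
    have hd : cp 𝒜 0 (c * d) = cp 𝒜 0 c * cp 𝒜 0 d := by
      obtain ⟨s, hs, -⟩ := exists_sum_cp 𝒜 d
      conv_lhs => rw [← hs, Finset.mul_sum, map_sum]
      rw [Finset.sum_eq_single (0 : ℤ)]
      · exact hmem0 c d
      · intro g _ hg
        rw [← smul_eq_mul, cp_smul_mem 𝒜 𝒜 c (cp_mem 𝒜 g d)]
        rcases lt_or_gt_of_ne hg with h | h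
        · have := cp_mem 𝒜 g d
          rw [hpos g h, AddSubgroup.mem_bot] at this
          rw [this, smul_zero]
        · have := cp_mem 𝒜 ((0 : ℤ) - g) c
          rw [hpos _ (by omega), AddSubgroup.mem_bot] at this
          rw [this, zero_smul]
      · intro h0
        have : cp 𝒜 0 d = 0 := by
          rw [← hs, map_sum]
          exact Finset.sum_eq_zero fun g hg => cp_ne 𝒜 (cp_mem 𝒜 g d) fun h => h0 (h ▸ hg)
        rw [this, mul_zero, map_zero]
    rw [hd, mul_assoc]

variable [LocCoh.IsCohenMacaulayRing R]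

/-- a standard graded Cohen–Macaulay algebra over a field has `a = -dim` exactly for polynomial rings -/
theorem endDeg_eq_neg_iff_polynomial (hpos : ∀ n : ℤ, n < 0 → 𝒜 n = ⊥) (h0 : IsField (GrLC.deg0 𝒜))
    (hm : GrLC.IsStarLocal 𝒜 (posIdeal 𝒜))
    (hstd : (posIdeal 𝒜).toIdeal = Ideal.span ((𝒜 1 : AddSubgroup R) : Set R)) (r : ℕ) (hr : ringKrullDim R = r)
    (I : GrLC.StarInjRes 𝒜 𝒜) :
    GrLC.endDeg (I.Hgr (posIdeal 𝒜) r) = (((-(r : ℤ) : ℤ) : WithTop ℤ) : WithBot (WithTop ℤ)) ↔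
      Nonempty (R ≃+* MvPolynomial (Fin r) (GrLC.deg0 𝒜)) := by
  classical
  letI := h0.toField
  haveI : Nontrivial R := ⟨0, 1, fun h => starLocal_ne_top hm ((Ideal.eq_top_iff_one _).2 (h ▸ zero_mem _))⟩
  haveI := isNoetherian_comp (𝒜 := 𝒜) (ℳ := 𝒜) (1 : ℤ)
  let N := Module.finrank (GrLC.deg0 𝒜) (GrLC.comp 𝒜 𝒜 1)
  let bas : Module.Basis (Fin N) (GrLC.deg0 𝒜) (GrLC.comp 𝒜 𝒜 1) := Module.finBasis _ _
  let v : Fin N → R := fun b => (bas b : R)
  have hv : ∀ b, v b ∈ 𝒜 1 := fun b => (bas b).2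
  have halg : ∀ c : GrLC.deg0 𝒜, algebraMap (GrLC.deg0 𝒜) R c ∈ 𝒜 0 := fun c => c.2
  have h00 : ∀ x ∈ 𝒜 0, ∃ c : GrLC.deg0 𝒜, algebraMap (GrLC.deg0 𝒜) R c = x := fun x hx => ⟨⟨x, hx⟩, rfl⟩
  have hspan : ∀ x ∈ 𝒜 1, ∃ c : Fin N → GrLC.deg0 𝒜, ∑ b, algebraMap (GrLC.deg0 𝒜) R (c b) * v b = x :=
    fun x hx => ⟨fun b => bas.repr ⟨x, hx⟩ b, by
      have h := congrArg Subtype.val (bas.sum_repr ⟨x, hx⟩)
      rw [Submodule.coe_sum] at h
      exact h⟩
  have hind : ∀ c : Fin N → GrLC.deg0 𝒜, ∑ b, algebraMap (GrLC.deg0 𝒜) R (c b) * v b = 0 → c = 0 := fun c hc =>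
    funext (Fintype.linearIndependent_iff.1 bas.linearIndependent c (Subtype.ext (by
      rw [Submodule.coe_sum]
      exact hc)))
  have hsurj := aeval_surjective halg hv hpos h00 hspan hstd
  have hdim : ∀ n : ℕ, ringKrullDim (MvPolynomial (Fin n) (GrLC.deg0 𝒜)) = n := fun n => by
    simp [MvPolynomial.ringKrullDim_of_isNoetherianRing, ringKrullDim_eq_zero_of_field]
  constructor
  · intro hend
    have hreg : ∀ (i : ℕ) (g : ℤ), -(i : ℤ) < g → Van (posIdeal 𝒜) 𝒜 i g := fun i g hg => by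
      rcases lt_trichotomy i r with h | rfl | h
      · exact van_below_dim hpos hm hr h g
      · exact (van_iff _ I).2 ((endDeg_le_coe_iff _ _).1 hend.le g hg)
      · exact van_above_dim _ hr.le h g
    have hinj := aeval_injective halg hv hpos h00 hspan hstd hind hreg
    let e := RingEquiv.ofBijective (aeval v : MvPolynomial (Fin N) (GrLC.deg0 𝒜) →ₐ[GrLC.deg0 𝒜] R).toRingHom ⟨hinj, hsurj⟩
    have hNr : N = r := by
      have := (ringKrullDim_eq_of_ringEquiv e).symm.trans (hdim N)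
      rw [hr] at this
      exact_mod_cast this.symm
    exact ⟨e.symm.trans (MvPolynomial.renameEquiv (GrLC.deg0 𝒜) (finCongr hNr)).toRingEquiv⟩
  rintro ⟨e'⟩
  have hrN : r ≤ N := by
    have := ringKrullDim_le_of_surjective (aeval v : MvPolynomial (Fin N) (GrLC.deg0 𝒜) →ₐ[GrLC.deg0 𝒜] R).toRingHom hsurj
    rw [hdim, hr] at this
    exact_mod_cast this
  haveI : IsRegularRing R := IsRegularRing.of_ringEquiv e'.symm
  have hNr : N ≤ r := by
    haveI hmax := starLocal_isMaximal hpos hm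
    let m : Ideal R := (posIdeal 𝒜).toIdeal
    haveI : m.IsPrime := hmax.isPrime
    let S := Localization.AtPrime m
    haveI : IsRegularLocalRing S := IsRegularRing.isRegularLocalRing_localization m
    have hdimS : ringKrullDim S = r := by
      rw [IsLocalization.AtPrime.ringKrullDim_eq_height m S, ← hr, ← ringKrullDim_eq_height_starLocal hpos hm]
    have hfg : (IsLocalRing.maximalIdeal S).FG := IsNoetherian.noetherian _
    have hcard : (IsLocalRing.maximalIdeal S).spanFinrank = r := by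
      have := (isRegularLocalRing_iff S).1 inferInstance
      rw [hdimS] at this
      exact_mod_cast this
    let G := (IsLocalRing.maximalIdeal S).generators
    have hGfin : G.Finite := Submodule.FG.finite_generators hfg
    haveI := hGfin.fintype
    have hGcard : Fintype.card G = r := by
      rw [← hcard, ← Submodule.FG.generators_ncard hfg, Set.ncard_eq_toFinset_card', Set.toFinset_card]
    choose a t hat using fun z : G => IsLocalization.exists_mk'_eq m.primeCompl (z : S)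
    have ha : ∀ z, a z ∈ m := fun z => by
      have hz : (z : S) ∈ IsLocalRing.maximalIdeal S := by
        rw [← Submodule.span_generators (IsLocalRing.maximalIdeal S)]
        exact Submodule.subset_span z.2
      rw [← hat z] at hz
      exact (IsLocalization.AtPrime.mk'_mem_maximal_iff S m (a z) (t z)).1 hz
    have hle : IsLocalRing.maximalIdeal S ≤ Ideal.map (algebraMap R S) (Ideal.span (Set.range a)) := by
      rw [← Submodule.span_generators (IsLocalRing.maximalIdeal S), Submodule.span_le]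
      intro z hz
      rw [SetLike.mem_coe, ← show IsLocalization.mk' S (a ⟨z, hz⟩) (t ⟨z, hz⟩) = z from hat ⟨z, hz⟩,
        IsLocalization.mk'_eq_mul_mk'_one]
      exact Ideal.mul_mem_right _ _ (Ideal.mem_map_of_mem _ (Ideal.subset_span ⟨_, rfl⟩))
    have hR1 : GrLC.comp 𝒜 𝒜 1 ≤ Submodule.span (GrLC.deg0 𝒜) (Set.range fun z => cp 𝒜 1 (a z)) := by
      intro x (hx : x ∈ 𝒜 1)
      have hxm : x ∈ m := Ideal.subset_span (Set.mem_biUnion (Set.mem_Ioi.2 zero_lt_one) hx)
      have : algebraMap R S x ∈ Ideal.map (algebraMap R S) (Ideal.span (Set.range a)) :=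
        hle ((IsLocalization.AtPrime.to_map_mem_maximal_iff S m x).2 hxm)
      obtain ⟨⟨⟨y, hy⟩, ⟨s, hs⟩⟩, hys⟩ := (IsLocalization.mem_map_algebraMap_iff m.primeCompl S).1 this
      simp only [← map_mul] at hys
      obtain ⟨⟨u, hu⟩, hu'⟩ := (IsLocalization.eq_iff_exists m.primeCompl S).1 hys
      obtain ⟨c, rfl⟩ := (Submodule.mem_span_range_iff_exists_fun R).1 hy
      have hs' : u * s ∉ m := fun h => (‹m.IsPrime›.mem_or_mem h).elim hu hs
      have hs0 : cp 𝒜 0 (u * s) ≠ 0 := fun h => hs' (by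
        have := sub_cp_zero_mem_posIdeal hpos (u * s)
        rwa [h, sub_zero] at this)
      have h1 : (⟨cp 𝒜 0 (u * s), cp_mem 𝒜 0 _⟩ : GrLC.deg0 𝒜) • x =
          ∑ z, (⟨cp 𝒜 0 (u * c z), cp_mem 𝒜 0 _⟩ : GrLC.deg0 𝒜) • cp 𝒜 1 (a z) := by
        have e1 : u * s * x = ∑ z, (u * c z) * a z := by
          have : u * (x * s) = u * ∑ z, c z • a z := hu'
          rw [mul_assoc, mul_comm s x, this, Finset.mul_sum]
          simp only [smul_eq_mul, mul_assoc]
        have e2 := congrArg (cp 𝒜 1) e1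
        rw [← smul_eq_mul, cp_smul_mem 𝒜 𝒜 _ hx, sub_self, map_sum] at e2
        refine e2.trans (Finset.sum_congr rfl fun z _ => ?_)
        exact (cp_one_mul_of_mem hpos (hstd ▸ ha z)).2 _
      have h2 := congrArg ((⟨cp 𝒜 0 (u * s), cp_mem 𝒜 0 _⟩ : GrLC.deg0 𝒜)⁻¹ • ·) h1
      rw [inv_smul_smul₀ (fun h => hs0 (congrArg Subtype.val h))] at h2
      rw [h2]
      exact Submodule.smul_mem _ _ (Submodule.sum_mem _ fun z _ => Submodule.smul_mem _ _ (Submodule.subset_span ⟨z, rfl⟩))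
    haveI := Module.Finite.span_of_finite (GrLC.deg0 𝒜) (Set.finite_range fun z => cp 𝒜 1 (a z))
    refine le_trans (Submodule.finrank_mono hR1) ?_
    exact hGcard ▸ finrank_range_le_card _
  have hN : N = r := le_antisymm hNr hrN
  have hinj : Function.Injective (aeval v : MvPolynomial (Fin N) (GrLC.deg0 𝒜) →ₐ[GrLC.deg0 𝒜] R) := by
    rw [injective_iff_map_eq_zero]
    intro p hp
    by_contra hp0
    have h1 := ringKrullDim_quotient_succ_le_of_nonZeroDivisor (mem_nonZeroDivisors_of_ne_zero hp0)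
    let φ : MvPolynomial (Fin N) (GrLC.deg0 𝒜) →+* R := (aeval v).toRingHom
    have h2 : ringKrullDim R ≤ ringKrullDim (MvPolynomial (Fin N) (GrLC.deg0 𝒜) ⧸ Ideal.span {p}) :=
      ringKrullDim_le_of_surjective (Ideal.Quotient.lift _ φ ((RingHom.ker φ).span_singleton_le_iff_mem.mpr hp))
        (Ideal.Quotient.lift_surjective_of_surjective _ _ hsurj)
    have h3 := (add_le_add h2 (le_refl (1 : WithBot ℕ∞))).trans h1
    rw [hr, hdim, hN] at h3
    have h4 : ((r + 1 : ℕ) : WithBot ℕ∞) ≤ ((r : ℕ) : WithBot ℕ∞) := by push_cast; exact h3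
    rw [Nat.cast_le] at h4
    omega
  have hregv : RingTheory.Sequence.IsWeaklyRegular R (List.ofFn v) := by
    let φ : MvPolynomial (Fin N) (GrLC.deg0 𝒜) →+* R := (aeval v).toRingHom
    have h := GrSyzLib.isWeaklyRegular_X_quot (k := GrLC.deg0 𝒜) (List.finRange N) (∅ : Set (Fin N))
      (List.nodup_finRange _) (fun _ _ h => h)
    have e : (MvPolynomial (Fin N) (GrLC.deg0 𝒜) ⧸ Ideal.span ((MvPolynomial.X (R := GrLC.deg0 𝒜)) '' (∅ : Set (Fin N)))) ≃ₗ[MvPolynomial (Fin N) (GrLC.deg0 𝒜)]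
        MvPolynomial (Fin N) (GrLC.deg0 𝒜) := Submodule.quotEquivOfEqBot _ (by simp)
    refine ((RingEquiv.ofBijective φ ⟨hinj, hsurj⟩).toAddEquiv.isWeaklyRegular_congr ?_).1 ((e.isWeaklyRegular_congr _).1 h)
    rw [List.ofFn_eq_map, List.forall₂_map_left_iff, List.forall₂_map_right_iff, List.forall₂_same]
    intro b _ x
    change φ (X b * x) = v b * φ x
    rw [map_mul]
    exact congrArg (· * φ x) (aeval_X v b)
  have hspanv : (posIdeal 𝒜).toIdeal = Ideal.span (Set.range v) :=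
    le_antisymm (hstd.le.trans (span_one_le hspan)) (Ideal.span_le.2 (by
      rintro _ ⟨b, rfl⟩
      exact Ideal.subset_span (Set.mem_biUnion (Set.mem_Ioi.2 zero_lt_one) (hv b))))
  let Q := quoG 𝒜 𝒜 (posIdeal 𝒜).toIdeal (posIdeal 𝒜).isHomogeneous
  obtain ⟨F⟩ := nonempty_starInjRes 𝒜 Q.gr
  have hup : GrLC.endDeg (F.Hgr (posIdeal 𝒜) (r - N)) ≤ (((0 : ℤ) : WithTop ℤ) : WithBot (WithTop ℤ)) := by
    rw [show r - N = 0 by omega]
    refine (endDeg_le_coe_iff _ _).2 fun g hg => (van_iff _ F).1 ((van_zero_iff _).2 ?_)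
    rintro z - ⟨y, hy, rfl⟩
    exact (Submodule.Quotient.mk_eq_zero _).2 (Ideal.subset_span (Set.mem_biUnion (Set.mem_Ioi.2 hg) hy))
  let q : R →ₗ[R] Q.carrier := (posIdeal 𝒜).toIdeal.mkQ
  have hkerq : LinearMap.ker q = Ideal.span (Set.range v) • (⊤ : Submodule R R) :=
    (Submodule.ker_mkQ _).trans (by rw [smul_eq_mul, Ideal.mul_top, hspanv])
  have hseq := endDeg_regSeq_eq (posIdeal 𝒜) N R 𝒜 v (fun _ => 1) hv
    (fun b => Ideal.subset_span (Set.mem_biUnion (Set.mem_Ioi.2 zero_lt_one) (hv b))) (fun _ => zero_le_one) hregv r hNr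
    (fun i hi g => van_below_dim hpos hm hr hi g)
  have hend := @hseq Q.carrier Q.instAddCommGroupCarrier Q.instModuleCarrier Q.gr Q.dec Q.gsmul q
    (fun g x hx => ⟨x, hx, rfl⟩) (Submodule.mkQ_surjective _) hkerq I F
  rw [hend, endDeg_add_coe_le_coe_iff] at hup
  refine eq_of_forall_le_coe_iff fun d => ⟨fun hd => ?_, fun hd => le_trans ?_ hd⟩
  · by_contra hcon
    rw [WithBot.coe_le_coe, WithTop.coe_le_coe, not_le] at hcon
    haveI : IsArtinianRing (GrLC.deg0 𝒜) := inferInstance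
    obtain ⟨g, hg, hng⟩ := exists_top_ne_bot hpos hstd hm hr
    exact hng ((van_iff _ I).2 ((endDeg_le_coe_iff _ _).1 hd g (by omega)))
  · exact (endDeg_le_coe_iff _ _).2 fun g hg => hup g (by simp [hN]; omega)

end Iff

end Groth.L12.GrLCLib
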