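import Groth.Agent.L12.GrLCTop
import Groth.Agent.L12.GrLCVan

/-!
# The top graded local cohomology of a Gorenstein *local ring
-/

set_option autoImplicit false

universe u

open DirectSum

namespace Groth.L12.GrLCLib

variable {ι : Type} [AddCommGroup ι] [DecidableEq ι]
variable {R : Type u} [CommRing R] {𝒜 : ι → AddSubgroup R} [GradedRing 𝒜]
variable {M : Type u} [AddCommGroup M] [Module R M] {ℳ : ι → AddSubgroup M} [DirectSum.Decomposition ℳ]
  [SetLike.GradedSMul 𝒜 ℳ]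

/-- no boundaries and no outgoing differential on the torsion parts -/
theorem exists_equiv_H (E : GrLC.StarInjRes 𝒜 ℳ) (a : HomogeneousIdeal 𝒜) (n : ℕ)
    (hlow : ∀ j < n, GrLC.gam a.toIdeal (E.X j).carrier = ⊥)
    (hup : ∀ x ∈ GrLC.gam a.toIdeal (E.X n).carrier, E.d n x = 0) {X : GrLC.GMod.{u} 𝒜}
    (ψ : X.carrier →ₗ[R] (E.X n).carrier) (hψ : GrLC.IsGrHom X.gr (E.X n).gr ψ) (hinj : Function.Injective ψ)
    (hr : LinearMap.range ψ = GrLC.gam a.toIdeal (E.X n).carrier) :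
    ∃ φ : E.H a n ≃ₗ[R] X.carrier, GrLC.IsGrHom (E.Hgr a n) X.gr φ.toLinearMap := by
  have hmem : ∀ x, ψ x ∈ E.cocyc a n := fun x => by
    have h : ψ x ∈ GrLC.gam a.toIdeal (E.X n).carrier := hr ▸ LinearMap.mem_range_self ψ x
    exact ⟨h, hup _ h⟩
  have hcob : E.cobdy a n = ⊥ := by
    cases n with
    | zero => rfl
    | succ k =>
      change (GrLC.gam a.toIdeal (E.X k).carrier).map (E.d k) = ⊥
      rw [hlow k k.lt_succ_self, Submodule.map_bot]
  let F : X.carrier →ₗ[R] E.H a n := E.toH a n ∘ₗ ψ.codRestrict _ hmem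
  have hF : Function.Bijective F := by
    refine ⟨(injective_iff_map_eq_zero _).2 fun x hx => ?_, fun y => ?_⟩
    · have h1 : ψ x ∈ E.cobdy a n :=
        (Submodule.Quotient.mk_eq_zero ((E.cobdy a n).comap (E.cocyc a n).subtype)).1
          (show E.toH a n ⟨ψ x, hmem x⟩ = 0 from hx)
      rw [hcob, Submodule.mem_bot] at h1
      exact hinj (h1.trans (map_zero ψ).symm)
    · obtain ⟨z, rfl⟩ := Submodule.Quotient.mk_surjective _ y
      obtain ⟨x, hx⟩ : (z : (E.X n).carrier) ∈ LinearMap.range ψ := hr ▸ z.2.1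
      exact ⟨x, congrArg (E.toH a n) (Subtype.ext hx)⟩
  refine ⟨(LinearEquiv.ofBijective F hF).symm, fun g y hy => ?_⟩
  obtain ⟨z, hz, rfl⟩ := hy
  obtain ⟨x, hx⟩ : (z : (E.X n).carrier) ∈ LinearMap.range ψ := hr ▸ z.2.1
  have h1 : ψ (cp X.gr g x) = ψ x := by
    rw [← show cp (E.X n).gr g (ψ x) = ψ (cp X.gr g x) from cp_map X.gr (E.X n).gr ψ.toAddMonoidHom hψ g x, hx]
    exact cp_same _ hz
  have h2 : (LinearEquiv.ofBijective F hF).symm (E.toH a n z) = cp X.gr g x := by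
    rw [LinearEquiv.symm_apply_eq]
    exact congrArg (E.toH a n) (Subtype.ext (hx.symm.trans h1.symm))
  exact h2 ▸ cp_mem X.gr g x

/-- the top cohomology of a Gorenstein *local ring is a shifted envelope of the residue ring -/
theorem exists_top_hull [Module.Free ℤ ι] [Module.Finite ℤ ι] [LocCoh.IsGorensteinRing R] {m : HomogeneousIdeal 𝒜}
    (hm : GrLC.IsStarLocal 𝒜 m) (n : ℕ) (hn : m.toIdeal.height = n) (I : GrLC.StarInjRes 𝒜 𝒜) :
    ∃ (g₀ : ι) (X : GrLC.GMod.{u} 𝒜) (f : (R ⧸ m.toIdeal) →ₗ[R] X.carrier) (φ : I.H m n ≃ₗ[R] X.carrier),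
      GrLC.IsStarInjHull 𝒜 (fun i : ι => GrLC.quotGr 𝒜 m (i - g₀)) X.gr f ∧
      GrLC.IsGrHom (I.Hgr m n) X.gr φ.toLinearMap := by
  haveI := starLocal_isPrime hm
  obtain ⟨E, hmin0, hmin⟩ := exists_minimal_res (𝒜 := 𝒜) 𝒜
  have hb := fun j => bassNum_gorenstein m.toIdeal n hn j
  have h0 : ∀ j, j ≠ n → GrLC.gam m.toIdeal (E.X j).carrier = ⊥ := fun j hj =>
    gam_eq_bot_of_bassNum E hmin0 hmin hm (by rw [hb, if_neg hj])
  obtain ⟨g₀, X, f, ψ, hf, hψinj, hψ, hr⟩ := exists_gam_hull E hmin0 hmin hm (j := n) (by rw [hb, if_pos rfl])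
  obtain ⟨φ, hφ⟩ := exists_equiv_H E m n (fun j hj => h0 j hj.ne) (fun x hx => by
    have h1 : E.d n x ∈ GrLC.gam m.toIdeal (E.X (n + 1)).carrier := gam_mono (E.d n) hx
    rwa [h0 _ (Nat.succ_ne_self n), Submodule.mem_bot] at h1) ψ hψ hψinj hr
  obtain ⟨e, he, -⟩ := exists_Hequiv m I E n
  exact ⟨g₀, X, f, e ≪≫ₗ φ, hf, fun g y hy => hφ g _ (he g y hy)⟩

section Hull

omit [SetLike.GradedSMul 𝒜 ℳ]

/-- envelopes of shifted residue rings differ by a shift -/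
theorem exists_shift_equiv {m : HomogeneousIdeal 𝒜} {g₀ : ι} {X : GrLC.GMod.{u} 𝒜} {f : (R ⧸ m.toIdeal) →ₗ[R] X.carrier}
    (hf : GrLC.IsStarInjHull 𝒜 (fun i : ι => GrLC.quotGr 𝒜 m (i - g₀)) X.gr f) {E' : Type u} [AddCommGroup E']
    [Module R E'] {𝓔 : ι → AddSubgroup E'} [DirectSum.Decomposition 𝓔] [SetLike.GradedSMul 𝒜 𝓔]
    {e : (R ⧸ m.toIdeal) →ₗ[R] E'} (he : GrLC.IsStarInjHull 𝒜 (GrLC.quotGr 𝒜 m) 𝓔 e) :
    ∃ β : X.carrier ≃ₗ[R] E', GrLC.IsGrHomDeg X.gr 𝓔 β.toLinearMap (-g₀) := by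
  let G := quoG 𝒜 𝒜 m.toIdeal m.isHomogeneous
  let G' := shG 𝒜 G.gr (-g₀)
  have hgr : ∀ i, (G'.gr i : Set G'.carrier) = (GrLC.quotGr 𝒜 m (i - g₀) : Set (R ⧸ m.toIdeal)) := fun i => by
    rw [sub_eq_add_neg]; rfl
  let W := shG 𝒜 𝓔 (-g₀)
  let f' : G'.carrier →ₗ[R] X.carrier := f
  let e' : G'.carrier →ₗ[R] W.carrier := e
  have hX : GrLC.IsStarInjHull 𝒜 G'.gr X.gr f' :=
    { injective := hf.injective
      grHom := fun i y hy => hf.grHom i y ((hgr i).subset hy)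
      essential := hf.essential
      starInj := hf.starInj }
  have hW : GrLC.IsStarInjHull 𝒜 G'.gr W.gr e' :=
    { injective := he.injective
      grHom := fun i y hy => he.grHom (i + -g₀) y (by rw [← sub_eq_add_neg]; exact (hgr i).subset hy)
      essential := fun P hP hne => by
        let P' : Submodule R E' := P
        exact he.essential P' (isHomogeneous_of_shG 𝓔 (-g₀) P' hP) hne
      starInj := starInj_shift he.starInj (-g₀) }
  obtain ⟨β, hβ, -⟩ := hull_unique 𝒜 G'.gr hX hW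
  exact ⟨β, fun i y hy => hβ i y hy⟩

end Hull

end Groth.L12.GrLCLib
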