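import Groth.Agent.L12.GrLCAsub
import Groth.Agent.L12.GrLCCanon
import Groth.Agent.L12.GrLCGor
import Groth.Agent.L12.GrLCTopH
import Groth.Agent.L12.GrAB
import Groth.Agent.S0342
import Groth.Agent.S0341
import Mathlib.RingTheory.RegularLocalRing.Polynomial
import Mathlib.RingTheory.KrullDimension.Polynomial
import Mathlib.RingTheory.MvPolynomial.WeightedHomogeneous

/-!
# The canonical module of a weighted polynomial ring
-/

set_option autoImplicit false

universe u

open DirectSum MvPolynomial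
open scoped Groth.L12.GrLCLib.Asub

attribute [local instance] MvPolynomial.weightedGradedAlgebra

namespace Groth.L12.GrLCLib

/-- polynomial rings over fields are Gorenstein -/
theorem isGorensteinRing_mvPolynomial (k : Type u) [Field k] (σ : Type) [Finite σ] :
    LocCoh.IsGorensteinRing (MvPolynomial σ k) :=
  { isGorensteinLocalRing_localization := fun p _ => Groth.Agent.S0342.result (Localization.AtPrime p) }

variable {R : Type u} [CommRing R] {𝒜 : ℤ → AddSubgroup R} [GradedRing 𝒜]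

/-- a graded ring with free canonical module `R(-a')` has `a`-invariant `-a'` -/
theorem endDeg_of_free {m : HomogeneousIdeal 𝒜} {n : ℕ} (I : GrLC.StarInjRes 𝒜 𝒜) (hpos : ∀ g : ℤ, g < 0 → 𝒜 g = ⊥)
    {E' : Type u} [AddCommGroup E'] [Module R E'] {𝓔 : ℤ → AddSubgroup E'} [DirectSum.Decomposition 𝓔]
    [SetLike.GradedSMul 𝒜 𝓔] (hX : IsDual 𝒜 𝓔) {C : Type u} [AddCommGroup C] [Module R C] {𝒞 : ℤ → AddSubgroup C}
    [DirectSum.Decomposition 𝒞] [SetLike.GradedSMul 𝒜 𝒞] (φ : (C →ₗ[R] E') ≃ₗ[R] I.H m n)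
    (hφ : GrLC.IsGrHom (fun d => (GrLC.homDeg 𝒜 𝒞 𝓔 d).toAddSubgroup) (I.Hgr m n) φ.toLinearMap) {a' : ℤ}
    (f : R →ₗ[R] C) (hf : Function.Bijective f) (hfdeg : GrLC.IsGrHomDeg 𝒜 𝒞 f a') :
    GrLC.endDeg (I.Hgr m n) = (((-a' : ℤ) : WithTop ℤ) : WithBot (WithTop ℤ)) := by
  let F : R ≃ₗ[R] C := LinearEquiv.ofBijective f hf
  let Ψ : E' ≃ₗ[R] I.H m n :=
    ((LinearMap.ringLmapEquivSelf R R E').symm.trans ((F.arrowCongr (LinearEquiv.refl R E')).trans φ))
  let X : GrLC.GMod.{u} 𝒜 := shG 𝒜 𝓔 a'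
  letI := (Hgr_isInternal m I n).chooseDecomposition
  have hF := grHom_symm (R := R) 𝒜 (shG 𝒜 𝒞 a').gr F (fun i r hr => hfdeg i r hr)
  have hΨ : GrLC.IsGrHom X.gr (I.Hgr m n) Ψ.toLinearMap := by
    intro i x hx
    refine hφ i _ (fun g c hc => ?_)
    have h1 : F.symm c ∈ 𝒜 (g - a') := hF (g - a') c (show c ∈ 𝒞 (g - a' + a') by rwa [sub_add_cancel])
    have h2 : F.symm c • x ∈ 𝓔 (g - a' + (i + a')) := smul_mem' 𝒜 𝓔 h1 hx
    rw [show g - a' + (i + a') = g + i by abel] at h2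
    change F.symm c • x ∈ 𝓔 (g + i)
    exact h2
  have hΨ' := grHom_symm (R := R) X.gr _ Ψ hΨ
  refine le_antisymm ((endDeg_le_coe_iff _ _).2 fun g hg => (AddSubgroup.eq_bot_iff_forall _).2 fun x hx => ?_) ?_
  · have h1 : Ψ.symm x ∈ 𝓔 (g + a') := hΨ' g x hx
    refine Ψ.symm.map_eq_zero_iff.1 (hX.uniq _ _ h1 fun c hc => ?_)
    rw [hpos _ (by omega), AddSubgroup.mem_bot] at hc
    rw [hc, zero_smul]
  · obtain ⟨u, hu, hune, -⟩ := hX.line
    refine le_iSup_of_le (-a') (le_iSup_of_le (fun h => hune ?_) le_rfl)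
    have h1 : Ψ u ∈ I.Hgr m n (-a') := hΨ (-a') u (show u ∈ 𝓔 (-a' + a') by rwa [neg_add_cancel])
    rw [h, AddSubgroup.mem_bot] at h1
    exact Ψ.map_eq_zero_iff.1 h1

theorem canonical_poly (k : Type u) [Field k] (N : ℕ) (w : Fin N → ℤ) (hw : ∀ i, 0 < w i)
    (m : HomogeneousIdeal (asub (weightedHomogeneousSubmodule k w)))
    (hm : GrLC.IsStarLocal (asub (weightedHomogeneousSubmodule k w)) m)
    (hmsp : m.toIdeal = Ideal.span (⋃ n ∈ Set.Ioi (0 : ℤ), (weightedHomogeneousSubmodule k w n : Set (MvPolynomial (Fin N) k))))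
    (I : GrLC.StarInjRes (asub (weightedHomogeneousSubmodule k w)) (asub (weightedHomogeneousSubmodule k w)))
    (E' : Type u) [AddCommGroup E'] [Module (MvPolynomial (Fin N) k) E'] (𝓔 : ℤ → AddSubgroup E')
    [DirectSum.Decomposition 𝓔] [SetLike.GradedSMul (asub (weightedHomogeneousSubmodule k w)) 𝓔]
    (e : (MvPolynomial (Fin N) k ⧸ m.toIdeal) →ₗ[MvPolynomial (Fin N) k] E')
    (he : GrLC.IsStarInjHull (asub (weightedHomogeneousSubmodule k w)) (GrLC.quotGr (asub (weightedHomogeneousSubmodule k w)) m) 𝓔 e)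
    (C : Type u) [AddCommGroup C] [Module (MvPolynomial (Fin N) k) C] (𝒞 : ℤ → AddSubgroup C) [DirectSum.Decomposition 𝒞]
    [SetLike.GradedSMul (asub (weightedHomogeneousSubmodule k w)) 𝒞] (hfin : Module.Finite (MvPolynomial (Fin N) k) C)
    (φ : (C →ₗ[MvPolynomial (Fin N) k] E') ≃ₗ[MvPolynomial (Fin N) k] I.H m N)
    (hφ : GrLC.IsGrHom (fun d => (GrLC.homDeg (asub (weightedHomogeneousSubmodule k w)) 𝒞 𝓔 d).toAddSubgroup) (I.Hgr m N) φ.toLinearMap) :
    ∃ f : MvPolynomial (Fin N) k →ₗ[MvPolynomial (Fin N) k] C, Function.Bijective f ∧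
      GrLC.IsGrHomDeg (asub (weightedHomogeneousSubmodule k w)) 𝒞 f ((Finset.univ : Finset (Fin N)).sum w) := by
  classical
  let P := MvPolynomial (Fin N) k
  haveI : LocCoh.IsGorensteinRing P := isGorensteinRing_mvPolynomial k (Fin N)
  haveI : LocCoh.IsCohenMacaulayRing P :=
    { isCohenMacaulayLocalRing_localization := fun p _ => by
        haveI := LocCoh.IsGorensteinRing.isGorensteinLocalRing_localization (A := P) p
        exact Groth.Agent.S0341.result _ }
  have hwnn : ∀ d : Fin N →₀ ℕ, 0 ≤ Finsupp.weight w d := fun d => by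
    rw [Finsupp.weight_apply]
    exact Finset.sum_nonneg fun i _ => nsmul_nonneg (hw i).le _
  have hpos : ∀ g : ℤ, g < 0 → (asub (weightedHomogeneousSubmodule k w)) g = ⊥ := fun g hg => (AddSubgroup.eq_bot_iff_forall _).2 fun p hp => by
    ext d
    by_contra h
    have h1 : Finsupp.weight w d = g := hp (by simpa using h)
    have := hwnn d
    omega
  have hzero : ∀ d : Fin N →₀ ℕ, Finsupp.weight w d = 0 → d = 0 := fun d hd => by
    ext i
    rw [Finsupp.weight_apply, Finsupp.sum_fintype _ _ (by simp)] at hd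
    have h1 := (Finset.sum_eq_zero_iff_of_nonneg (fun i _ => nsmul_nonneg (hw i).le _)).1 hd i (Finset.mem_univ i)
    have := hw i
    rw [nsmul_eq_mul] at h1
    rcases mul_eq_zero.1 h1 with h2 | h2
    · simpa using h2
    · omega
  have hC0 : ∀ p ∈ (asub (weightedHomogeneousSubmodule k w)) 0, ∃ c : k, MvPolynomial.C c = p := fun p hp => ⟨coeff 0 p, by
    ext d
    rw [coeff_C]
    by_cases hd : 0 = d
    · subst hd; simp
    · rw [if_neg hd]
      by_contra h
      exact hd (hzero d (hp (Ne.symm h))).symm⟩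
  have hCmem : ∀ c : k, (MvPolynomial.C c : P) ∈ (asub (weightedHomogeneousSubmodule k w)) 0 := fun c => isWeightedHomogeneous_C w c
  have h0 : IsField (GrLC.deg0 (asub (weightedHomogeneousSubmodule k w))) := by
    refine ⟨⟨0, 1, fun h => zero_ne_one (congrArg Subtype.val h)⟩, mul_comm, fun {a} ha => ?_⟩
    obtain ⟨c, hc⟩ := hC0 a.1 a.2
    have hc0 : c ≠ 0 := fun h => ha (Subtype.ext (by rw [← hc, h, map_zero]; rfl))
    exact ⟨⟨MvPolynomial.C c⁻¹, hCmem _⟩, Subtype.ext (by change a.1 * MvPolynomial.C c⁻¹ = 1; rw [← hc, ← map_mul, mul_inv_cancel₀ hc0, map_one])⟩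
  have hXmem : ∀ i, (X i : P) ∈ (asub (weightedHomogeneousSubmodule k w)) (w i) := fun i => isWeightedHomogeneous_X k w i
  have hspan : m.toIdeal = Ideal.span (Set.range (X : Fin N → P)) := by
    rw [hmsp]
    refine le_antisymm (Ideal.span_le.2 fun p hp => ?_) (Ideal.span_mono ?_)
    · obtain ⟨g, hg, hpg⟩ := Set.mem_iUnion₂.1 hp
      rw [SetLike.mem_coe, ← Set.image_univ, mem_ideal_span_X_image]
      intro d hd
      by_contra hcon
      push Not at hcon
      have h1 : d = 0 := Finsupp.ext fun i => hcon i trivial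
      subst h1
      have h2 : Finsupp.weight w (0 : Fin N →₀ ℕ) = g := hpg (mem_support_iff.1 hd)
      rw [map_zero] at h2
      exact absurd (show (0 : ℤ) < g from hg) (by omega)
    · rintro _ ⟨i, rfl⟩
      exact Set.mem_iUnion₂.2 ⟨w i, hw i, isWeightedHomogeneous_X k w i⟩
  have hdim : ringKrullDim P = N := by
    rw [MvPolynomial.ringKrullDim_of_isNoetherianRing, ringKrullDim_eq_zero_of_field]; simp
  -- `a = -∑ w` through the regular sequence of variables
  let Q := quoG (asub (weightedHomogeneousSubmodule k w)) (asub (weightedHomogeneousSubmodule k w)) m.toIdeal m.isHomogeneous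
  let π : P →ₗ[P] Q.carrier := Submodule.mkQ m.toIdeal
  have hπs : Function.Surjective π := Submodule.mkQ_surjective _
  have hπk : LinearMap.ker π = m.toIdeal := Submodule.ker_mkQ _
  obtain ⟨F⟩ := nonempty_starInjRes (asub (weightedHomogeneousSubmodule k w)) Q.gr
  have hreg : RingTheory.Sequence.IsWeaklyRegular P (List.ofFn (X : Fin N → P)) := by
    have h := Groth.L12.GrSyzLib.isWeaklyRegular_X_quot (k := k) (List.finRange N) (∅ : Set (Fin N))
      (List.nodup_finRange _) (fun _ _ h => h)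
    rw [List.ofFn_eq_map]
    exact ((Submodule.quotEquivOfEqBot _ (by simp) : (P ⧸ Ideal.span ((X (R := k)) '' (∅ : Set (Fin N)))) ≃ₗ[P] P).isWeaklyRegular_congr _).1 h
  have hend := endDeg_regSeq_eq m N P (asub (weightedHomogeneousSubmodule k w)) (X : Fin N → P) w hXmem
    (fun i => hspan ▸ Ideal.subset_span ⟨i, rfl⟩) (fun i => (hw i).le) hreg N le_rfl
    (fun i hi g => van_below_dim hpos hm hdim hi g) Q.carrier Q.gr π
    (fun g x hx => ⟨x, hx, rfl⟩) hπs
    (by rw [hπk, hspan, smul_eq_mul, Ideal.mul_top]) I F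
  have hkill : ∀ c ∈ m.toIdeal, ∀ x : Q.carrier, c • x = 0 := fun c hc x => by
    obtain ⟨x, rfl⟩ := hπs x
    rw [← map_smul]
    exact (Submodule.Quotient.mk_eq_zero _).2 (Ideal.mul_mem_right _ _ hc)
  have hF0 : GrLC.endDeg (F.Hgr m (N - N)) = (((0 : ℤ) : WithTop ℤ) : WithBot (WithTop ℤ)) := by
    rw [Nat.sub_self]
    refine le_antisymm ((endDeg_le_coe_iff _ _).2 fun g hg => (van_iff m F).1 ((van_zero_iff m).2 fun z _ hz => ?_)) ?_
    · obtain ⟨x, hx, rfl⟩ := hz
      change Submodule.Quotient.mk x = 0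
      rw [Submodule.Quotient.mk_eq_zero, hmsp]
      exact Ideal.subset_span (Set.mem_iUnion₂.2 ⟨g, hg, hx⟩)
    · refine le_iSup_of_le 0 (le_iSup_of_le (fun h => starLocal_ne_top hm ((Ideal.eq_top_iff_one _).2 ?_)) le_rfl)
      have h1 : π (1 : P) = 0 := (van_zero_iff m).1 ((van_iff m F).2 h) _
        ⟨1, fun c hc => hkill c (by simpa using hc) _⟩ ⟨1, SetLike.one_mem_graded (asub (weightedHomogeneousSubmodule k w)), rfl⟩
      exact (Submodule.Quotient.mk_eq_zero m.toIdeal).1 h1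
  -- the canonical module
  have hnm : m.toIdeal.height = N := by
    have h1 := ringKrullDim_eq_height_starLocal hpos hm
    rw [hdim] at h1
    exact_mod_cast h1.symm
  haveI := hfin
  obtain ⟨g₀, X', f', ψ, hf', hψ⟩ := exists_top_hull hm N hnm I
  obtain ⟨β, hβ⟩ := exists_shift_equiv hf' he
  have hdual := isDual_of_hull hpos h0 hm he
  obtain ⟨a', f, hf, hfdeg⟩ := exists_free_of_hom_equiv (𝒜 := asub (weightedHomogeneousSubmodule k w)) (𝒞 := 𝒞) hpos h0 hmsp hdual (φ.trans (ψ.trans β))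
  have ha' := endDeg_of_free I hpos hdual φ hφ f hf hfdeg
  replace hend := hF0.symm.trans hend
  rw [ha'] at hend
  have h2 : (0 : ℤ) = -a' + ∑ i, w i := by exact_mod_cast hend
  exact ⟨f, hf, (show a' = ∑ i, w i by omega) ▸ hfdeg⟩

end Groth.L12.GrLCLib
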