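import Groth.Agent.L12.GrLCPolyCanon

/-!
# The `a`-invariant of a weighted polynomial ring
-/

set_option autoImplicit false

universe u

open DirectSum MvPolynomial
open scoped Groth.L12.GrLCLib.Asub

attribute [local instance] MvPolynomial.weightedGradedAlgebra

namespace Groth.L12.GrLCLib

theorem endDeg_poly (k : Type u) [Field k] (N : ℕ) (w : Fin N → ℤ) (hw : ∀ i, 0 < w i)
    (m : HomogeneousIdeal (asub (weightedHomogeneousSubmodule k w)))
    (hm : GrLC.IsStarLocal (asub (weightedHomogeneousSubmodule k w)) m)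
    (hmsp : m.toIdeal = Ideal.span (⋃ n ∈ Set.Ioi (0 : ℤ), (weightedHomogeneousSubmodule k w n : Set (MvPolynomial (Fin N) k))))
    (I : GrLC.StarInjRes (asub (weightedHomogeneousSubmodule k w)) (asub (weightedHomogeneousSubmodule k w))) :
    GrLC.endDeg (I.Hgr m N) = (((-((Finset.univ : Finset (Fin N)).sum w) : ℤ) : WithTop ℤ) : WithBot (WithTop ℤ)) := by
  classical
  let P := MvPolynomial (Fin N) k
  haveI : LocCoh.IsGorensteinRing P := isGorensteinRing_mvPolynomial k (Fin N)
  haveI : LocCoh.IsCohenMacaulayRing P :=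
    { isCohenMacaulayLocalRing_localization := fun p _ => by
        haveI := LocCoh.IsGorensteinRing.isGorensteinLocalRing_localization (A := P) p
        exact Groth.Agent.S0341.result _ }
  have hwnn : ∀ d : Fin N →₀ ℕ, 0 ≤ Finsupp.weight w d := fun d => by
    rw [Finsupp.weight_apply]
    exact Finset.sum_nonneg fun i _ => nsmul_nonneg (hw i).le _
  have hpos : ∀ g : ℤ, g < 0 → (asub (weightedHomogeneousSubmodule k w)) g = ⊥ := fun g hg => (AddSubgroup.eq_bot_iff_forall _).2 fun p hp => by
    ext d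
    by_contra h
    have h1 : Finsupp.weight w d = g := hp (by simpa using h)
    have := hwnn d
    omega
  have hzero : ∀ d : Fin N →₀ ℕ, Finsupp.weight w d = 0 → d = 0 := fun d hd => by
    ext i
    rw [Finsupp.weight_apply, Finsupp.sum_fintype _ _ (by simp)] at hd
    have h1 := (Finset.sum_eq_zero_iff_of_nonneg (fun i _ => nsmul_nonneg (hw i).le _)).1 hd i (Finset.mem_univ i)
    have := hw i
    rw [nsmul_eq_mul] at h1
    rcases mul_eq_zero.1 h1 with h2 | h2
    · simpa using h2
    · omega
  have hC0 : ∀ p ∈ (asub (weightedHomogeneousSubmodule k w)) 0, ∃ c : k, MvPolynomial.C c = p := fun p hp => ⟨coeff 0 p, by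
    ext d
    rw [coeff_C]
    by_cases hd : 0 = d
    · subst hd; simp
    · rw [if_neg hd]
      by_contra h
      exact hd (hzero d (hp (Ne.symm h))).symm⟩
  have hCmem : ∀ c : k, (MvPolynomial.C c : P) ∈ (asub (weightedHomogeneousSubmodule k w)) 0 := fun c => isWeightedHomogeneous_C w c
  have h0 : IsField (GrLC.deg0 (asub (weightedHomogeneousSubmodule k w))) := by
    refine ⟨⟨0, 1, fun h => zero_ne_one (congrArg Subtype.val h)⟩, mul_comm, fun {a} ha => ?_⟩
    obtain ⟨c, hc⟩ := hC0 a.1 a.2
    have hc0 : c ≠ 0 := fun h => ha (Subtype.ext (by rw [← hc, h, map_zero]; rfl))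
    exact ⟨⟨MvPolynomial.C c⁻¹, hCmem _⟩, Subtype.ext (by change a.1 * MvPolynomial.C c⁻¹ = 1; rw [← hc, ← map_mul, mul_inv_cancel₀ hc0, map_one])⟩
  have hXmem : ∀ i, (X i : P) ∈ (asub (weightedHomogeneousSubmodule k w)) (w i) := fun i => isWeightedHomogeneous_X k w i
  have hspan : m.toIdeal = Ideal.span (Set.range (X : Fin N → P)) := by
    rw [hmsp]
    refine le_antisymm (Ideal.span_le.2 fun p hp => ?_) (Ideal.span_mono ?_)
    · obtain ⟨g, hg, hpg⟩ := Set.mem_iUnion₂.1 hp
      rw [SetLike.mem_coe, ← Set.image_univ, mem_ideal_span_X_image]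
      intro d hd
      by_contra hcon
      push Not at hcon
      have h1 : d = 0 := Finsupp.ext fun i => hcon i trivial
      subst h1
      have h2 : Finsupp.weight w (0 : Fin N →₀ ℕ) = g := hpg (mem_support_iff.1 hd)
      rw [map_zero] at h2
      exact absurd (show (0 : ℤ) < g from hg) (by omega)
    · rintro _ ⟨i, rfl⟩
      exact Set.mem_iUnion₂.2 ⟨w i, hw i, isWeightedHomogeneous_X k w i⟩
  have hdim : ringKrullDim P = N := by
    rw [MvPolynomial.ringKrullDim_of_isNoetherianRing, ringKrullDim_eq_zero_of_field]; simp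
  -- `a = -∑ w` through the regular sequence of variables
  let Q := quoG (asub (weightedHomogeneousSubmodule k w)) (asub (weightedHomogeneousSubmodule k w)) m.toIdeal m.isHomogeneous
  let π : P →ₗ[P] Q.carrier := Submodule.mkQ m.toIdeal
  have hπs : Function.Surjective π := Submodule.mkQ_surjective _
  have hπk : LinearMap.ker π = m.toIdeal := Submodule.ker_mkQ _
  obtain ⟨F⟩ := nonempty_starInjRes (asub (weightedHomogeneousSubmodule k w)) Q.gr
  have hreg : RingTheory.Sequence.IsWeaklyRegular P (List.ofFn (X : Fin N → P)) := by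
    have h := Groth.L12.GrSyzLib.isWeaklyRegular_X_quot (k := k) (List.finRange N) (∅ : Set (Fin N))
      (List.nodup_finRange _) (fun _ _ h => h)
    rw [List.ofFn_eq_map]
    exact ((Submodule.quotEquivOfEqBot _ (by simp) : (P ⧸ Ideal.span ((X (R := k)) '' (∅ : Set (Fin N)))) ≃ₗ[P] P).isWeaklyRegular_congr _).1 h
  have hend := endDeg_regSeq_eq m N P (asub (weightedHomogeneousSubmodule k w)) (X : Fin N → P) w hXmem
    (fun i => hspan ▸ Ideal.subset_span ⟨i, rfl⟩) (fun i => (hw i).le) hreg N le_rfl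
    (fun i hi g => van_below_dim hpos hm hdim hi g) Q.carrier Q.gr π
    (fun g x hx => ⟨x, hx, rfl⟩) hπs
    (by rw [hπk, hspan, smul_eq_mul, Ideal.mul_top]) I F
  have hkill : ∀ c ∈ m.toIdeal, ∀ x : Q.carrier, c • x = 0 := fun c hc x => by
    obtain ⟨x, rfl⟩ := hπs x
    rw [← map_smul]
    exact (Submodule.Quotient.mk_eq_zero _).2 (Ideal.mul_mem_right _ _ hc)
  have hF0 : GrLC.endDeg (F.Hgr m (N - N)) = (((0 : ℤ) : WithTop ℤ) : WithBot (WithTop ℤ)) := by
    rw [Nat.sub_self]
    refine le_antisymm ((endDeg_le_coe_iff _ _).2 fun g hg => (van_iff m F).1 ((van_zero_iff m).2 fun z _ hz => ?_)) ?_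
    · obtain ⟨x, hx, rfl⟩ := hz
      change Submodule.Quotient.mk x = 0
      rw [Submodule.Quotient.mk_eq_zero, hmsp]
      exact Ideal.subset_span (Set.mem_iUnion₂.2 ⟨g, hg, hx⟩)
    · refine le_iSup_of_le 0 (le_iSup_of_le (fun h => starLocal_ne_top hm ((Ideal.eq_top_iff_one _).2 ?_)) le_rfl)
      have h1 : π (1 : P) = 0 := (van_zero_iff m).1 ((van_iff m F).2 h) _
        ⟨1, fun c hc => hkill c (by simpa using hc) _⟩ ⟨1, SetLike.one_mem_graded (asub (weightedHomogeneousSubmodule k w)), rfl⟩
      exact (Submodule.Quotient.mk_eq_zero m.toIdeal).1 h1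
  replace hend := hF0.symm.trans hend
  generalize GrLC.endDeg (I.Hgr m N) = e at hend ⊢
  induction e using WithBot.recBotCoe with
  | bot => simp at hend
  | coe e =>
    induction e using WithTop.recTopCoe with
    | top =>
      exfalso
      rw [← WithBot.coe_add, WithBot.coe_inj] at hend
      exact WithTop.coe_ne_top (hend.trans (WithTop.top_add _))
    | coe e =>
      have h2 : (0 : ℤ) = e + ∑ i, w i := by exact_mod_cast hend
      exact congrArg (fun v : ℤ => ((v : WithTop ℤ) : WithBot (WithTop ℤ))) (show e = -∑ i, w i by omega)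

end Groth.L12.GrLCLib
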