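import Groth.Agent.L12.GrLCInj
import Mathlib.RingTheory.Length
import Mathlib.Tactic
import Mathlib.Order.PiLex
import Mathlib.Algebra.Order.Group.PiLex

/-!
# The socle of a localised graded module and decompositions of *injective envelopes
-/

set_option autoImplicit false

universe u

open DirectSum

namespace Groth.L12.GrLCLib

lemma exists_lex_embedding (ι : Type) [AddCommGroup ι] [Module.Free ℤ ι] [Module.Finite ℤ ι] :
    ∃ (N : ℕ) (g : ι →+ Lex (Fin N → ℤ)), Function.Injective g := by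
  classical
  let bas := Module.Free.chooseBasis ℤ ι
  letI : Fintype (Module.Free.ChooseBasisIndex ℤ ι) := inferInstance
  refine ⟨Fintype.card (Module.Free.ChooseBasisIndex ℤ ι),
    AddMonoidHom.mk' (fun x => toLex fun i => bas.repr x ((Fintype.equivFin _).symm i)) fun x y => ?_, fun x y h => ?_⟩
  · rw [← toLex_add]
    congr 1
    funext i
    simp
  · refine bas.repr.injective (Finsupp.ext fun l => ?_)
    have := congrFun (toLex.injective h) (Fintype.equivFin _ l)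
    simpa using this

variable {ι : Type} [AddCommGroup ι] [DecidableEq ι]
variable {R : Type u} [CommRing R] {𝒜 : ι → AddSubgroup R} [GradedRing 𝒜]
variable {E : Type u} [AddCommGroup E] [Module R E] {τ : Type u} [SetLike τ E] [AddSubgroupClass τ E] {𝓔 : ι → τ}
  [DirectSum.Decomposition 𝓔] [SetLike.GradedSMul 𝒜 𝓔]

/-- `J` is an essential extension, inside a graded module, of a shift of `R/P` through `f` -/
structure IsPiece (P : HomogeneousIdeal 𝒜) (g : ι) (J : Submodule R E) (f : (R ⧸ P.toIdeal) →ₗ[R] E)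
    (𝓔 : ι → τ) [DirectSum.Decomposition 𝓔] : Prop where
  isHomogeneous : J.IsHomogeneous 𝓔
  injective : Function.Injective f
  grHom : GrLC.IsGrHomDeg (GrLC.quotGr 𝒜 P) 𝓔 f g
  range_le : LinearMap.range f ≤ J
  essential : ∀ Q : Submodule R E, Q.IsHomogeneous 𝓔 → Q ≤ J → Q ≠ ⊥ → Q ⊓ LinearMap.range f ≠ ⊥

namespace IsPiece

variable {P : HomogeneousIdeal 𝒜} {g : ι} {J : Submodule R E} {f : (R ⧸ P.toIdeal) →ₗ[R] E}

lemma f_one_mem (h : IsPiece P g J f 𝓔) : f (Ideal.Quotient.mk _ 1) ∈ 𝓔 g := by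
  have := h.grHom 0 (Ideal.Quotient.mk _ 1) ⟨1, SetLike.one_mem_graded 𝒜, rfl⟩
  rwa [zero_add] at this

omit [SetLike.GradedSMul 𝒜 𝓔] in
lemma f_mk (f : (R ⧸ P.toIdeal) →ₗ[R] E) (x : R) :
    f (Ideal.Quotient.mk _ x) = x • f (Ideal.Quotient.mk _ 1) := by
  rw [← f.map_smul, show x • Ideal.Quotient.mk P.toIdeal 1 = Ideal.Quotient.mk P.toIdeal (x * 1) from rfl, mul_one]

lemma smul_f_one (h : IsPiece P g J f 𝓔) (c : R) : c • f (Ideal.Quotient.mk _ 1) = 0 ↔ c ∈ P.toIdeal := by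
  rw [← f_mk]
  exact ⟨fun h0 => Ideal.Quotient.eq_zero_iff_mem.1 (h.injective (h0.trans (map_zero f).symm)),
    fun h0 => by rw [Ideal.Quotient.eq_zero_iff_mem.2 h0, map_zero]⟩

lemma exists_smul_eq (h : IsPiece P g J f 𝓔) {d : ι} {z : E} (hz : z ∈ 𝓔 d) (hzJ : z ∈ J) (hz0 : z ≠ 0) :
    ∃ c x : R, c • z = x • f (Ideal.Quotient.mk _ 1) ∧ c • z ≠ 0 := by
  obtain ⟨y, ⟨hy, q, hq⟩, hy0⟩ := (Submodule.ne_bot_iff _).1 (h.essential (R ∙ z)
    (span_isHomogeneous 𝒜 𝓔 fun w hw => ⟨d, by rw [Set.mem_singleton_iff] at hw; exact hw ▸ hz⟩)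
    ((Submodule.span_singleton_le_iff_mem _ _).2 hzJ) (by rwa [ne_eq, Submodule.span_singleton_eq_bot]))
  obtain ⟨c, rfl⟩ := Submodule.mem_span_singleton.1 hy
  obtain ⟨x, rfl⟩ := Ideal.Quotient.mk_surjective q
  exact ⟨c, x, by rw [← hq, f_mk], hy0⟩

/-- homogeneous elements outside the prime act injectively -/
lemma smul_homog_ne_zero (h : IsPiece P g J f 𝓔) (hP : P.toIdeal.IsPrime) {a : ι} {r : R} (hr : r ∈ 𝒜 a)
    (hrP : r ∉ P.toIdeal) {z : E} (hzJ : z ∈ J) (hz : r • z = 0) : z = 0 := by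
  obtain ⟨s, hs, -⟩ := exists_sum_cp 𝓔 z
  rw [← hs]
  refine Finset.sum_eq_zero fun d _ => ?_
  by_contra hd
  obtain ⟨c, x, hcx, hc0⟩ := h.exists_smul_eq (cp_mem 𝓔 d z) (h.isHomogeneous d hzJ) hd
  have h1 : r • cp 𝓔 d z = 0 := by rw [← cp_smul_hom 𝒜 𝓔 hr, hz, map_zero]
  have h2 : (r * x) • f (Ideal.Quotient.mk _ 1) = 0 := by rw [mul_smul, ← hcx, smul_comm, h1, smul_zero]
  rw [h.smul_f_one] at h2
  exact hc0 (by rw [hcx, h.smul_f_one]; exact (hP.mem_or_mem h2).resolve_left hrP)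

/-- the prime acts locally nilpotently -/
lemma exists_pow_smul_eq_zero [IsNoetherianRing R] (h : IsPiece P g J f 𝓔) {z : E} (hzJ : z ∈ J) :
    ∃ N : ℕ, ∀ c ∈ P.toIdeal ^ N, c • z = 0 := by
  obtain ⟨s, hs, -⟩ := exists_sum_cp 𝓔 z
  suffices H : ∀ d, ∃ N : ℕ, ∀ c ∈ P.toIdeal ^ N, c • cp 𝓔 d z = 0 by
    choose N hN using H
    refine ⟨s.sup N, fun c hc => ?_⟩
    rw [← hs, Finset.smul_sum]
    exact Finset.sum_eq_zero fun d hd => hN d c (Ideal.pow_le_pow_right (Finset.le_sup hd) hc)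
  intro d
  have hnil : P.toIdeal ≤ (Submodule.annihilator (R ∙ cp 𝓔 d z)).radical := fun c hc => by
    obtain ⟨t, ht, -⟩ := exists_sum_cp 𝒜 c
    rw [← ht]
    refine Ideal.sum_mem _ fun b _ => ?_
    have hrp : cp 𝒜 b c ∈ P.toIdeal := P.isHomogeneous b hc
    generalize hgr : cp 𝒜 b c = r at hrp
    have hr : r ∈ 𝒜 b := hgr ▸ cp_mem 𝒜 b c
    let A : ℕ →o Ideal R := ⟨fun n => Submodule.annihilator (R ∙ (r ^ n • cp 𝓔 d z)), fun n m hnm => by
      intro a ha
      rw [Submodule.mem_annihilator_span_singleton] at ha ⊢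
      obtain ⟨j, rfl⟩ := Nat.exists_eq_add_of_le hnm
      rw [pow_add, mul_comm, mul_smul, smul_comm, ha, smul_zero]⟩
    obtain ⟨n, hn⟩ := monotone_stabilizes_iff_noetherian.2 inferInstance A
    refine ⟨n, ?_⟩
    rw [Submodule.mem_annihilator_span_singleton]
    by_contra hw
    obtain ⟨a, x, hax, ha0⟩ := h.exists_smul_eq (smul_mem' 𝒜 𝓔 (SetLike.pow_mem_graded n hr) (cp_mem 𝓔 d z))
      (J.smul_mem _ (h.isHomogeneous d hzJ)) hw
    have h1 : r • (a • (r ^ n • cp 𝓔 d z)) = 0 := by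
      rw [hax, ← mul_smul, h.smul_f_one]
      exact Ideal.mul_mem_right _ _ hrp
    have h2 : a ∈ A (n + 1) := by
      change a ∈ Submodule.annihilator (R ∙ (r ^ (n + 1) • cp 𝓔 d z))
      rw [Submodule.mem_annihilator_span_singleton, pow_succ', mul_smul, smul_comm, h1]
    rw [← hn (n + 1) n.le_succ] at h2
    exact ha0 ((Submodule.mem_annihilator_span_singleton _ _).1 h2)
  obtain ⟨N, hN⟩ := Ideal.exists_pow_le_of_le_radical_of_fg hnil (IsNoetherian.noetherian _)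
  exact ⟨N, fun c hc => (Submodule.mem_annihilator_span_singleton _ _).1 (hN hc)⟩

/-- elements outside the prime act injectively -/
lemma smul_ne_zero_of_not_mem [IsNoetherianRing R] [Module.Free ℤ ι] [Module.Finite ℤ ι] (h : IsPiece P g J f 𝓔)
    (hP : P.toIdeal.IsPrime) {r : R} (hrP : r ∉ P.toIdeal) {z : E} (hzJ : z ∈ J) (hz : r • z = 0) : z = 0 := by
  classical
  obtain ⟨N, hN⟩ := h.exists_pow_smul_eq_zero hzJ
  induction N generalizing z with
  | zero => simpa using hN 1 (by simp)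
  | succ n ih =>
    refine ih hzJ hz fun c hc => ?_
    -- `c • z` is killed by `P`
    set y := c • z with hy
    have hyJ : y ∈ J := J.smul_mem c hzJ
    have hy0 : r • y = 0 := by rw [hy, smul_comm, hz, smul_zero]
    have hyP : ∀ a ∈ P.toIdeal, a • y = 0 := fun a ha => by
      rw [hy, ← mul_smul]
      exact hN _ (by rw [pow_succ']; exact Ideal.mul_mem_mul ha hc)
    clear_value y
    clear hy hz hzJ hN hc ih c
    by_contra hyne
    obtain ⟨M, e, he⟩ := exists_lex_embedding ι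
    obtain ⟨sy, hsy, hsy'⟩ := exists_sum_cp 𝓔 y
    obtain ⟨sr, hsr, -⟩ := exists_sum_cp 𝒜 r
    let Sy := sy.filter fun d => cp 𝓔 d y ≠ 0
    let Sr := sr.filter fun d => cp 𝒜 d r ∉ P.toIdeal
    have hSy : Sy.Nonempty := by
      by_contra hemp
      rw [Finset.not_nonempty_iff_eq_empty, Finset.filter_eq_empty_iff] at hemp
      exact hyne (hsy ▸ Finset.sum_eq_zero fun d hd => not_not.1 (hemp hd))
    have hSr : Sr.Nonempty := by
      by_contra hemp
      rw [Finset.not_nonempty_iff_eq_empty, Finset.filter_eq_empty_iff] at hemp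
      exact hrP (hsr ▸ Ideal.sum_mem _ fun d hd => not_not.1 (hemp hd))
    obtain ⟨B, hB, hBmax⟩ := Sy.exists_max_image e hSy
    obtain ⟨A, hA, hAmax⟩ := Sr.exists_max_image e hSr
    obtain ⟨hBs, hB0⟩ := Finset.mem_filter.1 hB
    obtain ⟨hAs, hA0⟩ := Finset.mem_filter.1 hA
    refine hB0 (h.smul_homog_ne_zero hP (cp_mem 𝒜 A r) hA0 (h.isHomogeneous B hyJ) ?_)
    have hsum : cp 𝓔 (A + B) (r • y) = ∑ a ∈ sr, cp 𝒜 a r • cp 𝓔 (A + B - a) y := by
      conv_lhs => rw [← hsr, Finset.sum_smul, map_sum]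
      exact Finset.sum_congr rfl fun a _ => cp_smul_hom' 𝒜 𝓔 (cp_mem 𝒜 a r) _ _
    rw [hy0, map_zero, Finset.sum_eq_single A (fun a ha hne => ?_) (fun hA' => absurd hAs hA'), add_sub_cancel_left] at hsum
    · exact hsum.symm
    · by_cases haP : cp 𝒜 a r ∈ P.toIdeal
      · rw [← cp_smul_hom 𝒜 𝓔 (cp_mem 𝒜 a r), hyP _ haP, map_zero]
      · by_contra hne0
        have hd : cp 𝓔 (A + B - a) y ≠ 0 := fun h0 => hne0 (by rw [h0, smul_zero])
        have h1 := hAmax a (Finset.mem_filter.2 ⟨ha, haP⟩)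
        have h2 := hBmax (A + B - a) (Finset.mem_filter.2 ⟨hsy' _ hd, hd⟩)
        rw [map_sub, map_add] at h2
        have h3 : e a < e A := lt_of_le_of_ne h1 fun heq => hne (he heq)
        rw [sub_le_iff_le_add, add_comm (e B)] at h2
        exact absurd (add_le_add_iff_right (e B) |>.1 h2) (not_le.2 h3)

end IsPiece

end Groth.L12.GrLCLib
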