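import Groth.Agent.L12.GrLCType
import Groth.Agent.L12.GrLCShift
import Groth.Agent.L12.GrLCCanonH

/-!
# Depth two forces two-dimensional pieces
-/

set_option autoImplicit false

universe u

open DirectSum Pointwise

namespace Groth.L12.GrLCLib

variable {R : Type u} [CommRing R] [IsNoetherianRing R] {𝒜 : ℤ → AddSubgroup R} [GradedRing 𝒜]
variable {m : HomogeneousIdeal 𝒜}
variable {M : Type u} [AddCommGroup M] [Module R M] {ℳ : ℤ → AddSubgroup M} [DirectSum.Decomposition ℳ]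
  [SetLike.GradedSMul 𝒜 ℳ]

/-- depth two passes to a quotient by a regular element -/
theorem gam_quot_eq_bot (F : GrLC.StarInjRes 𝒜 ℳ) (h0 : Subsingleton (F.H m 0)) (h1 : Subsingleton (F.H m 1))
    {e : ℕ} {x : R} (hx : x ∈ 𝒜 (e : ℤ)) (hreg : IsSMulRegular M x) :
    ∀ w : M, (∃ k : ℕ, ∀ c ∈ m.toIdeal ^ k, ∃ v, x • v = c • w) → ∃ v, x • v = w := by
  let P : Submodule R M := LinearMap.range (x • LinearMap.id : M →ₗ[R] M)
  have hPm : ∀ w, w ∈ P ↔ ∃ v, x • v = w := fun w => Iff.rfl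
  have hP : P.IsHomogeneous ℳ := fun i w hw => by
    obtain ⟨v, rfl⟩ := (hPm w).1 hw
    exact (hPm _).2 ⟨cp ℳ (i - e) v, (cp_smul_hom' 𝒜 ℳ hx i v).symm⟩
  let Q := quoG 𝒜 ℳ P hP
  let f : (shG 𝒜 ℳ (-(e : ℤ))).carrier →ₗ[R] M := (x • LinearMap.id : M →ₗ[R] M)
  let g : M →ₗ[R] Q.carrier := P.mkQ
  have hfgr : GrLC.IsGrHom (shG 𝒜 ℳ (-(e : ℤ))).gr ℳ f := fun d v hv => by
    change x • (v : M) ∈ ℳ d
    have h := smul_mem' 𝒜 ℳ hx (show (v : M) ∈ ℳ (d + -(e : ℤ)) from hv)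
    rwa [show (e : ℤ) + (d + -(e : ℤ)) = d from by ring] at h
  have hggr : GrLC.IsGrHom ℳ Q.gr g := fun d v hv => ⟨v, hv, rfl⟩
  obtain ⟨EQ⟩ := nonempty_starInjRes 𝒜 Q.gr
  obtain ⟨gm, hgm⟩ := exists_map F EQ g hggr
  have hfm := isMap_smul' F (y := x) (d := (e : ℤ)) hx
  obtain ⟨δ, -, -, hx2, -, -⟩ := exists_les (shiftRes F (-(e : ℤ))) F EQ m (f := f) hreg
    (Submodule.mkQ_surjective _) (Submodule.ker_mkQ _).symm hfgr hggr hfm hgm
  haveI := h0
  haveI : Subsingleton ((shiftRes F (-(e : ℤ))).H m (0 + 1)) := (unshift F (-(e : ℤ)) m 1).toEquiv.subsingleton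
  haveI hQ : Subsingleton (EQ.H m 0) := subsingleton_of_forall_eq 0 fun z => by
    obtain ⟨w, rfl⟩ := (hx2 0 z).1 (Subsingleton.elim _ _)
    rw [Subsingleton.elim w 0, map_zero]
  obtain ⟨eQ, -⟩ := exists_H0_equiv m EQ
  rintro w ⟨k, hk⟩
  have hgw : g w ∈ GrLC.gam m.toIdeal Q.carrier := ⟨k, fun c hc => by
    rw [← map_smul]
    exact (Submodule.Quotient.mk_eq_zero P).2 ((hPm _).2 (hk c hc))⟩
  have h2 : g w = 0 := congrArg Subtype.val (eQ.injective (Subsingleton.elim (eQ ⟨g w, hgw⟩) (eQ 0)))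
  exact (hPm w).1 ((Submodule.Quotient.mk_eq_zero P).1 h2)

/-- a homogeneous element of a depth-two module generates at least two dimensions in every higher degree -/
theorem two_le_finrank_comp [Module.Finite R M] (hpos : ∀ n : ℤ, n < 0 → 𝒜 n = ⊥) (h0 : IsField (GrLC.deg0 𝒜))
    (hmsp : m.toIdeal = Ideal.span (⋃ n ∈ Set.Ioi (0 : ℤ), (𝒜 n : Set R)))
    (hstd : Ideal.span (⋃ n ∈ Set.Ioi (0 : ℤ), (𝒜 n : Set R)) = Ideal.span ((𝒜 1 : AddSubgroup R) : Set R))
    (F : GrLC.StarInjRes 𝒜 ℳ) (hF0 : Subsingleton (F.H m 0)) (hF1 : Subsingleton (F.H m 1))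
    {d j : ℤ} (hj : d < j) {c : M} (hc : c ∈ ℳ d) (hc0 : c ≠ 0) :
    2 ≤ Module.finrank (GrLC.deg0 𝒜) (GrLC.comp 𝒜 ℳ j) := by
  classical
  letI : Field (GrLC.deg0 𝒜) := h0.toField
  haveI := isNoetherian_comp (𝒜 := 𝒜) ℳ j
  haveI : Module.Finite (GrLC.deg0 𝒜) (GrLC.comp 𝒜 ℳ j) := Module.IsNoetherian.finite _ _
  have hgam : GrLC.gam m.toIdeal M = ⊥ := by
    obtain ⟨e, -⟩ := exists_H0_equiv m F
    haveI := hF0
    exact (Submodule.eq_bot_iff _).2 fun v hv => congrArg Subtype.val (e.injective (Subsingleton.elim (e ⟨v, hv⟩) (e 0)))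
  -- a piece kills `c` only if `c = 0`
  have hnz : ∀ t : ℤ, 1 ≤ t → ∀ v : M, (∀ r ∈ 𝒜 t, r • v = 0) → v = 0 := fun t ht v hv => by
    refine (Submodule.mem_bot R).1 (hgam ▸ ⟨t.toNat, fun r hr => ?_⟩)
    obtain ⟨s, hs, -⟩ := exists_sum_cp 𝒜 r
    rw [← hs, Finset.sum_smul]
    refine Finset.sum_eq_zero fun i _ => ?_
    by_cases hi : i < t
    · have h1 : cp 𝒜 i r = 0 := cp_eq_zero_of_mem_pow hpos hmsp t.toNat r hr i (by omega)
      rw [h1, zero_smul]
    · exact smul_eq_zero_of_standard hpos hstd v t ht hv i (not_lt.1 hi) _ (cp_mem 𝒜 i r)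
  by_contra hlt
  have hle : Module.finrank (GrLC.deg0 𝒜) (GrLC.comp 𝒜 ℳ j) ≤ 1 := by omega
  -- the multiples of `c` stay one-dimensional
  have hG : ∀ k : ℕ, ∃ r0 ∈ 𝒜 (j - d + k), r0 • c ≠ 0 ∧ ∀ r ∈ 𝒜 (j - d + k), ∃ l ∈ 𝒜 0, r • c = l • (r0 • c) := by
    intro k
    induction k with
    | zero =>
      rw [Nat.cast_zero, add_zero]
      obtain ⟨r0, hr0, hne⟩ : ∃ r0 ∈ 𝒜 (j - d), r0 • c ≠ 0 := by
        by_contra hcon
        push Not at hcon
        exact hc0 (hnz _ (by omega) c hcon)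
      have hmem : ∀ r ∈ 𝒜 (j - d), r • c ∈ ℳ j := fun r hr => by
        have := smul_mem' 𝒜 ℳ hr hc; rwa [sub_add_cancel] at this
      refine ⟨r0, hr0, hne, fun r hr => ?_⟩
      obtain ⟨v, hv⟩ := finrank_le_one_iff.1 hle
      obtain ⟨a, ha⟩ := hv ⟨r0 • c, hmem r0 hr0⟩
      obtain ⟨b, hb⟩ := hv ⟨r • c, hmem r hr⟩
      obtain ⟨ai, hai⟩ := h0.mul_inv_cancel (a := a) (fun e => hne (by
        have := congrArg Subtype.val ha
        rw [e, zero_smul] at this
        exact this.symm))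
      refine ⟨((b * ai : GrLC.deg0 𝒜) : R), (b * ai).2, ?_⟩
      have h1 : (b * ai) • (⟨r0 • c, hmem r0 hr0⟩ : GrLC.comp 𝒜 ℳ j) = ⟨r • c, hmem r hr⟩ := by
        rw [← ha, smul_smul, mul_assoc, mul_comm ai a, hai, mul_one, hb]
      exact (congrArg Subtype.val h1).symm
    | succ k ih =>
      obtain ⟨r0, hr0, hne, hgen⟩ := ih
      rw [show j - d + ((k + 1 : ℕ) : ℤ) = j - d + k + 1 by push_cast; ring]
      obtain ⟨b', hb', y', hy', hne'⟩ : ∃ b' ∈ 𝒜 (j - d + k - 1), ∃ y' ∈ 𝒜 1, (y' * b') • c ≠ 0 := by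
        by_contra hcon
        push Not at hcon
        refine hne ?_
        let K : AddSubgroup R :=
          { carrier := {r | r • c = 0}
            add_mem' := fun {a b} ha hb => by simp only [Set.mem_setOf_eq] at *; rw [add_smul, ha, hb, add_zero]
            zero_mem' := zero_smul R c
            neg_mem' := fun {a} ha => by simp only [Set.mem_setOf_eq] at *; rw [neg_smul, ha, neg_zero] }
        exact mem_of_standard hstd (j - d + k) (by omega) K (fun b hb y hy => hcon b hb y hy) r0 hr0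
      obtain ⟨μ, hμ, hμe⟩ := hgen (y' * b') (by
        have := SetLike.mul_mem_graded hy' hb'; rwa [show 1 + (j - d + k - 1) = j - d + k by ring] at this)
      obtain ⟨μi, hμi⟩ := h0.mul_inv_cancel (a := (⟨μ, hμ⟩ : GrLC.deg0 𝒜)) (fun e => hne' (by
        rw [hμe, show μ = 0 from congrArg Subtype.val e, zero_smul]))
      have hμi' : μ * (μi : R) = 1 := congrArg Subtype.val hμi
      let K : AddSubgroup R :=
        { carrier := {v | ∃ l ∈ 𝒜 0, v • c = l • ((y' * r0) • c)}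
          add_mem' := by
            rintro a b ⟨l, hl, ha⟩ ⟨l', hl', hb⟩
            exact ⟨l + l', add_mem hl hl', by rw [add_smul, ha, hb, ← add_smul]⟩
          zero_mem' := ⟨0, zero_mem _, by rw [zero_smul, zero_smul]⟩
          neg_mem' := by
            rintro a ⟨l, hl, ha⟩
            exact ⟨-l, neg_mem hl, by rw [neg_smul, ha, neg_smul]⟩ }
      have hK := mem_of_standard hstd (j - d + k + 1) (by omega) K fun b hb y hy => by
        rw [add_sub_cancel_right] at hb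
        obtain ⟨l, hl, hle'⟩ := hgen b hb
        obtain ⟨ν, hν, hνe⟩ := hgen (y * b') (by
          have := SetLike.mul_mem_graded hy hb'; rwa [show 1 + (j - d + k - 1) = j - d + k by ring] at this)
        refine ⟨l * (μi : R) * ν, ?_, ?_⟩
        · have h1 := SetLike.mul_mem_graded (SetLike.mul_mem_graded hl μi.2) hν
          rwa [add_zero, add_zero] at h1
        · calc (y * b) • c = y • (b • c) := mul_smul _ _ _
            _ = (l * (μ * (μi : R)) * y) • (r0 • c) := by rw [hle', hμi', ← mul_smul]; ring_nf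
            _ = (l * (μi : R) * y) • ((y' * b') • c) := by rw [hμe]; simp only [← mul_smul]; ring_nf
            _ = (l * (μi : R) * y') • ((y * b') • c) := by simp only [← mul_smul]; ring_nf
            _ = (l * (μi : R) * ν) • ((y' * r0) • c) := by rw [hνe]; simp only [← mul_smul]; ring_nf
      refine ⟨y' * r0, by
        have := SetLike.mul_mem_graded hy' hr0; rwa [show 1 + (j - d + k) = j - d + k + 1 by ring] at this, ?_, hK⟩
      intro hz
      refine hc0 (hnz (j - d + k + 1) (by omega) c fun r hr => ?_)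
      obtain ⟨l, -, hle'⟩ := hK r hr
      rw [hle', hz, smul_zero]
  -- two regular elements
  obtain ⟨e, x, he, hx, hreg⟩ := exists_homog_regular_pos (M := M) m hmsp hgam
  have hquot := gam_quot_eq_bot F hF0 hF1 hx hreg
  let P : Submodule R M := LinearMap.range (x • LinearMap.id : M →ₗ[R] M)
  have hPm : ∀ w, w ∈ P ↔ ∃ v, x • v = w := fun w => Iff.rfl
  obtain ⟨f, z, hf, hz, hzreg⟩ := exists_homog_regular_pos (M := M ⧸ P) m hmsp ((Submodule.eq_bot_iff _).2 fun q hq => by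
    obtain ⟨w, rfl⟩ := Submodule.Quotient.mk_surjective P q
    obtain ⟨k, hk⟩ := hq
    exact (Submodule.Quotient.mk_eq_zero P).2 ((hPm w).2 (hquot w ⟨k, fun r hr => (hPm _).1
      ((Submodule.Quotient.mk_eq_zero P).1 (by rw [Submodule.Quotient.mk_smul]; exact hk r hr))⟩)))
  set t := (j - d).toNat with ht
  obtain ⟨r0, hr0, -, hgen⟩ := hG (e * f * t - t)
  have hdeg : j - d + ((e * f * t - t : ℕ) : ℤ) = (e : ℤ) * f * t := by
    have h1 : t ≤ e * f * t := Nat.le_mul_of_pos_left t (Nat.mul_pos he hf)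
    rw [Nat.cast_sub h1]
    push_cast
    have : (t : ℤ) = j - d := Int.toNat_of_nonneg (by omega)
    omega
  rw [hdeg] at hr0 hgen
  have hxp : x ^ (f * t) ∈ 𝒜 ((e : ℤ) * f * t) := by
    have := SetLike.pow_mem_graded (f * t) hx
    rwa [nsmul_eq_mul, show ((f * t : ℕ) : ℤ) * (e : ℤ) = (e : ℤ) * f * t by push_cast; ring] at this
  have hzp : z ^ (e * t) ∈ 𝒜 ((e : ℤ) * f * t) := by
    have := SetLike.pow_mem_graded (e * t) hz
    rwa [nsmul_eq_mul, show ((e * t : ℕ) : ℤ) * (f : ℤ) = (e : ℤ) * f * t by push_cast; ring] at this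
  obtain ⟨l1, hl1, hl1e⟩ := hgen _ hxp
  obtain ⟨l2, hl2, hl2e⟩ := hgen _ hzp
  obtain ⟨l1i, hl1i⟩ := h0.mul_inv_cancel (a := (⟨l1, hl1⟩ : GrLC.deg0 𝒜)) (fun h => hc0 ((hreg.pow (f * t)) (by
    change x ^ (f * t) • c = x ^ (f * t) • (0 : M)
    rw [hl1e, show l1 = 0 from congrArg Subtype.val h, zero_smul, smul_zero])))
  have hrel : z ^ (e * t) • c = (l2 * (l1i : R)) • (x ^ (f * t) • c) := by
    rw [hl1e, hl2e, ← mul_smul, ← mul_smul, ← mul_smul]
    congr 1
    rw [show l2 * (l1i : R) * l1 * r0 = l2 * (l1 * (l1i : R)) * r0 by ring,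
      show l1 * (l1i : R) = 1 from congrArg Subtype.val hl1i]
    ring
  -- infinite descent
  have hft : 1 ≤ f * t := Nat.mul_pos hf (by omega)
  have desc : ∀ k : ℕ, ∃ v ∈ ℳ (d - k * e), x ^ k • v = c := by
    intro k
    induction k with
    | zero => exact ⟨c, by simpa using hc, by simp⟩
    | succ k ih =>
      obtain ⟨v, hv, hve⟩ := ih
      have hrv : z ^ (e * t) • v = x • ((l2 * (l1i : R) * x ^ (f * t - 1)) • v) := by
        refine (hreg.pow k) ?_
        change x ^ k • (z ^ (e * t) • v) = x ^ k • (x • ((l2 * (l1i : R) * x ^ (f * t - 1)) • v))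
        rw [smul_comm, hve, hrel, ← hve]
        simp only [← mul_smul]
        congr 1
        obtain ⟨p, hp⟩ : ∃ p, f * t = p + 1 := ⟨f * t - 1, by omega⟩
        rw [hp, Nat.add_sub_cancel]
        ring
      have hvP : v ∈ P := (Submodule.Quotient.mk_eq_zero P).1 ((hzreg.pow (e * t)) (by
        change z ^ (e * t) • Submodule.Quotient.mk v = z ^ (e * t) • (0 : M ⧸ P)
        rw [smul_zero, ← Submodule.Quotient.mk_smul, Submodule.Quotient.mk_eq_zero]
        exact (hPm _).2 ⟨_, hrv.symm⟩))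
      obtain ⟨w, hw⟩ := (hPm v).1 hvP
      refine ⟨cp ℳ (d - ((k + 1 : ℕ) : ℤ) * e) w, cp_mem ℳ _ _, ?_⟩
      have h1 : x • cp ℳ (d - ((k + 1 : ℕ) : ℤ) * e) w = v := by
        rw [← cp_same ℳ hv, ← hw, cp_smul_hom' 𝒜 ℳ hx]
        congr 2
        push_cast
        ring
      rw [pow_succ, mul_smul, h1, hve]
  obtain ⟨lo, hlo⟩ := exists_bddBelow (𝒜 := 𝒜) ℳ hpos
  obtain ⟨v, hv, hve⟩ := desc ((d - lo).toNat + 1)
  refine hc0 ?_
  rw [← hve, hlo _ ?_ v hv, smul_zero]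
  have h1 : (((d - lo).toNat + 1 : ℕ) : ℤ) * 1 ≤ (((d - lo).toNat + 1 : ℕ) : ℤ) * e :=
    mul_le_mul_of_nonneg_left (by exact_mod_cast he) (by positivity)
  omega

end Groth.L12.GrLCLib
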