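import Groth.Agent.L12.GrLCAcyclic
import Groth.Agent.L12.GrLCAinv
import Groth.Agent.L12.GrLCCoarse
import Groth.Agent.L04.LC.Change
import Mathlib.Data.ZMod.Basic

/-!
# Veronese subrings and graded local cohomology
-/

set_option autoImplicit false

universe u

open DirectSum

namespace Groth.L12.GrLCLib

variable {R : Type u} [CommRing R] {𝒜 : ℤ → AddSubgroup R} [GradedRing 𝒜]
variable {R' : Type u} [CommRing R'] {𝒜' : ℤ → AddSubgroup R'} [GradedRing 𝒜'] [Algebra R' R] {q : ℕ}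

variable (𝒜 𝒜' q) in
/-- `R'` is the `q`-th Veronese subring of `R` -/
structure IsVer : Prop where
  pos : 0 < q
  inj : Function.Injective (algebraMap R' R)
  mem : ∀ (j : ℤ) (r : R'), r ∈ 𝒜' j → algebraMap R' R r ∈ 𝒜 (j * q)
  surj : ∀ (j : ℤ) (x : R), x ∈ 𝒜 (j * q) → ∃ r ∈ 𝒜' j, algebraMap R' R r = x

omit [GradedRing 𝒜] [GradedRing 𝒜'] in
theorem isVer_of_map (φ : R' →+* R) (hφ : Function.Injective φ)
    (hdeg : ∀ j : ℤ, (𝒜' j).map (φ : R' →+ R) = 𝒜 (j * q)) (hq : 0 < q) :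
    @IsVer R _ 𝒜 R' _ 𝒜' φ.toAlgebra q :=
  letI := φ.toAlgebra
  { pos := hq
    inj := hφ
    mem := fun j r hr => hdeg j ▸ AddSubgroup.mem_map_of_mem _ hr
    surj := fun j x hx => by
      obtain ⟨r, hr, h⟩ := AddSubgroup.mem_map.1 ((hdeg j).symm ▸ hx)
      exact ⟨r, hr, h⟩ }

variable {X : Type u} [AddCommGroup X] [Module R X] [Module R' X] [IsScalarTower R' R X]
variable (ℳ : ℤ → AddSubgroup X) [DirectSum.Decomposition ℳ] [SetLike.GradedSMul 𝒜 ℳ]

section Sub

variable (h : IsVer 𝒜 𝒜' q)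

/-- the part in degrees divisible by `q` -/
noncomputable def verProj (q : ℕ) : X →+ X := pcp ℳ (Int.castAddHom (ZMod q)) 0

omit [Module R X] [Module R' X] [IsScalarTower R' R X] [SetLike.GradedSMul 𝒜 ℳ] in
lemma verProj_mem {g : ℤ} {x : X} (hx : x ∈ ℳ g) : verProj ℳ q x = if (q : ℤ) ∣ g then x else 0 := by
  rw [verProj, pcp_mem ℳ _ hx]
  exact if_congr (ZMod.intCast_zmod_eq_zero_iff_dvd g q) rfl rfl

omit [Module R X] [Module R' X] [IsScalarTower R' R X] [SetLike.GradedSMul 𝒜 ℳ] in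
lemma cp_verProj (g : ℤ) (x : X) : cp ℳ g (verProj ℳ q x) = if (q : ℤ) ∣ g then cp ℳ g x else 0 := by
  induction x using induction_on_hom ℳ with
  | h0 => simp
  | hh d y hy =>
    rw [verProj_mem ℳ hy]
    by_cases hdg : d = g
    · subst hdg; split_ifs <;> simp
    · rw [cp_ne ℳ hy hdg]; split_ifs <;> simp [cp_ne ℳ hy hdg]
  | ha a b ha hb => rw [map_add, map_add, map_add, ha, hb]; split_ifs <;> simp

include h

lemma smul_mem_ver (r : R') {d : ℤ} {x : X} (hd : r ∈ 𝒜' d) {g : ℤ} (hx : x ∈ ℳ g) : r • x ∈ ℳ (d * q + g) := by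
  rw [← algebraMap_smul R r x]
  exact smul_mem' 𝒜 ℳ (h.mem d r hd) hx

lemma verProj_smul (r : R') (x : X) : verProj ℳ q (r • x) = r • verProj ℳ q x := by
  induction r using induction_on_hom 𝒜' with
  | h0 => simp
  | ha a b ha hb => simp only [add_smul, map_add, ha, hb]
  | hh d c hc =>
    induction x using induction_on_hom ℳ with
    | h0 => simp
    | ha a b ha hb => simp only [smul_add, map_add, ha, hb]
    | hh g y hy =>
      rw [verProj_mem ℳ hy, verProj_mem ℳ (smul_mem_ver ℳ h c hc hy)]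
      by_cases hg : (q : ℤ) ∣ g
      · rw [if_pos hg, if_pos (dvd_add (dvd_mul_left _ _) hg)]
      · rw [if_neg hg, if_neg (fun hc' => hg (by simpa using dvd_sub hc' (dvd_mul_left (q : ℤ) d))), smul_zero]

/-- the Veronese submodule -/
noncomputable def verSub : Submodule R' X where
  carrier := {x | verProj ℳ q x = x}
  add_mem' ha hb := by simp only [Set.mem_setOf_eq] at *; rw [map_add, ha, hb]
  zero_mem' := map_zero _
  smul_mem' r x hx := by simp only [Set.mem_setOf_eq] at *; rw [verProj_smul ℳ h, hx]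

lemma mem_verSub {x : X} : x ∈ verSub ℳ h ↔ verProj ℳ q x = x := Iff.rfl

lemma mem_verSub_of_mem {g : ℤ} {x : X} (hg : (q : ℤ) ∣ g) (hx : x ∈ ℳ g) : x ∈ verSub ℳ h := by
  rw [mem_verSub, verProj_mem ℳ hx, if_pos hg]

lemma verProj_mem_verSub (x : X) : verProj ℳ q x ∈ verSub ℳ h := by
  induction x using induction_on_hom ℳ with
  | h0 => rw [map_zero]; exact zero_mem _
  | hh g y hy =>
    rw [verProj_mem ℳ hy]
    split_ifs with hg
    · exact mem_verSub_of_mem ℳ h hg hy
    · exact zero_mem _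
  | ha a b ha hb => rw [map_add]; exact add_mem ha hb

/-- the projection onto the Veronese submodule -/
noncomputable def verP : X →ₗ[R'] verSub ℳ h where
  toFun x := ⟨verProj ℳ q x, verProj_mem_verSub ℳ h x⟩
  map_add' _ _ := Subtype.ext (map_add _ _ _)
  map_smul' r x := Subtype.ext (verProj_smul ℳ h r x)

lemma verP_apply (x : verSub ℳ h) : verP ℳ h x = x := Subtype.ext x.2

/-- pieces of the Veronese submodule -/
noncomputable def verGr (j : ℤ) : AddSubgroup (verSub ℳ h) := (ℳ (j * q)).comap (verSub ℳ h).subtype.toAddMonoidHom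

lemma verGr_isInternal : DirectSum.IsInternal (verGr ℳ h) := by
  refine isInternal_of_pr _ (fun j => AddMonoidHom.mk' (fun x : verSub ℳ h =>
      (⟨cp ℳ (j * q) x, mem_verSub_of_mem ℳ h (dvd_mul_left _ _) (cp_mem ℳ _ _)⟩ : verSub ℳ h))
      fun x y => Subtype.ext (map_add _ _ _))
    (fun j x hx => Subtype.ext (cp_same ℳ hx))
    (fun j k hjk x hx => Subtype.ext (cp_ne ℳ hx fun he => hjk (mul_right_cancel₀ (by exact_mod_cast h.pos.ne') he))) ?_
  intro x
  obtain ⟨s, hs, -⟩ := exists_sum_cp ℳ (x : X)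
  have hx : x = ∑ g ∈ s, verP ℳ h (cp ℳ g x) := by
    rw [← map_sum, hs, verP_apply]
  rw [hx]
  refine sum_mem fun g _ => ?_
  by_cases hg : (q : ℤ) ∣ g
  · obtain ⟨j, rfl⟩ := hg
    refine AddSubgroup.mem_iSup_of_mem j ?_
    change verProj ℳ q _ ∈ ℳ (j * q)
    rw [verProj_mem ℳ (cp_mem ℳ _ _), if_pos (dvd_mul_right _ _), mul_comm]
    exact cp_mem ℳ _ _
  · rw [show verP ℳ h (cp ℳ g x) = 0 from Subtype.ext (by
      change verProj ℳ q _ = 0
      rw [verProj_mem ℳ (cp_mem ℳ _ _), if_neg hg])]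
    exact zero_mem _

/-- the Veronese module -/
noncomputable def verG : GrLC.GMod.{u} 𝒜' :=
  { carrier := verSub ℳ h
    gr := verGr ℳ h
    dec := (verGr_isInternal ℳ h).chooseDecomposition
    gsmul := ⟨fun {d j r x} hr hx => by
      change ((r • x : verSub ℳ h) : X) ∈ ℳ ((d + j) * q)
      rw [add_mul]
      exact smul_mem_ver ℳ h r hr hx⟩ }

end Sub

section Torsion

variable (h : IsVer 𝒜 𝒜' q) {m : HomogeneousIdeal 𝒜} {m' : HomogeneousIdeal 𝒜'}
  (hm : m.toIdeal = Ideal.span (⋃ n ∈ Set.Ioi (0 : ℤ), (𝒜 n : Set R)))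
  (hm' : m'.toIdeal = Ideal.span (⋃ j ∈ Set.Ioi (0 : ℤ), (𝒜' j : Set R')))

include h

theorem isNoetherianRing_ver [IsNoetherianRing R] : IsNoetherianRing R' := by
  haveI : IsScalarTower R' R R := IsScalarTower.right
  have key : ∀ J : Ideal R', (J.map (algebraMap R' R)).comap (algebraMap R' R) = J := by
    intro J
    refine le_antisymm ?_ Ideal.le_comap_map
    intro x hx
    have hP : ∀ y ∈ J.map (algebraMap R' R), ∃ j ∈ J, verProj (X := R) 𝒜 q y = algebraMap R' R j := by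
      intro y hy
      suffices H : ∀ c, ∀ y ∈ J.map (algebraMap R' R), ∃ j ∈ J, verProj (X := R) 𝒜 q (c * y) = algebraMap R' R j by
        simpa using H 1 y hy
      intro c y hy
      induction hy using Submodule.span_induction generalizing c with
      | mem y hy =>
        obtain ⟨j, hj, rfl⟩ := hy
        obtain ⟨r, hr⟩ : ∃ r : R', algebraMap R' R r = verProj (X := R) 𝒜 q c := by
          induction c using induction_on_hom 𝒜 with
          | h0 => exact ⟨0, by simp⟩
          | hh g z hz =>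
            rw [verProj_mem 𝒜 hz]
            split_ifs with hg
            · obtain ⟨k, rfl⟩ := hg
              obtain ⟨r, -, hr⟩ := h.surj k z (by rwa [mul_comm])
              exact ⟨r, hr⟩
            · exact ⟨0, map_zero _⟩
          | ha a b ha hb =>
            obtain ⟨r, hr⟩ := ha
            obtain ⟨s, hs⟩ := hb
            exact ⟨r + s, by rw [map_add, map_add, hr, hs]⟩
        refine ⟨j * r, J.mul_mem_right _ hj, ?_⟩
        rw [mul_comm c, show algebraMap R' R j * c = j • c from (Algebra.smul_def j c).symm,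
          verProj_smul 𝒜 h, Algebra.smul_def, map_mul, hr]
      | zero => exact ⟨0, J.zero_mem, by rw [mul_zero, map_zero, map_zero]⟩
      | add y z _ _ hy hz =>
        obtain ⟨j, hj, hy⟩ := hy c
        obtain ⟨k, hk, hz⟩ := hz c
        exact ⟨j + k, add_mem hj hk, by rw [mul_add, map_add, map_add, hy, hz]⟩
      | smul b y _ hy =>
        obtain ⟨j, hj, hy⟩ := hy (c * b)
        exact ⟨j, hj, by rw [smul_eq_mul, ← mul_assoc, hy]⟩
    have hx' : verProj (X := R) 𝒜 q (algebraMap R' R x) = algebraMap R' R x := by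
      clear hx
      induction x using induction_on_hom 𝒜' with
      | h0 => simp
      | hh d y hy => rw [verProj_mem 𝒜 (h.mem d y hy), if_pos (dvd_mul_left _ _)]
      | ha a b ha hb => rw [map_add, map_add, ha, hb]
    obtain ⟨j, hj, hj'⟩ := hP _ hx
    rw [hx'] at hj'
    rwa [h.inj hj']
  have hwf : WellFounded ((· > ·) : Ideal R → Ideal R → Prop) := IsWellFounded.wf
  refine isNoetherianRing_iff.2 ((isNoetherian_iff' (R := R') (M := R')).2 ⟨?_⟩)
  exact Subrelation.wf (r := InvImage (· > ·) fun J : Ideal R' => J.map (algebraMap R' R))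
    (fun {J K} hJK => lt_of_le_of_ne (Ideal.map_mono (le_of_lt hJK)) fun he => hJK.ne (by
      have h' := congrArg (Ideal.comap (algebraMap R' R)) he
      simp only [key] at h'
      exact h')) (InvImage.wf _ hwf)

include hm hm'

theorem map_le : m'.toIdeal.map (algebraMap R' R) ≤ m.toIdeal := by
  rw [hm', Ideal.map_span, Ideal.span_le]
  rintro _ ⟨r, hr, rfl⟩
  obtain ⟨j, hj, hrj⟩ := Set.mem_iUnion₂.1 hr
  rw [hm]
  exact Ideal.subset_span (Set.mem_iUnion₂.2 ⟨j * q, (mul_pos (show (0 : ℤ) < j from hj) (Int.natCast_pos.2 h.pos) : (0 : ℤ) < j * q), h.mem j r hrj⟩)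

theorem exists_pow_le [IsNoetherianRing R] : ∃ N, m.toIdeal ^ N ≤ m'.toIdeal.map (algebraMap R' R) := by
  refine Ideal.exists_pow_le_of_le_radical_of_fg ?_ (IsNoetherian.noetherian _)
  rw [hm, Ideal.span_le]
  intro x hx
  obtain ⟨g, hg, hxg⟩ := Set.mem_iUnion₂.1 hx
  refine ⟨q, ?_⟩
  have hpow : x ^ q ∈ 𝒜 (g * q) := by
    have := SetLike.pow_mem_graded q hxg
    rwa [nsmul_eq_mul, mul_comm] at this
  obtain ⟨r, hr, hrx⟩ := h.surj g _ hpow
  rw [← hrx, hm']
  exact Ideal.mem_map_of_mem _ (Ideal.subset_span (Set.mem_iUnion₂.2 ⟨g, hg, hr⟩))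

theorem gam_ver [IsNoetherianRing R] (W : Submodule R' X) (x : W) :
    x ∈ GrLC.gam m'.toIdeal W ↔ (x : X) ∈ GrLC.gam m.toIdeal X := by
  obtain ⟨N, hN⟩ := exists_pow_le h hm hm'
  rw [gam_congr (map_le h hm hm') hN X]
  refine exists_congr fun n => ?_
  rw [Groth.L04.LC.pow_smul_eq_zero_iff_map]
  exact forall₂_congr fun c _ => (Subtype.ext_iff :)

theorem subsingleton_H_ver [IsNoetherianRing R] (hX : GrLC.IsStarInj 𝒜 ℳ) (i : ℕ) :
    Subsingleton (LocCoh.H m'.toIdeal (i + 1) (verG ℳ h).carrier) := by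
  haveI := isNoetherianRing_ver h
  have hhom : (m'.toIdeal.map (algebraMap R' R)).IsHomogeneous 𝒜 := by
    rw [hm', Ideal.map_span]
    refine Ideal.homogeneous_span 𝒜 _ ?_
    rintro _ ⟨r, hr, rfl⟩
    obtain ⟨j, -, hrj⟩ := Set.mem_iUnion₂.1 hr
    exact ⟨j * q, h.mem j r hrj⟩
  have h1 : Subsingleton (LocCoh.H (m'.toIdeal.map (algebraMap R' R)) (i + 1) X) :=
    subsingleton_H_of_starInj hX (⟨_, hhom⟩ : HomogeneousIdeal 𝒜) i
  exact Groth.L04.LC.subsingleton_H_of_factor m'.toIdeal (i + 1) (M := verSub ℳ h) (N₀ := X)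
    (verSub ℳ h).subtype (verP ℳ h) (κ := Fin 0) (N := fun _ => X) (fun _ => 0) (fun _ => 0)
    (fun x => by simp [verP_apply]) ((Groth.L04.LC.subsingleton_H_map_iff m'.toIdeal (i + 1) X).1 h1) (fun k => k.elim0)

end Torsion

end Groth.L12.GrLCLib
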