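import Groth.Agent.L12.GrLCVerH
import Groth.Agent.L12.GrLCMatlis

/-!
# Canonical modules of Veronese subrings
-/

set_option autoImplicit false

universe u

open DirectSum

namespace Groth.L12.GrLCLib

/-- a line over a field in degree zero transports to another -/
theorem exists_line_map {R : Type u} [CommRing R] {𝒜 : ℤ → AddSubgroup R} [GradedRing 𝒜]
    {R' : Type u} [CommRing R'] {𝒜' : ℤ → AddSubgroup R'} [GradedRing 𝒜'] (f : R' → R)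
    (h0 : IsField (GrLC.deg0 𝒜')) {X' : Type u} [AddCommGroup X'] [Module R' X'] {X : Type u} [AddCommGroup X] [Module R X]
    {u' : X'} (hu' : u' ≠ 0) (u : X) : ∃ T : X' → X, ∀ r ∈ 𝒜' 0, T (r • u') = f r • u := by
  classical
  refine ⟨fun y => if hy : ∃ r ∈ 𝒜' 0, r • u' = y then f hy.choose • u else 0, fun r hr => ?_⟩
  have hy : ∃ s ∈ 𝒜' 0, s • u' = r • u' := ⟨r, hr, rfl⟩
  simp only [dif_pos hy]
  suffices h : hy.choose = r by rw [h]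
  by_contra hne
  obtain ⟨b, hb⟩ := h0.mul_inv_cancel (a := (⟨hy.choose - r, sub_mem hy.choose_spec.1 hr⟩ : GrLC.deg0 𝒜'))
    (fun e => hne (sub_eq_zero.1 (congrArg Subtype.val e)))
  refine hu' ?_
  rw [← one_smul R' u', ← show (hy.choose - r) * (b : R') = 1 from congrArg Subtype.val hb, mul_comm, mul_smul, sub_smul,
    hy.choose_spec.2, sub_self, smul_zero]

variable {R : Type u} [CommRing R] [IsNoetherianRing R] {𝒜 : ℤ → AddSubgroup R} [GradedRing 𝒜]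
variable {R' : Type u} [CommRing R'] {𝒜' : ℤ → AddSubgroup R'} [GradedRing 𝒜'] [Algebra R' R] {q : ℕ}

/-- the canonical module of a Veronese subring is the Veronese module of the canonical module -/
theorem exists_verCanon (h : IsVer 𝒜 𝒜' q) (h0 : IsField (GrLC.deg0 𝒜)) (h0' : IsField (GrLC.deg0 𝒜'))
    {m : HomogeneousIdeal 𝒜} (hm : m.toIdeal = Ideal.span (⋃ n ∈ Set.Ioi (0 : ℤ), (𝒜 n : Set R)))
    {m' : HomogeneousIdeal 𝒜'} (hm' : m'.toIdeal = Ideal.span (⋃ j ∈ Set.Ioi (0 : ℤ), (𝒜' j : Set R')))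
    (n : ℕ) (I : GrLC.StarInjRes 𝒜 𝒜) (I' : GrLC.StarInjRes 𝒜' 𝒜')
    {X : Type u} [AddCommGroup X] [Module R X] {𝒳 : ℤ → AddSubgroup X} [DirectSum.Decomposition 𝒳]
    [SetLike.GradedSMul 𝒜 𝒳] (hX : IsDual 𝒜 𝒳)
    {X' : Type u} [AddCommGroup X'] [Module R' X'] {𝒳' : ℤ → AddSubgroup X'} [DirectSum.Decomposition 𝒳']
    [SetLike.GradedSMul 𝒜' 𝒳'] (hX' : IsDual 𝒜' 𝒳')
    {C : Type u} [AddCommGroup C] [Module R C] {𝒞 : ℤ → AddSubgroup C} [DirectSum.Decomposition 𝒞]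
    [SetLike.GradedSMul 𝒜 𝒞] (hC : GrLC.IsStarCanonical 𝒜 𝒞 𝒳 m n I)
    {C' : Type u} [AddCommGroup C'] [Module R' C'] {𝒞' : ℤ → AddSubgroup C'} [DirectSum.Decomposition 𝒞']
    [SetLike.GradedSMul 𝒜' 𝒞'] (hC' : GrLC.IsStarCanonical 𝒜' 𝒞' 𝒳' m' n I') :
    ∃ g : C' →ₛₗ[algebraMap R' R] C, Function.Injective g ∧ ∀ j : ℤ, (𝒞' j).map (g : C' →+ C) = 𝒞 (j * q) := by
  classical
  haveI := isNoetherianRing_ver h
  obtain ⟨hfin, φ, hφ⟩ := hC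
  obtain ⟨hfin', φ', hφ'⟩ := hC'
  haveI := hfin
  haveI := hfin'
  letI := (Hgr_isInternal m I n).chooseDecomposition
  letI := (Hgr_isInternal m' I' n).chooseDecomposition
  obtain ⟨Θ, hΘ, hΘmap⟩ : ∃ Θ : I'.H m' n →ₛₗ[algebraMap R' R] I.H m n, Function.Injective Θ ∧
      ∀ j : ℤ, (I'.Hgr m' n j).map (Θ : I'.H m' n →+ I.H m n) = I.Hgr m n (j * q) := by
    let g : R' →ₛₗ[algebraMap R' R] R :=
      { toFun := algebraMap R' R, map_add' := map_add _, map_smul' := fun r x => map_mul _ r x }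
    refine exists_verH h hm hm' g h.inj (fun j => ?_) I I' n
    ext y
    exact ⟨fun ⟨r, hr, e⟩ => e ▸ h.mem j r hr, fun hy => by
      obtain ⟨r, hr, e⟩ := h.surj j y hy
      exact ⟨r, hr, e⟩⟩
  obtain ⟨u, hu, hune, hline⟩ := hX.line
  obtain ⟨u', hu', hune', hline'⟩ := hX'.line
  obtain ⟨T, hT⟩ := exists_line_map (𝒜 := 𝒜) (algebraMap R' R) h0' hune' u
  -- the correspondence of homogeneous maps
  have hΦex : ∀ (d : ℤ) (ψ : C →ₗ[R] X), ψ ∈ GrLC.homDeg 𝒜 𝒞 𝒳 (d * q) →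
      ∃ ψ' ∈ GrLC.homDeg 𝒜' 𝒞' 𝒳' d, Θ (φ' ψ') = φ ψ := fun d ψ hψ => by
    obtain ⟨y, hy, hyψ⟩ := AddSubgroup.mem_map.1 ((hΘmap d).ge (hφ (d * q) ψ hψ))
    exact ⟨φ'.symm y, mem_homDeg_of_map φ' hφ' (by rw [φ'.apply_symm_apply]; exact hy), by rw [φ'.apply_symm_apply]; exact hyψ⟩
  choose Φ hΦ hΦeq using hΦex
  have hΦu : ∀ (d : ℤ) (ψ : C →ₗ[R] X) (hψ : ψ ∈ GrLC.homDeg 𝒜 𝒞 𝒳 (d * q)) (ψ' : C' →ₗ[R'] X'),
      Θ (φ' ψ') = φ ψ → Φ d ψ hψ = ψ' := fun d ψ hψ ψ' e => φ'.injective (hΘ (by rw [hΦeq, e]))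
  let tf : ∀ (j : ℤ), C' → (C →ₗ[R] X) → X := fun j c' ψ =>
    if hψ : ψ ∈ GrLC.homDeg 𝒜 𝒞 𝒳 (-j * q) then T (Φ (-j) ψ hψ c') else 0
  have hval : ∀ (j : ℤ) (c' : C'), c' ∈ 𝒞' j → ∀ ψ' ∈ GrLC.homDeg 𝒜' 𝒞' 𝒳' (-j), ψ' c' ∈ 𝒳' 0 := fun j c' hc' ψ' hψ' => by
    have := hψ' j c' hc'; rwa [add_neg_cancel] at this
  have hTadd : ∀ a ∈ 𝒳' 0, ∀ b ∈ 𝒳' 0, T (a + b) = T a + T b := fun a ha b hb => by
    obtain ⟨r, hr, rfl⟩ := hline' a ha
    obtain ⟨s, hs, rfl⟩ := hline' b hb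
    rw [← add_smul, hT _ (add_mem hr hs), hT _ hr, hT _ hs, map_add, add_smul]
  have hTmem : ∀ a ∈ 𝒳' 0, T a ∈ 𝒳 0 := fun a ha => by
    obtain ⟨r, hr, rfl⟩ := hline' a ha
    rw [hT r hr]
    have h1 := smul_mem' 𝒜 𝒳 (h.mem 0 r hr) hu
    rwa [zero_mul, add_zero] at h1
  have hTsm : ∀ s ∈ 𝒜' 0, ∀ a ∈ 𝒳' 0, T (s • a) = algebraMap R' R s • T a := fun s hs a ha => by
    obtain ⟨r, hr, rfl⟩ := hline' a ha
    have hsr : s * r ∈ 𝒜' 0 := by have := SetLike.mul_mem_graded hs hr; rwa [add_zero] at this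
    rw [← mul_smul, hT _ hsr, hT _ hr, map_mul, mul_smul]
  have hgex : ∀ (j : ℤ) (c' : C'), c' ∈ 𝒞' j → ∃! c, c ∈ 𝒞 (j * q) ∧
      ∀ ψ ∈ GrLC.homDeg 𝒜 𝒞 𝒳 (-(j * q)), ψ c = tf j c' ψ := fun j c' hc' => by
    have htf : ∀ ψ, ψ ∈ GrLC.homDeg 𝒜 𝒞 𝒳 (-(j * q)) → ∀ hψ, tf j c' ψ = T (Φ (-j) ψ hψ c') := fun ψ _ hψ => dif_pos hψ
    have hneg : ∀ ψ, ψ ∈ GrLC.homDeg 𝒜 𝒞 𝒳 (-(j * q)) → ψ ∈ GrLC.homDeg 𝒜 𝒞 𝒳 (-j * q) := fun ψ hψ => by rwa [neg_mul]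
    refine hX.exists_eval h0 (j * q) (tf j c') (fun ψ hψ => ?_) (fun ψ hψ ψ₂ hψ₂ => ?_) (fun r hr ψ hψ => ?_)
    · rw [htf ψ hψ (hneg ψ hψ)]; exact hTmem _ (hval j c' hc' _ (hΦ _ _ _))
    · rw [htf ψ hψ (hneg ψ hψ), htf ψ₂ hψ₂ (hneg ψ₂ hψ₂), htf _ (add_mem hψ hψ₂) (hneg _ (add_mem hψ hψ₂)),
        hΦu _ _ _ (Φ (-j) ψ (hneg ψ hψ) + Φ (-j) ψ₂ (hneg ψ₂ hψ₂)) (by rw [map_add, map_add, hΦeq, hΦeq, map_add]),
        LinearMap.add_apply, hTadd _ (hval j c' hc' _ (hΦ _ _ _)) _ (hval j c' hc' _ (hΦ _ _ _))]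
    · obtain ⟨s, hs, rfl⟩ := h.surj 0 r (by rwa [zero_mul])
      have hrψ : algebraMap R' R s • ψ ∈ GrLC.homDeg 𝒜 𝒞 𝒳 (-(j * q)) :=
        (GrLC.homDeg 𝒜 𝒞 𝒳 (-(j * q))).smul_mem (⟨_, hr⟩ : GrLC.deg0 𝒜) hψ
      rw [htf ψ hψ (hneg ψ hψ), htf _ hrψ (hneg _ hrψ),
        hΦu _ _ _ (s • Φ (-j) ψ (hneg ψ hψ)) (by rw [map_smul, map_smulₛₗ, hΦeq, map_smul]),
        LinearMap.smul_apply, hTsm s hs _ (hval j c' hc' _ (hΦ _ _ _))]
  choose gp hgp hgu using hgex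
  have hchar : ∀ (j : ℤ) (c' : C') (hc' : c' ∈ 𝒞' j) (ψ : C →ₗ[R] X) (hψ : ψ ∈ GrLC.homDeg 𝒜 𝒞 𝒳 (-j * q)),
      ψ (gp j c' hc') = T (Φ (-j) ψ hψ c') := fun j c' hc' ψ hψ =>
    ((hgp j c' hc').2 ψ (by rwa [← neg_mul])).trans (dif_pos hψ)
  have huniq : ∀ (j : ℤ) (c' : C') (hc' : c' ∈ 𝒞' j) (c : C), c ∈ 𝒞 (j * q) →
      (∀ ψ (hψ : ψ ∈ GrLC.homDeg 𝒜 𝒞 𝒳 (-j * q)), ψ c = T (Φ (-j) ψ hψ c')) → c = gp j c' hc' := fun j c' hc' c hc he =>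
    hgu j c' hc' c ⟨hc, fun ψ hψ => (he ψ (by rwa [neg_mul])).trans (by simp only [tf]; rw [dif_pos])⟩
  have hgadd : ∀ (j : ℤ) (a b : C') (ha : a ∈ 𝒞' j) (hb : b ∈ 𝒞' j),
      gp j (a + b) (add_mem ha hb) = gp j a ha + gp j b hb := fun j a b ha hb =>
    (huniq j (a + b) (add_mem ha hb) _ (add_mem (hgp j a ha).1 (hgp j b hb).1) fun ψ hψ => by
      rw [map_add, hchar j a ha ψ hψ, hchar j b hb ψ hψ, map_add,
        hTadd _ (hval j a ha _ (hΦ _ _ _)) _ (hval j b hb _ (hΦ _ _ _))]).symm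
  let gd : ∀ j, 𝒞' j →+ C := fun j => AddMonoidHom.mk' (fun c' => gp j c'.1 c'.2) fun a b => hgadd j a.1 b.1 a.2 b.2
  let G : C' →+ C := (DirectSum.toAddMonoid gd).comp (decomposeAddEquiv 𝒞').toAddMonoidHom
  have hG : ∀ j (c' : C') (hc' : c' ∈ 𝒞' j), G c' = gp j c' hc' := fun j c' hc' => by
    change DirectSum.toAddMonoid gd (decompose 𝒞' c') = _
    rw [decompose_of_mem 𝒞' hc', DirectSum.toAddMonoid_of]
    rfl
  let g : C' →ₛₗ[algebraMap R' R] C :=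
    { toFun := G
      map_add' := G.map_add
      map_smul' := fun r c' => by
        change G (r • c') = algebraMap R' R r • G c'
        induction r using induction_on_hom 𝒜' with
        | h0 => simp
        | ha a b ha hb => rw [add_smul, map_add, map_add, add_smul, ha, hb]
        | hh i z hz =>
          induction c' using induction_on_hom 𝒞' with
          | h0 => simp
          | ha a b ha hb => rw [smul_add, map_add, map_add, smul_add, ha, hb]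
          | hh j w hw =>
            have hzw : z • w ∈ 𝒞' (i + j) := smul_mem' 𝒜' 𝒞' hz hw
            rw [hG _ _ hzw, hG j w hw]
            refine (huniq _ _ hzw _ (by
              have h1 := smul_mem' 𝒜 𝒞 (h.mem i z hz) (hgp j w hw).1
              rwa [← add_mul] at h1) fun ψ hψ => ?_).symm
            have hzψ : algebraMap R' R z • ψ ∈ GrLC.homDeg 𝒜 𝒞 𝒳 (-j * q) := fun d c hc => by
              have h1 := smul_mem' 𝒜 𝒳 (h.mem i z hz) (hψ d c hc)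
              rw [show i * (q : ℤ) + (d + -(i + j) * q) = d + -j * q by ring] at h1
              rw [LinearMap.smul_apply]
              exact h1
            rw [map_smul, ← LinearMap.smul_apply, hchar j w hw _ hzψ,
              hΦu _ _ _ (z • Φ (-(i + j)) ψ hψ) (by rw [map_smul, map_smulₛₗ, hΦeq, map_smul]), LinearMap.smul_apply,
              ← map_smul] }
  have hgdeg : ∀ j, ∀ c' ∈ 𝒞' j, g c' ∈ 𝒞 (j * q) := fun j c' hc' => by
    change G c' ∈ _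
    rw [hG j c' hc']; exact (hgp j c' hc').1
  refine ⟨g, (injective_iff_map_eq_zero g).2 fun c' hc' => eq_zero_of_cp 𝒞' fun j => ?_, fun j => ?_⟩
  · have hcomm : ∀ x : C', cp 𝒞 (j * q) (g x) = g (cp 𝒞' j x) := fun x => by
      induction x using induction_on_hom 𝒞' with
      | h0 => simp
      | ha a b ha hb => simp only [map_add, ha, hb]
      | hh d w hw =>
        by_cases hdj : d = j
        · subst hdj; rw [cp_same 𝒞' hw, cp_same 𝒞 (hgdeg d w hw)]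
        · rw [cp_ne 𝒞' hw hdj, cp_ne 𝒞 (hgdeg d w hw)
            (fun e => hdj (mul_right_cancel₀ (by exact_mod_cast h.pos.ne') e)), map_zero]
    have h1 : G (cp 𝒞' j c') = 0 := by
      have := hcomm c'
      rw [hc', map_zero] at this
      exact this.symm
    have hw := cp_mem 𝒞' j c'
    rw [hG j _ hw] at h1
    refine hX'.eval_inj h0' hw fun ψ' hψ' => ?_
    -- every homogeneous map on `C'` comes from `C`
    obtain ⟨ψ, hψ, hψe⟩ : ∃ ψ ∈ GrLC.homDeg 𝒜 𝒞 𝒳 (-j * q), Θ (φ' ψ') = φ ψ := by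
      refine ⟨φ.symm (Θ (φ' ψ')), mem_homDeg_of_map φ hφ ?_, (φ.apply_symm_apply _).symm⟩
      rw [φ.apply_symm_apply]
      exact hΘmap (-j) ▸ AddSubgroup.mem_map_of_mem _ (hφ' (-j) ψ' hψ')
    have h2 := hchar j _ hw ψ hψ
    rw [h1, map_zero, hΦu _ _ _ ψ' hψe] at h2
    obtain ⟨r, hr, hru⟩ := hline' _ (hval j _ hw ψ' hψ')
    rw [← hru, hT r hr] at h2
    rw [← hru]
    by_cases hr0 : r = 0
    · rw [hr0, zero_smul]
    · obtain ⟨b, hb⟩ := h0'.mul_inv_cancel (a := (⟨r, hr⟩ : GrLC.deg0 𝒜')) fun e => hr0 (congrArg Subtype.val e)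
      exfalso
      refine hune ?_
      rw [← one_smul R u, ← map_one (algebraMap R' R), ← show r * (b : R') = 1 from congrArg Subtype.val hb, mul_comm,
        map_mul, mul_smul, ← h2, smul_zero]
  · ext y
    refine ⟨fun ⟨c', hc', e⟩ => e ▸ hgdeg j c' hc', fun hy => ?_⟩
    -- a preimage by duality upstairs
    obtain ⟨S, hS⟩ := exists_line_map (𝒜 := 𝒜') (R := R') (𝒜' := 𝒜) (R' := R)
      (fun r => if hr : ∃ s ∈ 𝒜' 0, algebraMap R' R s = r then hr.choose else 0) h0 hune u'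
    have hS' : ∀ s ∈ 𝒜' 0, S (algebraMap R' R s • u) = s • u' := fun s hs => by
      have hex : ∃ t ∈ 𝒜' 0, algebraMap R' R t = algebraMap R' R s := ⟨s, hs, rfl⟩
      rw [hS _ (by have := h.mem 0 s hs; rwa [zero_mul] at this)]
      simp only [dif_pos hex, h.inj hex.choose_spec.2]
    let pre : (C' →ₗ[R'] X') → (C →ₗ[R] X) := fun ψ' => φ.symm (Θ (φ' ψ'))
    have hpre : ∀ ψ' ∈ GrLC.homDeg 𝒜' 𝒞' 𝒳' (-j), pre ψ' ∈ GrLC.homDeg 𝒜 𝒞 𝒳 (-j * q) := fun ψ' hψ' => by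
      refine mem_homDeg_of_map φ hφ ?_
      rw [φ.apply_symm_apply]
      exact hΘmap (-j) ▸ AddSubgroup.mem_map_of_mem _ (hφ' (-j) ψ' hψ')
    have hy0 : ∀ ψ ∈ GrLC.homDeg 𝒜 𝒞 𝒳 (-j * q), ∃ s ∈ 𝒜' 0, algebraMap R' R s • u = ψ y := fun ψ hψ => by
      have h1 := hψ (j * q) y hy
      rw [neg_mul, add_neg_cancel] at h1
      obtain ⟨r, hr, hru⟩ := hline _ h1
      obtain ⟨s, hs, rfl⟩ := h.surj 0 r (by rwa [zero_mul])
      exact ⟨s, hs, hru⟩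
    obtain ⟨c', ⟨hc', hc'e⟩, -⟩ := hX'.exists_eval h0' j (fun ψ' => S (pre ψ' y)) (C := C') (𝒞 := 𝒞') (fun ψ' hψ' => by
        obtain ⟨s, hs, hse⟩ := hy0 _ (hpre ψ' hψ')
        rw [← hse, hS' s hs]
        have h1 := smul_mem' 𝒜' 𝒳' hs hu'
        rwa [add_zero] at h1)
      (fun a ha b hb => by
        obtain ⟨s, hs, hse⟩ := hy0 _ (hpre a ha)
        obtain ⟨t, ht, hte⟩ := hy0 _ (hpre b hb)
        rw [show pre (a + b) = pre a + pre b by simp only [pre, map_add], LinearMap.add_apply, ← hse, ← hte, ← add_smul,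
          ← map_add, hS' _ (add_mem hs ht), hS' _ hs, hS' _ ht, add_smul])
      (fun r hr a ha => by
        obtain ⟨s, hs, hse⟩ := hy0 _ (hpre a ha)
        have hrs : r * s ∈ 𝒜' 0 := by have := SetLike.mul_mem_graded hr hs; rwa [add_zero] at this
        rw [show pre (r • a) = algebraMap R' R r • pre a by simp only [pre, map_smul, map_smulₛₗ],
          LinearMap.smul_apply, ← hse, ← mul_smul, ← map_mul, hS' _ hrs, hS' _ hs, mul_smul])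
    refine ⟨c', hc', ?_⟩
    change G c' = y
    rw [hG j c' hc']
    refine (huniq j c' hc' y hy fun ψ hψ => ?_).symm
    have h1 : pre (Φ (-j) ψ hψ) = ψ := by simp only [pre, hΦeq, LinearEquiv.symm_apply_apply]
    rw [hc'e _ (hΦ _ _ _)]
    simp only [h1]
    obtain ⟨s, hs, hse⟩ := hy0 ψ hψ
    rw [← hse, hS' s hs, hT s hs]

end Groth.L12.GrLCLib
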