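import Groth.Agent.L12.GrLCTwo
import Groth.Agent.L12.GrLCVerCanon
import Groth.Agent.L12.GrLCGorCrit
import Groth.Agent.L12.GrLCVerGor
import Mathlib.RingTheory.KrullDimension.NonZeroDivisors

/-!
# Descending the Gorenstein property from a Veronese subring
-/

set_option autoImplicit false

universe u

open DirectSum

namespace Groth.L12.GrLCLib

variable {R : Type u} [CommRing R] {𝒜 : ℤ → AddSubgroup R} [GradedRing 𝒜]

/-- the top local cohomology of a Gorenstein ring is a shifted dual -/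
theorem exists_dual_shift [LocCoh.IsGorensteinRing R] (hpos : ∀ n : ℤ, n < 0 → 𝒜 n = ⊥)
    (h0 : IsField (GrLC.deg0 𝒜)) {m : HomogeneousIdeal 𝒜} (hm : GrLC.IsStarLocal 𝒜 m) (n : ℕ)
    (hnm : m.toIdeal.height = n) (I : GrLC.StarInjRes 𝒜 𝒜) :
    ∃ (b : ℤ) (W : GrLC.GMod.{u} 𝒜) (φ : I.H m n ≃ₗ[R] W.carrier), IsDual 𝒜 W.gr ∧
      (∀ d x, x ∈ I.Hgr m n d → φ x ∈ W.gr (d - b)) ∧ ∀ d y, y ∈ W.gr d → φ.symm y ∈ I.Hgr m n (d + b) := by
  obtain ⟨g₀, X, f, φ, hf, hφ⟩ := exists_top_hull hm n hnm I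
  let W := shG 𝒜 X.gr g₀
  let f' : (R ⧸ m.toIdeal) →ₗ[R] W.carrier := f
  have hW : GrLC.IsStarInjHull 𝒜 (GrLC.quotGr 𝒜 m) W.gr f' :=
    { injective := hf.injective
      grHom := fun i x hx => hf.grHom (i + g₀) x (by rw [add_sub_cancel_right]; exact hx)
      essential := fun P hP hne => by
        let P' : Submodule R X.carrier := P
        exact hf.essential P' (isHomogeneous_of_shG X.gr g₀ P' hP) hne
      starInj := starInj_shift hf.starInj g₀ }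
  letI := (Hgr_isInternal m I n).chooseDecomposition
  have hφ' := grHom_symm (I.Hgr m n) X.gr φ hφ
  refine ⟨g₀, W, φ, isDual_of_hull hpos h0 hm hW, fun d x hx => ?_, fun d y hy => hφ' (d + g₀) y hy⟩
  change φ x ∈ X.gr (d - g₀ + g₀)
  rw [sub_add_cancel]
  exact hφ d x hx

variable [IsNoetherianRing R]

/-- a positively graded ring over a field has a dual -/
theorem exists_isDual (hpos : ∀ n : ℤ, n < 0 → 𝒜 n = ⊥) (h0 : IsField (GrLC.deg0 𝒜)) {m : HomogeneousIdeal 𝒜}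
    (hm : GrLC.IsStarLocal 𝒜 m) : ∃ X : GrLC.GMod.{u} 𝒜, IsDual 𝒜 X.gr := by
  obtain ⟨X, f, hf⟩ := exists_hull 𝒜 (quoG 𝒜 𝒜 m.toIdeal m.isHomogeneous).gr
  let f' : (R ⧸ m.toIdeal) →ₗ[R] X.carrier := f
  have hf' : GrLC.IsStarInjHull 𝒜 (GrLC.quotGr 𝒜 m) X.gr f' :=
    { injective := hf.injective
      grHom := fun i x hx => hf.grHom i x hx
      essential := hf.essential
      starInj := hf.starInj }
  exact ⟨X, isDual_of_hull hpos h0 hm hf'⟩

variable {X : Type u} [AddCommGroup X] [Module R X] {𝒳 : ℤ → AddSubgroup X} [DirectSum.Decomposition 𝒳]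
  [SetLike.GradedSMul 𝒜 𝒳]

omit [IsNoetherianRing R] in
/-- a dual is divisible by elements regular on quotients -/
theorem IsDual.exists_div (hX : IsDual 𝒜 𝒳) (h0 : IsField (GrLC.deg0 𝒜)) (J : Ideal R) (hJ : J.IsHomogeneous 𝒜)
    {e : ℤ} {x : R} (hx : x ∈ 𝒜 e) (hreg : ∀ r : R, x * r ∈ J → r ∈ J) {g : ℤ} {t : X} (ht : t ∈ 𝒳 g)
    (hJt : ∀ c ∈ J, c • t = 0) : ∃ w ∈ 𝒳 (g - e), x • w = t ∧ ∀ c ∈ J, c • w = 0 := by
  let Q := quoG 𝒜 𝒜 J hJ
  let N := shG 𝒜 Q.gr (-g)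
  let Z := shG 𝒜 Q.gr (e - g)
  let π : R →ₗ[R] (R ⧸ J) := Submodule.mkQ J
  let φ0 : (R ⧸ J) →ₗ[R] X := Submodule.liftQ J (LinearMap.toSpanSingleton R X t) fun c hc => hJt c hc
  let ψ0 : (R ⧸ J) →ₗ[R] (R ⧸ J) := x • LinearMap.id
  let φ' : N.carrier →ₗ[R] X := φ0
  let ψ' : N.carrier →ₗ[R] Z.carrier := ψ0
  have hψ : GrLC.IsGrHom N.gr Z.gr ψ' := fun i v hv => by
    change x • (v : R ⧸ J) ∈ Q.gr (i + (e - g))
    have h1 := smul_mem' 𝒜 Q.gr hx (show (v : R ⧸ J) ∈ Q.gr (i + -g) from hv)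
    rwa [show e + (i + -g) = i + (e - g) by ring] at h1
  have hφ : GrLC.IsGrHom N.gr 𝒳 φ' := fun i v hv => by
    obtain ⟨r, hr, hrv⟩ := show (v : R ⧸ J) ∈ Q.gr (i + -g) from hv
    change φ0 v ∈ 𝒳 i
    rw [← hrv]
    change r • t ∈ 𝒳 i
    have h1 := smul_mem' 𝒜 𝒳 hr ht
    rwa [neg_add_cancel_right] at h1
  have key : ∀ v : R ⧸ J, ψ0 v = 0 → φ0 v = 0 := fun v hv => by
    obtain ⟨r, rfl⟩ := Submodule.mkQ_surjective J v
    have hv' : x • Submodule.Quotient.mk r = (0 : R ⧸ J) := hv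
    rw [← Submodule.Quotient.mk_smul, Submodule.Quotient.mk_eq_zero, smul_eq_mul] at hv'
    exact hJt r (hreg r hv')
  have hker : LinearMap.ker ψ' ≤ LinearMap.ker φ' := fun v hv => key v hv
  obtain ⟨h, hh, hc⟩ := exists_extend (hX.starInj h0) ψ' hψ φ' hφ hker
  let h' : (R ⧸ J) →ₗ[R] X := h
  refine ⟨h' (π 1), hh (g - e) _ ?_, ?_, fun c hc' => ?_⟩
  · change π 1 ∈ Q.gr (g - e + (e - g))
    rw [show g - e + (e - g) = 0 by ring]
    exact ⟨1, SetLike.one_mem_graded 𝒜, rfl⟩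
  · rw [← h'.map_smul]
    refine (LinearMap.congr_fun hc (π 1)).trans ?_
    exact one_smul R t
  · rw [← h'.map_smul, ← map_smul, smul_eq_mul, mul_one, show π c = 0 from (Submodule.Quotient.mk_eq_zero J).2 hc',
      map_zero]

variable {m : HomogeneousIdeal 𝒜}

/-- the top cohomology is divisible by a regular element -/
theorem exists_div_top [LocCoh.IsCohenMacaulayRing R] (n : ℕ) (hn : ringKrullDim R = n) (I : GrLC.StarInjRes 𝒜 𝒜)
    {e : ℕ} {x : R} (hx : x ∈ 𝒜 (e : ℤ)) (hreg : IsSMulRegular R x) (y : I.H m n) : ∃ y', x • y' = y := by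
  let J : Ideal R := Ideal.span {x}
  have hJ : J.IsHomogeneous 𝒜 := Ideal.homogeneous_span 𝒜 _ fun c hc => ⟨(e : ℤ), (Set.mem_singleton_iff.1 hc).symm ▸ hx⟩
  let Q := quoG 𝒜 𝒜 J hJ
  let f : (shG 𝒜 𝒜 (-(e : ℤ))).carrier →ₗ[R] R := (x • LinearMap.id : R →ₗ[R] R)
  let g : R →ₗ[R] Q.carrier := Submodule.mkQ J
  have hfgr : GrLC.IsGrHom (shG 𝒜 𝒜 (-(e : ℤ))).gr 𝒜 f := fun d v hv => by
    change x • (v : R) ∈ 𝒜 d
    have h := smul_mem' 𝒜 𝒜 hx (show (v : R) ∈ 𝒜 (d + -(e : ℤ)) from hv)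
    rwa [show (e : ℤ) + (d + -(e : ℤ)) = d from by ring] at h
  have hggr : GrLC.IsGrHom 𝒜 Q.gr g := fun d v hv => ⟨v, hv, rfl⟩
  have hfg : LinearMap.range f = LinearMap.ker g := by
    ext v
    constructor
    · rintro ⟨w, rfl⟩
      exact (Submodule.Quotient.mk_eq_zero J).2 (Ideal.mul_mem_right _ _ (Ideal.mem_span_singleton_self x))
    · intro hv
      obtain ⟨c, hc⟩ := Ideal.mem_span_singleton'.1 ((Submodule.Quotient.mk_eq_zero J).1 hv)
      exact ⟨c, by change x * c = v; rw [mul_comm]; exact hc⟩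
  obtain ⟨EQ⟩ := nonempty_starInjRes 𝒜 Q.gr
  obtain ⟨gm, hgm⟩ := exists_map I EQ g hggr
  have hfm := isMap_smul' I (y := x) (d := (e : ℤ)) hx
  obtain ⟨δ, -, hx1, -, -, -⟩ := exists_les (shiftRes I (-(e : ℤ))) I EQ m (f := f) hreg
    (Submodule.mkQ_surjective _) hfg hfgr hggr hfm hgm
  haveI : Module.Finite R Q.carrier := Module.Finite.of_surjective g (Submodule.mkQ_surjective _)
  have hdim : Module.supportDim R Q.carrier < (n : ℕ) := by
    change Module.supportDim R (R ⧸ J) < (n : ℕ)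
    rw [Module.supportDim_quotient_eq_ringKrullDim]
    have hz : x ∈ nonZeroDivisors R := mem_nonZeroDivisors_iff_right.2 fun z hz =>
      hreg (by change x * z = x * 0; rw [mul_zero, mul_comm]; exact hz)
    have h1 := ringKrullDim_quotient_succ_le_of_nonZeroDivisor hz
    rw [hn] at h1
    generalize ringKrullDim (R ⧸ J) = s at h1 ⊢
    induction s using WithBot.recBotCoe with
    | bot => exact WithBot.bot_lt_coe _
    | coe a =>
      have h4 : a + 1 ≤ (n : ℕ∞) := by exact_mod_cast h1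
      exact_mod_cast (ENat.add_one_le_iff (ne_top_of_le_ne_top (ENat.coe_ne_top n) (le_self_add.trans h4))).1 h4
  haveI : Subsingleton (EQ.H m n) := by
    obtain ⟨eq⟩ := nonempty_H_equiv EQ m n
    haveI := Groth.L04.LC.subsingleton_H_of_supportDim_lt m.toIdeal Q.carrier n hdim
    exact eq.toEquiv.subsingleton
  obtain ⟨w, hw⟩ := (hx1 n y).1 (Subsingleton.elim _ _)
  exact ⟨unshift I (-(e : ℤ)) m n w, by rw [← Hmap_smul' I m hx]; exact hw⟩

variable {N : Type u} [AddCommGroup N] [Module R N] {𝒩 : ℤ → AddSubgroup N} [DirectSum.Decomposition 𝒩]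
  [SetLike.GradedSMul 𝒜 𝒩]

omit [IsNoetherianRing R] in
/-- a degree congruent to zero not too far up -/
lemma exists_residue (q : ℕ) (hq : 0 < q) (i : ℤ) :
    ∃ s j : ℤ, 1 ≤ s ∧ s ≤ q ∧ s + i = j * q := by
  refine ⟨(-(i + 1)) % (q : ℤ) + 1, -((-(i + 1)) / (q : ℤ)), ?_, ?_, ?_⟩
  · have := Int.emod_nonneg (-(i + 1)) (show (q : ℤ) ≠ 0 by omega)
    omega
  · have := Int.emod_lt_of_pos (-(i + 1)) (show (0 : ℤ) < q by omega)
    omega
  · have := Int.emod_add_mul_ediv (-(i + 1)) (q : ℤ)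
    linarith

omit [IsNoetherianRing R] in
/-- bijective in degrees divisible by `q` is bijective, given enough divisibility -/
theorem bijective_of_divisible (hX : IsDual 𝒜 𝒳) (h0 : IsField (GrLC.deg0 𝒜)) (hpos : ∀ n : ℤ, n < 0 → 𝒜 n = ⊥)
    (hstd : Ideal.span (⋃ n ∈ Set.Ioi (0 : ℤ), (𝒜 n : Set R)) = Ideal.span ((𝒜 1 : AddSubgroup R) : Set R))
    (q : ℕ) (hq : 0 < q) (μ : N →ₗ[R] X) (hμ : GrLC.IsGrHom 𝒩 𝒳 μ)
    (hinj : ∀ j : ℤ, ∀ z ∈ 𝒩 (j * q), μ z = 0 → z = 0)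
    (hsurj : ∀ j : ℤ, ∀ t ∈ 𝒳 (j * q), ∃ z, μ z = t)
    {e : ℕ} (he : 0 < e) {x : R} (hx : x ∈ 𝒜 (e : ℤ)) (hxreg : IsSMulRegular R x)
    (hdiv : ∀ z : N, ∃ z', x • z' = z)
    {f : ℕ} (hf : 0 < f) {y : R} (hy : y ∈ 𝒜 (f : ℤ)) (hyreg : ∀ r : R, y * r ∈ Ideal.span {x} → r ∈ Ideal.span {x}) :
    Function.Bijective μ := by
  classical
  have hcomp : ∀ i k, μ (cp 𝒩 i k) = cp 𝒳 i (μ k) := fun i k => (cp_map 𝒩 𝒳 μ.toAddMonoidHom hμ i k).symm
  have hxp : x ^ q ∈ 𝒜 ((q * e : ℕ) : ℤ) := by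
    have := SetLike.pow_mem_graded q hx
    rwa [nsmul_eq_mul, ← Nat.cast_mul] at this
  have hyp : y ^ q ∈ 𝒜 ((q * f : ℕ) : ℤ) := by
    have := SetLike.pow_mem_graded q hy
    rwa [nsmul_eq_mul, ← Nat.cast_mul] at this
  have hbigx : (q : ℤ) ≤ ((q * e : ℕ) : ℤ) := by exact_mod_cast Nat.le_mul_of_pos_right q he
  have hbigy : (q : ℤ) ≤ ((q * f : ℕ) : ℤ) := by exact_mod_cast Nat.le_mul_of_pos_right q hf
  -- kernel and cokernel are killed by high degrees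
  have hK : ∀ s : ℤ, (q : ℤ) ≤ s → ∀ c ∈ 𝒜 s, ∀ k, μ k = 0 → c • k = 0 := fun s hs c hc k hk => by
    obtain ⟨t, ht, -⟩ := exists_sum_cp 𝒩 k
    rw [← ht, Finset.smul_sum]
    refine Finset.sum_eq_zero fun i _ => ?_
    obtain ⟨s₀, j, hs₀, hs₀q, hj⟩ := exists_residue q hq i
    refine smul_eq_zero_of_standard hpos hstd _ s₀ hs₀ (fun b hb => hinj j _ ?_ ?_) s (hs₀q.trans hs) c hc
    · rw [← hj]; exact smul_mem' 𝒜 𝒩 hb (cp_mem 𝒩 i k)
    · rw [map_smul, hcomp, hk, map_zero, smul_zero]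
  have hC : ∀ s : ℤ, (q : ℤ) ≤ s → ∀ c ∈ 𝒜 s, ∀ t : X, c • t ∈ LinearMap.range μ := fun s hs c hc t => by
    obtain ⟨ss, hss, -⟩ := exists_sum_cp 𝒳 t
    rw [← hss, Finset.smul_sum]
    refine sum_mem fun i _ => ?_
    obtain ⟨s₀, j, hs₀, hs₀q, hj⟩ := exists_residue q hq i
    have h1 := smul_eq_zero_of_standard (X := X ⧸ LinearMap.range μ) hpos hstd (Submodule.Quotient.mk (cp 𝒳 i t)) s₀ hs₀
      (fun b hb => by
        rw [← Submodule.Quotient.mk_smul, Submodule.Quotient.mk_eq_zero]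
        exact hsurj j _ (hj ▸ smul_mem' 𝒜 𝒳 hb (cp_mem 𝒳 i t))) s (hs₀q.trans hs) c hc
    rwa [← Submodule.Quotient.mk_smul, Submodule.Quotient.mk_eq_zero] at h1
  -- the dual is divisible
  have hXx : ∀ t : X, ∃ w, x • w = t := fun t => by
    induction t using induction_on_hom 𝒳 with
    | h0 => exact ⟨0, smul_zero _⟩
    | ha a b ha hb =>
      obtain ⟨w, rfl⟩ := ha
      obtain ⟨w', rfl⟩ := hb
      exact ⟨w + w', smul_add _ _ _⟩
    | hh g v hv =>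
      obtain ⟨w, -, hw, -⟩ := hX.exists_div h0 ⊥ (fun i r hr => by simp [(Submodule.mem_bot R).1 hr]) hx
        (fun r hr => (Submodule.mem_bot R).2 (hxreg (by
          change x * r = x * 0; rw [mul_zero]; exact (Submodule.mem_bot R).1 hr)))
        hv (fun c hc => by rw [(Submodule.mem_bot R).1 hc, zero_smul])
      exact ⟨w, hw⟩
  have hsur : Function.Surjective μ := fun t => by
    have hpow : ∀ k : ℕ, ∀ t : X, ∃ w, x ^ k • w = t := by
      intro k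
      induction k with
      | zero => exact fun t => ⟨t, by simp⟩
      | succ k ih =>
        intro t
        obtain ⟨w, rfl⟩ := ih t
        obtain ⟨w', rfl⟩ := hXx w
        exact ⟨w', by rw [pow_succ, mul_smul]⟩
    obtain ⟨w, rfl⟩ := hpow q t
    exact hC _ hbigx _ hxp w
  have hpowreg : ∀ (k : ℕ) (r : R), y ^ k * r ∈ Ideal.span {x} → r ∈ Ideal.span {x} := by
    intro k
    induction k with
    | zero => intro r hr; simpa using hr
    | succ k ih => intro r hr; exact hyreg r (ih _ (by rwa [pow_succ, mul_assoc] at hr))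
  -- elements killed by `x` lift
  have hlift : ∀ t : X, x • t = 0 → ∃ h, x • h = 0 ∧ μ h = t := fun t htx => by
    obtain ⟨ss, hss, -⟩ := exists_sum_cp 𝒳 t
    have hone : ∀ i, ∃ h, x • h = 0 ∧ μ h = cp 𝒳 i t := fun i => by
      have hti : x • cp 𝒳 i t = 0 := by rw [← cp_smul_hom 𝒜 𝒳 hx, htx, map_zero]
      obtain ⟨w, -, hw, hwx⟩ := hX.exists_div h0 (Ideal.span {x})
        (Ideal.homogeneous_span 𝒜 _ fun c hc => ⟨(e : ℤ), (Set.mem_singleton_iff.1 hc).symm ▸ hx⟩) hyp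
        (hpowreg q)
        (cp_mem 𝒳 i t) (fun c hc => by
          obtain ⟨d, rfl⟩ := Ideal.mem_span_singleton'.1 hc
          rw [mul_smul, hti, smul_zero])
      obtain ⟨h₀, rfl⟩ := hsur w
      refine ⟨y ^ q • h₀, ?_, by rw [map_smul, hw]⟩
      rw [smul_comm]
      refine hK _ hbigy _ hyp _ ?_
      rw [map_smul]
      exact hwx x (Ideal.mem_span_singleton_self x)
    choose h hh hh' using hone
    exact ⟨∑ i ∈ ss, h i, by rw [Finset.smul_sum]; exact Finset.sum_eq_zero fun i _ => hh i,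
      by rw [map_sum, Finset.sum_congr rfl fun i _ => hh' i, hss]⟩
  refine ⟨(injective_iff_map_eq_zero μ).2 fun z hz => ?_, hsur⟩
  have hpow : ∀ k : ℕ, ∃ z', μ z' = 0 ∧ x ^ k • z' = z := by
    intro k
    induction k with
    | zero => exact ⟨z, hz, by simp⟩
    | succ k ih =>
      obtain ⟨z', hz', rfl⟩ := ih
      obtain ⟨w, rfl⟩ := hdiv z'
      obtain ⟨h, hh, hh'⟩ := hlift (μ w) (by rw [← map_smul, hz'])
      refine ⟨w - h, by rw [map_sub, hh', sub_self], ?_⟩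
      rw [pow_succ, mul_smul, smul_sub, hh, sub_zero]
  obtain ⟨z', hz', rfl⟩ := hpow q
  exact hK _ hbigx _ hxp _ hz'

variable {R' : Type u} [CommRing R'] {𝒜' : ℤ → AddSubgroup R'} [GradedRing 𝒜'] [Algebra R' R] {q : ℕ}

/-- if a Veronese subring of a standard graded Cohen–Macaulay ring of dimension at least two is Gorenstein, then so is
the ring, and `q` divides the `a`-invariant -/
theorem exists_dual_of_ver [LocCoh.IsCohenMacaulayRing R] [LocCoh.IsGorensteinRing R'] (h : IsVer 𝒜 𝒜' q)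
    (hpos : ∀ n : ℤ, n < 0 → 𝒜 n = ⊥) (h0 : IsField (GrLC.deg0 𝒜)) (hm : GrLC.IsStarLocal 𝒜 m)
    (hmsp : m.toIdeal = Ideal.span (⋃ n ∈ Set.Ioi (0 : ℤ), (𝒜 n : Set R)))
    (hstd : Ideal.span (⋃ n ∈ Set.Ioi (0 : ℤ), (𝒜 n : Set R)) = Ideal.span ((𝒜 1 : AddSubgroup R) : Set R))
    (n : ℕ) (hn : ringKrullDim R = n) (h2 : 2 ≤ n) (I : GrLC.StarInjRes 𝒜 𝒜) :
    ∃ (b : ℤ) (W : GrLC.GMod.{u} 𝒜) (φ : I.H m n ≃ₗ[R] W.carrier), IsDual 𝒜 W.gr ∧
      (∀ d x, x ∈ I.Hgr m n d → φ x ∈ W.gr (d - b * q)) ∧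
      ∀ d y, y ∈ W.gr d → φ.symm y ∈ I.Hgr m n (d + b * q) := by
  classical
  have hpos' := pos_ver h hpos
  have h0' := isField_deg0_ver h h0
  let m' := posIdeal 𝒜'
  have hm' : GrLC.IsStarLocal 𝒜' m' := posIdeal_isStarLocal hpos' h0'
  haveI := isIntegral_ver h
  have hn' : m'.toIdeal.height = n := by
    have h1 := ringKrullDim_eq_height_starLocal hpos' hm'
    rw [ringKrullDim_eq_of_integral h.inj, hn] at h1
    exact_mod_cast h1.symm
  obtain ⟨I'⟩ := nonempty_starInjRes 𝒜' 𝒜'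
  obtain ⟨b, W', φ', hW', hφ', hφ's⟩ := exists_dual_shift hpos' h0' hm' n hn' I'
  let g : R' →ₛₗ[algebraMap R' R] R :=
    { toFun := algebraMap R' R, map_add' := map_add _, map_smul' := fun r x => map_mul _ r x }
  obtain ⟨Θ, hΘ, hΘmap⟩ := exists_verH h hmsp (m' := m') rfl g h.inj (fun j => by
    ext y
    exact ⟨fun ⟨r, hr, e⟩ => e ▸ h.mem j r hr, fun hy => by
      obtain ⟨r, hr, e⟩ := h.surj j y hy
      exact ⟨r, hr, e⟩⟩) I I' n
  obtain ⟨X, hX⟩ := exists_isDual hpos h0 hm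
  obtain ⟨u, hu, hune, hline⟩ := hX.line
  obtain ⟨u', hu', hune', hline'⟩ := hW'.line
  obtain ⟨T, hT⟩ := exists_line_map (𝒜 := 𝒜) (algebraMap R' R) h0' hune' u
  obtain ⟨S, hS⟩ := exists_line_map (𝒜 := 𝒜') (Function.invFun (algebraMap R' R)) h0 hune u'
  have hsurj0 : ∀ r ∈ 𝒜 0, ∃ s ∈ 𝒜' 0, algebraMap R' R s = r := fun r hr => h.surj 0 r (by rwa [zero_mul])
  have hmem0 : ∀ s ∈ 𝒜' 0, algebraMap R' R s ∈ 𝒜 0 := fun s hs => by
    have h1 := h.mem 0 s hs; rwa [zero_mul] at h1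
  have hS' : ∀ s ∈ 𝒜' 0, S (algebraMap R' R s • u) = s • u' := fun s hs => by
    rw [hS _ (hmem0 s hs), Function.leftInverse_invFun h.inj s]
  have hline0 : ∀ t ∈ X.gr 0, ∃ s ∈ 𝒜' 0, algebraMap R' R s • u = t := fun t ht => by
    obtain ⟨r, hr, rfl⟩ := hline t ht
    obtain ⟨s, hs, rfl⟩ := hsurj0 r hr
    exact ⟨s, hs, rfl⟩
  letI := (Hgr_isInternal m I n).chooseDecomposition
  letI := (Hgr_isInternal m' I' n).chooseDecomposition
  haveI : SetLike.GradedSMul 𝒜 (I.Hgr m n) := ⟨fun {_ _ _ _} hr hx => smul_mem_Hgr I m n hr hx⟩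
  haveI : SetLike.GradedSMul 𝒜' (I'.Hgr m' n) := ⟨fun {_ _ _ _} hr hx => smul_mem_Hgr I' m' n hr hx⟩
  let N := shG 𝒜 (I.Hgr m n) (b * q)
  have hN : ∀ j (z : N.carrier), z ∈ N.gr (j * q) → ∃ w ∈ I'.Hgr m' n (j + b), Θ w = z := fun j z hz => by
    have h1 : (z : I.H m n) ∈ I.Hgr m n (j * q + b * q) := hz
    rw [← add_mul] at h1
    exact AddSubgroup.mem_map.1 ((hΘmap (j + b)).ge h1)
  have hW0 : ∀ j w, w ∈ I'.Hgr m' n (j + b) → φ' w ∈ W'.gr j := fun j w hw => by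
    have h1 := hφ' _ w hw; rwa [add_sub_cancel_right] at h1
  let μ₀ : N.carrier → X.carrier := fun z => T (φ' (Function.invFun Θ z))
  have hμ₀ : ∀ w, μ₀ (Θ w) = T (φ' w) := fun w => congrArg (fun v => T (φ' v)) (Function.leftInverse_invFun hΘ w)
  have hN0 : ∀ z : N.carrier, z ∈ N.gr 0 → ∃ w, φ' w ∈ W'.gr 0 ∧ Θ w = z := fun z hz => by
    obtain ⟨w, hw, e⟩ := hN 0 z (by rwa [zero_mul])
    exact ⟨w, hW0 0 w hw, e⟩
  have hTadd : ∀ a ∈ W'.gr 0, ∀ c ∈ W'.gr 0, T (a + c) = T a + T c := fun a ha c hc => by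
    obtain ⟨r, hr, rfl⟩ := hline' a ha
    obtain ⟨s, hs, rfl⟩ := hline' c hc
    rw [← add_smul, hT _ (add_mem hr hs), hT _ hr, hT _ hs, map_add, add_smul]
  have hTmem : ∀ a ∈ W'.gr 0, T a ∈ X.gr 0 := fun a ha => by
    obtain ⟨r, hr, rfl⟩ := hline' a ha
    rw [hT r hr]
    have h1 := smul_mem' 𝒜 X.gr (hmem0 r hr) hu
    rwa [add_zero] at h1
  have hTsm : ∀ s ∈ 𝒜' 0, ∀ a ∈ W'.gr 0, T (s • a) = algebraMap R' R s • T a := fun s hs a ha => by
    obtain ⟨r, hr, rfl⟩ := hline' a ha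
    have hsr : s * r ∈ 𝒜' 0 := by have := SetLike.mul_mem_graded hs hr; rwa [add_zero] at this
    rw [← mul_smul, hT _ hsr, hT _ hr, map_mul, mul_smul]
  have hTinj : ∀ a ∈ W'.gr 0, T a = 0 → a = 0 := fun a ha hTa => by
    obtain ⟨r, hr, rfl⟩ := hline' a ha
    rw [hT r hr] at hTa
    have h2 := hS' r hr
    rw [hTa, ← zero_smul R u, ← map_zero (algebraMap R' R), hS' 0 (zero_mem _), zero_smul] at h2
    exact h2.symm
  obtain ⟨μ, hμ, hμ0⟩ := hX.exists_hom (𝒩 := N.gr) μ₀ (fun z hz => by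
      obtain ⟨w, hw, rfl⟩ := hN0 z hz
      rw [hμ₀]; exact hTmem _ hw)
    (fun z hz z' hz' => by
      obtain ⟨w, hw, rfl⟩ := hN0 z hz
      obtain ⟨w', hw', rfl⟩ := hN0 z' hz'
      refine (congrArg μ₀ (map_add Θ w w').symm).trans ?_
      rw [hμ₀, hμ₀, hμ₀, map_add, hTadd _ hw _ hw'])
    (fun r hr z hz => by
      obtain ⟨w, hw, rfl⟩ := hN0 z hz
      obtain ⟨s, hs, rfl⟩ := hsurj0 r hr
      refine (congrArg μ₀ (Θ.map_smulₛₗ s w).symm).trans ?_
      rw [hμ₀, hμ₀, map_smul, hTsm s hs _ hw])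
  -- the value on the degrees divisible by `q`
  have hkey : ∀ j w, w ∈ I'.Hgr m' n (j + b) → ∀ c ∈ 𝒜' (-j),
      algebraMap R' R c • μ (Θ w) = T (c • φ' w) := fun j w hw c hc => by
    have h1 : c • w ∈ I'.Hgr m' n (-j + (j + b)) := smul_mem' 𝒜' (I'.Hgr m' n) hc hw
    rw [neg_add_cancel_left] at h1
    rw [← μ.map_smul, ← map_smul φ', ← hμ₀ (c • w)]
    refine (congrArg μ (Θ.map_smulₛₗ c w).symm).trans (hμ0 _ ?_)
    change Θ (c • w) ∈ I.Hgr m n (0 + b * q)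
    rw [zero_add]
    exact hΘmap b ▸ AddSubgroup.mem_map_of_mem _ h1
  have hΘN : ∀ j w, w ∈ I'.Hgr m' n (j + b) → (Θ w : N.carrier) ∈ N.gr (j * q) := fun j w hw => by
    change Θ w ∈ I.Hgr m n (j * q + b * q)
    rw [← add_mul]
    exact hΘmap (j + b) ▸ AddSubgroup.mem_map_of_mem _ hw
  have hinj : ∀ j : ℤ, ∀ z ∈ N.gr (j * q), μ z = 0 → z = 0 := fun j z hz hμz => by
    obtain ⟨w, hw, rfl⟩ := hN j z hz
    suffices hw0 : φ' w = 0 by rw [φ'.map_eq_zero_iff.1 hw0, map_zero]; rfl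
    refine hW'.uniq j _ (hW0 j w hw) fun c hc => hTinj _ ?_ ?_
    · have h1 := smul_mem' 𝒜' W'.gr hc (hW0 j w hw)
      rwa [neg_add_cancel] at h1
    · rw [← hkey j w hw c hc, hμz, smul_zero]
  have hsurj : ∀ j : ℤ, ∀ t ∈ X.gr (j * q), ∃ z, μ z = t := fun j t ht => by
    have hdeg : ∀ c ∈ 𝒜' (-j), algebraMap R' R c • t ∈ X.gr 0 := fun c hc => by
      have h1 := smul_mem' 𝒜 X.gr (h.mem _ c hc) ht
      rwa [neg_mul, neg_add_cancel] at h1
    obtain ⟨v, hv, hvc⟩ := hW'.exist j (fun c => S (algebraMap R' R c • t))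
      (fun c hc => by
        obtain ⟨s, hs, e⟩ := hline0 _ (hdeg c hc)
        change S (algebraMap R' R c • t) ∈ W'.gr 0
        rw [← e, hS' s hs]
        have h1 := smul_mem' 𝒜' W'.gr hs hu'
        rwa [add_zero] at h1)
      (fun a ha c hc => by
        obtain ⟨s, hs, e⟩ := hline0 _ (hdeg a ha)
        obtain ⟨s', hs', e'⟩ := hline0 _ (hdeg c hc)
        change S (algebraMap R' R (a + c) • t) = S (algebraMap R' R a • t) + S (algebraMap R' R c • t)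
        rw [map_add, add_smul, ← e, ← e', ← add_smul, ← map_add, hS' _ (add_mem hs hs'), hS' s hs, hS' s' hs', add_smul])
      (fun r hr c hc => by
        obtain ⟨s, hs, e⟩ := hline0 _ (hdeg c hc)
        have hrs : r * s ∈ 𝒜' 0 := by have := SetLike.mul_mem_graded hr hs; rwa [add_zero] at this
        change S (algebraMap R' R (r * c) • t) = r • S (algebraMap R' R c • t)
        rw [map_mul, mul_smul, ← e, ← mul_smul, ← map_mul, hS' _ hrs, hS' s hs, mul_smul])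
    have hw := hφ's j v hv
    refine ⟨Θ (φ'.symm v), ?_⟩
    rw [← sub_eq_zero]
    refine hX.uniq _ _ (sub_mem (hμ _ _ (hΘN j _ hw)) ht) fun r hr => ?_
    rw [← neg_mul] at hr
    obtain ⟨c, hc, rfl⟩ := h.surj (-j) r hr
    obtain ⟨s, hs, e⟩ := hline0 _ (hdeg c hc)
    rw [smul_sub, hkey j _ hw c hc, φ'.apply_symm_apply, hvc c hc]
    change T (S (algebraMap R' R c • t)) - algebraMap R' R c • t = 0
    rw [← e, hS' s hs, hT s hs, sub_self]
  -- regular elements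
  have hsub : ∀ i < n, Subsingleton (I.H m i) := fun i hi => subsingleton_of_forall_eq 0 fun z => by
    letI := (Hgr_isInternal m I i).chooseDecomposition
    refine eq_zero_of_cp (I.Hgr m i) fun d => ?_
    have h1 := cp_mem (I.Hgr m i) d z
    rwa [van_below_dim hpos hm hn hi d I, AddSubgroup.mem_bot] at h1
  have hgam : GrLC.gam m.toIdeal R = ⊥ := by
    obtain ⟨e, -⟩ := exists_H0_equiv m I
    haveI := hsub 0 (by omega)
    exact (Submodule.eq_bot_iff _).2 fun v hv => congrArg Subtype.val (e.injective (Subsingleton.elim (e ⟨v, hv⟩) (e 0)))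
  obtain ⟨e, x, he, hx, hxreg⟩ := exists_homog_regular_pos (M := R) m hmsp hgam
  have hquot := gam_quot_eq_bot I (hsub 0 (by omega)) (hsub 1 (by omega)) hx hxreg
  obtain ⟨f, y, hf, hy, hyreg⟩ := exists_homog_regular_pos (M := R ⧸ Ideal.span {x}) m hmsp
    ((Submodule.eq_bot_iff _).2 fun v hv => by
      obtain ⟨w, rfl⟩ := Submodule.Quotient.mk_surjective _ v
      obtain ⟨k, hk⟩ := hv
      obtain ⟨v', hv'⟩ := hquot w ⟨k, fun r hr => by
        have h1 := hk r hr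
        rw [← Submodule.Quotient.mk_smul, Submodule.Quotient.mk_eq_zero] at h1
        obtain ⟨d, hd⟩ := Ideal.mem_span_singleton'.1 h1
        exact ⟨d, by rw [smul_eq_mul, mul_comm]; exact hd⟩⟩
      exact (Submodule.Quotient.mk_eq_zero _).2 (Ideal.mem_span_singleton'.2 ⟨v', by rw [mul_comm]; exact hv'⟩))
  have hbij := bijective_of_divisible (𝒩 := N.gr) hX h0 hpos hstd q h.pos μ hμ hinj hsurj he hx hxreg
    (fun z => exists_div_top n hn I hx hxreg z) hf hy (fun r hr => (Submodule.Quotient.mk_eq_zero _).1 (hyreg (by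
      change y • Submodule.Quotient.mk r = y • (0 : R ⧸ Ideal.span {x})
      rw [smul_zero, ← Submodule.Quotient.mk_smul, Submodule.Quotient.mk_eq_zero]
      exact hr)))
  let μ' : I.H m n →ₗ[R] X.carrier := μ
  let e' : I.H m n ≃ₗ[R] X.carrier := LinearEquiv.ofBijective μ' hbij
  have he' : GrLC.IsGrHom N.gr X.gr (e'.toLinearMap : N.carrier →ₗ[R] X.carrier) := hμ
  refine ⟨b, X, e', hX, fun d z hz => hμ (d - b * q) z ?_, fun d t ht => ?_⟩
  · change z ∈ I.Hgr m n (d - b * q + b * q)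
    rwa [sub_add_cancel]
  · exact grHom_symm N.gr X.gr (LinearEquiv.ofBijective μ hbij) hμ d t ht

end Groth.L12.GrLCLib
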