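import Groth.Agent.L12.GrLCVer

/-!
# Local cohomology of Veronese modules
-/

set_option autoImplicit false

universe u

open DirectSum

namespace Groth.L12.GrLCLib

variable {R : Type u} [CommRing R] {𝒜 : ℤ → AddSubgroup R} [GradedRing 𝒜] [IsNoetherianRing R]
variable {R' : Type u} [CommRing R'] {𝒜' : ℤ → AddSubgroup R'} [GradedRing 𝒜'] [Algebra R' R] {q : ℕ}

/-- restriction of scalars on bundled graded modules -/
@[reducible] noncomputable def verMod (X : GrLC.GMod.{u} 𝒜) : Module R' X.carrier :=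
  Module.compHom X.carrier (algebraMap R' R)

attribute [local instance] verMod

local instance (X : GrLC.GMod.{u} 𝒜) : IsScalarTower R' R X.carrier :=
  IsScalarTower.of_algebraMap_smul fun _ _ => rfl

omit [IsNoetherianRing R] in
lemma verProj_map {X Y : Type u} [AddCommGroup X] [AddCommGroup Y] (𝒳 : ℤ → AddSubgroup X) (𝒴 : ℤ → AddSubgroup Y)
    [DirectSum.Decomposition 𝒳] [DirectSum.Decomposition 𝒴] (f : X →+ Y) (hf : ∀ g, ∀ x ∈ 𝒳 g, f x ∈ 𝒴 g) (x : X) :
    verProj 𝒴 q (f x) = f (verProj 𝒳 q x) := by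
  induction x using induction_on_hom 𝒳 with
  | h0 => simp
  | hh g y hy => rw [verProj_mem 𝒳 hy, verProj_mem 𝒴 (hf g y hy)]; split_ifs <;> simp
  | ha a b ha hb => simp only [map_add, ha, hb]

variable (h : IsVer 𝒜 𝒜' q) {m : HomogeneousIdeal 𝒜} {m' : HomogeneousIdeal 𝒜'}
  (hm : m.toIdeal = Ideal.span (⋃ n ∈ Set.Ioi (0 : ℤ), (𝒜 n : Set R)))
  (hm' : m'.toIdeal = Ideal.span (⋃ j ∈ Set.Ioi (0 : ℤ), (𝒜' j : Set R')))

variable {M : Type u} [AddCommGroup M] [Module R M] {ℳ : ℤ → AddSubgroup M} [DirectSum.Decomposition ℳ]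
  [SetLike.GradedSMul 𝒜 ℳ]
variable {M' : Type u} [AddCommGroup M'] [Module R' M'] {ℳ' : ℤ → AddSubgroup M'} [DirectSum.Decomposition ℳ']
  [SetLike.GradedSMul 𝒜' ℳ']

include h hm hm' in
/-- `H_{m'}(M^{(q)}) = H_m(M)^{(q)}` -/
theorem exists_verH (g : M' →ₛₗ[algebraMap R' R] M) (hg : Function.Injective g)
    (hgdeg : ∀ j : ℤ, (ℳ' j).map (g : M' →+ M) = ℳ (j * q)) (E : GrLC.StarInjRes 𝒜 ℳ)
    (F : GrLC.StarInjRes 𝒜' ℳ') (p : ℕ) :
    ∃ Θ : F.H m' p →ₛₗ[algebraMap R' R] E.H m p, Function.Injective Θ ∧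
      ∀ j : ℤ, (F.Hgr m' p j).map (Θ : F.H m' p →+ E.H m p) = E.Hgr m p (j * q) := by
  haveI := isNoetherianRing_ver h
  let W : ℕ → GrLC.GMod.{u} 𝒜' := fun n => verG (E.X n).gr h
  let inW : ∀ n, (W n).carrier → (E.X n).carrier := fun n x => Subtype.val (p := fun y => y ∈ verSub (E.X n).gr h) x
  have hWfix : ∀ n (x : (W n).carrier), verProj (E.X n).gr q (inW n x) = inW n x := fun n x => x.2
  have hdP : ∀ n (x : (E.X n).carrier), verProj (E.X (n + 1)).gr q (E.d n x) = E.d n (verProj (E.X n).gr q x) :=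
    fun n x => verProj_map (E.X n).gr (E.X (n + 1)).gr (E.d n).toAddMonoidHom (E.d_grHom n) x
  have hdW : ∀ n (x : verSub (E.X n).gr h), E.d n x.1 ∈ verSub (E.X (n + 1)).gr h := fun n x => by
    rw [mem_verSub, hdP, (x.2 : verProj (E.X n).gr q x.1 = x.1)]
  let dW : ∀ n, (W n).carrier →ₗ[R'] (W (n + 1)).carrier := fun n =>
    LinearMap.codRestrict _ ((E.d n).restrictScalars R' ∘ₗ (verSub (E.X n).gr h).subtype) (hdW n)
  have hker : ∀ n (x : (W n).carrier), dW n x = 0 → E.d n (inW n x) = 0 := fun n x e => congrArg (inW (n + 1)) e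
  have hgmem : ∀ j, ∀ x ∈ ℳ' j, g x ∈ ℳ (j * q) := fun j x hx => hgdeg j ▸ AddSubgroup.mem_map_of_mem _ hx
  have hgP : ∀ x, verProj ℳ q (g x) = g x := fun x => by
    induction x using induction_on_hom ℳ' with
    | h0 => simp
    | hh d y hy => rw [verProj_mem ℳ (hgmem d y hy), if_pos (dvd_mul_left _ _)]
    | ha a b ha hb => rw [map_add, map_add, ha, hb]
  have hεP : ∀ y, verProj (E.X 0).gr q (E.ε y) = E.ε (verProj ℳ q y) :=
    fun y => verProj_map ℳ (E.X 0).gr E.ε.toAddMonoidHom E.ε_grHom y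
  let εW : M' →ₗ[R'] (W 0).carrier :=
    { toFun := fun x => (⟨E.ε (g x), by rw [mem_verSub, hεP, hgP]⟩ : verSub (E.X 0).gr h)
      map_add' := fun x y => Subtype.ext (by simp only [map_add]; rfl)
      map_smul' := fun r x => Subtype.ext (by
        change E.ε (g (r • x)) = r • E.ε (g x)
        rw [map_smulₛₗ, map_smul]
        rfl) }
  have hgim : ∀ y, ∃ x, g x = verProj ℳ q y := fun y => by
    induction y using induction_on_hom ℳ with
    | h0 => exact ⟨0, by simp⟩
    | hh d z hz =>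
      rw [verProj_mem ℳ hz]
      split_ifs with hd
      · obtain ⟨j, rfl⟩ := hd
        obtain ⟨x, -, hx⟩ := AddSubgroup.mem_map.1 ((hgdeg j).symm ▸ (mul_comm (q : ℤ) j ▸ hz) : z ∈ (ℳ' j).map (g : M' →+ M))
        exact ⟨x, hx⟩
      · exact ⟨0, map_zero _⟩
    | ha a b ha hb =>
      obtain ⟨x, hx⟩ := ha
      obtain ⟨y, hy⟩ := hb
      exact ⟨x + y, by rw [map_add, map_add, hx, hy]⟩
  let A : AcSeq m' ℳ' :=
    { Y := W
      d := dW
      ε := εW
      d_grHom := fun n j x hx => E.d_grHom n (j * q) _ hx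
      ε_grHom := fun j x hx => E.ε_grHom (j * q) _ (hgmem j x hx)
      ε_injective := fun x y hxy => hg (E.ε_injective (congrArg Subtype.val hxy))
      exact_zero := by
        ext x
        constructor
        · intro hx
          have h1 : E.d 0 x.1 = 0 := hker 0 x hx
          obtain ⟨y, hy⟩ : x.1 ∈ LinearMap.range E.ε := E.exact_zero ▸ h1
          obtain ⟨z, hz⟩ := hgim y
          refine ⟨z, Subtype.ext ?_⟩
          change E.ε (g z) = x.1
          rw [hz, ← hεP, hy]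
          exact x.2
        · rintro ⟨z, rfl⟩
          exact LinearMap.mem_ker.2 (Subtype.ext (d_ε E (g z)))
      exact_succ := fun n => by
        ext x
        constructor
        · intro hx
          have h1 : E.d (n + 1) x.1 = 0 := hker (n + 1) x hx
          obtain ⟨y, hy⟩ : x.1 ∈ LinearMap.range (E.d n) := E.exact_succ n ▸ h1
          refine ⟨verP (E.X n).gr h y, Subtype.ext ?_⟩
          change E.d n (verProj (E.X n).gr q y) = x.1
          rw [← hdP, hy]
          exact x.2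
        · rintro ⟨z, rfl⟩
          exact LinearMap.mem_ker.2 (Subtype.ext (d_d E n _))
      acyclic := fun n i => subsingleton_H_ver (E.X n).gr h hm hm' (E.starInj n) i }
  obtain ⟨c, hcs, hc0, hcg⟩ := A.exists_classMap F p
  have hmem : ∀ z : A.cocyc p, inW p z.1 ∈ E.cocyc m p := fun z =>
    ⟨(gam_ver h hm hm' (verSub (E.X p).gr h) z.1).1 z.2.1, hker p z.1 z.2.2⟩
  let Θ₀ : A.cocyc p → E.H m p := fun z => E.toH m p ⟨inW p z.1, hmem z⟩
  have hsub : ∀ z z', Θ₀ (z - z') = Θ₀ z - Θ₀ z' := fun z z' => by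
    rw [← map_sub]; rfl
  have hzero : ∀ z, c z = 0 ↔ Θ₀ z = 0 := fun z => by
    rw [hc0]
    refine Iff.trans ?_ (Submodule.Quotient.mk_eq_zero ((E.cobdy m p).comap (E.cocyc m p).subtype)).symm
    change _ ↔ inW p z.1 ∈ E.cobdy m p
    cases p with
    | zero =>
      change z.1 ∈ (⊥ : Submodule R' (W 0).carrier) ↔ inW 0 z.1 ∈ (⊥ : Submodule R (E.X 0).carrier)
      rw [Submodule.mem_bot, Submodule.mem_bot]
      exact ⟨fun h0 => by rw [h0]; rfl, fun h0 => Subtype.ext h0⟩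
    | succ n =>
      constructor
      · rintro ⟨y, hy, hyz⟩
        exact ⟨inW n y, (gam_ver h hm hm' (verSub (E.X n).gr h) y).1 hy, congrArg Subtype.val hyz⟩
      · rintro ⟨x, hx, hxz⟩
        refine ⟨verP (E.X n).gr h x, gam_mono (verP (E.X n).gr h) ?_, Subtype.ext ?_⟩
        · obtain ⟨k, hk⟩ := hx
          exact ⟨k, (Groth.L04.LC.pow_smul_eq_zero_iff_map m'.toIdeal k x).1 fun b hb =>
            hk b (Ideal.pow_right_mono (map_le h hm hm') k hb)⟩
        · change E.d n (verProj (E.X n).gr q x) = inW (n + 1) z.1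
          rw [← hdP, hxz]
          exact hWfix (n + 1) z.1
  have hwd : ∀ z z', c z = c z' → Θ₀ z = Θ₀ z' := fun z z' e => by
    rw [← sub_eq_zero, ← hsub, ← hzero, map_sub, e, sub_self]
  let s : F.H m' p → A.cocyc p := fun y => (hcs y).choose
  have hs : ∀ y, c (s y) = y := fun y => (hcs y).choose_spec
  let Θ : F.H m' p →ₛₗ[algebraMap R' R] E.H m p :=
    { toFun := fun y => Θ₀ (s y)
      map_add' := fun y y' => by
        refine (hwd _ (s y + s y') (by rw [map_add, hs, hs, hs])).trans ?_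
        simp only [Θ₀]
        rw [← map_add]
        rfl
      map_smul' := fun r y => by
        refine (hwd _ (r • s y) (by rw [map_smul, hs, hs])).trans ?_
        simp only [Θ₀]
        rw [← map_smul]
        rfl }
  have hΘc : ∀ z, Θ (c z) = Θ₀ z := fun z => hwd _ _ (hs _)
  refine ⟨Θ, (injective_iff_map_eq_zero _).2 fun y hy => ?_, fun j => ?_⟩
  · rw [← hs y]
    exact (hzero _).2 hy
  · have hh : (A.cocyc p).IsHomogeneous (W p).gr := fun g x hx =>
      ⟨gam_isHomogeneous 𝒜' (W p).gr m' g hx.1, ker_isHomogeneous (W p).gr (W (p + 1)).gr (A.d_grHom p) g hx.2⟩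
    letI := (Hgr_isInternal m' F p).chooseDecomposition
    let C : GrLC.GMod.{u} 𝒜' := subG 𝒜' (W p).gr (A.cocyc p) hh
    ext y
    constructor
    · rintro ⟨x, hx, rfl⟩
      obtain ⟨z, rfl⟩ := hcs x
      let zC : C.carrier := z
      let cC : C.carrier →+ F.H m' p := c.toAddMonoidHom
      let zj : A.cocyc p := cp C.gr j zC
      have h1 : c zj = c z := by
        have h2 := cp_map C.gr (F.Hgr m' p) cC (fun g w hw => hcg g w hw) j zC
        have h3 : cp (F.Hgr m' p) j (cC zC) = c z := cp_same _ hx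
        exact h2.symm.trans h3
      change Θ (c z) ∈ E.Hgr m p (j * q)
      rw [← h1, hΘc]
      exact ⟨⟨inW p zj.1, hmem zj⟩, (cp_mem C.gr j zC :), rfl⟩
    · rintro ⟨w, hw, rfl⟩
      let w' : (W p).carrier := (⟨w.1, mem_verSub_of_mem (E.X p).gr h (dvd_mul_left _ _) hw⟩ : verSub (E.X p).gr h)
      have hz : w' ∈ A.cocyc p := ⟨(gam_ver h hm hm' (verSub (E.X p).gr h) w').2 w.2.1, LinearMap.mem_ker.2 (Subtype.ext w.2.2)⟩
      exact ⟨c ⟨w', hz⟩, hcg j ⟨w', hz⟩ hw, hΘc _⟩

end Groth.L12.GrLCLib
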