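import Groth.Agent.L12.GrRegSeq

/-!
# Lengths of graded modules bound the Hilbert function
-/

set_option autoImplicit false

universe u

open DirectSum

namespace Groth.L12.GrSyzLib

variable {k : Type u} [Field k] {σ : Type}

theorem sum_finrank_le_length : ∀ (ℓ : ℕ) (M : Type u) [AddCommGroup M] [Module (MvPolynomial σ k) M] [Module k M]
    [IsScalarTower k (MvPolynomial σ k) M]
    (ℳ : ℤ → Submodule k M) [DirectSum.Decomposition ℳ] [SetLike.GradedSMul (GrSyz.stdGr k σ) ℳ],
    Module.length (MvPolynomial σ k) M = (ℓ : ℕ∞) → (∀ d, Module.Finite k ↥(ℳ d)) → ∀ T : Finset ℤ,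
      ∑ d ∈ T, Module.finrank k ↥(ℳ d) ≤ ℓ := by
  intro ℓ
  induction ℓ with
  | zero =>
    intro M _ _ _ _ ℳ _ _ hl _ T
    haveI := Module.length_eq_zero_iff.1 hl
    rw [Finset.sum_eq_zero fun d _ => Module.finrank_zero_of_subsingleton]
  | succ ℓ ih =>
    intro M _ _ _ _ ℳ _ _ hl hfin T
    haveI : Nontrivial M := Module.length_pos_iff.1 (by rw [hl]; exact_mod_cast ℓ.succ_pos)
    haveI : IsArtinian (MvPolynomial σ k) M := (isFiniteLength_iff_isNoetherian_isArtinian.1
      (Module.length_ne_top_iff.1 (by rw [hl]; exact ENat.coe_ne_top _))).2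
    obtain ⟨b, hb⟩ := bddAbove_of_isArtinian (σ := σ) ℳ
    obtain ⟨d1, hd1⟩ : ∃ d, ℳ d ≠ ⊥ := by
      by_contra h
      push Not at h
      obtain ⟨x, hx⟩ := exists_ne (0 : M)
      exact hx (eq_zero_of_prj ℳ x fun d => (Submodule.mem_bot k).1 (h d ▸ prj_mem ℳ d x))
    obtain ⟨d0, hd0, hmax⟩ := Int.exists_greatest_of_bdd (P := fun d => ℳ d ≠ ⊥)
      ⟨b, fun z hz => not_lt.1 fun h => hz (hb z h)⟩ ⟨d1, hd1⟩
    obtain ⟨v, hv, hv0⟩ := (Submodule.ne_bot_iff _).1 hd0
    have hmv : ∀ r ∈ mm k σ, r • v = 0 := by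
      intro r hr
      refine Submodule.span_induction ?_ (zero_smul _ v) (fun a b _ _ ha hb => by rw [add_smul, ha, hb, add_zero])
        (fun a b _ hb => by rw [smul_eq_mul, mul_smul, hb, smul_zero]) hr
      rintro w ⟨n, hn, hw⟩
      have h := smul_mem_add ℳ (GrSyz.stdGr k σ) hw hv
      have h0 : ℳ (n + d0) = ⊥ := by
        by_contra h0
        have := hmax _ h0
        omega
      rwa [h0, Submodule.mem_bot] at h
    have hN : IsHom ℳ (Submodule.span (MvPolynomial σ k) {v}) :=
      span_isHom ℳ fun x hx => ⟨d0, by rwa [Set.mem_singleton_iff.1 hx]⟩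
    letI := quotDec ℳ hN
    have hscal : ∀ x ∈ Submodule.span (MvPolynomial σ k) {v}, x ∈ Submodule.span k {v} := by
      intro x hx
      obtain ⟨c, rfl⟩ := Submodule.mem_span_singleton.1 hx
      refine Submodule.mem_span_singleton.2 ⟨MvPolynomial.constantCoeff c, ?_⟩
      have h1 : (c - MvPolynomial.C (MvPolynomial.constantCoeff c)) • v = 0 :=
        hmv _ (mem_mm_iff.2 (by simp))
      rw [sub_smul, sub_eq_zero] at h1
      rw [h1, ← MvPolynomial.algebraMap_eq, algebraMap_smul]
    have hstep : ∀ d, Module.finrank k ↥(ℳ d) ≤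
        Module.finrank k ↥(quotGrM ℳ (Submodule.span (MvPolynomial σ k) {v}) d) + (if d = d0 then 1 else 0) := by
      intro d
      haveI := hfin d
      let q : ↥(ℳ d) →ₗ[k] M ⧸ Submodule.span (MvPolynomial σ k) {v} :=
        (Submodule.mkQ _).restrictScalars k ∘ₗ (ℳ d).subtype
      have hr : LinearMap.range q = quotGrM ℳ (Submodule.span (MvPolynomial σ k) {v}) d := by
        rw [quotGrM, LinearMap.range_comp, Submodule.range_subtype]
      have hker : Module.finrank k ↥(LinearMap.ker q) ≤ (if d = d0 then 1 else 0) := by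
        split_ifs with hd
        · refine le_trans (LinearMap.finrank_le_finrank_of_injective
            (f := LinearMap.codRestrict (Submodule.span k {v}) ((ℳ d).subtype ∘ₗ (LinearMap.ker q).subtype)
              fun x => hscal _ ((Submodule.Quotient.mk_eq_zero _).1 x.2))
            fun x y h => Subtype.ext (Subtype.ext (by have h' := congrArg (fun z => (z.1 : M)) h; exact h'))) ?_
          rw [finrank_span_singleton hv0]
        · rw [Nat.le_zero, Submodule.finrank_eq_zero, eq_bot_iff]
          intro x hx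
          obtain ⟨c, hc⟩ := Submodule.mem_span_singleton.1 (hscal _ ((Submodule.Quotient.mk_eq_zero _).1 hx))
          refine (Submodule.mem_bot k).2 (Subtype.ext ?_)
          change c • v = (x : M) at hc
          have h1 : prj ℳ d (x : M) = 0 := by rw [← hc, map_smul, prj_ne ℳ hv (Ne.symm hd), smul_zero]
          rwa [prj_same ℳ x.2] at h1
      have h := LinearMap.finrank_range_add_finrank_ker q
      rw [hr] at h
      omega
    refine (Finset.sum_le_sum fun d _ => hstep d).trans ?_
    rw [Finset.sum_add_distrib]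
    refine Nat.add_le_add (ih _ _ ?_ (fun d => ?_) T) (le_trans (le_of_eq (Finset.sum_ite_eq' T d0 _)) (by split_ifs <;> simp))
    · have := Module.length_eq_add_of_exact (Submodule.span (MvPolynomial σ k) {v}).subtype
        (Submodule.span (MvPolynomial σ k) {v}).mkQ (Submodule.subtype_injective _) (Submodule.mkQ_surjective _)
        (LinearMap.exact_subtype_mkQ _)
      have h1 : Module.length (MvPolynomial σ k) ↥(Submodule.span (MvPolynomial σ k) {v}) = 1 := by
        rw [Module.length_eq_one_iff]
        refine isSimpleModule_iff_isAtom.2 ⟨fun h => hv0 ?_, fun P hP => eq_bot_iff.2 fun x hx => ?_⟩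
        · exact (Submodule.mem_bot (MvPolynomial σ k)).1 (h ▸ Submodule.mem_span_singleton_self v)
        · by_contra hx0
          refine hP.2 (Submodule.span_le.2 (Set.singleton_subset_iff.2 ?_))
          obtain ⟨c, hc⟩ := Submodule.mem_span_singleton.1 (hscal x (hP.1 hx))
          have hc0 : c ≠ 0 := fun h => hx0 ((Submodule.mem_bot _).2 (by rw [← hc, h, zero_smul]))
          have := P.smul_mem (MvPolynomial.C c⁻¹) hx
          rwa [← hc, ← MvPolynomial.algebraMap_eq, algebraMap_smul, smul_smul, inv_mul_cancel₀ hc0, one_smul] at this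
      rw [hl, h1, Nat.cast_add, Nat.cast_one, add_comm] at this
      exact ((ENat.add_left_injective_of_ne_top (n := 1) (by simp)) (by simpa [add_comm] using this)).symm
    · haveI := hfin d
      exact Module.Finite.of_surjective (LinearMap.codRestrict _
        ((Submodule.mkQ (Submodule.span (MvPolynomial σ k) {v})).restrictScalars k ∘ₗ (ℳ d).subtype)
        (fun x => ⟨x.1, x.2, rfl⟩)) (by rintro ⟨_, x, hx, rfl⟩; exact ⟨⟨x, hx⟩, rfl⟩)

end Groth.L12.GrSyzLib
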