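/-
One-dimensional positively graded domains over an algebraically closed field.
-/
import Groth.Agent.L12.GrLCBase
import Groth.Agent.L22.AffineDim
import Mathlib.Algebra.MonoidAlgebra.Basic
import Mathlib.Algebra.Polynomial.AlgebraMap
import Mathlib.FieldTheory.IsAlgClosed.Basic
import Mathlib.RingTheory.GradedAlgebra.Basic
import Mathlib.RingTheory.Jacobson.Ring
import Mathlib.RingTheory.MvPolynomial.WeightedHomogeneous

/-!
# Graded domains of dimension one are semigroup rings
-/

set_option autoImplicit false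

universe u

open DirectSum

namespace Groth.L12.GrOneDimDom

open Groth.L12.GrLCLib

variable {k : Type u} [Field k] [IsAlgClosed k] {R : Type u} [CommRing R] [IsDomain R] [Algebra k R]
  (𝒜 : ℤ → Submodule k R) [GradedAlgebra 𝒜]

/-- the binary form evaluated at `a`, `b` only has terms in one degree -/
lemma eval_mem {n : ℕ} {a b : R} (ha : a ∈ 𝒜 n) (hb : b ∈ 𝒜 n) {F : MvPolynomial (Fin 2) k} {d : ℕ}
    (hF : F.IsHomogeneous d) : MvPolynomial.aeval ![a, b] F ∈ 𝒜 ((d * n : ℕ) : ℤ) := by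
  classical
  rw [MvPolynomial.aeval_def, MvPolynomial.eval₂_eq']
  refine Submodule.sum_mem _ fun s hs => ?_
  rw [← Algebra.smul_def]
  refine Submodule.smul_mem _ _ ?_
  have hd : s 0 + s 1 = d := by
    have := hF (MvPolynomial.mem_support_iff.1 hs)
    simpa [Finsupp.weight_apply, Finsupp.sum_fintype, Fin.sum_univ_two] using this
  rw [Fin.prod_univ_two]
  change a ^ s 0 * b ^ s 1 ∈ _
  have h := SetLike.mul_mem_graded (A := 𝒜) (SetLike.pow_mem_graded (s 0) ha) (SetLike.pow_mem_graded (s 1) hb)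
  rwa [← add_nsmul, hd, nsmul_eq_mul, ← Nat.cast_mul] at h

/-- two elements of the same degree are proportional -/
theorem exists_scalar [Algebra.FiniteType k R] (hpos : ∀ n : ℤ, n < 0 → 𝒜 n = ⊥)
    (h0 : 𝒜 0 = Submodule.span k {(1 : R)}) (h1 : ringKrullDim R = 1) {g : ℤ} {a b : R} (ha : a ∈ 𝒜 g)
    (hb : b ∈ 𝒜 g) (hb0 : b ≠ 0) : ∃ c : k, a = c • b := by
  classical
  rcases lt_trichotomy g 0 with hg | rfl | hg
  · rw [hpos g hg, Submodule.mem_bot] at hb
    exact absurd hb hb0
  · rw [h0, Submodule.mem_span_singleton] at ha hb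
    obtain ⟨x, rfl⟩ := ha
    obtain ⟨y, rfl⟩ := hb
    have hy : y ≠ 0 := fun h => hb0 (by rw [h, zero_smul])
    exact ⟨x / y, by rw [smul_smul, div_mul_cancel₀ _ hy]⟩
  obtain ⟨n, rfl⟩ : ∃ n : ℕ, g = (n : ℤ) := ⟨g.toNat, by omega⟩
  have hdep : ¬ AlgebraicIndependent k ![a, b] := fun h => by
    obtain ⟨d, -, -, -, hd, htr⟩ := Groth.L22.AffineDim.exists_normalization k R
    have hd1 : d = 1 := by rw [h1] at hd; exact_mod_cast hd.symm
    have h2 := h.lift_cardinalMk_le_trdeg
    rw [htr, hd1] at h2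
    simp at h2
  obtain ⟨F, hF, hF0⟩ : ∃ F : MvPolynomial (Fin 2) k, MvPolynomial.aeval ![a, b] F = 0 ∧ F ≠ 0 := by
    by_contra hc
    push Not at hc
    exact hdep (algebraicIndependent_iff.2 hc)
  obtain ⟨s₀, hs₀⟩ := (MvPolynomial.support_nonempty (p := F)).2 hF0
  set d := Finsupp.degree s₀ with hd
  set G := MvPolynomial.homogeneousComponent d F with hG
  have hGhom : G.IsHomogeneous d := MvPolynomial.homogeneousComponent_isHomogeneous d F
  have hG0 : MvPolynomial.coeff s₀ G ≠ 0 := by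
    rw [hG, MvPolynomial.coeff_homogeneousComponent, if_pos rfl]
    exact MvPolynomial.mem_support_iff.1 hs₀
  have hGev : MvPolynomial.aeval ![a, b] G = 0 := by
    have h2 := congrArg (cp 𝒜 ((d * n : ℕ) : ℤ)) hF
    rw [map_zero, ← MvPolynomial.sum_homogeneousComponent F, map_sum, map_sum] at h2
    rw [← h2, Finset.sum_eq_single d]
    · exact (cp_same 𝒜 (eval_mem 𝒜 ha hb hGhom)).symm
    · intro e _ he
      refine cp_ne 𝒜 (eval_mem 𝒜 ha hb (MvPolynomial.homogeneousComponent_isHomogeneous e F)) ?_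
      intro hh
      exact he (Nat.eq_of_mul_eq_mul_right (by omega) (Nat.cast_injective hh))
    · intro hd'
      rw [MvPolynomial.homogeneousComponent_eq_zero _ _ (by rw [Finset.mem_range] at hd'; omega)]
      simp
  let K := FractionRing R
  have hbK : algebraMap R K b ≠ 0 := fun h => hb0 (IsFractionRing.injective R K (by rw [h, map_zero]))
  set r : K := algebraMap R K a / algebraMap R K b with hr
  set p : Polynomial k := ∑ s ∈ G.support, Polynomial.monomial (s 0) (MvPolynomial.coeff s G) with hp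
  have hdeg : ∀ s ∈ G.support, s 0 + s 1 = d := fun s hs => by
    have := hGhom (MvPolynomial.mem_support_iff.1 hs)
    simpa [Finsupp.weight_apply, Finsupp.sum_fintype, Fin.sum_univ_two] using this
  have hpr : Polynomial.aeval r p * (algebraMap R K b) ^ d = 0 := by
    have h2 : algebraMap R K (MvPolynomial.aeval ![a, b] G) = 0 := by rw [hGev, map_zero]
    rw [MvPolynomial.aeval_def, MvPolynomial.eval₂_eq', map_sum] at h2
    rw [← h2, hp, map_sum, Finset.sum_mul]
    refine Finset.sum_congr rfl fun s hs => ?_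
    rw [Polynomial.aeval_monomial, Fin.prod_univ_two, map_mul, map_mul, map_pow, map_pow,
      ← IsScalarTower.algebraMap_apply, mul_assoc, ← hdeg s hs, pow_add]
    congr 1
    change r ^ s 0 * ((algebraMap R K b) ^ s 0 * _) = (algebraMap R K a) ^ s 0 * (algebraMap R K b) ^ s 1
    rw [← mul_assoc, ← mul_pow, hr, div_mul_cancel₀ _ hbK]
  have hp0 : p ≠ 0 := fun h => by
    apply hG0
    have h2 := congrArg (fun q => Polynomial.coeff q (s₀ 0)) h
    have hs₀G : s₀ ∈ G.support := MvPolynomial.mem_support_iff.2 hG0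
    simp only [hp, Polynomial.finsetSum_coeff, Polynomial.coeff_monomial, Polynomial.coeff_zero] at h2
    rw [Finset.sum_eq_single s₀ (fun s hs hne => if_neg fun e => hne (Finsupp.ext fun i => by
      fin_cases i
      · exact e
      · have := hdeg s hs
        have := hdeg s₀ hs₀G
        simp only [Fin.mk_one, Fin.isValue]
        omega)) (fun h' => absurd hs₀G h'), if_pos rfl] at h2
    exact h2
  have hralg : IsIntegral k r :=
    IsAlgebraic.isIntegral ⟨p, hp0, (mul_eq_zero.1 hpr).resolve_right (pow_ne_zero _ hbK)⟩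
  obtain ⟨c, hc⟩ : ∃ c : k, algebraMap k K c = r :=
    minpoly.mem_range_of_degree_eq_one k r (IsAlgClosed.degree_eq_one_of_irreducible k (minpoly.irreducible hralg))
  refine ⟨c, IsFractionRing.injective R K ?_⟩
  rw [Algebra.smul_def, map_mul, ← IsScalarTower.algebraMap_apply, hc, hr, div_mul_cancel₀ _ hbK]

/-- a point of the spectrum avoiding all nonzero homogeneous elements -/
theorem exists_char [Algebra.FiniteType k R] (hpos : ∀ n : ℤ, n < 0 → 𝒜 n = ⊥)
    (h0 : 𝒜 0 = Submodule.span k {(1 : R)}) (h1 : ringKrullDim R = 1) :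
    ∃ χ : R →ₐ[k] k, ∀ (g : ℤ), ∀ a ∈ 𝒜 g, χ a = 0 → a = 0 := by
  haveI : IsJacobsonRing R := isJacobsonRing_of_finiteType (A := k)
  have hchar : ∀ m : Ideal R, m.IsMaximal → ∃ χ : R →ₐ[k] k, ∀ x, χ x = 0 → x ∈ m := by
    intro m hm
    letI := Ideal.Quotient.field m
    haveI : Algebra.FiniteType k (R ⧸ m) :=
      Algebra.FiniteType.of_surjective (Ideal.Quotient.mkₐ k m) Ideal.Quotient.mk_surjective
    haveI : Module.Finite k (R ⧸ m) := finite_of_finite_type_of_isJacobsonRing k (R ⧸ m)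
    let e := AlgEquiv.ofBijective (Algebra.ofId k (R ⧸ m))
      (IsAlgClosed.algebraMap_bijective_of_isIntegral (k := k) (K := R ⧸ m))
    refine ⟨e.symm.toAlgHom.comp (Ideal.Quotient.mkₐ k m), fun x hx => ?_⟩
    rw [← Ideal.Quotient.eq_zero_iff_mem]
    exact e.symm.injective (hx.trans (map_zero _).symm)
  by_cases hex : ∃ g : ℤ, 0 < g ∧ ∃ b ∈ 𝒜 g, b ≠ 0
  · obtain ⟨g, hg, b, hb, hb0⟩ := hex
    obtain ⟨m, hm, hbm⟩ : ∃ m : Ideal R, m.IsMaximal ∧ b ∉ m := by
      by_contra hc
      push Not at hc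
      have hjac : b ∈ (⊥ : Ideal R).jacobson := Ideal.mem_sInf.2 fun {J} hJ => hc J hJ.2
      rw [IsJacobsonRing.out ‹IsJacobsonRing R› (Ideal.isRadical_bot)] at hjac
      exact hb0 hjac
    obtain ⟨χ, hχ⟩ := hchar m hm
    refine ⟨χ, fun e a ha hae => ?_⟩
    by_contra ha0
    rcases lt_trichotomy e 0 with he | rfl | he
    · rw [hpos e he, Submodule.mem_bot] at ha
      exact ha0 ha
    · rw [h0, Submodule.mem_span_singleton] at ha
      obtain ⟨x, rfl⟩ := ha
      rw [map_smul, map_one, smul_eq_mul, mul_one] at hae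
      exact ha0 (by rw [hae, zero_smul])
    · have h2 : b ^ e.toNat ∈ 𝒜 (e * g) := by
        have := SetLike.pow_mem_graded e.toNat hb
        rwa [nsmul_eq_mul, Int.toNat_of_nonneg he.le] at this
      have h3 : a ^ g.toNat ∈ 𝒜 (e * g) := by
        have := SetLike.pow_mem_graded g.toNat ha
        rwa [nsmul_eq_mul, Int.toNat_of_nonneg hg.le, mul_comm] at this
      obtain ⟨c, hc⟩ := exists_scalar 𝒜 hpos h0 h1 h2 h3 (pow_ne_zero _ ha0)
      have h4 := congrArg χ hc
      rw [map_pow, map_smul, map_pow, hae, zero_pow (by omega), smul_zero] at h4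
      exact hbm (hχ b (eq_zero_of_pow_eq_zero h4))
  · push Not at hex
    obtain ⟨m, hm⟩ := Ideal.exists_maximal R
    obtain ⟨χ, -⟩ := hchar m hm
    refine ⟨χ, fun e a ha hae => ?_⟩
    rcases lt_trichotomy e 0 with he | rfl | he
    · rw [hpos e he, Submodule.mem_bot] at ha
      exact ha
    · rw [h0, Submodule.mem_span_singleton] at ha
      obtain ⟨x, rfl⟩ := ha
      rw [map_smul, map_one, smul_eq_mul, mul_one] at hae
      rw [hae, zero_smul]
    · exact hex e he a ha

/-- the coordinate of a graded algebra along a character -/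
noncomputable def coord (χ : R →ₐ[k] k) (hpos : ∀ n : ℤ, n < 0 → 𝒜 n = ⊥) : R →ₐ[k] Polynomial k :=
  (DirectSum.toAlgebra k (fun i => 𝒜 i)
    (fun i => (Polynomial.monomial i.toNat).comp (χ.toLinearMap.comp (𝒜 i).subtype))
    (by
      change Polynomial.monomial (0 : ℤ).toNat (χ (1 : R)) = 1
      rw [map_one, Int.toNat_zero, Polynomial.monomial_zero_one])
    (fun {i j} ai aj => by
      change Polynomial.monomial (i + j).toNat (χ ((ai : R) * (aj : R))) =
        Polynomial.monomial i.toNat (χ ai) * Polynomial.monomial j.toNat (χ aj)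
      rw [Polynomial.monomial_mul_monomial, map_mul]
      rcases lt_or_ge i 0 with hi | hi
      · rw [show (ai : R) = 0 from (Submodule.mem_bot k).1 ((hpos i hi).le ai.2)]
        simp
      rcases lt_or_ge j 0 with hj | hj
      · rw [show (aj : R) = 0 from (Submodule.mem_bot k).1 ((hpos j hj).le aj.2)]
        simp
      rw [Int.toNat_add hi hj])).comp (DirectSum.decomposeAlgEquiv 𝒜).toAlgHom

omit [IsAlgClosed k] [IsDomain R] in
lemma coord_of_mem (χ : R →ₐ[k] k) (hpos : ∀ n : ℤ, n < 0 → 𝒜 n = ⊥) {g : ℤ} {a : R} (ha : a ∈ 𝒜 g) :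
    coord 𝒜 χ hpos a = Polynomial.monomial g.toNat (χ a) := by
  have h1 : DirectSum.decomposeAlgEquiv 𝒜 a = DirectSum.of (fun i => 𝒜 i) g ⟨a, ha⟩ :=
    DirectSum.decompose_of_mem 𝒜 ha
  rw [coord, AlgHom.comp_apply, show (DirectSum.decomposeAlgEquiv 𝒜).toAlgHom a = DirectSum.decomposeAlgEquiv 𝒜 a from rfl, h1]
  first
    | exact DirectSum.toAddMonoid_of _ g _
    | exact DirectSum.toSemiring_of _ _ _ _ _
    | simp [DirectSum.toAlgebra]

omit [IsAlgClosed k] [IsDomain R] in
lemma coeff_coord (χ : R →ₐ[k] k) (hpos : ∀ n : ℤ, n < 0 → 𝒜 n = ⊥) (x : R) (n : ℕ) :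
    (coord 𝒜 χ hpos x).coeff n = χ (cp 𝒜 (n : ℤ) x) := by
  induction x using induction_on_hom 𝒜 with
  | h0 => simp
  | ha a b ha hb => rw [map_add, Polynomial.coeff_add, map_add, map_add, ha, hb]
  | hh g y hy =>
    rw [coord_of_mem 𝒜 χ hpos hy, Polynomial.coeff_monomial]
    by_cases hgn : g = (n : ℤ)
    · subst hgn
      rw [cp_same 𝒜 hy, if_pos (by simp)]
    · rw [cp_ne 𝒜 hy hgn, map_zero]
      by_cases hg : g < 0
      · rw [show y = 0 from (Submodule.mem_bot k).1 ((hpos g hg).le hy), map_zero, ite_self]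
      · rw [if_neg]
        omega

/-- one-dimensional graded domains are semigroup rings; standard ones are polynomial rings -/
theorem semigroup_ring [Algebra.FiniteType k R] (hpos : ∀ n : ℤ, n < 0 → 𝒜 n = ⊥)
    (h0 : 𝒜 0 = Submodule.span k {(1 : R)}) (h1 : ringKrullDim R = 1) :
    (∃ H : AddSubmonoid ℕ, Nonempty (R ≃+* AddMonoidAlgebra k H)) ∧
      (Ideal.span (⋃ n ∈ Set.Ioi (0 : ℤ), (𝒜 n : Set R)) = Ideal.span ((𝒜 1 : Submodule k R) : Set R) →
        Nonempty (R ≃+* Polynomial k)) := by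
  classical
  obtain ⟨χ, hχ⟩ := exists_char 𝒜 hpos h0 h1
  let φ := coord 𝒜 χ hpos
  have hinj : Function.Injective φ := (injective_iff_map_eq_zero φ).2 fun x hx => eq_zero_of_cp 𝒜 fun g => by
    rcases lt_or_ge g 0 with hg | hg
    · exact (Submodule.mem_bot k).1 ((hpos g hg).le (cp_mem 𝒜 g x))
    · obtain ⟨n, rfl⟩ : ∃ n : ℕ, g = (n : ℤ) := ⟨g.toNat, by omega⟩
      refine hχ _ _ (cp_mem 𝒜 _ x) ?_
      rw [← coeff_coord 𝒜 χ hpos]
      change (φ x).coeff n = 0
      rw [hx, Polynomial.coeff_zero]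
  have hmono : ∀ (n : ℕ) (a : R), a ∈ 𝒜 (n : ℤ) → a ≠ 0 → ∀ c : k, Polynomial.monomial n c ∈ φ.range := by
    intro n a ha ha0 c
    refine ⟨(c * (χ a)⁻¹) • a, ?_⟩
    change coord 𝒜 χ hpos _ = _
    rw [coord_of_mem 𝒜 χ hpos (Submodule.smul_mem _ _ ha), map_smul, Int.toNat_natCast, smul_eq_mul,
      mul_assoc, inv_mul_cancel₀ fun h => ha0 (hχ _ a ha h), mul_one]
  let H : AddSubmonoid ℕ :=
    { carrier := {n | ∃ a ∈ 𝒜 (n : ℤ), a ≠ 0}
      zero_mem' := ⟨1, SetLike.one_mem_graded 𝒜, one_ne_zero⟩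
      add_mem' := by
        rintro m n ⟨a, ha, ha0⟩ ⟨b, hb, hb0⟩
        exact ⟨a * b, by rw [Nat.cast_add]; exact SetLike.mul_mem_graded ha hb, mul_ne_zero ha0 hb0⟩ }
  let ι : AddMonoidAlgebra k H →ₐ[k] Polynomial k :=
    (Polynomial.toFinsuppIsoAlg k).symm.toAlgHom.comp (AddMonoidAlgebra.mapDomainAlgHom k k H.subtype)
  have hι : Function.Injective ι := fun a b h =>
    AddMonoidAlgebra.mapDomain_injective (fun x y => Subtype.ext) ((Polynomial.toFinsuppIsoAlg k).symm.injective h)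
  have hιs : ∀ (n : H) (c : k), ι (AddMonoidAlgebra.single n c) = Polynomial.monomial (n : ℕ) c := fun n c => by
    apply (Polynomial.toFinsuppIsoAlg k).injective
    change (Polynomial.toFinsuppIsoAlg k) ((Polynomial.toFinsuppIsoAlg k).symm (AddMonoidAlgebra.mapDomain _ _)) = _
    rw [AlgEquiv.apply_symm_apply, AddMonoidAlgebra.mapDomain_single]
    exact (Polynomial.toFinsupp_monomial _ _).symm
  have hrange : φ.range = ι.range := by
    refine le_antisymm ?_ ?_
    · rintro _ ⟨x, rfl⟩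
      change φ x ∈ ι.range
      rw [(φ x).as_sum_support]
      refine Subalgebra.sum_mem _ fun n hn => ?_
      rw [Polynomial.mem_support_iff, coeff_coord 𝒜 χ hpos] at hn
      have hmem : n ∈ H := ⟨_, cp_mem 𝒜 (n : ℤ) x, fun h => hn (by rw [h, map_zero])⟩
      exact ⟨AddMonoidAlgebra.single ⟨n, hmem⟩ _, hιs _ _⟩
    · rintro _ ⟨f, rfl⟩
      change ι f ∈ φ.range
      induction f using AddMonoidAlgebra.induction_linear with
      | zero => simp
      | add a b ha hb => rw [map_add]; exact add_mem ha hb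
      | single n c =>
        obtain ⟨a, ha, ha0⟩ := n.2
        rw [hιs]
        exact hmono _ a ha ha0 c
  refine ⟨⟨H, ⟨((AlgEquiv.ofInjective φ hinj).trans ((Subalgebra.equivOfEq _ _ hrange).trans
    (AlgEquiv.ofInjective ι hι).symm)).toRingEquiv⟩⟩, fun hstd => ?_⟩
  obtain ⟨l, hl, hl0⟩ : ∃ l ∈ 𝒜 1, l ≠ 0 := by
    by_contra hc
    push Not at hc
    have hspan : Ideal.span ((𝒜 1 : Submodule k R) : Set R) = ⊥ := Ideal.span_eq_bot.2 hc
    have hsur : Function.Surjective (algebraMap k R) := by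
      intro x
      induction x using induction_on_hom 𝒜 with
      | h0 => exact ⟨0, map_zero _⟩
      | ha a b ha hb =>
        obtain ⟨p, rfl⟩ := ha
        obtain ⟨q, rfl⟩ := hb
        exact ⟨p + q, map_add _ _ _⟩
      | hh g y hy =>
        rcases lt_trichotomy g 0 with hg | rfl | hg
        · exact ⟨0, by rw [map_zero, (Submodule.mem_bot k).1 ((hpos g hg).le hy)]⟩
        · obtain ⟨c, hc⟩ := Submodule.mem_span_singleton.1 (h0.le hy)
          exact ⟨c, (Algebra.algebraMap_eq_smul_one c).trans hc⟩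
        · have : y ∈ Ideal.span (⋃ n ∈ Set.Ioi (0 : ℤ), (𝒜 n : Set R)) :=
            Ideal.subset_span (Set.mem_iUnion₂.2 ⟨g, hg, hy⟩)
          rw [hstd, hspan, Submodule.mem_bot] at this
          exact ⟨0, by rw [map_zero, this]⟩
    have h2 := ringKrullDim_le_of_surjective (algebraMap k R) hsur
    rw [h1, ringKrullDim_eq_zero_of_field] at h2
    exact absurd h2 (by norm_num)
  refine ⟨(AlgEquiv.ofBijective φ ⟨hinj, fun q => ?_⟩).toRingEquiv⟩
  induction q using Polynomial.induction_on' with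
  | add p q hp hq =>
    obtain ⟨x, rfl⟩ := hp
    obtain ⟨y, rfl⟩ := hq
    exact ⟨x + y, map_add _ _ _⟩
  | monomial n c =>
    exact hmono n (l ^ n) (by
      have := SetLike.pow_mem_graded n hl
      rwa [nsmul_eq_mul, mul_one] at this) (pow_ne_zero _ hl0) c

end Groth.L12.GrOneDimDom
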