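import Groth.Agent.L12.GrFree
import Mathlib.LinearAlgebra.Matrix.InvariantBasisNumber
import Mathlib.LinearAlgebra.Matrix.NonsingularInverse
import Mathlib.LinearAlgebra.Matrix.Determinant.Basic

/-!
# Minimal graded free resolutions: existence and uniqueness
-/

set_option autoImplicit false

universe u

open DirectSum

namespace Groth.L12.GrSyzLib

variable {k : Type u} [Field k] {σ : Type}

section Cover

variable {X : Type u} [AddCommGroup X] [Module (MvPolynomial σ k) X] [Module k X]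
  [IsScalarTower k (MvPolynomial σ k) X] (𝒳 : ℤ → Submodule k X) [DirectSum.Decomposition 𝒳]
  [SetLike.GradedSMul (GrSyz.stdGr k σ) 𝒳]

/-- a homogeneous submodule -/
def IsHom (N : Submodule (MvPolynomial σ k) X) : Prop := ∀ (d : ℤ) (x : X), x ∈ N → prj 𝒳 d x ∈ N

lemma range_lc {n : ℕ} (g : Fin n → X) :
    LinearMap.range (Fintype.linearCombination (MvPolynomial σ k) g) =
      Submodule.span (MvPolynomial σ k) (Set.range g) :=
  Fintype.range_linearCombination _ _

lemma ker_lc_isHom {n : ℕ} {deg : Fin n → ℤ} {g : Fin n → X} (hg : ∀ b, g b ∈ 𝒳 (deg b)) :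
    IsHom (fr deg) (LinearMap.ker (Fintype.linearCombination (MvPolynomial σ k) g)) := fun d v hv => by
  rw [LinearMap.mem_ker, ← prj_lc 𝒳 hg, LinearMap.mem_ker.1 hv, map_zero]

lemma exists_gens {N : Submodule (MvPolynomial σ k) X} (hN : IsHom 𝒳 N) (hfg : N.FG) :
    ∃ (n : ℕ) (deg : Fin n → ℤ) (g : Fin n → X), (∀ b, g b ∈ 𝒳 (deg b)) ∧
      LinearMap.range (Fintype.linearCombination (MvPolynomial σ k) g) = N := by
  classical
  obtain ⟨t, ht⟩ := hfg
  choose s hs using fun x => exists_sum_prj 𝒳 x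
  let T : Finset (X × ℤ) := t.biUnion fun x => (s x).image fun d => (x, d)
  let e := T.equivFin
  refine ⟨T.card, fun b => (e.symm b).1.2, fun b => prj 𝒳 (e.symm b).1.2 (e.symm b).1.1, fun b => prj_mem _ _ _, ?_⟩
  rw [range_lc]
  refine le_antisymm (Submodule.span_le.2 ?_) ?_
  · rintro _ ⟨b, rfl⟩
    refine hN _ _ ?_
    obtain ⟨x, hx, hxd⟩ := Finset.mem_biUnion.1 (e.symm b).2
    obtain ⟨d, -, hd⟩ := Finset.mem_image.1 hxd
    rw [← hd, ← ht]
    exact Submodule.subset_span hx
  · rw [← ht]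
    refine Submodule.span_le.2 fun x hx => ?_
    rw [SetLike.mem_coe, ← hs x]
    refine Submodule.sum_mem _ fun d hd => Submodule.subset_span
      ⟨e ⟨(x, d), Finset.mem_biUnion.2 ⟨x, hx, Finset.mem_image.2 ⟨d, hd, rfl⟩⟩⟩, ?_⟩
    simp only [Equiv.symm_apply_apply]

lemma exists_cover {N : Submodule (MvPolynomial σ k) X} (hN : IsHom 𝒳 N) (hfg : N.FG) :
    ∃ (n : ℕ) (deg : Fin n → ℤ) (g : Fin n → X), (∀ b, g b ∈ 𝒳 (deg b)) ∧
      LinearMap.range (Fintype.linearCombination (MvPolynomial σ k) g) = N ∧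
      ∀ v ∈ LinearMap.ker (Fintype.linearCombination (MvPolynomial σ k) g), ∀ b, v b ∈ mm k σ := by
  classical
  have hex : ∃ n, ∃ (deg : Fin n → ℤ) (g : Fin n → X), (∀ b, g b ∈ 𝒳 (deg b)) ∧
      LinearMap.range (Fintype.linearCombination (MvPolynomial σ k) g) = N := exists_gens 𝒳 hN hfg
  obtain ⟨deg, g, hg, hr⟩ := Nat.find_spec hex
  refine ⟨Nat.find hex, deg, g, hg, hr, fun v hv b => ?_⟩
  by_contra hb
  obtain ⟨s, hs⟩ := exists_sum_prj (fr deg) v
  obtain ⟨d, -, hd⟩ : ∃ d ∈ s, prj (fr deg) d v b ∉ mm k σ := by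
    by_contra hcon
    push Not at hcon
    refine hb ?_
    rw [← hs, Finset.sum_apply]
    exact Ideal.sum_mem _ hcon
  set w := prj (fr deg) d v with hw
  have hwk : ∑ a, w a • g a = 0 := by
    have := ker_lc_isHom 𝒳 hg d v hv
    rwa [LinearMap.mem_ker, Fintype.linearCombination_apply] at this
  have hwb := mem_fr.1 (prj_mem (fr deg) d v) b
  have hd0 : d - deg b = 0 := by
    by_contra h
    exact hd (mem_mm_iff.2 (constantCoeff_of_mem h hwb))
  rw [hd0] at hwb
  have hc : MvPolynomial.constantCoeff (w b) ≠ 0 := fun h => hd (mem_mm_iff.2 h)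
  obtain ⟨u, hu⟩ : IsUnit (w b) := by
    change IsUnit (prj (fr deg) d v b)
    rw [eq_C_of_mem_zero hwb]
    exact (isUnit_iff_ne_zero.2 hc).map MvPolynomial.C
  rw [← Finset.add_sum_erase _ _ (Finset.mem_univ b), ← hu] at hwk
  have hgb : g b = -((↑u⁻¹ : MvPolynomial σ k) • ∑ a ∈ Finset.univ.erase b, w a • g a) := by
    rw [← smul_neg, ← eq_neg_of_add_eq_zero_left hwk, smul_smul, Units.inv_mul, one_smul]
  obtain ⟨m, hm⟩ : ∃ m, Nat.find hex = m + 1 := ⟨Nat.find hex - 1, by have := b.2; omega⟩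
  let j : Fin m → Fin (Nat.find hex) := fun a => Fin.cast hm.symm ((Fin.cast hm b).succAbove a)
  refine Nat.find_min hex (show m < Nat.find hex by omega) ⟨deg ∘ j, g ∘ j, fun a => hg (j a), Eq.trans ?_ hr⟩
  rw [range_lc, range_lc]
  refine le_antisymm (Submodule.span_mono (Set.range_comp_subset_range _ _)) (Submodule.span_le.2 ?_)
  rintro _ ⟨a, rfl⟩
  have hne : ∀ a, a ≠ b → g a ∈ Submodule.span (MvPolynomial σ k) (Set.range (g ∘ j)) := fun a ha => by
    obtain ⟨c, hc⟩ := Fin.exists_succAbove_eq (show Fin.cast hm a ≠ Fin.cast hm b from fun h => ha (Fin.cast_injective _ h))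
    refine Submodule.subset_span ⟨c, ?_⟩
    simp only [Function.comp_apply, j, hc]
    rfl
  rcases eq_or_ne a b with rfl | ha
  · rw [SetLike.mem_coe, hgb]
    exact Submodule.neg_mem _ (Submodule.smul_mem _ _ (Submodule.sum_mem _ fun c hc =>
      Submodule.smul_mem _ _ (hne c (Finset.ne_of_mem_erase hc))))
  · exact hne a ha

end Cover

/-! ## comparison of covers -/

section Iso

variable {X : Type u} [AddCommGroup X] [Module (MvPolynomial σ k) X] [Module k X]
  [IsScalarTower k (MvPolynomial σ k) X] (𝒳 : ℤ → Submodule k X) [DirectSum.Decomposition 𝒳]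
  [SetLike.GradedSMul (GrSyz.stdGr k σ) 𝒳]

/-- the constant matrix of a map of free modules -/
noncomputable def cmat {n n' : ℕ} (φ : Fin n → Fin n' → MvPolynomial σ k) : Matrix (Fin n') (Fin n) k :=
  fun a b => MvPolynomial.constantCoeff (φ b a)

lemma exists_lift {n n' : ℕ} {deg : Fin n → ℤ} {deg' : Fin n' → ℤ} {g : Fin n → X} {h : Fin n' → X}
    (hg : ∀ b, g b ∈ 𝒳 (deg b)) (hh : ∀ b, h b ∈ 𝒳 (deg' b))
    (hr : ∀ b, g b ∈ LinearMap.range (Fintype.linearCombination (MvPolynomial σ k) h)) :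
    ∃ φ : Fin n → Fin n' → MvPolynomial σ k, (∀ b, φ b ∈ fr deg' (deg b)) ∧
      ∀ b, Fintype.linearCombination (MvPolynomial σ k) h (φ b) = g b := by
  choose φ hφ hφ' using fun b => exists_preimage_mem 𝒳 hh (hg b) (hr b)
  exact ⟨φ, hφ, hφ'⟩

omit [IsScalarTower k (MvPolynomial σ k) X] in
lemma cmat_comp {n n' n'' : ℕ} (φ : Fin n → Fin n' → MvPolynomial σ k)
    (ψ : Fin n' → Fin n'' → MvPolynomial σ k) :
    cmat (fun b => Fintype.linearCombination (MvPolynomial σ k) ψ (φ b)) = cmat ψ * cmat φ := by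
  ext c b
  simp only [cmat, Matrix.mul_apply, Fintype.linearCombination_apply, Finset.sum_apply, Pi.smul_apply,
    smul_eq_mul, map_sum, map_mul]
  exact Finset.sum_congr rfl fun a _ => mul_comm _ _

omit [IsScalarTower k (MvPolynomial σ k) X] in
lemma cmat_eq_one {n : ℕ} {g : Fin n → X} (χ : Fin n → Fin n → MvPolynomial σ k)
    (hmin : ∀ v ∈ LinearMap.ker (Fintype.linearCombination (MvPolynomial σ k) g), ∀ b, v b ∈ mm k σ)
    (hχ : ∀ b, Fintype.linearCombination (MvPolynomial σ k) g (χ b) = g b) : cmat χ = 1 := by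
  classical
  ext a b
  have h1 : χ b - Pi.single b (1 : MvPolynomial σ k) ∈
      LinearMap.ker (Fintype.linearCombination (MvPolynomial σ k) g) := by
    rw [LinearMap.mem_ker, map_sub, hχ, Fintype.linearCombination_apply_single, one_smul, sub_self]
  have h2 := mem_mm_iff.1 (hmin _ h1 a)
  rw [Pi.sub_apply, map_sub, sub_eq_zero] at h2
  rw [cmat, h2, Matrix.one_apply]
  rcases eq_or_ne a b with rfl | h
  · rw [Pi.single_eq_same, map_one, if_pos rfl]
  · rw [Pi.single_eq_of_ne h, map_zero, if_neg h]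

omit [IsScalarTower k (MvPolynomial σ k) X] in
lemma deg_eq_of_cmat {n n' : ℕ} {deg : Fin n → ℤ} {deg' : Fin n' → ℤ}
    {φ : Fin n → Fin n' → MvPolynomial σ k} (hφ : ∀ b, φ b ∈ fr deg' (deg b)) {a : Fin n'} {b : Fin n}
    (h : cmat φ a b ≠ 0) : deg' a = deg b := by
  by_contra hne
  exact h (constantCoeff_of_mem (sub_ne_zero.2 (Ne.symm hne)) (mem_fr.1 (hφ b) a))

lemma bijective_of_cmat {n : ℕ} {deg : Fin n → ℤ} {χ : Fin n → Fin n → MvPolynomial σ k}
    (hχ : ∀ b, χ b ∈ fr deg (deg b)) (h1 : cmat χ = 1) :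
    Function.Bijective (Fintype.linearCombination (MvPolynomial σ k) χ) := by
  classical
  let D : Matrix (Fin n) (Fin n) (MvPolynomial σ k) := fun a b => χ b a
  have hdet0 : D.det ∈ GrSyz.stdGr k σ 0 := by
    rw [Matrix.det_apply]
    refine Submodule.sum_mem _ fun p _ => ?_
    rw [Units.smul_def]
    refine zsmul_mem ?_ _
    have := MvPolynomial.IsWeightedHomogeneous.prod (w := fun _ : σ => (1 : ℤ)) Finset.univ
      (fun i => D (p i) i) (fun i => deg i - deg (p i)) (fun i _ => mem_fr.1 (hχ i) (p i))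
    rwa [Finset.sum_sub_distrib, Equiv.sum_comp p deg, sub_self] at this
  have hc : MvPolynomial.constantCoeff D.det = 1 := by
    rw [RingHom.map_det, ← Matrix.det_one (n := Fin n) (R := k), ← h1]
    rfl
  have hu : IsUnit D := (Matrix.isUnit_iff_isUnit_det D).2 (by rw [eq_C_of_mem_zero hdet0, hc, map_one]; exact isUnit_one)
  have e : Fintype.linearCombination (MvPolynomial σ k) χ = Matrix.mulVecLin D := (mulVecLin_eq_lc D).symm
  rw [e]
  obtain ⟨U, hU⟩ := hu
  refine ⟨fun x y hxy => ?_, fun y => ⟨((U⁻¹ : (Matrix (Fin n) (Fin n) (MvPolynomial σ k))ˣ) : Matrix (Fin n) (Fin n) (MvPolynomial σ k)).mulVec y, ?_⟩⟩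
  · have := congrArg (fun v => ((U⁻¹ : (Matrix (Fin n) (Fin n) (MvPolynomial σ k))ˣ) : Matrix (Fin n) (Fin n) (MvPolynomial σ k)).mulVec v) hxy
    simpa [← hU, Matrix.mulVec_mulVec] using this
  · simp [← hU, Matrix.mulVec_mulVec]

omit [IsScalarTower k (MvPolynomial σ k) X] in
lemma lc_comp {n n' : ℕ} (h : Fin n' → X) (φ : Fin n → Fin n' → MvPolynomial σ k) :
    (Fintype.linearCombination (MvPolynomial σ k) h).comp (Fintype.linearCombination (MvPolynomial σ k) φ) =
      Fintype.linearCombination (MvPolynomial σ k) fun b => Fintype.linearCombination (MvPolynomial σ k) h (φ b) := by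
  refine LinearMap.ext fun v => ?_
  simp only [LinearMap.comp_apply, Fintype.linearCombination_apply, Finset.sum_apply, Pi.smul_apply, smul_eq_mul,
    Finset.sum_smul, Finset.smul_sum, mul_smul]
  exact Finset.sum_comm

lemma cover_iso {n n' : ℕ} {deg : Fin n → ℤ} {deg' : Fin n' → ℤ} {g : Fin n → X} {g' : Fin n' → X}
    (hg : ∀ b, g b ∈ 𝒳 (deg b)) (hg' : ∀ b, g' b ∈ 𝒳 (deg' b))
    (hr : LinearMap.range (Fintype.linearCombination (MvPolynomial σ k) g) =
      LinearMap.range (Fintype.linearCombination (MvPolynomial σ k) g'))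
    (hmin : ∀ v ∈ LinearMap.ker (Fintype.linearCombination (MvPolynomial σ k) g), ∀ b, v b ∈ mm k σ)
    (hmin' : ∀ v ∈ LinearMap.ker (Fintype.linearCombination (MvPolynomial σ k) g'), ∀ b, v b ∈ mm k σ) :
    ∃ φ : Fin n → Fin n' → MvPolynomial σ k, (∀ b, φ b ∈ fr deg' (deg b)) ∧
      Function.Bijective (Fintype.linearCombination (MvPolynomial σ k) φ) ∧
      (Fintype.linearCombination (MvPolynomial σ k) g').comp (Fintype.linearCombination (MvPolynomial σ k) φ) =
        Fintype.linearCombination (MvPolynomial σ k) g ∧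
      ∀ j, (Finset.univ.filter fun b => deg b = j).card = (Finset.univ.filter fun b => deg' b = j).card := by
  classical
  have hmem : ∀ {m : ℕ} (f : Fin m → X) b, f b ∈ LinearMap.range (Fintype.linearCombination (MvPolynomial σ k) f) :=
    fun f b => ⟨Pi.single b 1, by rw [Fintype.linearCombination_apply_single, one_smul]⟩
  obtain ⟨φ, hφ, hφ'⟩ := exists_lift 𝒳 hg hg' fun b => hr ▸ hmem g b
  obtain ⟨ψ, hψ, hψ'⟩ := exists_lift 𝒳 hg' hg fun b => hr ▸ hmem g' b
  have hcomp : (Fintype.linearCombination (MvPolynomial σ k) g').comp (Fintype.linearCombination (MvPolynomial σ k) φ) =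
      Fintype.linearCombination (MvPolynomial σ k) g := by
    rw [lc_comp]; exact congrArg _ (funext hφ')
  have hcomp' : (Fintype.linearCombination (MvPolynomial σ k) g).comp (Fintype.linearCombination (MvPolynomial σ k) ψ) =
      Fintype.linearCombination (MvPolynomial σ k) g' := by
    rw [lc_comp]; exact congrArg _ (funext hψ')
  have hBA : cmat ψ * cmat φ = 1 := by
    rw [← cmat_comp]
    exact cmat_eq_one _ hmin fun b => by rw [← LinearMap.comp_apply, hcomp', hφ']
  have hAB : cmat φ * cmat ψ = 1 := by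
    rw [← cmat_comp]
    exact cmat_eq_one _ hmin' fun b => by rw [← LinearMap.comp_apply, hcomp, hψ']
  have hb1 := bijective_of_cmat (χ := fun b => Fintype.linearCombination (MvPolynomial σ k) ψ (φ b))
    (fun b => lc_mem (fr deg) hψ (hφ b)) (by rw [cmat_comp, hBA])
  have hb2 := bijective_of_cmat (χ := fun b => Fintype.linearCombination (MvPolynomial σ k) φ (ψ b))
    (fun b => lc_mem (fr deg') hφ (hψ b)) (by rw [cmat_comp, hAB])
  rw [← lc_comp, LinearMap.coe_comp] at hb1 hb2
  refine ⟨φ, hφ, ⟨hb1.1.of_comp, hb2.2.of_comp⟩, hcomp, fun j => ?_⟩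
  let A : Matrix {a : Fin n' // deg' a = j} {b : Fin n // deg b = j} k := fun a b => cmat φ a.1 b.1
  let B : Matrix {b : Fin n // deg b = j} {a : Fin n' // deg' a = j} k := fun b a => cmat ψ b.1 a.1
  have h1 : A * B = 1 := by
    ext a c
    rw [Matrix.mul_apply, ← Finset.sum_subtype (Finset.univ.filter fun b => deg b = j) (by simp)
      (fun b => cmat φ a.1 b * cmat ψ b c.1)]
    have h := congrFun (congrFun hAB a.1) c.1
    rw [Matrix.mul_apply] at h
    rw [Finset.sum_filter, Finset.sum_congr rfl (fun b _ => ?_), h, Matrix.one_apply, Matrix.one_apply]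
    · simp [Subtype.ext_iff]
    · split_ifs with hb
      · rfl
      · symm
        by_contra hne
        exact hb ((deg_eq_of_cmat hψ (right_ne_zero_of_mul hne)).trans c.2)
  have h2 : B * A = 1 := by
    ext a c
    rw [Matrix.mul_apply, ← Finset.sum_subtype (Finset.univ.filter fun b => deg' b = j) (by simp)
      (fun b => cmat ψ a.1 b * cmat φ b c.1)]
    have h := congrFun (congrFun hBA a.1) c.1
    rw [Matrix.mul_apply] at h
    rw [Finset.sum_filter, Finset.sum_congr rfl (fun b _ => ?_), h, Matrix.one_apply, Matrix.one_apply]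
    · simp [Subtype.ext_iff]
    · split_ifs with hb
      · rfl
      · symm
        by_contra hne
        exact hb ((deg_eq_of_cmat hφ (right_ne_zero_of_mul hne)).trans c.2)
  have := Matrix.square_of_invertible A B h1 h2
  rw [Fintype.card_subtype, Fintype.card_subtype] at this
  exact this.symm

end Iso

/-! ## resolutions -/

variable [Finite σ]

/-- a level of the construction -/
structure Lvl (k : Type u) [Field k] (σ : Type) where
  n : ℕ
  deg : Fin n → ℤ
  K : Submodule (MvPolynomial σ k) (Fin n → MvPolynomial σ k)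
  hK : IsHom (fr deg) K

/-- the chosen cover of a level -/
theorem Lvl.cover (L : Lvl k σ) : ∃ (n : ℕ) (deg : Fin n → ℤ) (g : Fin n → Fin L.n → MvPolynomial σ k),
    (∀ b, g b ∈ fr L.deg (deg b)) ∧
      LinearMap.range (Fintype.linearCombination (MvPolynomial σ k) g) = L.K ∧
      ∀ v ∈ LinearMap.ker (Fintype.linearCombination (MvPolynomial σ k) g), ∀ b, v b ∈ mm k σ :=
  exists_cover (fr L.deg) L.hK (IsNoetherian.noetherian _)

/-- the next level -/
noncomputable def Lvl.next (L : Lvl k σ) : Lvl k σ where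
  n := L.cover.choose
  deg := L.cover.choose_spec.choose
  K := LinearMap.ker (Fintype.linearCombination (MvPolynomial σ k) L.cover.choose_spec.choose_spec.choose)
  hK := ker_lc_isHom (fr L.deg) L.cover.choose_spec.choose_spec.choose_spec.1

/-- iterate -/
noncomputable def Lvl.iter (L : Lvl k σ) : ℕ → Lvl k σ
  | 0 => L
  | i + 1 => (L.iter i).next

section Module

variable {M : Type u} [AddCommGroup M] [Module (MvPolynomial σ k) M] [Module k M]
  [IsScalarTower k (MvPolynomial σ k) M] [Module.Finite (MvPolynomial σ k) M]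
  (ℳ : ℤ → Submodule k M) [DirectSum.Decomposition ℳ] [SetLike.GradedSMul (GrSyz.stdGr k σ) ℳ]

theorem exists_minimal_res : ∃ F : GrSyz.FreeRes (GrSyz.stdGr k σ) ℳ, F.IsMinimal (mm k σ) := by
  obtain ⟨n, deg, g, hg, hr, hmin⟩ := exists_cover ℳ (N := (⊤ : Submodule (MvPolynomial σ k) M)) (fun _ _ _ => trivial) Module.Finite.fg_top
  let L : ℕ → Lvl k σ := Lvl.iter ⟨n, deg, _, ker_lc_isHom ℳ hg⟩
  let gi : (i : ℕ) → Fin (L (i + 1)).n → Fin (L i).n → MvPolynomial σ k :=
    fun i => (L i).cover.choose_spec.choose_spec.choose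
  have hs : ∀ i, (∀ b, gi i b ∈ fr (L i).deg ((L (i + 1)).deg b)) ∧
      LinearMap.range (Fintype.linearCombination (MvPolynomial σ k) (gi i)) = (L i).K ∧
      ∀ v ∈ LinearMap.ker (Fintype.linearCombination (MvPolynomial σ k) (gi i)), ∀ b, v b ∈ mm k σ :=
    fun i => (L i).cover.choose_spec.choose_spec.choose_spec
  have hKm : ∀ i, ∀ v ∈ (L i).K, ∀ a, v a ∈ mm k σ := by
    intro i
    cases i with
    | zero => exact hmin
    | succ i => exact (hs i).2.2
  refine ⟨{
    rk := fun i => (L i).n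
    deg := fun i => (L i).deg
    d := fun i => fun a b => gi i b a
    aug := g
    d_mem := fun i a b => mem_fr.1 ((hs i).1 b) a
    aug_mem := hg
    aug_surjective := LinearMap.range_eq_top.1 hr
    exact_zero := ?_
    exact_succ := fun i => ?_ }, fun i a b => hKm i (gi i b) ?_ a⟩
  · exact (hs 0).2.1.symm.trans (by rw [mulVecLin_eq_lc])
  · refine Eq.trans ?_ ((hs (i + 1)).2.1.symm.trans (by rw [mulVecLin_eq_lc]))
    rw [mulVecLin_eq_lc]
    rfl
  · rw [← (hs i).2.1]
    exact ⟨Pi.single b 1, by rw [Fintype.linearCombination_apply_single, one_smul]⟩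

variable {ℳ}
variable (F F' : GrSyz.FreeRes (GrSyz.stdGr k σ) ℳ)

omit [Finite σ] [Module.Finite (MvPolynomial σ k) M] [IsScalarTower k (MvPolynomial σ k) M] in
lemma mem_range_dLin (hF : F.IsMinimal (mm k σ)) (i : ℕ) :
    ∀ v ∈ LinearMap.range (F.dLin i), ∀ a, v a ∈ mm k σ := by
  rintro _ ⟨w, rfl⟩ a
  rw [GrSyz.FreeRes.dLin, Matrix.mulVecLin_apply]
  simp only [Matrix.mulVec, dotProduct]
  exact Ideal.sum_mem _ fun c _ => Ideal.mul_mem_right _ _ (hF i a c)

omit [Finite σ] [Module.Finite (MvPolynomial σ k) M] in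
theorem exists_iso (hF : F.IsMinimal (mm k σ)) (hF' : F'.IsMinimal (mm k σ)) (i : ℕ) :
    (∃ e : Fin (F.rk i) → Fin (F'.rk i) → MvPolynomial σ k, (∀ b, e b ∈ fr (F'.deg i) (F.deg i b)) ∧
      Function.Bijective (Fintype.linearCombination (MvPolynomial σ k) e) ∧
      (LinearMap.range (F.dLin i)).map (Fintype.linearCombination (MvPolynomial σ k) e) =
        LinearMap.range (F'.dLin i)) ∧
      ∀ j, F.betti i j = F'.betti i j := by
  induction i with
  | zero =>
    obtain ⟨e, he, hb, hc, hcard⟩ := cover_iso ℳ F.aug_mem F'.aug_mem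
      ((LinearMap.range_eq_top.2 F.aug_surjective).trans (LinearMap.range_eq_top.2 F'.aug_surjective).symm)
      (fun v hv => mem_range_dLin F hF 0 v (F.exact_zero ▸ hv))
      (fun v hv => mem_range_dLin F' hF' 0 v (F'.exact_zero ▸ hv))
    refine ⟨⟨e, he, hb, ?_⟩, hcard⟩
    rw [← F.exact_zero, ← F'.exact_zero, ← hc, LinearMap.ker_comp, Submodule.map_comap_eq_of_surjective hb.2]
  | succ i ih =>
    obtain ⟨⟨e, he, hb, hmap⟩, -⟩ := ih
    let g : Fin (F.rk (i + 1)) → Fin (F'.rk i) → MvPolynomial σ k :=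
      fun b => Fintype.linearCombination (MvPolynomial σ k) e fun a => F.d i a b
    have hgl : Fintype.linearCombination (MvPolynomial σ k) g =
        (Fintype.linearCombination (MvPolynomial σ k) e).comp (F.dLin i) := by
      rw [GrSyz.FreeRes.dLin, mulVecLin_eq_lc, lc_comp]
    have hk : LinearMap.ker (Fintype.linearCombination (MvPolynomial σ k) g) = LinearMap.range (F.dLin (i + 1)) := by
      rw [hgl, LinearMap.ker_comp_of_ker_eq_bot _ (LinearMap.ker_eq_bot.2 hb.1)]
      exact F.exact_succ i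
    obtain ⟨e', he', hb', hc, hcard⟩ := cover_iso (fr (F'.deg i)) (g := g) (g' := fun b a => F'.d i a b)
      (deg := F.deg (i + 1)) (deg' := F'.deg (i + 1))
      (fun b => lc_mem _ he (mem_fr.2 fun a => F.d_mem i a b)) (fun b => mem_fr.2 fun a => F'.d_mem i a b)
      (by rw [← mulVecLin_eq_lc (F'.d i), hgl, LinearMap.range_comp, hmap])
      (fun v hv => mem_range_dLin F hF (i + 1) v (hk ▸ hv))
      (fun v hv => mem_range_dLin F' hF' (i + 1) v (by
        rw [← mulVecLin_eq_lc (F'.d i)] at hv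
        exact (F'.exact_succ i) ▸ hv))
    refine ⟨⟨e', he', hb', ?_⟩, hcard⟩
    rw [← mulVecLin_eq_lc (F'.d i)] at hc
    rw [← hk, ← hc, LinearMap.ker_comp, Submodule.map_comap_eq_of_surjective hb'.2]
    exact F'.exact_succ i

omit [Finite σ] [Module.Finite (MvPolynomial σ k) M] in
theorem betti_eq (hF : F.IsMinimal (mm k σ)) (hF' : F'.IsMinimal (mm k σ)) (i : ℕ) (j : ℤ) :
    F.betti i j = F'.betti i j :=
  (exists_iso F F' hF hF' i).2 j

omit [Finite σ] [Module.Finite (MvPolynomial σ k) M] in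
theorem isGenLE_of_isRegLE (hF : F.IsMinimal (mm k σ)) {r : ℤ}
    (h : GrSyz.IsRegLE (GrSyz.stdGr k σ) ℳ (mm k σ) r) : F.IsGenLE r := by
  obtain ⟨G, hG, hGr⟩ := h
  intro i b
  have h1 : 0 < G.betti i (F.deg i b) := by
    rw [betti_eq G F hG hF]
    exact Finset.card_pos.2 ⟨b, by simp⟩
  obtain ⟨c, hc⟩ := Finset.card_pos.1 h1
  rw [← (Finset.mem_filter.1 hc).2]
  exact hGr i c

omit [Finite σ] [Module.Finite (MvPolynomial σ k) M] in
theorem reg_eq_iSup (hF : F.IsMinimal (mm k σ)) :
    GrSyz.reg (GrSyz.stdGr k σ) ℳ (mm k σ) =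
      ⨆ i : ℕ, WithBot.map (fun t : ℤ => ((t - (i : ℤ) : ℤ) : WithTop ℤ)) (F.maxGenDeg i) := by
  set T : WithBot (WithTop ℤ) :=
    ⨆ i : ℕ, WithBot.map (fun t : ℤ => ((t - (i : ℤ) : ℤ) : WithTop ℤ)) (F.maxGenDeg i) with hT
  have hge : ∀ i b, (((F.deg i b - i : ℤ) : WithTop ℤ) : WithBot (WithTop ℤ)) ≤ T := fun i b => by
    refine le_iSup_of_le i ?_
    have h : ((F.deg i b : ℤ) : WithBot ℤ) ≤ F.maxGenDeg i :=
      Finset.le_sup (f := fun b => (F.deg i b : WithBot ℤ)) (Finset.mem_univ b)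
    revert h
    cases F.maxGenDeg i with
    | bot => intro h; exact absurd h (WithBot.not_coe_le_bot _)
    | coe t =>
      intro h
      rw [WithBot.coe_le_coe] at h
      rw [WithBot.map_coe, WithBot.coe_le_coe, WithTop.coe_le_coe]
      omega
  refine le_antisymm ?_ (iSup_le fun i => le_iInf₂ fun r hr => ?_)
  · have hgen : ∀ r : ℤ, T ≤ ((r : WithTop ℤ) : WithBot (WithTop ℤ)) →
        GrSyz.reg (GrSyz.stdGr k σ) ℳ (mm k σ) ≤ ((r : WithTop ℤ) : WithBot (WithTop ℤ)) := fun r hr => by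
      refine iInf₂_le r ⟨F, hF, fun i b => ?_⟩
      have h := (hge i b).trans hr
      rw [WithBot.coe_le_coe, WithTop.coe_le_coe] at h
      omega
    revert hgen
    cases T with
    | bot =>
      intro hgen
      have h0 := hgen 0 bot_le
      revert h0 hgen
      cases GrSyz.reg (GrSyz.stdGr k σ) ℳ (mm k σ) with
      | bot => intros; exact le_rfl
      | coe x =>
        intro hgen h0
        exfalso
        cases x with
        | top =>
          rw [WithBot.coe_le_coe, top_le_iff] at h0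
          exact WithTop.coe_ne_top h0
        | coe z =>
          have := hgen (z - 1) bot_le
          rw [WithBot.coe_le_coe, WithTop.coe_le_coe] at this
          omega
    | coe x =>
      intro hgen
      cases x with
      | top => exact le_top
      | coe z => exact hgen z le_rfl
  · have hFr := isGenLE_of_isRegLE F hF hr
    by_cases h0 : (Finset.univ : Finset (Fin (F.rk i))).Nonempty
    · obtain ⟨b, -, hb⟩ := Finset.exists_mem_eq_sup _ h0 fun b : Fin (F.rk i) => (F.deg i b : WithBot ℤ)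
      rw [GrSyz.FreeRes.maxGenDeg, hb, WithBot.map_coe, WithBot.coe_le_coe, WithTop.coe_le_coe]
      have := hFr i b
      omega
    · rw [GrSyz.FreeRes.maxGenDeg, Finset.not_nonempty_iff_eq_empty.1 h0, Finset.sup_empty, WithBot.map_bot]
      exact bot_le

end Module

end Groth.L12.GrSyzLib
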