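import Groth.Agent.L12.GrLCInj
import Groth.Agent.L12.GrLCExt
import Groth.Agent.L12.GrLCCanonH

/-!
# Filtering a graded module by torsion along a list of elements

A graded module which is divisible modulo torsion by every homogeneous element (for instance a *injective one) is built,
by extensions, from torsion modules and modules on which a homogeneous element of positive degree acts bijectively.
-/

set_option autoImplicit false

universe u

open DirectSum

namespace Groth.L12.GrSegLib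

open Groth.L12.GrLCLib

variable {R : Type u} [CommRing R] [IsNoetherianRing R] {σ : Type u} [SetLike σ R] [AddSubgroupClass σ R]
  {𝒜 : ℤ → σ} [GradedRing 𝒜]

/-- divisible modulo torsion by homogeneous elements, relative to homogeneous annihilating ideals -/
def IsDiv (𝒜 : ℤ → σ) [GradedRing 𝒜] {Y : Type u} [AddCommGroup Y] [Module R Y] (𝒴 : ℤ → AddSubgroup Y) : Prop :=
  ∀ (J : Ideal R), J.IsHomogeneous 𝒜 → ∀ (e : ℤ) (a : R), a ∈ 𝒜 e → ∀ (g : ℤ) (x : Y), x ∈ 𝒴 g →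
    (∀ c ∈ J, c • x = 0) → ∃ w : Y, (∀ c ∈ J, c • w = 0) ∧ ∃ n : ℕ, a ^ n • (a • w - x) = 0

/-- *injective modules are divisible modulo torsion -/
theorem isDiv_starInj {Y : Type u} [AddCommGroup Y] [Module R Y] {𝒴 : ℤ → AddSubgroup Y} [DirectSum.Decomposition 𝒴]
    [SetLike.GradedSMul 𝒜 𝒴] (hY : GrLC.IsStarInj 𝒜 𝒴) : IsDiv 𝒜 𝒴 := by
  intro J hJ e a ha g x hx hJx
  let C : ℕ →o Submodule R R :=
    ⟨fun i => Submodule.comap (a ^ i • LinearMap.id : R →ₗ[R] R) J, monotone_nat_of_le_succ fun i r hr => by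
      change a ^ (i + 1) • r ∈ J
      rw [pow_succ', mul_smul]
      exact J.smul_mem a hr⟩
  obtain ⟨n, hn⟩ := monotone_stabilizes_iff_noetherian.2 (inferInstance : IsNoetherian R R) C
  have hstab : ∀ r : R, a ^ (n + 1) * r ∈ J → a ^ n * r ∈ J := fun r hr =>
    (hn (n + 1) n.le_succ).ge (show r ∈ C (n + 1) from hr)
  have hp : ∀ i : ℕ, a ^ i ∈ 𝒜 (i * e) := fun i => by
    have h1 := SetLike.pow_mem_graded i ha
    rwa [nsmul_eq_mul] at h1
  let Q := quoG 𝒜 𝒜 J hJ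
  let s : ℤ := g + n * e
  let N := shG 𝒜 Q.gr (-s)
  let Z := shG 𝒜 Q.gr ((n + 1 : ℕ) * e - s)
  let t : Y := a ^ n • x
  have ht : t ∈ 𝒴 s := by
    have h1 := smul_mem' 𝒜 𝒴 (hp n) hx
    rwa [add_comm] at h1
  let π : R →ₗ[R] (R ⧸ J) := Submodule.mkQ J
  let φ0 : (R ⧸ J) →ₗ[R] Y := Submodule.liftQ J (LinearMap.toSpanSingleton R Y t) fun c hc => by
    change c • t = 0
    rw [smul_comm, hJx c hc, smul_zero]
  let ψ0 : (R ⧸ J) →ₗ[R] (R ⧸ J) := a ^ (n + 1) • LinearMap.id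
  let φ' : N.carrier →ₗ[R] Y := φ0
  let ψ' : N.carrier →ₗ[R] Z.carrier := ψ0
  have hψ : GrLC.IsGrHom N.gr Z.gr ψ' := fun i v hv => by
    change a ^ (n + 1) • (v : R ⧸ J) ∈ Q.gr (i + ((n + 1 : ℕ) * e - s))
    have h1 := smul_mem' 𝒜 Q.gr (hp (n + 1)) (show (v : R ⧸ J) ∈ Q.gr (i + -s) from hv)
    rwa [show ((n + 1 : ℕ) : ℤ) * e + (i + -s) = i + (((n + 1 : ℕ) : ℤ) * e - s) by ring] at h1
  have hφ : GrLC.IsGrHom N.gr 𝒴 φ' := fun i v hv => by
    obtain ⟨r, hr, hrv⟩ := show (v : R ⧸ J) ∈ Q.gr (i + -s) from hv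
    change φ0 v ∈ 𝒴 i
    rw [← hrv]
    change r • t ∈ 𝒴 i
    have h1 := smul_mem' 𝒜 𝒴 hr ht
    rwa [neg_add_cancel_right] at h1
  have key : ∀ v : R ⧸ J, ψ0 v = 0 → φ0 v = 0 := fun v hv => by
    obtain ⟨r, rfl⟩ := Submodule.mkQ_surjective J v
    have hv' : a ^ (n + 1) • Submodule.Quotient.mk r = (0 : R ⧸ J) := hv
    rw [← Submodule.Quotient.mk_smul, Submodule.Quotient.mk_eq_zero, smul_eq_mul] at hv'
    change r • a ^ n • x = 0
    rw [← mul_smul, mul_comm]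
    exact hJx _ (hstab r hv')
  have hker : LinearMap.ker ψ' ≤ LinearMap.ker φ' := fun v hv => key v hv
  obtain ⟨h, -, hc⟩ := exists_extend hY ψ' hψ φ' hφ hker
  let h' : (R ⧸ J) →ₗ[R] Y := h
  refine ⟨h' (π 1), fun c hc' => ?_, n, ?_⟩
  · rw [← h'.map_smul, ← map_smul, smul_eq_mul, mul_one, show π c = 0 from (Submodule.Quotient.mk_eq_zero J).2 hc',
      map_zero]
  · rw [smul_sub, ← mul_smul, ← pow_succ, sub_eq_zero, ← h'.map_smul]
    exact (LinearMap.congr_fun hc (π 1)).trans (one_smul R t)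

/-- elements killed by powers of the elements of a list -/
def listTors (l : List (ℤ × R)) (Y : Type u) [AddCommGroup Y] [Module R Y] : Submodule R Y where
  carrier := {x | ∀ c ∈ l, ∃ N : ℕ, c.2 ^ N • x = 0}
  add_mem' {x y} hx hy c hc := by
    obtain ⟨N, hN⟩ := hx c hc
    obtain ⟨N', hN'⟩ := hy c hc
    refine ⟨N + N', ?_⟩
    rw [smul_add, pow_add, mul_smul, mul_smul, hN', smul_zero, add_zero, smul_comm, hN, smul_zero]
  zero_mem' _ _ := ⟨0, smul_zero _⟩
  smul_mem' r x hx c hc := by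
    obtain ⟨N, hN⟩ := hx c hc
    exact ⟨N, by rw [smul_comm, hN, smul_zero]⟩

omit [IsNoetherianRing R] in
lemma mem_listTors {l : List (ℤ × R)} {Y : Type u} [AddCommGroup Y] [Module R Y] {x : Y} :
    x ∈ listTors l Y ↔ ∀ c ∈ l, ∃ N : ℕ, c.2 ^ N • x = 0 := Iff.rfl

omit [IsNoetherianRing R] in
lemma listTors_isHomogeneous {Y : Type u} [AddCommGroup Y] [Module R Y] (𝒴 : ℤ → AddSubgroup Y)
    [DirectSum.Decomposition 𝒴] [SetLike.GradedSMul 𝒜 𝒴] {l : List (ℤ × R)} (hl : ∀ c ∈ l, c.2 ∈ 𝒜 c.1) :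
    (listTors l Y).IsHomogeneous 𝒴 := fun i x hx c hc => by
  obtain ⟨N, hN⟩ := hx c hc
  refine ⟨N, ?_⟩
  change c.2 ^ N • cp 𝒴 i x = 0
  have hp : c.2 ^ N ∈ 𝒜 (N • c.1) := SetLike.pow_mem_graded N (hl c hc)
  rw [← cp_smul_hom 𝒜 𝒴 hp, hN, map_zero]

/-- a finite list of homogeneous generators of the irrelevant ideal -/
theorem exists_gens (m : HomogeneousIdeal 𝒜)
    (hm : m.toIdeal = Ideal.span (⋃ n ∈ Set.Ioi (0 : ℤ), (𝒜 n : Set R))) :
    ∃ l : List (ℤ × R), (∀ c ∈ l, 0 < c.1 ∧ c.2 ∈ 𝒜 c.1) ∧ m.toIdeal = Ideal.span {a | ∃ c ∈ l, c.2 = a} := by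
  classical
  obtain ⟨G, hG, hGe⟩ := (Submodule.fg_span_iff_fg_span_finset_subset (R := R) (⋃ n ∈ Set.Ioi (0 : ℤ), (𝒜 n : Set R))).1
    (IsNoetherian.noetherian _)
  have hdeg : ∀ a ∈ G, ∃ n : ℤ, 0 < n ∧ a ∈ 𝒜 n := fun a ha => by
    obtain ⟨n, hn, han⟩ := Set.mem_iUnion₂.1 (hG ha)
    exact ⟨n, hn, han⟩
  choose d hd hda using hdeg
  refine ⟨G.attach.toList.map fun a => (d a.1 a.2, a.1), fun c hc => ?_, ?_⟩
  · obtain ⟨a, -, rfl⟩ := List.mem_map.1 hc
    exact ⟨hd a.1 a.2, hda a.1 a.2⟩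
  · rw [hm, Ideal.span, hGe]
    congr 1
    ext a
    constructor
    · intro ha
      exact ⟨(d a ha, a), List.mem_map.2 ⟨⟨a, ha⟩, by simp, rfl⟩, rfl⟩
    · rintro ⟨c, hc, rfl⟩
      obtain ⟨a, -, rfl⟩ := List.mem_map.1 hc
      exact a.2

omit [IsNoetherianRing R] in
/-- killed by powers of the generators is torsion -/
theorem mem_gam_of_list {Y : Type u} [AddCommGroup Y] [Module R Y] {I : Ideal R} {l : List (ℤ × R)}
    (hI : I = Ideal.span {a | ∃ c ∈ l, c.2 = a}) {x : Y} (hx : x ∈ listTors l Y) : x ∈ GrLC.gam I Y := by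
  classical
  have hfg : I.FG := ⟨(l.map Prod.snd).toFinset, by
    rw [hI]
    congr 1
    ext a
    simp⟩
  obtain ⟨k, hk⟩ := Ideal.exists_pow_le_of_le_radical_of_fg (I := I) (J := (R ∙ x).annihilator) (by
    rw [hI]
    refine Ideal.span_le.2 ?_
    rintro a ⟨c, hc, rfl⟩
    obtain ⟨N, hN⟩ := hx c hc
    exact ⟨N, (Submodule.mem_annihilator_span_singleton x _).2 hN⟩) hfg
  exact ⟨k, fun c hc => (Submodule.mem_annihilator_span_singleton x c).1 (hk hc)⟩

/-- induction along the filtration -/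
theorem filt_induction (m : HomogeneousIdeal 𝒜)
    (hm : m.toIdeal = Ideal.span (⋃ n ∈ Set.Ioi (0 : ℤ), (𝒜 n : Set R))) (Ac : GrLC.GMod.{u} 𝒜 → Prop)
    (h1 : ∀ X : GrLC.GMod.{u} 𝒜, GrLC.gam m.toIdeal X.carrier = ⊤ → Ac X)
    (h2 : ∀ (X : GrLC.GMod.{u} 𝒜) (e : ℤ) (a : R), 0 < e → a ∈ 𝒜 e →
      Function.Bijective (fun x : X.carrier => a • x) → Ac X)
    (h3 : ∀ (X₁ X X₂ : GrLC.GMod.{u} 𝒜) (f : X₁.carrier →ₗ[R] X.carrier) (g : X.carrier →ₗ[R] X₂.carrier),
      GrLC.IsGrHom X₁.gr X.gr f → GrLC.IsGrHom X.gr X₂.gr g → Function.Injective f → Function.Surjective g →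
      LinearMap.range f = LinearMap.ker g → Ac X₁ → Ac X₂ → Ac X)
    (Y : GrLC.GMod.{u} 𝒜) (hY : IsDiv 𝒜 Y.gr) : Ac Y := by
  classical
  obtain ⟨l, hl, hspan⟩ := exists_gens m hm
  let F : ∀ (l₁ : List (ℤ × R)), (∀ c ∈ l₁, c.2 ∈ 𝒜 c.1) → GrLC.GMod.{u} 𝒜 := fun l₁ hl₁ =>
    subG 𝒜 Y.gr (listTors l₁ Y.carrier) (listTors_isHomogeneous Y.gr hl₁)
  have main : ∀ (l₂ l₁ : List (ℤ × R)) (hl₁ : ∀ c ∈ l₁, c.2 ∈ 𝒜 c.1), (∀ c ∈ l₂, 0 < c.1 ∧ c.2 ∈ 𝒜 c.1) →
      (∀ c ∈ l, c ∈ l₁ ∨ c ∈ l₂) → Ac (F l₁ hl₁) := by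
    intro l₂
    induction l₂ with
    | nil =>
      intro l₁ hl₁ _ hcov
      refine h1 _ (eq_top_iff.2 fun y _ => ?_)
      obtain ⟨k, hk⟩ := mem_gam_of_list hspan (x := Subtype.val (p := fun v => v ∈ listTors l₁ Y.carrier) y)
        (fun c hc => y.2 c ((hcov c hc).resolve_right (List.not_mem_nil)))
      exact ⟨k, fun c hc => Subtype.ext (hk c hc)⟩
    | cons p l₂ ih =>
      intro l₁ hl₁ hl₂ hcov
      have hp := hl₂ p (List.mem_cons_self ..)
      have hl₁' : ∀ c ∈ p :: l₁, c.2 ∈ 𝒜 c.1 := fun c hc => by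
        rcases List.mem_cons.1 hc with rfl | hc
        · exact hp.2
        · exact hl₁ c hc
      have hle : listTors (p :: l₁) Y.carrier ≤ listTors l₁ Y.carrier := fun x hx c hc => hx c (List.mem_cons_of_mem _ hc)
      let f0 : listTors (p :: l₁) Y.carrier →ₗ[R] listTors l₁ Y.carrier := Submodule.inclusion hle
      let X₁ := F (p :: l₁) hl₁'
      let X := F l₁ hl₁
      let f : X₁.carrier →ₗ[R] X.carrier := f0
      have hfgr : GrLC.IsGrHom X₁.gr X.gr f := fun d x hx => hx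
      have hmemf : ∀ x : X.carrier, (∃ N : ℕ, p.2 ^ N • x = 0) → x ∈ LinearMap.range f := fun x hx => by
        obtain ⟨N, hN⟩ := hx
        refine ⟨(⟨Subtype.val (p := fun v => v ∈ listTors l₁ Y.carrier) x, fun c hc => ?_⟩ : listTors (p :: l₁) Y.carrier), Subtype.ext rfl⟩
        rcases List.mem_cons.1 hc with rfl | hc
        · exact ⟨N, congrArg Subtype.val hN⟩
        · exact x.2 c hc
      have hrange := range_isHomogeneous X₁.gr X.gr hfgr
      let X₂ := quoG 𝒜 X.gr (LinearMap.range f) hrange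
      let g : X.carrier →ₗ[R] X₂.carrier := (LinearMap.range f).mkQ
      have hggr : GrLC.IsGrHom X.gr X₂.gr g := fun d x hx => ⟨x, hx, rfl⟩
      refine h3 X₁ X X₂ f g hfgr hggr (Submodule.inclusion_injective hle) (Submodule.mkQ_surjective _)
        (Submodule.ker_mkQ _).symm (ih (p :: l₁) hl₁' (fun c hc => hl₂ c (List.mem_cons_of_mem _ hc)) fun c hc => ?_) ?_
      · rcases hcov c hc with h | h
        · exact Or.inl (List.mem_cons_of_mem _ h)
        · rcases List.mem_cons.1 h with rfl | h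
          · exact Or.inl (List.mem_cons_self ..)
          · exact Or.inr h
      · refine h2 X₂ p.1 p.2 hp.1 hp.2 ⟨(injective_iff_map_eq_zero (p.2 • LinearMap.id : X₂.carrier →ₗ[R] X₂.carrier)).2
          fun z hz => ?_, fun z => ?_⟩
        · obtain ⟨x, rfl⟩ := Submodule.mkQ_surjective (LinearMap.range f) z
          have hz' : g (p.2 • x) = 0 := by rw [map_smul]; exact hz
          obtain ⟨w, hw⟩ := (Submodule.Quotient.mk_eq_zero _).1 hz'
          obtain ⟨N, hN⟩ := (mem_listTors.1 (show listTors (p :: l₁) Y.carrier from w).2) p (List.mem_cons_self ..)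
          refine (Submodule.Quotient.mk_eq_zero _).2 (hmemf x ⟨N + 1, ?_⟩)
          rw [pow_succ, mul_smul, ← hw, ← map_smul]
          have h0 : p.2 ^ N • w = 0 := Subtype.ext hN
          rw [h0, map_zero]
        · obtain ⟨x, rfl⟩ := Submodule.mkQ_surjective (LinearMap.range f) z
          suffices hx : ∃ w : X.carrier, g (p.2 • w) = g x by
            obtain ⟨w, hw⟩ := hx
            exact ⟨g w, (map_smul g _ _).symm.trans hw⟩
          induction x using induction_on_hom X.gr with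
          | h0 => exact ⟨0, by rw [smul_zero]⟩
          | ha a b ha hb =>
            obtain ⟨v, hv⟩ := ha
            obtain ⟨w, hw⟩ := hb
            exact ⟨v + w, by rw [smul_add, map_add, map_add, hv, hw]⟩
          | hh d x hx =>
            let xv : Y.carrier := Subtype.val (p := fun v => v ∈ listTors l₁ Y.carrier) x
            have hxv := mem_listTors.1 (show listTors l₁ Y.carrier from x).2
            choose N hN using hxv
            let J : Ideal R := Ideal.span {r | ∃ c, ∃ hc : c ∈ l₁, c.2 ^ N c hc = r}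
            obtain ⟨w, hwJ, i, hi⟩ := hY J (Ideal.homogeneous_span 𝒜 _ fun r ⟨c, hc, hr⟩ =>
              ⟨N c hc • c.1, hr ▸ SetLike.pow_mem_graded _ (hl₁ c hc)⟩) p.1 p.2 hp.2 d xv hx (fun r hr => by
                induction hr using Submodule.span_induction with
                | mem r hr =>
                  obtain ⟨c, hc, rfl⟩ := hr
                  exact hN c hc
                | zero => rw [zero_smul]
                | add a b _ _ ha hb => rw [add_smul, ha, hb, add_zero]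
                | smul t a _ ha => rw [smul_eq_mul, mul_smul, ha, smul_zero])
            have hw : w ∈ listTors l₁ Y.carrier := fun c hc => ⟨N c hc, hwJ _ (Ideal.subset_span ⟨c, hc, rfl⟩)⟩
            let w' : X.carrier := (⟨w, hw⟩ : listTors l₁ Y.carrier)
            refine ⟨w', (Submodule.Quotient.eq _).2 (hmemf _ ⟨i, Subtype.ext ?_⟩)⟩
            exact hi
  have h0 : ∀ c ∈ ([] : List (ℤ × R)), c.2 ∈ 𝒜 c.1 := fun c hc => absurd hc List.not_mem_nil
  let incl : (F [] h0).carrier →ₗ[R] Y.carrier := (listTors ([] : List (ℤ × R)) Y.carrier).subtype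
  have hincl : GrLC.IsGrHom (F [] h0).gr Y.gr incl := fun d x hx => hx
  have hsurj : LinearMap.range incl = ⊤ := eq_top_iff.2 fun y _ =>
    ⟨(⟨y, fun c hc => absurd hc List.not_mem_nil⟩ : listTors ([] : List (ℤ × R)) Y.carrier), rfl⟩
  let X₂ := quoG 𝒜 Y.gr (LinearMap.range incl) (range_isHomogeneous (F [] h0).gr Y.gr hincl)
  let g : Y.carrier →ₗ[R] X₂.carrier := (LinearMap.range incl).mkQ
  refine h3 (F [] h0) Y X₂ incl g hincl (fun d x hx => ⟨x, hx, rfl⟩)
    (Submodule.injective_subtype (listTors ([] : List (ℤ × R)) Y.carrier)) (Submodule.mkQ_surjective _)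
    (Submodule.ker_mkQ _).symm (main l [] h0 hl fun c hc => Or.inr hc) (h1 X₂ (eq_top_iff.2 fun z _ => ?_))
  obtain ⟨y, rfl⟩ := Submodule.mkQ_surjective (LinearMap.range incl) z
  refine ⟨0, fun c _ => ?_⟩
  change c • g y = 0
  rw [← map_smul]
  exact (Submodule.Quotient.mk_eq_zero _).2 (hsurj ▸ trivial)

end Groth.L12.GrSegLib
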