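import Groth.Agent.L12.GrSegTors
import Groth.Agent.L12.GrSegFilt
import Groth.Agent.L04.LC.Vanish
import Groth.Agent.S19748

/-!
# Segre products of divisible modules are acyclic for local cohomology
-/

set_option autoImplicit false

universe u

open scoped TensorProduct
open DirectSum

namespace Groth.L12.GrSegLib

open Groth.L12.GrLCLib
open scoped KMod

variable {k : Type u} [Field k] {R : Type u} [CommRing R] [Algebra k R] {𝒜 : ℤ → Submodule k R} [GradedAlgebra 𝒜]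
  {S : Type u} [CommRing S] [Algebra k S] {ℬ : ℤ → Submodule k S} [GradedAlgebra ℬ]
  {T : Type u} [CommRing T] [Algebra k T] {𝒯 : ℤ → Submodule k T} [GradedAlgebra 𝒯] {ψ : T →ₐ[k] R ⊗[k] S}

section Exact

variable {M : Type u} [AddCommGroup M] [Module R M] [Module k M] [IsScalarTower k R M]
  {τ : Type u} [SetLike τ M] [AddSubgroupClass τ M] {ℳ : ℤ → τ} [DirectSum.Decomposition ℳ] [SetLike.GradedSMul 𝒜 ℳ]
  {N : Type u} [AddCommGroup N] [Module S N] [Module k N] [IsScalarTower k S N]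
  {τN : Type u} [SetLike τN N] [AddSubgroupClass τN N] {𝒩 : ℤ → τN} [DirectSum.Decomposition 𝒩] [SetLike.GradedSMul ℬ 𝒩]
  {M' : Type u} [AddCommGroup M'] [Module R M'] [Module k M'] [IsScalarTower k R M']
  {τ' : Type u} [SetLike τ' M'] [AddSubgroupClass τ' M'] {ℳ' : ℤ → τ'} [DirectSum.Decomposition ℳ'] [SetLike.GradedSMul 𝒜 ℳ']
  {N' : Type u} [AddCommGroup N'] [Module S N'] [Module k N'] [IsScalarTower k S N']
  {τN' : Type u} [SetLike τN' N'] [AddSubgroupClass τN' N'] {𝒩' : ℤ → τN'} [DirectSum.Decomposition 𝒩'] [SetLike.GradedSMul ℬ 𝒩']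

/-- projections commute with products of homogeneous maps -/
lemma bproj_map (f : M →ₗ[R] M') (hf : GrLC.IsGrHom ℳ ℳ' f) (g : N →ₗ[S] N') (hg : GrLC.IsGrHom 𝒩 𝒩' g)
    (n : ℤ) (z : M ⊗[k] N) :
    bproj 𝒜 ℬ ℳ' 𝒩' n (TensorProduct.map (f.restrictScalars k) (g.restrictScalars k) z) =
      TensorProduct.map (f.restrictScalars k) (g.restrictScalars k) (bproj 𝒜 ℬ ℳ 𝒩 n z) := by
  induction z using TensorProduct.induction_on with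
  | zero => simp
  | add a b ha hb => simp only [map_add, ha, hb]
  | tmul x y =>
    rw [TensorProduct.map_tmul, bproj_tmul, bproj_tmul, TensorProduct.map_tmul]
    exact congrArg₂ (· ⊗ₜ[k] ·) (cp_map ℳ ℳ' f.toAddMonoidHom hf n x) (cp_map 𝒩 𝒩' g.toAddMonoidHom hg n y)

variable {M'' : Type u} [AddCommGroup M''] [Module R M''] [Module k M''] [IsScalarTower k R M'']
  {ℳ'' : ℤ → AddSubgroup M''} [DirectSum.Decomposition ℳ''] [SetLike.GradedSMul 𝒜 ℳ'']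
  {N'' : Type u} [AddCommGroup N''] [Module S N''] [Module k N''] [IsScalarTower k S N'']
  {𝒩'' : ℤ → AddSubgroup N''} [DirectSum.Decomposition 𝒩''] [SetLike.GradedSMul ℬ 𝒩'']
  {P : Type u} [AddCommGroup P] [Module T P] [Module k P] [IsScalarTower k T P]
  {𝒬 : ℤ → AddSubgroup P} [DirectSum.Decomposition 𝒬] {φ : P →ₗ[k] M ⊗[k] N} (hP : GrSeg.IsSegreMod ψ ℳ 𝒩 𝒬 φ)
  {P' : Type u} [AddCommGroup P'] [Module T P'] [Module k P'] [IsScalarTower k T P']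
  {𝒬' : ℤ → AddSubgroup P'} [DirectSum.Decomposition 𝒬'] {φ' : P' →ₗ[k] M' ⊗[k] N'}
  (hP' : GrSeg.IsSegreMod ψ ℳ' 𝒩' 𝒬' φ')
  {P'' : Type u} [AddCommGroup P''] [Module T P''] [Module k P''] [IsScalarTower k T P'']
  {𝒬'' : ℤ → AddSubgroup P''} [DirectSum.Decomposition 𝒬''] {φ'' : P'' →ₗ[k] M'' ⊗[k] N''}
  (hP'' : GrSeg.IsSegreMod ψ ℳ'' 𝒩'' 𝒬'' φ'')

include 𝒜 ℬ hP hP' hP''

/-- Segre products preserve short exact sequences -/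
theorem seg_exact (L₁ : M ⊗[k] N →ₗ[k] M' ⊗[k] N') (L₂ : M' ⊗[k] N' →ₗ[k] M'' ⊗[k] N'')
    (hc₁ : ∀ n z, bproj 𝒜 ℬ ℳ' 𝒩' n (L₁ z) = L₁ (bproj 𝒜 ℬ ℳ 𝒩 n z))
    (hc₂ : ∀ n z, bproj 𝒜 ℬ ℳ'' 𝒩'' n (L₂ z) = L₂ (bproj 𝒜 ℬ ℳ' 𝒩' n z))
    (hi : Function.Injective L₁) (hs : Function.Surjective L₂) (he : LinearMap.range L₁ = LinearMap.ker L₂)
    (F₁ : P →ₗ[T] P') (hF₁ : ∀ p, φ' (F₁ p) = L₁ (φ p)) (F₂ : P' →ₗ[T] P'') (hF₂ : ∀ p, φ'' (F₂ p) = L₂ (φ' p)) :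
    Function.Injective F₁ ∧ Function.Surjective F₂ ∧ Function.Exact F₁ F₂ := by
  have hgr₂ : GrLC.IsGrHom 𝒬' 𝒬'' F₂ := fun n p hp => (seg_mem_iff ℳ'' 𝒩'' hP'').2 (by
    rw [hF₂, ← bproj_of_mem 𝒜 ℬ ℳ' 𝒩' (seg_mem_piece ℳ' 𝒩' hP' hp), ← hc₂]
    exact bproj_mem 𝒜 ℬ ℳ'' 𝒩'' n _)
  refine ⟨fun a b hab => hP.injective (hi (by rw [← hF₁, ← hF₁, hab])), fun q => ?_, fun p => ⟨fun hp => ?_, ?_⟩⟩
  · induction q using induction_on_hom 𝒬'' with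
    | h0 => exact ⟨0, map_zero _⟩
    | ha a b ha hb =>
      obtain ⟨v, rfl⟩ := ha
      obtain ⟨w, rfl⟩ := hb
      exact ⟨v + w, map_add _ _ _⟩
    | hh n q hq =>
      obtain ⟨z, hz⟩ := hs (φ'' q)
      obtain ⟨p, -, hp⟩ := seg_exists ℳ' 𝒩' hP' (bproj_mem 𝒜 ℬ ℳ' 𝒩' n z)
      refine ⟨p, hP''.injective ?_⟩
      rw [hF₂, hp, ← hc₂, hz, bproj_of_mem 𝒜 ℬ ℳ'' 𝒩'' (seg_mem_piece ℳ'' 𝒩'' hP'' hq)]
  · have hcomp : ∀ n, ∃ v, F₁ v = cp 𝒬' n p := fun n => by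
      have h1 : L₂ (φ' (cp 𝒬' n p)) = 0 := by
        rw [← hF₂, show F₂ (cp 𝒬' n p) = cp 𝒬'' n (F₂ p) from (cp_map 𝒬' 𝒬'' F₂.toAddMonoidHom hgr₂ n p).symm, hp,
          map_zero, map_zero]
      obtain ⟨w, hw⟩ := he.ge h1
      obtain ⟨v, -, hv⟩ := seg_exists ℳ 𝒩 hP (bproj_mem 𝒜 ℬ ℳ 𝒩 n w)
      refine ⟨v, hP'.injective ?_⟩
      rw [hF₁, hv, ← hc₁, hw, bproj_of_mem 𝒜 ℬ ℳ' 𝒩' (seg_mem_piece ℳ' 𝒩' hP' (cp_mem 𝒬' n p))]
    choose v hv using hcomp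
    obtain ⟨s, hs', -⟩ := exists_sum_cp 𝒬' p
    exact ⟨∑ n ∈ s, v n, by rw [map_sum, Finset.sum_congr rfl fun n _ => hv n, hs']⟩
  · rintro ⟨v, rfl⟩
    refine hP''.injective ?_
    rw [hF₂, hF₁, map_zero]
    exact LinearMap.mem_ker.1 (he.le ⟨_, rfl⟩)

end Exact

section Acyclic

variable [Algebra.FiniteType k R] [Algebra.FiniteType k S]
  (hT : GrSeg.IsSegreRing 𝒜 ℬ 𝒯 ψ) (hposR : ∀ n : ℤ, n < 0 → 𝒜 n = ⊥) (hposS : ∀ n : ℤ, n < 0 → ℬ n = ⊥)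
  (h0R : 𝒜 0 = Submodule.span k {(1 : R)}) (h0S : ℬ 0 = Submodule.span k {(1 : S)})
  (mR : HomogeneousIdeal 𝒜) (hmR : mR.toIdeal = Ideal.span (⋃ n ∈ Set.Ioi (0 : ℤ), (𝒜 n : Set R)))
  (mS : HomogeneousIdeal ℬ) (hmS : mS.toIdeal = Ideal.span (⋃ n ∈ Set.Ioi (0 : ℤ), (ℬ n : Set S)))
  (mT : HomogeneousIdeal 𝒯) (hmT : mT.toIdeal = Ideal.span (⋃ n ∈ Set.Ioi (0 : ℤ), (𝒯 n : Set T)))

/-- acyclicity of a Segre product -/
def SegAc (X : GrLC.GMod.{u} 𝒜) (Y : GrLC.GMod.{u} ℬ) : Prop :=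
  ∀ i : ℕ, Subsingleton (LocCoh.H mT.toIdeal (i + 1) (sgG 𝒜 ℬ X.gr Y.gr hT).carrier)

omit [Algebra.FiniteType k R] [Algebra.FiniteType k S] in
lemma segAc_extR {X₁ X X₂ : GrLC.GMod.{u} 𝒜} (f : X₁.carrier →ₗ[R] X.carrier) (g : X.carrier →ₗ[R] X₂.carrier)
    (hf : GrLC.IsGrHom X₁.gr X.gr f) (hg : GrLC.IsGrHom X.gr X₂.gr g) (hfi : Function.Injective f)
    (hgs : Function.Surjective g) (hfg : LinearMap.range f = LinearMap.ker g) (Y : GrLC.GMod.{u} ℬ)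
    (h₁ : SegAc hT mT X₁ Y) (h₂ : SegAc hT mT X₂ Y) : SegAc hT mT X Y := fun i => by
  have hidY : GrLC.IsGrHom Y.gr Y.gr (LinearMap.id : Y.carrier →ₗ[S] Y.carrier) := fun _ _ h => h
  have hP₁ := sgG_isSegreMod 𝒜 ℬ X₁.gr Y.gr hT
  have hP := sgG_isSegreMod 𝒜 ℬ X.gr Y.gr hT
  have hP₂ := sgG_isSegreMod 𝒜 ℬ X₂.gr Y.gr hT
  obtain ⟨F₁, -, hF₁⟩ := exists_segMap_map X₁.gr Y.gr hP₁ hP f hf LinearMap.id hidY
  obtain ⟨F₂, -, hF₂⟩ := exists_segMap_map X.gr Y.gr hP hP₂ g hg LinearMap.id hidY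
  have hex : Function.Exact (f.restrictScalars k) (g.restrictScalars k) := LinearMap.exact_iff.2 (by
    ext x
    exact ⟨fun hx => hfg.ge hx, fun hx => hfg.le hx⟩)
  obtain ⟨hi, hs, he⟩ := seg_exact hP₁ hP hP₂ _ _ (bproj_map (𝒜 := 𝒜) (ℬ := ℬ) f hf LinearMap.id hidY) (bproj_map (𝒜 := 𝒜) (ℬ := ℬ) g hg LinearMap.id hidY)
    (Module.Flat.rTensor_preserves_injective_linearMap (M := Y.carrier) (f.restrictScalars k) hfi)
    (LinearMap.rTensor_surjective Y.carrier hgs)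
    (LinearMap.exact_iff.1 (rTensor_exact Y.carrier hex hgs)).symm F₁ hF₁ F₂ hF₂
  exact Groth.L04.LC.subsingleton_H_mid mT.toIdeal (Groth.L04.LC.ses_shortExact F₁ F₂ hi hs he) (i + 1) (h₁ i) (h₂ i)

omit [Algebra.FiniteType k R] [Algebra.FiniteType k S] in
lemma segAc_extS (X : GrLC.GMod.{u} 𝒜) {Y₁ Y Y₂ : GrLC.GMod.{u} ℬ} (f : Y₁.carrier →ₗ[S] Y.carrier)
    (g : Y.carrier →ₗ[S] Y₂.carrier) (hf : GrLC.IsGrHom Y₁.gr Y.gr f) (hg : GrLC.IsGrHom Y.gr Y₂.gr g)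
    (hfi : Function.Injective f) (hgs : Function.Surjective g) (hfg : LinearMap.range f = LinearMap.ker g)
    (h₁ : SegAc hT mT X Y₁) (h₂ : SegAc hT mT X Y₂) : SegAc hT mT X Y := fun i => by
  have hidX : GrLC.IsGrHom X.gr X.gr (LinearMap.id : X.carrier →ₗ[R] X.carrier) := fun _ _ h => h
  have hP₁ := sgG_isSegreMod 𝒜 ℬ X.gr Y₁.gr hT
  have hP := sgG_isSegreMod 𝒜 ℬ X.gr Y.gr hT
  have hP₂ := sgG_isSegreMod 𝒜 ℬ X.gr Y₂.gr hT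
  obtain ⟨F₁, -, hF₁⟩ := exists_segMap_map X.gr Y₁.gr hP₁ hP LinearMap.id hidX f hf
  obtain ⟨F₂, -, hF₂⟩ := exists_segMap_map X.gr Y.gr hP hP₂ LinearMap.id hidX g hg
  have hex : Function.Exact (f.restrictScalars k) (g.restrictScalars k) := LinearMap.exact_iff.2 (by
    ext x
    exact ⟨fun hx => hfg.ge hx, fun hx => hfg.le hx⟩)
  obtain ⟨hi, hs, he⟩ := seg_exact hP₁ hP hP₂ _ _ (bproj_map (𝒜 := 𝒜) (ℬ := ℬ) LinearMap.id hidX f hf) (bproj_map (𝒜 := 𝒜) (ℬ := ℬ) LinearMap.id hidX g hg)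
    (Module.Flat.lTensor_preserves_injective_linearMap (M := X.carrier) (f.restrictScalars k) hfi)
    (LinearMap.lTensor_surjective X.carrier hgs)
    (LinearMap.exact_iff.1 (lTensor_exact X.carrier hex hgs)).symm F₁ hF₁ F₂ hF₂
  exact Groth.L04.LC.subsingleton_H_mid mT.toIdeal (Groth.L04.LC.ses_shortExact F₁ F₂ hi hs he) (i + 1) (h₁ i) (h₂ i)

include hposR hmR hmS hmT

lemma segAc_torsion (X : GrLC.GMod.{u} 𝒜) (Y : GrLC.GMod.{u} ℬ)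
    (h : GrLC.gam mR.toIdeal X.carrier = ⊤ ∨ GrLC.gam mS.toIdeal Y.carrier = ⊤) : SegAc hT mT X Y := fun i => by
  have hgam := seg_gam_eq_top hT hposR (sgG_isSegreMod 𝒜 ℬ X.gr Y.gr hT) mR hmR mS hmS mT hmT h
  haveI : IsNoetherianRing T := isNoetherian_segreMod 𝒜 ℬ 𝒜 ℬ 𝒯 𝒯 hT (isSegreMod_self 𝒜 ℬ 𝒯 hT)
  refine Groth.L04.LC.subsingleton_H_pos_of_isPowerTorsion _ i.succ_pos _ fun x => ?_
  have hx : x ∈ GrLC.gam mT.toIdeal (sgG 𝒜 ℬ X.gr Y.gr hT).carrier := hgam ▸ trivial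
  exact hx

include hposS h0R h0S

lemma segAc_bijective (X : GrLC.GMod.{u} 𝒜) (Y : GrLC.GMod.{u} ℬ) {d : ℤ} (hd : 0 < d) {a : R} (ha : a ∈ 𝒜 d)
    (hab : Function.Bijective fun x : X.carrier => a • x) {e : ℤ} (he : 0 < e) {b : S} (hb : b ∈ ℬ e)
    (hbb : Function.Bijective fun y : Y.carrier => b • y) : SegAc hT mT X Y := fun i => by
  obtain ⟨c, t, hc, ht, htb⟩ := Groth.Agent.S19748.result k R 𝒜 hposR h0R S ℬ hposS h0S T 𝒯 ψ hT X.carrier X.gr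
    Y.carrier Y.gr (sgG 𝒜 ℬ X.gr Y.gr hT).carrier (sgG 𝒜 ℬ X.gr Y.gr hT).gr (sgInc 𝒜 ℬ X.gr Y.gr hT)
    (sgG_isSegreMod 𝒜 ℬ X.gr Y.gr hT) d.toNat (by omega) a (by rwa [Int.toNat_of_nonneg hd.le]) hab e.toNat (by omega) b
    (by rwa [Int.toNat_of_nonneg he.le]) hbb
  exact Groth.L04.LC.subsingleton_H_of_bijective mT.toIdeal (i + 1)
    (hmT ▸ Ideal.subset_span (Set.mem_iUnion₂.2 ⟨c, hc, ht⟩)) htb

/-- divisible times bijective is acyclic -/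
theorem segAc_div_bijective (X : GrLC.GMod.{u} 𝒜) (hX : IsDiv 𝒜 X.gr) (Y : GrLC.GMod.{u} ℬ) {e : ℤ} (he : 0 < e)
    {b : S} (hb : b ∈ ℬ e) (hbb : Function.Bijective fun y : Y.carrier => b • y) : SegAc hT mT X Y := by
  haveI : IsNoetherianRing R := Algebra.FiniteType.isNoetherianRing k R
  exact filt_induction mR hmR (fun X => SegAc hT mT X Y)
    (fun X h => segAc_torsion hT hposR mR hmR mS hmS mT hmT X Y (Or.inl h))
    (fun X d a hd ha hab => segAc_bijective hT hposR hposS h0R h0S mR hmR mS hmS mT hmT X Y hd ha hab he hb hbb)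
    (fun _ _ _ f g hf hg hfi hgs hfg h₁ h₂ => segAc_extR hT mT f g hf hg hfi hgs hfg Y h₁ h₂) X hX

/-- divisible times divisible is acyclic -/
theorem segAc_div_div (X : GrLC.GMod.{u} 𝒜) (hX : IsDiv 𝒜 X.gr) (Y : GrLC.GMod.{u} ℬ) (hY : IsDiv ℬ Y.gr) :
    SegAc hT mT X Y := by
  haveI : IsNoetherianRing S := Algebra.FiniteType.isNoetherianRing k S
  exact filt_induction mS hmS (fun Y => SegAc hT mT X Y)
    (fun Y h => segAc_torsion hT hposR mR hmR mS hmS mT hmT X Y (Or.inr h))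
    (fun Y e b he hb hbb => segAc_div_bijective hT hposR hposS h0R h0S mR hmR mS hmS mT hmT X hX Y he hb hbb)
    (fun _ _ _ f g hf hg hfi hgs hfg h₁ h₂ => segAc_extS hT mT X f g hf hg hfi hgs hfg h₁ h₂) Y hY

end Acyclic

end Groth.L12.GrSegLib
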