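import Groth.Agent.L12.GrSegTF
import Groth.Agent.L12.CMTransfer
import Groth.Agent.L12.GrLCIterDepth
import Groth.Agent.L04.LC.Depth
import Groth.Agent.L04.Depth2

/-!
# The local cohomology criterion for graded Cohen–Macaulay modules over a field
-/

set_option autoImplicit false

universe u

open DirectSum

namespace Groth.L12.GrSegLib

open Groth.L12.GrLCLib
open scoped Groth.L12.GrLCLib.Asub

variable {k : Type u} [Field k] {R : Type u} [CommRing R] [Algebra k R] {𝒜 : ℤ → Submodule k R} [GradedAlgebra 𝒜]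

/-- a Noetherian positively graded algebra with scalars in degree zero is of finite type -/
theorem finiteType_of_noetherian [IsNoetherianRing R] (hpos : ∀ n : ℤ, n < 0 → 𝒜 n = ⊥)
    (h0 : 𝒜 0 = Submodule.span k {(1 : R)}) : Algebra.FiniteType k R := by
  classical
  obtain ⟨n, deg, x, hx, hspan⟩ := exists_homog_gens 𝒜 (P := ((irr 𝒜).toIdeal : Submodule R R))
    (irr 𝒜).isHomogeneous (IsNoetherian.noetherian _)
  refine ⟨⟨Finset.univ.image x, Algebra.eq_top_iff.2 fun r => ?_⟩⟩
  rw [Finset.coe_image, Finset.coe_univ, Set.image_univ]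
  suffices key : ∀ (N : ℕ) (d : ℤ), d.toNat ≤ N → ∀ r ∈ 𝒜 d, r ∈ Algebra.adjoin k (Set.range x) by
    induction r using induction_on_hom 𝒜 with
    | h0 => exact zero_mem _
    | ha a b ha hb => exact add_mem ha hb
    | hh d r hr => exact key _ d le_rfl r hr
  intro N
  induction N using Nat.strong_induction_on with
  | _ N ih =>
    intro d hdN r hr
    rcases lt_trichotomy d 0 with h | h | h
    · rw [hpos d h, Submodule.mem_bot] at hr
      rw [hr]
      exact zero_mem _
    · subst h
      obtain ⟨c, rfl⟩ := Submodule.mem_span_singleton.1 (h0.le hr)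
      exact Subalgebra.smul_mem _ (one_mem _) c
    · have hmem : r ∈ ((irr 𝒜).toIdeal : Submodule R R) := Ideal.subset_span (Set.mem_iUnion₂.2 ⟨d, h, hr⟩)
      obtain ⟨c, hc⟩ := (Submodule.mem_span_range_iff_exists_fun R).1 (hspan ▸ hmem)
      rw [← cp_same 𝒜 hr, ← hc, map_sum]
      refine Subalgebra.sum_mem _ fun b _ => ?_
      rw [cp_smul_mem 𝒜 𝒜 (c b) (hx b), smul_eq_mul]
      by_cases hb : 0 < deg b
      · exact mul_mem (ih _ (by omega) (d - deg b) le_rfl _ (cp_mem _ _ _))
          (Algebra.subset_adjoin ⟨b, rfl⟩)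
      · rcases eq_or_lt_of_le (not_lt.1 hb) with h1 | h1
        · have hb0 : x b ∈ 𝒜 0 := h1 ▸ hx b
          have hbI : x b ∈ (irr 𝒜).toIdeal := by
            have : x b ∈ ((irr 𝒜).toIdeal : Submodule R R) := hspan ▸ Submodule.subset_span ⟨b, rfl⟩
            exact this
          rcases subsingleton_or_nontrivial R with hR | hR
          · rw [Subsingleton.elim (cp 𝒜 (d - deg b) (c b) * x b) 0]
            exact zero_mem _
          obtain ⟨v, hv⟩ := Submodule.mem_span_singleton.1 (h0.le hb0)
          by_cases hv0 : v = 0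
          · rw [← hv, hv0, zero_smul, mul_zero]
            exact zero_mem _
          · exfalso
            refine (irrel_isMaximal hpos h0 (I := (irr 𝒜).toIdeal) rfl).ne_top (Ideal.eq_top_of_isUnit_mem _ hbI ?_)
            rw [← hv, ← Algebra.algebraMap_eq_smul_one]
            exact (isUnit_iff_ne_zero.2 hv0).map _
        · have hb0 := hx b
          rw [hpos _ h1, Submodule.mem_bot] at hb0
          rw [hb0, mul_zero]
          exact zero_mem _

variable {M : Type u} [AddCommGroup M] [Module R M] [Module k M] [IsScalarTower k R M]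
  {τ : Type u} [SetLike τ M] [AddSubgroupClass τ M] {ℳ : ℤ → τ} [DirectSum.Decomposition ℳ] [SetLike.GradedSMul 𝒜 ℳ]
  [Algebra.FiniteType k R] [Module.Finite R M]

include ℳ in
/-- the dimension is attained at the irrelevant ideal -/
theorem supportDim_localized_irr (hpos : ∀ n : ℤ, n < 0 → 𝒜 n = ⊥) (h0 : 𝒜 0 = Submodule.span k {(1 : R)})
    [(irr 𝒜).toIdeal.IsPrime] {n : ℕ} (hn : Module.supportDim R M = n) :
    (irr 𝒜).toIdeal ∈ (fun p : PrimeSpectrum R => p.asIdeal) '' Module.support R M ∧
      Module.supportDim (Localization.AtPrime (irr 𝒜).toIdeal) (LocalizedModule (irr 𝒜).toIdeal.primeCompl M) = n := by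
  haveI : IsNoetherianRing R := Algebra.FiniteType.isNoetherianRing k R
  haveI : Nontrivial M := (Module.supportDim_ne_bot_iff_nontrivial R M).1 (hn ▸ WithBot.natCast_ne_bot n)
  have hsupp : (⟨(irr 𝒜).toIdeal, inferInstance⟩ : PrimeSpectrum R) ∈ Module.support R M := by
    refine Module.mem_support_iff_of_finite.2 (le_irrel hpos h0 rfl
      (Asub.isHomogeneous_down (annihilator_isHomogeneous (𝒜 := asub 𝒜) (ℳ := asub ℳ))) fun h => ?_)
    exact not_subsingleton M (Module.annihilator_eq_top_iff.1 h)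
  refine ⟨⟨_, hsupp, rfl⟩, ?_⟩
  rw [supportDim_localized_eq_height ⟨_, _⟩ hsupp, Order.height_eq_krullDim_Iic]
  have hbelow : Order.krullDim (Set.Iic (⟨_, hsupp⟩ : Module.support R M)) =
      Order.krullDim (suppBelow (irr 𝒜).toIdeal M) := Order.krullDim_eq_of_orderIso
    { toFun := fun p => ⟨p.1.1, p.1.2, p.2⟩
      invFun := fun p => ⟨⟨p.1, p.2.1⟩, p.2.2⟩
      left_inv := fun _ => rfl
      right_inv := fun _ => rfl
      map_rel_iff' := Iff.rfl }
  rw [hbelow]
  have hle : Order.krullDim (suppBelow (irr 𝒜).toIdeal M) ≤ (n : WithBot ℕ∞) :=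
    (Order.krullDim_le_of_strictMono (fun p => (⟨p.1, p.2.1⟩ : Module.support R M)) fun _ _ h => h).trans hn.le
  refine le_antisymm hle ?_
  have hnn : 0 ≤ Order.krullDim (suppBelow (irr 𝒜).toIdeal M) :=
    Order.krullDim_nonneg_iff.2 ⟨⟨⟨_, inferInstance⟩, hsupp, le_rfl⟩⟩
  obtain ⟨m, hm⟩ : ∃ m : ℕ, Order.krullDim (suppBelow (irr 𝒜).toIdeal M) = (m : WithBot ℕ∞) := by
    generalize Order.krullDim (suppBelow (irr 𝒜).toIdeal M) = v at hle hnn
    induction v using WithBot.recBotCoe with
    | bot => simp at hnn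
    | coe v =>
      induction v using ENat.recTopCoe with
      | top => exact absurd (WithBot.coe_le_coe.1 hle) (not_le.2 (ENat.natCast_lt_top n))
      | coe v => exact ⟨v, rfl⟩
  rw [hm, ← hn]
  exact (supportDim_le_of_below (ℳ := ℳ) hpos h0 hm.le).2

include ℳ in
/-- a graded module is Cohen–Macaulay iff its local cohomology vanishes below the dimension -/
theorem cm_iff_H (hpos : ∀ n : ℤ, n < 0 → 𝒜 n = ⊥) (h0 : 𝒜 0 = Submodule.span k {(1 : R)})
    {n : ℕ} (hn : Module.supportDim R M = n) :
    (∀ (q : Ideal R) [q.IsPrime], Subsingleton (LocalizedModule q.primeCompl M) ∨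
        LocCoh.IsCohenMacaulayModule (Localization.AtPrime q) (LocalizedModule q.primeCompl M)) ↔
      ∀ i < n, Subsingleton (LocCoh.H (irr 𝒜).toIdeal i M) := by
  classical
  haveI : IsNoetherianRing R := Algebra.FiniteType.isNoetherianRing k R
  haveI : Nontrivial M := (Module.supportDim_ne_bot_iff_nontrivial R M).1 (hn ▸ WithBot.natCast_ne_bot n)
  haveI : Nontrivial R := Module.nontrivial R M
  haveI hmax := irrel_isMaximal hpos h0 (I := (irr 𝒜).toIdeal) rfl
  haveI : (irr 𝒜).toIdeal.IsPrime := hmax.isPrime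
  obtain ⟨⟨_, hsupp, hp⟩, hdim⟩ := supportDim_localized_irr (ℳ := ℳ) hpos h0 hn
  replace hsupp : (⟨(irr 𝒜).toIdeal, inferInstance⟩ : PrimeSpectrum R) ∈ Module.support R M := by
    convert hsupp using 1
    exact PrimeSpectrum.ext hp.symm
  haveI : Nontrivial (LocalizedModule (irr 𝒜).toIdeal.primeCompl M) := Module.mem_support_iff.1 hsupp
  haveI : IsNoetherianRing (Localization.AtPrime (irr 𝒜).toIdeal) :=
    IsLocalization.isNoetherianRing (irr 𝒜).toIdeal.primeCompl _ inferInstance
  haveI : Module.Finite (Localization.AtPrime (irr 𝒜).toIdeal) (LocalizedModule (irr 𝒜).toIdeal.primeCompl M) :=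
    Module.Finite.of_isLocalizedModule (irr 𝒜).toIdeal.primeCompl (LocalizedModule.mkLinearMap _ M)
  have hdepth : LocCoh.idealDepth (irr 𝒜).toIdeal M =
      LocCoh.depth (Localization.AtPrime (irr 𝒜).toIdeal) (LocalizedModule (irr 𝒜).toIdeal.primeCompl M) := by
    rw [Groth.L04.idealDepth_eq_iInf_depth]
    refine le_antisymm (iInf₂_le (⟨_, inferInstance⟩ : PrimeSpectrum R) le_rfl) (le_iInf₂ fun p hp => ?_)
    obtain rfl : p = ⟨_, inferInstance⟩ := PrimeSpectrum.ext (hmax.eq_of_le p.isPrime.ne_top hp).symm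
    exact le_rfl
  rw [← Groth.L04.LC.le_idealDepth_iff_H _ M n, hdepth]
  constructor
  · intro h
    have hCM := (h (irr 𝒜).toIdeal).resolve_left (not_subsingleton _)
    rw [LocCoh.IsCohenMacaulayModule, hdim] at hCM
    exact_mod_cast hCM.le
  · intro h
    have hCM : LocCoh.IsCohenMacaulayModule (Localization.AtPrime (irr 𝒜).toIdeal)
        (LocalizedModule (irr 𝒜).toIdeal.primeCompl M) := by
      rw [Groth.L04.isCohenMacaulayModule_iff_supportDim_le, hdim]
      exact_mod_cast h
    intro p _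
    rcases subsingleton_or_nontrivial (LocalizedModule p.primeCompl M) with hs | hs
    · exact Or.inl hs
    refine Or.inr ?_
    have hps : (⟨p, inferInstance⟩ : PrimeSpectrum R) ∈ Module.support R M := hs
    haveI hq : (Ideal.homogeneousCore (asub 𝒜) p).toIdeal.IsPrime := Ideal.IsPrime.homogeneousCore ‹_›
    obtain ⟨d, hd⟩ : ∃ d : ℕ, (p.map (Ideal.Quotient.mk (Ideal.homogeneousCore (asub 𝒜) p).toIdeal)).height = d := by
      haveI : (p.map (Ideal.Quotient.mk (Ideal.homogeneousCore (asub 𝒜) p).toIdeal)).IsPrime :=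
        Ideal.map_isPrime_of_surjective Ideal.Quotient.mk_surjective
          ((Ideal.mk_ker).le.trans (Ideal.toIdeal_homogeneousCore_le (asub 𝒜) p))
      exact ⟨_, (ENat.natCast_toNat (Ideal.height_ne_top (Ideal.IsPrime.ne_top this))).symm⟩
    obtain ⟨⟨hlow, hshift⟩, hh⟩ := exists_core (𝒜 := asub 𝒜) p d hd M (asub ℳ)
    obtain ⟨hqs, hht⟩ := hh inferInstance hps
    have hqm : (Ideal.homogeneousCore (asub 𝒜) p).toIdeal ≤ (irr 𝒜).toIdeal :=
      le_irrel hpos h0 rfl (Asub.isHomogeneous_down (Ideal.homogeneousCore (asub 𝒜) p).isHomogeneous) hq.ne_top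
    have hCMq := Groth.L12.CMTransfer.isCM_of_le hqm hqs hCM
    rw [LocCoh.IsCohenMacaulayModule] at hCMq ⊢
    rw [supportDim_localized_eq_height ⟨p, _⟩ hps, hht,
      depth_eq_add_of_bassNum_shift (Ideal.homogeneousCore (asub 𝒜) p).toIdeal M p d hlow hshift]
    rw [supportDim_localized_eq_height ⟨_, hq⟩ hqs] at hCMq
    rw [WithBot.coe_add, WithBot.coe_add, hCMq]

omit [Algebra.FiniteType k R] [Module.Finite R M] [Module k M] [IsScalarTower k R M] in
/-- vanishing of local cohomology degree by degree -/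
theorem subsingleton_H_iff [IsNoetherianRing R] (E : GrLC.StarInjRes 𝒜 ℳ) (a : HomogeneousIdeal 𝒜) (i : ℕ) :
    Subsingleton (LocCoh.H a.toIdeal i M) ↔ ∀ d : ℤ, E.Hgr a i d = ⊥ := by
  classical
  obtain ⟨e⟩ := nonempty_H_equiv E a i
  rw [← e.toEquiv.subsingleton_congr]
  refine ⟨fun h d => (AddSubgroup.eq_bot_iff_forall _).2 fun x _ => Subsingleton.elim x 0, fun h => ?_⟩
  letI := (Hgr_isInternal a E i).chooseDecomposition
  refine subsingleton_of_forall_eq 0 fun x => eq_zero_of_cp (E.Hgr a i) fun d => ?_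
  exact (AddSubgroup.eq_bot_iff_forall _).1 (h d) _ (cp_mem _ _ _)

/-- Cohen–Macaulay rings as modules over themselves -/
theorem isCMRing_iff {A : Type u} [CommRing A] [IsNoetherianRing A] :
    LocCoh.IsCohenMacaulayRing A ↔ ∀ (q : Ideal A) [q.IsPrime], Subsingleton (LocalizedModule q.primeCompl A) ∨
      LocCoh.IsCohenMacaulayModule (Localization.AtPrime q) (LocalizedModule q.primeCompl A) := by
  refine ⟨fun h q _ => Or.inr ?_, fun h => { isCohenMacaulayLocalRing_localization := fun q _ => ?_ }⟩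
  · have h1 := (h.isCohenMacaulayLocalRing_localization q).supportDim_eq_depth
    rwa [LocCoh.IsCohenMacaulayModule, Module.supportDim_eq_of_equiv (Groth.L04.localizedModuleSelfEquiv q),
      Groth.L04.depth_localizedModule_self]
  · haveI : IsNoetherianRing (Localization.AtPrime q) := IsLocalization.isNoetherianRing q.primeCompl _ inferInstance
    refine { supportDim_eq_depth := ?_ }
    rcases h q with hs | hc
    · haveI := hs
      haveI : Subsingleton (Localization.AtPrime q) := (Groth.L04.localizedModuleSelfEquiv q).symm.toEquiv.subsingleton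
      exact absurd ‹Subsingleton (Localization.AtPrime q)› (not_subsingleton _)
    · rwa [LocCoh.IsCohenMacaulayModule, Module.supportDim_eq_of_equiv (Groth.L04.localizedModuleSelfEquiv q),
        Groth.L04.depth_localizedModule_self] at hc

end Groth.L12.GrSegLib
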