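import Groth.Agent.L12.GrSegTF

/-!
# The dimension of Segre products: parameters of a common degree
-/

set_option autoImplicit false

universe u

open scoped TensorProduct
open DirectSum

namespace Groth.L12.GrSegLib

open Groth.L12.GrLCLib

variable {k : Type u} [Field k] {R : Type u} [CommRing R] [Algebra k R] {𝒜 : ℤ → Submodule k R} [GradedAlgebra 𝒜]
  {S : Type u} [CommRing S] [Algebra k S] {ℬ : ℤ → Submodule k S} [GradedAlgebra ℬ]
  {T : Type u} [CommRing T] [Algebra k T] {𝒯 : ℤ → Submodule k T} [GradedAlgebra 𝒯] {ψ : T →ₐ[k] R ⊗[k] S}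
  {M : Type u} [AddCommGroup M] [Module R M] [Module k M] [IsScalarTower k R M]
  {τ : Type u} [SetLike τ M] [AddSubgroupClass τ M] {ℳ : ℤ → τ} [DirectSum.Decomposition ℳ] [SetLike.GradedSMul 𝒜 ℳ]
  {N : Type u} [AddCommGroup N] [Module S N] [Module k N] [IsScalarTower k S N]
  {τ' : Type u} [SetLike τ' N] [AddSubgroupClass τ' N] {𝒩 : ℤ → τ'} [DirectSum.Decomposition 𝒩] [SetLike.GradedSMul ℬ 𝒩]
  {P : Type u} [AddCommGroup P] [Module T P] [Module k P] [IsScalarTower k T P]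
  {τQ : Type u} [SetLike τQ P] [AddSubgroupClass τQ P] {𝒬 : ℤ → τQ} [DirectSum.Decomposition 𝒬]
  {φ : P →ₗ[k] M ⊗[k] N}
  [Algebra.FiniteType k R] [Algebra.FiniteType k S] [Module.Finite R M] [Module.Finite S N]

/-- the dimension of a Segre product of modules having torsion free elements in a common degree -/
theorem seg_supportDim_eq (hposR : ∀ n : ℤ, n < 0 → 𝒜 n = ⊥) (h0R : 𝒜 0 = Submodule.span k {(1 : R)})
    (hposS : ∀ n : ℤ, n < 0 → ℬ n = ⊥) (h0S : ℬ 0 = Submodule.span k {(1 : S)})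
    (hT : GrSeg.IsSegreRing 𝒜 ℬ 𝒯 ψ) (hP : GrSeg.IsSegreMod ψ ℳ 𝒩 𝒬 φ) {r s : ℕ} (hr : 1 ≤ r) (hs : 1 ≤ s)
    (hdM : Module.supportDim R M = r) (hdN : Module.supportDim S N = s)
    (hex : ∀ (D : ℤ), 0 < D → ∀ (x : Fin r → R) (y : Fin s → S), (∀ i, x i ∈ 𝒜 D) → (∀ i, y i ∈ ℬ D) →
      Gen ℳ x (fun _ => D) → Gen 𝒩 y (fun _ => D) →
      (∀ f : MvPolynomial (Fin r) k, (∀ m : M, MvPolynomial.aeval x f • m = 0) → f = 0) →
      (∀ f : MvPolynomial (Fin s) k, (∀ n : N, MvPolynomial.aeval y f • n = 0) → f = 0) →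
      ∃ d, ∃ m ∈ ℳ d, ∃ n ∈ 𝒩 d, (∀ f, MvPolynomial.aeval (R := k) x f • m = 0 → f = 0) ∧
        ∀ f, MvPolynomial.aeval (R := k) y f • n = 0 → f = 0) :
    Module.supportDim T P = ((r + s - 1 : ℕ) : WithBot ℕ∞) := by
  obtain ⟨D₁, hD₁, h₁⟩ := exists_param (ℳ := ℳ) hposR h0R hdM
  obtain ⟨D₂, hD₂, h₂⟩ := exists_param (ℳ := 𝒩) hposS h0S hdN
  obtain ⟨x, hx, hgx, hfx⟩ := h₁ D₂.toNat (by omega)
  obtain ⟨y, hy, hgy, hfy⟩ := h₂ D₁.toNat (by omega)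
  rw [Int.toNat_of_nonneg hD₂.le] at hx hgx
  rw [Int.toNat_of_nonneg hD₁.le, mul_comm] at hy hgy
  have hD := mul_pos hD₁ hD₂
  obtain ⟨d, m, hm, n, hn, hmf, hnf⟩ := hex _ hD x y hx hy hgx hgy hfx hfy
  exact le_antisymm (seg_supportDim_le hposR h0R h0S hT hP hD hx hy hgx hgy)
    (le_seg_supportDim hposR h0R h0S hT hP hr hs hD hx hy hgx hgy hm hn hmf hnf)

end Groth.L12.GrSegLib
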