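import Groth.Agent.L12.GrSegDim
import Groth.Agent.L12.GrSegCrit
import Groth.Agent.L12.GrSegDimEq
import Groth.Agent.L12.GrLCInj
import Groth.Agent.L04.LC.Vanish

/-!
# Cohen–Macaulay Segre products
-/

set_option autoImplicit false

universe u

open scoped TensorProduct
open DirectSum

namespace Groth.L12.GrSegLib

open Groth.L12.GrLCLib
open scoped KMod Groth.L12.GrLCLib.Asub

/-- the pointwise Cohen–Macaulay condition -/
abbrev CMAll (R : Type u) [CommRing R] (M : Type u) [AddCommGroup M] [Module R M] : Prop :=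
  ∀ (q : Ideal R) [q.IsPrime], Subsingleton (LocalizedModule q.primeCompl M) ∨
    LocCoh.IsCohenMacaulayModule (Localization.AtPrime q) (LocalizedModule q.primeCompl M)

section One

variable {k : Type u} [Field k] {R : Type u} [CommRing R] [Algebra k R] {𝒜 : ℤ → Submodule k R} [GradedAlgebra 𝒜]
  {M : Type u} [AddCommGroup M] [Module R M] [Module k M] [IsScalarTower k R M]
  {τ : Type u} [SetLike τ M] [AddSubgroupClass τ M] {ℳ : ℤ → τ} [DirectSum.Decomposition ℳ] [SetLike.GradedSMul 𝒜 ℳ]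
  (E : GrLC.StarInjRes 𝒜 ℳ) {m : HomogeneousIdeal 𝒜} (hm : m.toIdeal = Ideal.span (⋃ n ∈ Set.Ioi (0 : ℤ), (𝒜 n : Set R)))

include hm

omit [Module k M] [IsScalarTower k R M] hm in
theorem Hk_eq_bot_iff_Hgr (i : ℕ) (d : ℤ) : Hk E m i d = ⊥ ↔ E.Hgr m i d = ⊥ := by
  rw [Submodule.eq_bot_iff, AddSubgroup.eq_bot_iff_forall]
  rfl

variable [Algebra.FiniteType k R] [Module.Finite R M]

omit [Module k M] [IsScalarTower k R M] hm in
/-- nothing above the dimension -/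
theorem Hk_eq_bot_of_dim_lt {n i : ℕ} (hn : Module.supportDim R M ≤ n) (hi : n < i) (d : ℤ) : Hk E m i d = ⊥ := by
  haveI : IsNoetherianRing R := Algebra.FiniteType.isNoetherianRing k R
  rw [Hk_eq_bot_iff_Hgr]
  exact (subsingleton_H_iff E m i).1
    (Groth.L04.LC.subsingleton_H_of_supportDim_lt m.toIdeal M i (hn.trans_lt (by exact_mod_cast hi))) d

/-- Cohen–Macaulay iff no cohomology below the dimension -/
theorem cm_iff_Hk (hpos : ∀ n : ℤ, n < 0 → 𝒜 n = ⊥) (h0 : 𝒜 0 = Submodule.span k {(1 : R)})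
    {n : ℕ} (hn : Module.supportDim R M = n) :
    CMAll R M ↔ ∀ i < n, ∀ d, Hk E m i d = ⊥ := by
  haveI : IsNoetherianRing R := Algebra.FiniteType.isNoetherianRing k R
  rw [show CMAll R M ↔ _ from cm_iff_H (ℳ := ℳ) hpos h0 hn,
    show (irr 𝒜).toIdeal = m.toIdeal from hm.symm]
  refine forall₂_congr fun i _ => ?_
  rw [subsingleton_H_iff E m i]
  exact forall_congr' fun d => (Hk_eq_bot_iff_Hgr E i d).symm

omit [Module k M] [IsScalarTower k R M] [Algebra.FiniteType k R] [Module.Finite R M] hm in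
theorem finrank_Hk_zero_of_bot {i : ℕ} {d : ℤ} (h : Hk E m i d = ⊥) : Module.finrank k (Hk E m i d) = 0 := by
  rw [h, finrank_bot]

end One

section Seg

variable {k : Type u} [Field k]
  {R : Type u} [CommRing R] [Algebra k R] {𝒜 : ℤ → Submodule k R} [GradedAlgebra 𝒜]
  {S : Type u} [CommRing S] [Algebra k S] {ℬ : ℤ → Submodule k S} [GradedAlgebra ℬ]
  {T : Type u} [CommRing T] [Algebra k T] {𝒯 : ℤ → Submodule k T} [GradedAlgebra 𝒯] {ψ : T →ₐ[k] R ⊗[k] S}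
  {M : Type u} [AddCommGroup M] [Module R M] [Module k M] [IsScalarTower k R M]
  {τ : Type u} [SetLike τ M] [AddSubgroupClass τ M] {ℳ : ℤ → τ} [DirectSum.Decomposition ℳ] [SetLike.GradedSMul 𝒜 ℳ]
  {N : Type u} [AddCommGroup N] [Module S N] [Module k N] [IsScalarTower k S N]
  {τ' : Type u} [SetLike τ' N] [AddSubgroupClass τ' N] {𝒩 : ℤ → τ'} [DirectSum.Decomposition 𝒩] [SetLike.GradedSMul ℬ 𝒩]
  {P : Type u} [AddCommGroup P] [Module T P] [Module k P] [IsScalarTower k T P]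
  {τQ : Type u} [SetLike τQ P] [AddSubgroupClass τQ P] {𝒬 : ℤ → τQ} [DirectSum.Decomposition 𝒬]
  {φ : P →ₗ[k] M ⊗[k] N}
  [Algebra.FiniteType k R] [Algebra.FiniteType k S] [Module.Finite R M] [Module.Finite S N]

/-- a Segre ring is of finite type -/
theorem seg_finiteType (hT : GrSeg.IsSegreRing 𝒜 ℬ 𝒯 ψ) (hposR : ∀ n : ℤ, n < 0 → 𝒜 n = ⊥)
    (h0R : 𝒜 0 = Submodule.span k {(1 : R)}) (h0S : ℬ 0 = Submodule.span k {(1 : S)}) : Algebra.FiniteType k T := by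
  haveI : IsNoetherianRing T := isNoetherian_segreMod 𝒜 ℬ 𝒜 ℬ 𝒯 𝒯 hT (isSegreMod_self 𝒜 ℬ 𝒯 hT)
  exact finiteType_of_noetherian (fun n hn => (Submodule.eq_bot_iff _).2 (seg_pos hT hposR n hn)) (seg_deg0 hT h0R h0S)

variable (hposR : ∀ n : ℤ, n < 0 → 𝒜 n = ⊥) (h0R : 𝒜 0 = Submodule.span k {(1 : R)})
  (hposS : ∀ n : ℤ, n < 0 → ℬ n = ⊥) (h0S : ℬ 0 = Submodule.span k {(1 : S)})
  (hT : GrSeg.IsSegreRing 𝒜 ℬ 𝒯 ψ) (hP : GrSeg.IsSegreMod ψ ℳ 𝒩 𝒬 φ)

include hposR h0R hposS h0S hT hP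

/-- the dimension of a Segre product of Cohen–Macaulay modules -/
theorem seg_supportDim_cm [Nontrivial P] {r s : ℕ} (hr : 1 ≤ r) (hs : 1 ≤ s)
    (hdM : Module.supportDim R M = r) (hdN : Module.supportDim S N = s) (hMcm : CMAll R M) (hNcm : CMAll S N) :
    Module.supportDim T P = ((r + s - 1 : ℕ) : WithBot ℕ∞) := by
  refine seg_supportDim_eq hposR h0R hposS h0S hT hP hr hs hdM hdN ?_
  intro D hD x y _ _ hgx hgy _ _
  obtain ⟨p, hp⟩ := exists_ne (0 : P)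
  obtain ⟨d, hd⟩ : ∃ d, cp 𝒬 d p ≠ 0 := by
    by_contra! hall
    exact hp (eq_zero_of_cp 𝒬 hall)
  obtain ⟨m, hm, n, hn, hm0, hn0⟩ : ∃ m ∈ ℳ d, ∃ n ∈ 𝒩 d, m ≠ 0 ∧ n ≠ 0 := by
    by_contra! hall
    refine hd (hP.injective (Eq.trans ?_ (map_zero φ).symm))
    have hz := seg_mem_piece ℳ 𝒩 hP (cp_mem 𝒬 d p)
    generalize φ (cp 𝒬 d p) = z at hz ⊢
    induction hz using Submodule.span_induction with
    | mem z hz =>
      obtain ⟨a, ha, b, hb, rfl⟩ := hz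
      by_cases h : a = 0
      · rw [h, TensorProduct.zero_tmul]
      · rw [hall a ha b hb h, TensorProduct.tmul_zero]
    | zero => rfl
    | add a b _ _ ha hb => rw [ha, hb, add_zero]
    | smul a v _ hv => rw [hv, smul_zero]
  exact ⟨d, m, hm, n, hn, tf_of_cm hposR h0R hdM hMcm hD hgx hm hm0, tf_of_cm hposS h0S hdN hNcm hD hgy hn hn0⟩

variable {mR : HomogeneousIdeal 𝒜} (hmR : mR.toIdeal = Ideal.span (⋃ n ∈ Set.Ioi (0 : ℤ), (𝒜 n : Set R)))
  {mS : HomogeneousIdeal ℬ} (hmS : mS.toIdeal = Ideal.span (⋃ n ∈ Set.Ioi (0 : ℤ), (ℬ n : Set S)))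
  (EM : GrLC.StarInjRes 𝒜 ℳ) (EN : GrLC.StarInjRes ℬ 𝒩)

include hmR hmS

/-- local cohomology of a Segre product below the dimension -/
theorem seg_finrank_below {r s : ℕ} (h2r : 2 ≤ r) (h2s : 2 ≤ s)
    (hdM : Module.supportDim R M = r) (hdN : Module.supportDim S N = s) (hMcm : CMAll R M) (hNcm : CMAll S N)
    [SetLike.GradedSMul 𝒯 𝒬] {mT : HomogeneousIdeal 𝒯}
    (hmT : mT.toIdeal = Ideal.span (⋃ n ∈ Set.Ioi (0 : ℤ), (𝒯 n : Set T))) (EP : GrLC.StarInjRes 𝒯 𝒬)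
    {q : ℕ} (hq : q < r + s - 1) (d : ℤ) :
    Module.finrank k (Hk EP mT q d) =
      Module.finrank k (pieceK 𝒜 ℳ d) * Module.finrank k (Hk EN mS q d) +
      Module.finrank k (Hk EM mR q d) * Module.finrank k (pieceK ℬ 𝒩 d) := by
  have hM := (cm_iff_Hk EM hmR hposR h0R hdM).1 hMcm
  have hN := (cm_iff_Hk EN hmS hposS h0S hdN).1 hNcm
  have hM' : ∀ i, i ≠ r → ∀ d, Hk EM mR i d = ⊥ := fun i hi d =>
    (lt_or_gt_of_ne hi).elim (fun h => hM i h d) (fun h => Hk_eq_bot_of_dim_lt EM hdM.le h d)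
  have hN' : ∀ i, i ≠ s → ∀ d, Hk EN mS i d = ⊥ := fun i hi d =>
    (lt_or_gt_of_ne hi).elim (fun h => hN i h d) (fun h => Hk_eq_bot_of_dim_lt EN hdN.le h d)
  rw [kunneth_formula hP hT hposR hposS h0R h0S hmR hmS (mT := mT) hmT EM EN EP d
    (fun i hi => hM i (by omega) d) (fun i hi => hN i (by omega) d) q, Finset.sum_eq_zero, add_zero]
  intro i _
  by_cases hi : i = r
  · rw [finrank_Hk_zero_of_bot EN (hN' (q + 1 - i) (by omega) d), mul_zero]
  · rw [finrank_Hk_zero_of_bot EM (hM' i hi d), zero_mul]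

/-- the criterion when both dimensions are at least two -/
theorem seg_cm_iff_two [Nontrivial P] {r s : ℕ} (h2r : 2 ≤ r) (h2s : 2 ≤ s)
    (hdM : Module.supportDim R M = r) (hdN : Module.supportDim S N = s) (hMcm : CMAll R M) (hNcm : CMAll S N) :
    CMAll T P ↔ ∀ d : ℤ, (pieceK 𝒜 ℳ d = ⊥ ∨ Hk EN mS s d = ⊥) ∧ (Hk EM mR r d = ⊥ ∨ pieceK ℬ 𝒩 d = ⊥) := by
  haveI := seg_gradedSMul 𝒜 ℬ ℳ 𝒩 hP hT
  haveI : IsNoetherian T P := isNoetherian_segreMod 𝒜 ℬ ℳ 𝒩 𝒯 𝒬 hT hP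
  haveI := seg_finiteType hT hposR h0R h0S
  have hposT : ∀ n : ℤ, n < 0 → 𝒯 n = ⊥ := fun n hn => (Submodule.eq_bot_iff _).2 (seg_pos hT hposR n hn)
  have h0T := seg_deg0 hT h0R h0S
  obtain ⟨EP⟩ := nonempty_starInjRes 𝒯 𝒬
  have hdP := seg_supportDim_cm hposR h0R hposS h0S hT hP (by omega) (by omega) hdM hdN hMcm hNcm
  rw [cm_iff_Hk EP (m := irr 𝒯) rfl hposT h0T hdP]
  have hM := (cm_iff_Hk EM hmR hposR h0R hdM).1 hMcm
  have hN := (cm_iff_Hk EN hmS hposS h0S hdN).1 hNcm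
  have hM' : ∀ i, i ≠ r → ∀ d, Hk EM mR i d = ⊥ := fun i hi d =>
    (lt_or_gt_of_ne hi).elim (fun h => hM i h d) (fun h => Hk_eq_bot_of_dim_lt EM hdM.le h d)
  have hN' : ∀ i, i ≠ s → ∀ d, Hk EN mS i d = ⊥ := fun i hi d =>
    (lt_or_gt_of_ne hi).elim (fun h => hN i h d) (fun h => Hk_eq_bot_of_dim_lt EN hdN.le h d)
  have key : ∀ q < r + s - 1, ∀ d, Module.finrank k (Hk EP (irr 𝒯) q d) =
      Module.finrank k (pieceK 𝒜 ℳ d) * Module.finrank k (Hk EN mS q d) +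
      Module.finrank k (Hk EM mR q d) * Module.finrank k (pieceK ℬ 𝒩 d) := fun q hq d =>
    seg_finrank_below hposR h0R hposS h0S hT hP hmR hmS EM EN h2r h2s hdM hdN hMcm hNcm rfl EP hq d
  haveI : ∀ i d, Module.Finite k (Hk EP (irr 𝒯) i d) := fun i d => finite_Hk EP (irr 𝒯) h0T rfl i d
  haveI : ∀ i d, Module.Finite k (Hk EM mR i d) := fun i d => finite_Hk EM mR h0R hmR i d
  haveI : ∀ i d, Module.Finite k (Hk EN mS i d) := fun i d => finite_Hk EN mS h0S hmS i d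
  haveI : ∀ d, Module.Finite k (pieceK 𝒜 ℳ d) := fun d => finite_pieceK ℳ h0R d
  haveI : ∀ d, Module.Finite k (pieceK ℬ 𝒩 d) := fun d => finite_pieceK 𝒩 h0S d
  constructor
  · intro h d
    constructor
    · have h1 := key s (by omega) d
      rw [finrank_Hk_zero_of_bot EP (h s (by omega) d), eq_comm, Nat.add_eq_zero_iff, Nat.mul_eq_zero,
        Submodule.finrank_eq_zero, Submodule.finrank_eq_zero] at h1
      exact h1.1
    · have h1 := key r (by omega) d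
      rw [finrank_Hk_zero_of_bot EP (h r (by omega) d), eq_comm, Nat.add_eq_zero_iff, Nat.mul_eq_zero,
        Nat.mul_eq_zero, Submodule.finrank_eq_zero, Submodule.finrank_eq_zero, Submodule.finrank_eq_zero,
        Submodule.finrank_eq_zero] at h1
      exact h1.2
  · intro h q hq d
    rw [← Submodule.finrank_eq_zero (R := k), key q hq d, Nat.add_eq_zero_iff, Nat.mul_eq_zero, Nat.mul_eq_zero,
      Submodule.finrank_eq_zero, Submodule.finrank_eq_zero, Submodule.finrank_eq_zero, Submodule.finrank_eq_zero]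
    refine ⟨?_, ?_⟩
    · by_cases hqs : q = s
      · exact hqs ▸ (h d).1
      · exact Or.inr (hN' q hqs d)
    · by_cases hqr : q = r
      · exact hqr ▸ (h d).2
      · exact Or.inl (hM' q hqr d)

omit hmS in
/-- low local cohomology when the first factor has dimension one -/
theorem seg_low_one {s : ℕ} (h1s : 1 ≤ s)
    (hdM : Module.supportDim R M = 1) (hdN : Module.supportDim S N = s) (hMcm : CMAll R M) (hNcm : CMAll S N)
    [SetLike.GradedSMul 𝒯 𝒬] {mT : HomogeneousIdeal 𝒯}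
    (hmT : mT.toIdeal = Ideal.span (⋃ n ∈ Set.Ioi (0 : ℤ), (𝒯 n : Set T))) (EP : GrLC.StarInjRes 𝒯 𝒬) (d : ℤ) :
    Hk EP mT 0 d = ⊥ ∧ (2 ≤ s → Module.finrank k (Hk EP mT 1 d) =
      Module.finrank k (Hk EM mR 1 d) * Module.finrank k (pieceK ℬ 𝒩 d)) := by
  obtain ⟨EN⟩ := nonempty_starInjRes ℬ 𝒩
  let mS := irr ℬ
  have hmS : mS.toIdeal = Ideal.span (⋃ n ∈ Set.Ioi (0 : ℤ), (ℬ n : Set S)) := rfl
  haveI : IsNoetherian T P := isNoetherian_segreMod 𝒜 ℬ ℳ 𝒩 𝒯 𝒬 hT hP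
  haveI := seg_finiteType hT hposR h0R h0S
  have hM0 : ∀ d, Hk EM mR 0 d = ⊥ := fun d => (cm_iff_Hk EM hmR hposR h0R (n := 1) hdM).1 hMcm 0 zero_lt_one d
  have hN := (cm_iff_Hk EN hmS hposS h0S hdN).1 hNcm
  haveI : ∀ i d, Module.Finite k (Hk EP mT i d) := fun i d => finite_Hk EP mT (seg_deg0 hT h0R h0S) hmT i d
  haveI : ∀ d, Module.Finite k (pieceK 𝒜 ℳ d) := fun d => finite_pieceK ℳ h0R d
  haveI : ∀ d, Module.Finite k (pieceK ℬ 𝒩 d) := fun d => finite_pieceK 𝒩 h0S d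
  choose r hr using fun i d => ((resSeq EM).tq mR).exists_proj i d
  choose r' hr' using fun i d => ((resSeq EN).tq mS).exists_proj i d
  have hu : ∀ d, Module.finrank k (LinearMap.range (r 0 d ∘ₗ augQ EM mR)) = Module.finrank k (pieceK 𝒜 ℳ d) := fun d => by
    have := finrank_range_augQ EM mR hr d
    rwa [finrank_Hk_zero_of_bot EM (hM0 d), add_zero] at this
  have hu' : ∀ d, Module.finrank k (LinearMap.range (r' 0 d ∘ₗ augQ EN mS)) = Module.finrank k (pieceK ℬ 𝒩 d) := fun d => by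
    have := finrank_range_augQ EN mS hr' d
    rwa [finrank_Hk_zero_of_bot EN (hN 0 h1s d), add_zero] at this
  have low := fun d => finrank_Hk_low hP hT hposR hposS h0R h0S hmR hmS (mT := mT) hmT EM EN EP d hr hr'
  have hP0 : ∀ d, Hk EP mT 0 d = ⊥ := fun d => by
    rw [← Submodule.finrank_eq_zero (R := k)]
    have := (low d).2
    rw [hu d, hu' d] at this
    omega
  refine ⟨hP0 d, fun h2s => ?_⟩
  have hP1 : ∀ d, Module.finrank k (Hk EP mT 1 d) =
      Module.finrank k (Hk EM mR 1 d) * Module.finrank k (pieceK ℬ 𝒩 d) := fun d => by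
    have := (low d).1
    rw [finrank_G1_zero EM mR hr h0R hmR d, finrank_G1_zero EN mS hr' h0S hmS d, hu d, hu' d,
      finrank_Hk_zero_of_bot EN (hN 1 h2s d), add_zero, add_mul] at this
    omega
  exact hP1 d

omit hmS in
/-- the criterion when the first factor has dimension one -/
theorem seg_cm_iff_one [Nontrivial P] {s : ℕ} (h1s : 1 ≤ s)
    (hdM : Module.supportDim R M = 1) (hdN : Module.supportDim S N = s) (hMcm : CMAll R M) (hNcm : CMAll S N) :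
    (2 ≤ s → (CMAll T P ↔ ∀ d : ℤ, Hk EM mR 1 d = ⊥ ∨ pieceK ℬ 𝒩 d = ⊥)) ∧ (s = 1 → CMAll T P) := by
  obtain ⟨EN⟩ := nonempty_starInjRes ℬ 𝒩
  let mS := irr ℬ
  have hmS : mS.toIdeal = Ideal.span (⋃ n ∈ Set.Ioi (0 : ℤ), (ℬ n : Set S)) := rfl
  haveI := seg_gradedSMul 𝒜 ℬ ℳ 𝒩 hP hT
  haveI : IsNoetherian T P := isNoetherian_segreMod 𝒜 ℬ ℳ 𝒩 𝒯 𝒬 hT hP
  haveI := seg_finiteType hT hposR h0R h0S
  have hposT : ∀ n : ℤ, n < 0 → 𝒯 n = ⊥ := fun n hn => (Submodule.eq_bot_iff _).2 (seg_pos hT hposR n hn)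
  have h0T := seg_deg0 hT h0R h0S
  obtain ⟨EP⟩ := nonempty_starInjRes 𝒯 𝒬
  have hdP := seg_supportDim_cm hposR h0R hposS h0S hT hP le_rfl h1s (r := 1) hdM hdN hMcm hNcm
  rw [show 1 + s - 1 = s by omega] at hdP
  rw [cm_iff_Hk EP (m := irr 𝒯) rfl hposT h0T hdP]
  have hM0 : ∀ d, Hk EM mR 0 d = ⊥ := fun d => (cm_iff_Hk EM hmR hposR h0R (n := 1) hdM).1 hMcm 0 zero_lt_one d
  have hM' : ∀ i, 2 ≤ i → ∀ d, Hk EM mR i d = ⊥ := fun i hi d => Hk_eq_bot_of_dim_lt EM (n := 1) hdM.le hi d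
  have hN := (cm_iff_Hk EN hmS hposS h0S hdN).1 hNcm
  haveI : ∀ i d, Module.Finite k (Hk EP (irr 𝒯) i d) := fun i d => finite_Hk EP (irr 𝒯) h0T rfl i d
  haveI : ∀ i d, Module.Finite k (Hk EM mR i d) := fun i d => finite_Hk EM mR h0R hmR i d
  haveI : ∀ d, Module.Finite k (pieceK 𝒜 ℳ d) := fun d => finite_pieceK ℳ h0R d
  haveI : ∀ d, Module.Finite k (pieceK ℬ 𝒩 d) := fun d => finite_pieceK 𝒩 h0S d
  have hP0 : ∀ d, Hk EP (irr 𝒯) 0 d = ⊥ := fun d =>
    (seg_low_one hposR h0R hposS h0S hT hP hmR EM h1s hdM hdN hMcm hNcm rfl EP d).1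
  refine ⟨fun h2s => ?_, fun hs1 i hi d => (show i = 0 by omega) ▸ hP0 d⟩
  have hP1 := fun d => (seg_low_one hposR h0R hposS h0S hT hP hmR EM h1s hdM hdN hMcm hNcm (mT := irr 𝒯) rfl EP d).2 h2s
  constructor
  · intro h d
    have h1 := hP1 d
    rwa [finrank_Hk_zero_of_bot EP (h 1 h2s d), eq_comm, Nat.mul_eq_zero, Submodule.finrank_eq_zero,
      Submodule.finrank_eq_zero] at h1
  · intro h q hq d
    match q with
    | 0 => exact hP0 d
    | 1 =>
      rw [← Submodule.finrank_eq_zero (R := k), hP1 d, Nat.mul_eq_zero, Submodule.finrank_eq_zero, Submodule.finrank_eq_zero]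
      exact h d
    | n + 2 =>
      rw [← Submodule.finrank_eq_zero (R := k), finrank_Hk_succ_succ hP hT hposR hposS h0R h0S hmR hmS
        (mT := irr 𝒯) rfl EM EN EP n d]
      refine Finset.sum_eq_zero fun p hp => ?_
      rw [Finset.HasAntidiagonal.mem_antidiagonal] at hp
      obtain ⟨i, j⟩ := p
      match i with
      | 0 =>
        simp only at hp ⊢
        rw [show j = n + 1 by omega, (nonempty_G1_succ EN mS n d).some.finrank_eq,
          finrank_Hk_zero_of_bot EN (hN (n + 2) hq d), mul_zero]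
      | i + 1 =>
        rw [(nonempty_G1_succ EM mR i d).some.finrank_eq, finrank_Hk_zero_of_bot EM (hM' (i + 2) (by omega) d), zero_mul]

end Seg

end Groth.L12.GrSegLib

namespace Groth.L12.GrSegLib

open Groth.L12.GrLCLib

variable {k : Type u} [Field k] {R : Type u} [CommRing R] [Algebra k R] {𝒜 : ℤ → Submodule k R} [GradedAlgebra 𝒜]
  {M : Type u} [AddCommGroup M] [Module R M] [Module k M] [IsScalarTower k R M]
  {τ : Type u} [SetLike τ M] [AddSubgroupClass τ M] {ℳ : ℤ → τ} [DirectSum.Decomposition ℳ] [SetLike.GradedSMul 𝒜 ℳ]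

/-- vanishing of a piece -/
theorem pieceK_eq_bot_iff (d : ℤ) : pieceK 𝒜 ℳ d = ⊥ ↔ ∀ x ∈ ℳ d, x = 0 := by
  rw [Submodule.eq_bot_iff]
  exact forall_congr' fun x => by rw [mem_pieceK]

end Groth.L12.GrSegLib
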