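import Groth.Agent.L12.GrSegCM
import Groth.Agent.L12.GrLCVerGor

/-!
# Dimensions of the pieces of canonical modules
-/

set_option autoImplicit false

universe u

open DirectSum

namespace Groth.L12.GrSegLib

open Groth.L12.GrLCLib
open scoped KMod Groth.L12.GrLCLib.Asub

variable {k : Type u} [Field k] {R : Type u} [CommRing R] [Algebra k R] {𝒜 : ℤ → Submodule k R} [GradedAlgebra 𝒜]
  [Algebra.FiniteType k R] [Nontrivial R]
  {mR : HomogeneousIdeal 𝒜} {I : GrLC.StarInjRes 𝒜 𝒜}
  {ER : Type u} [AddCommGroup ER] [Module R ER] {𝓔R : ℤ → AddSubgroup ER} [DirectSum.Decomposition 𝓔R]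
  [SetLike.GradedSMul 𝒜 𝓔R] {eR : (R ⧸ mR.toIdeal) →ₗ[R] ER}
  {CR : Type u} [AddCommGroup CR] [Module R CR] {𝒞R : ℤ → AddSubgroup CR} [DirectSum.Decomposition 𝒞R]
  [SetLike.GradedSMul 𝒜 𝒞R]

/-- graded local duality, degree by degree -/
theorem finrank_canonical_piece (hpos : ∀ n : ℤ, n < 0 → 𝒜 n = ⊥) (h0 : 𝒜 0 = Submodule.span k {(1 : R)})
    (hmR : mR.toIdeal = Ideal.span (⋃ n ∈ Set.Ioi (0 : ℤ), (𝒜 n : Set R)))
    (heR : GrLC.IsStarInjHull 𝒜 (GrLC.quotGr 𝒜 mR) 𝓔R eR) (r : ℕ)
    (hCR : GrLC.IsStarCanonical 𝒜 𝒞R 𝓔R mR r I) (n : ℤ) :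
    Module.finrank (GrLC.deg0 𝒜) (GrLC.comp 𝒜 𝒞R n) = Module.finrank k (Hk I mR r (-n)) := by
  obtain ⟨hfin, Φ, hΦ⟩ := hCR
  haveI := hfin
  letI : Module k CR := Module.compHom CR (algebraMap k R)
  haveI : IsScalarTower k R CR := ⟨fun c r x => by
    change (c • r) • x = algebraMap k R c • r • x
    rw [Algebra.smul_def, mul_smul]⟩
  letI : Module k ER := Module.compHom ER (algebraMap k R)
  haveI : IsScalarTower k R ER := ⟨fun c r x => by
    change (c • r) • x = algebraMap k R c • r • x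
    rw [Algebra.smul_def, mul_smul]⟩
  haveI : IsNoetherianRing R := Algebra.FiniteType.isNoetherianRing k R
  haveI : SetLike.GradedSMul (asub 𝒜) 𝓔R := ⟨fun {_ _ _ _} hr hx => SetLike.GradedSMul.smul_mem (A := 𝒜) (B := 𝓔R) hr hx⟩
  haveI : SetLike.GradedSMul (asub 𝒜) 𝒞R := ⟨fun {_ _ _ _} hr hx => SetLike.GradedSMul.smul_mem (A := 𝒜) (B := 𝒞R) hr hx⟩
  have hpos' : ∀ g : ℤ, g < 0 → asub 𝒜 g = ⊥ := fun g hg => (AddSubgroup.eq_bot_iff_forall _).2 fun r hr => by
    have hr' : r ∈ 𝒜 g := hr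
    rwa [hpos g hg, Submodule.mem_bot] at hr'
  have hf : IsField (GrLC.deg0 (asub 𝒜)) :=
    MulEquiv.isField (Field.toIsField k) (RingEquiv.ofBijective _ (toDeg0_bijective (𝒜 := 𝒜) h0)).symm.toMulEquiv
  have hm : GrLC.IsStarLocal (asub 𝒜) (Asub.hid mR) := by
    convert posIdeal_isStarLocal hpos' hf using 1
    exact HomogeneousIdeal.toIdeal_injective hmR
  have hD : IsDual (asub 𝒜) 𝓔R := isDual_of_hull (m := Asub.hid mR) (e := eR) hpos' hf hm
    { injective := heR.injective
      grHom := fun g x hx => heR.grHom g x hx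
      essential := fun P hP hne => heR.essential P hP hne
      starInj := fun A B f hf hinj g hg => heR.starInj (Asub.down A) (Asub.down B) f hf hinj g hg }
  obtain ⟨u, hu, hu0, hline⟩ := hD.line
  have hE0 : Module.finrank k (pieceK 𝒜 𝓔R 0) = 1 := by
    refine finrank_eq_one (⟨u, (mem_pieceK 𝓔R).2 hu⟩) (fun h => hu0 (congrArg Subtype.val h)) fun w => ?_
    obtain ⟨t, ht, htw⟩ := hline w.1 ((mem_pieceK 𝓔R).1 w.2)
    obtain ⟨c, rfl⟩ := Submodule.mem_span_singleton.1 (h0.le ht)
    exact ⟨c, Subtype.ext (by rw [← htw]; change c • u = (c • (1 : R)) • u; rw [smul_assoc, one_smul])⟩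
  haveI : Module.Finite k (pieceK 𝒜 𝓔R 0) := Module.finite_of_finrank_eq_succ hE0
  haveI := finite_pieceK (𝒜 := 𝒜) 𝒞R h0 n
  rw [finrank_comp 𝒞R h0 n]
  haveI : IsScalarTower k R (CR →ₗ[R] ER) := ⟨fun c a f => LinearMap.ext fun x => smul_assoc c a (f x)⟩
  let W : Submodule k (CR →ₗ[R] ER) :=
    { carrier := {f | GrLC.IsGrHomDeg 𝒞R 𝓔R f (-n)}
      add_mem' := fun hf hf' g m hm => add_mem (hf g m hm) (hf' g m hm)
      zero_mem' := fun g m _ => zero_mem _
      smul_mem' := fun c f hf g m hm => by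
        rw [LinearMap.smul_apply]
        exact smul_k_mem 𝒜 𝓔R _ c (hf g m hm) }
  letI := (Hgr_isInternal mR I r).chooseDecomposition
  let L : W →ₗ[k] Hk I mR r (-n) :=
    { toFun := fun f => ⟨Φ f.1, hΦ (-n) f.1 f.2⟩
      map_add' := fun f g => Subtype.ext (map_add Φ f.1 g.1)
      map_smul' := fun c f => Subtype.ext (LinearMap.map_smul_of_tower Φ.toLinearMap c f.1) }
  let ρ : W →ₗ[k] (pieceK 𝒜 𝒞R n →ₗ[k] pieceK 𝒜 𝓔R 0) :=
    { toFun := fun f =>
        { toFun := fun x => ⟨f.1 x.1, (mem_pieceK 𝓔R).2 (by simpa using f.2 n x.1 ((mem_pieceK 𝒞R).1 x.2))⟩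
          map_add' := fun x y => Subtype.ext (map_add f.1 x.1 y.1)
          map_smul' := fun c x => Subtype.ext (LinearMap.map_smul_of_tower f.1 c x.1) }
      map_add' := fun f g => rfl
      map_smul' := fun c f => rfl }
  have hshift : ∀ f : CR →ₗ[R] ER, GrLC.IsGrHomDeg 𝒞R 𝓔R f (-n) ↔ GrLC.IsGrHom (fun g => asub 𝒞R (g + n)) 𝓔R f := fun f => by
    refine ⟨fun h g x hx => ?_, fun h g x hx => ?_⟩
    · simpa using h (g + n) x hx
    · refine h (g + -n) x (show x ∈ 𝒞R (g + -n + n) from ?_)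
      rwa [neg_add_cancel_right]
  letI : DirectSum.Decomposition (fun g => asub 𝒞R (g + n)) := (shift_isInternal 𝒞R n).chooseDecomposition
  haveI : SetLike.GradedSMul (asub 𝒜) (fun g => asub 𝒞R (g + n)) := ⟨fun {i j _ _} hr hx => by
    have h := SetLike.GradedSMul.smul_mem (A := 𝒜) (B := 𝒞R) hr hx
    rw [vadd_eq_add] at h ⊢
    change _ ∈ 𝒞R (i + j + n)
    rwa [add_assoc]⟩
  have hρ : Function.Bijective ρ := by
    refine ⟨fun f f' h => Subtype.ext ?_, fun μ => ?_⟩
    · refine hD.hom_ext (N := CR) (𝒩 := fun g => asub 𝒞R (g + n)) f.1 f'.1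
        ((hshift _).1 f.2) ((hshift _).1 f'.2) fun x hx => ?_
      have hx' : x ∈ pieceK 𝒜 𝒞R n := (mem_pieceK 𝒞R).2 (by simpa using (show x ∈ 𝒞R (0 + n) from hx))
      exact congrArg Subtype.val (LinearMap.congr_fun h ⟨x, hx'⟩)
    · classical
      let ν : CR → ER := fun x => (μ ⟨cp 𝒞R n x, (mem_pieceK 𝒞R).2 (cp_mem 𝒞R n x)⟩).1
      obtain ⟨f, hf, hfμ⟩ := hD.exists_hom (N := CR) (𝒩 := fun g => asub 𝒞R (g + n)) ν
        (fun x _ => (mem_pieceK 𝓔R).1 (μ _).2) (fun a _ b _ => by
          change (μ _).1 = (μ _).1 + (μ _).1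
          rw [← Submodule.coe_add, ← map_add]
          exact congrArg (fun v => (μ v).1) (Subtype.ext (map_add (cp 𝒞R n) a b)))
        (fun r hr x _ => by
          obtain ⟨c, rfl⟩ := Submodule.mem_span_singleton.1 (h0.le (show r ∈ 𝒜 0 from hr))
          change (μ _).1 = (c • (1 : R)) • (μ _).1
          rw [smul_assoc, one_smul, smul_assoc, one_smul, ← Submodule.coe_smul, ← map_smul]
          refine congrArg (fun v => (μ v).1) (Subtype.ext ?_)
          exact cp_smul_k 𝒜 𝒞R n c x)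
      refine ⟨⟨f, (hshift f).2 hf⟩, LinearMap.ext fun x => Subtype.ext ?_⟩
      refine (hfμ x.1 (show x.1 ∈ 𝒞R (0 + n) by rw [zero_add]; exact (mem_pieceK 𝒞R).1 x.2)).trans ?_
      exact congrArg (fun v => (μ v).1) (Subtype.ext (cp_same 𝒞R ((mem_pieceK 𝒞R).1 x.2)))
  have hL : Function.Bijective L := by
    refine ⟨fun f g h => Subtype.ext (Φ.injective (congrArg Subtype.val h)), fun z => ?_⟩
    obtain ⟨f, hf⟩ := Φ.surjective z.1
    let f' : CR →ₗ[R] ER :=
      { toFun := fun x => DirectSum.toAddMonoid (fun g => (cp 𝓔R (g + -n)).comp (f.toAddMonoidHom.comp (𝒞R g).subtype))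
          (decompose 𝒞R x)
        map_add' := fun x y => by simp
        map_smul' := fun a x => by
          rw [RingHom.id_apply]
          induction a using induction_on_hom 𝒜 with
          | h0 => simp
          | ha a b ha hb => rw [add_smul, add_smul, decompose_add, map_add, ha, hb]
          | hh e a he =>
            induction x using induction_on_hom 𝒞R with
            | h0 => simp
            | ha x y hx hy => rw [smul_add, decompose_add, map_add, hx, hy, decompose_add, map_add, smul_add]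
            | hh g x hx =>
              rw [decompose_of_mem 𝒞R hx, DirectSum.toAddMonoid_of, decompose_of_mem 𝒞R (smul_mem' 𝒜 𝒞R he hx),
                DirectSum.toAddMonoid_of]
              change cp 𝓔R (e + g + -n) (f (a • x)) = a • cp 𝓔R (g + -n) (f x)
              rw [map_smul, add_assoc, cp_smul_hom 𝒜 𝓔R he] }
    have hf' : GrLC.IsGrHomDeg 𝒞R 𝓔R f' (-n) := fun g x hx => by
      change DirectSum.toAddMonoid _ (decompose 𝒞R x) ∈ _
      rw [decompose_of_mem 𝒞R hx, DirectSum.toAddMonoid_of]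
      exact cp_mem _ _ _
    refine ⟨⟨f', hf'⟩, Subtype.ext ?_⟩
    change Φ f' = z.1
    -- other homogeneous components of `f` map to other degrees
    obtain ⟨N, deg, c, hc, hspan⟩ := exists_homog_gens 𝒞R (P := (⊤ : Submodule R CR)) (fun _ _ _ => trivial) Module.Finite.fg_top
    have hparts : ∀ d : ℤ, ∃ fd : CR →ₗ[R] ER, GrLC.IsGrHomDeg 𝒞R 𝓔R fd d ∧ ∀ g, ∀ x ∈ 𝒞R g, fd x = cp 𝓔R (g + d) (f x) := fun d => by
      refine ⟨
        { toFun := fun x => DirectSum.toAddMonoid (fun g => (cp 𝓔R (g + d)).comp (f.toAddMonoidHom.comp (𝒞R g).subtype))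
            (decompose 𝒞R x)
          map_add' := fun x y => by simp
          map_smul' := fun a x => by
            rw [RingHom.id_apply]
            induction a using induction_on_hom 𝒜 with
            | h0 => simp
            | ha a b ha hb => rw [add_smul, add_smul, decompose_add, map_add, ha, hb]
            | hh e a he =>
              induction x using induction_on_hom 𝒞R with
              | h0 => simp
              | ha x y hx hy => rw [smul_add, decompose_add, map_add, hx, hy, decompose_add, map_add, smul_add]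
              | hh g x hx =>
                rw [decompose_of_mem 𝒞R hx, DirectSum.toAddMonoid_of, decompose_of_mem 𝒞R (smul_mem' 𝒜 𝒞R he hx),
                  DirectSum.toAddMonoid_of]
                change cp 𝓔R (e + g + d) (f (a • x)) = a • cp 𝓔R (g + d) (f x)
                rw [map_smul, add_assoc, cp_smul_hom 𝒜 𝓔R he] }, ?_, ?_⟩
      · intro g x hx
        change DirectSum.toAddMonoid _ (decompose 𝒞R x) ∈ _
        rw [decompose_of_mem 𝒞R hx, DirectSum.toAddMonoid_of]
        exact cp_mem _ _ _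
      · intro g x hx
        change DirectSum.toAddMonoid _ (decompose 𝒞R x) = _
        rw [decompose_of_mem 𝒞R hx, DirectSum.toAddMonoid_of]
        rfl
    choose fd hfd hfdx using hparts
    obtain ⟨s, hs⟩ : ∃ s : Finset ℤ, ∀ b, ∀ d ∉ s, cp 𝓔R (deg b + d) (f (c b)) = 0 := by
      choose t ht ht' using fun b => exists_sum_cp 𝓔R (f (c b))
      refine ⟨Finset.univ.biUnion fun b => (t b).image fun e => e - deg b, fun b d hd => by_contra fun hne => hd ?_⟩
      exact Finset.mem_biUnion.2 ⟨b, Finset.mem_univ b, Finset.mem_image.2 ⟨deg b + d, ht' b _ hne, by ring⟩⟩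
    have hsum : f = ∑ d ∈ insert (-n) s, fd d := by
      refine LinearMap.ext_on_range hspan fun b => ?_
      rw [LinearMap.sum_apply]
      simp only [hfdx _ (deg b) (c b) (hc b)]
      obtain ⟨t, ht, ht'⟩ := exists_sum_cp 𝓔R (f (c b))
      refine ht.symm.trans ?_
      refine Finset.sum_bij_ne_zero (fun e _ _ => e - deg b) (fun e he hne => ?_) (fun e _ _ e' _ _ h => by linarith)
        (fun d _ hne => ⟨deg b + d, ht' _ hne, hne, by ring⟩) (fun e _ _ => by rw [add_sub_cancel])
      refine Finset.mem_insert_of_mem (by_contra fun h => hne ?_)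
      have h1 := hs b _ h
      rwa [add_sub_cancel] at h1
    have hz : Φ f ∈ I.Hgr mR r (-n) := hf.symm ▸ z.2
    have key : ∀ d, Φ (fd d) ∈ I.Hgr mR r d := fun d => hΦ d (fd d) (hfd d)
    have h1 := congrArg (cp (I.Hgr mR r) (-n)) (congrArg Φ hsum)
    rw [cp_same _ hz, map_sum, map_sum, Finset.sum_eq_single (-n) (fun d _ hd => cp_ne _ (key d) hd)
      (fun h => absurd (Finset.mem_insert_self _ _) h), cp_same _ (key _)] at h1
    rw [← hf, h1]
    refine congrArg Φ (LinearMap.ext_on_range hspan fun b => ?_)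
    change DirectSum.toAddMonoid _ (decompose 𝒞R (c b)) = _
    rw [decompose_of_mem 𝒞R (hc b), DirectSum.toAddMonoid_of, hfdx _ (deg b) (c b) (hc b)]
    rfl
  rw [← (LinearEquiv.ofBijective L hL).finrank_eq, (LinearEquiv.ofBijective ρ hρ).finrank_eq,
    Module.finrank_linearMap, hE0, mul_one]

end Groth.L12.GrSegLib
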