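import Groth.Agent.L12.GrSegPolyOne
import Groth.Agent.L12.GrLCTopH
import Groth.Agent.L12.GrLCVerGor

/-!
# The top degree of the top cohomology of a positively graded Gorenstein algebra
-/

set_option autoImplicit false

universe u

open DirectSum

namespace Groth.L12.GrSegLib

open Groth.L12.GrLCLib
open scoped KMod Groth.L12.GrLCLib.Asub

variable {k : Type u} [Field k] {R : Type u} [CommRing R] [Algebra k R] {𝒜 : ℤ → Submodule k R} [GradedAlgebra 𝒜]
  [Algebra.FiniteType k R]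

/-- the top cohomology of a Gorenstein algebra ends in a line -/
theorem exists_top_line [Nontrivial R] [LocCoh.IsGorensteinRing R] (hpos : ∀ n : ℤ, n < 0 → 𝒜 n = ⊥)
    (h0 : 𝒜 0 = Submodule.span k {(1 : R)}) {n : ℕ} (hn : ringKrullDim R = n) (I : GrLC.StarInjRes 𝒜 𝒜) :
    ∃ g₀ : ℤ, (∀ g, g₀ < g → Hk I (irr 𝒜) n g = ⊥) ∧ Module.finrank k (Hk I (irr 𝒜) n g₀) = 1 := by
  haveI : IsNoetherianRing R := Algebra.FiniteType.isNoetherianRing k R
  have hpos' : ∀ g : ℤ, g < 0 → asub 𝒜 g = ⊥ := fun g hg => (AddSubgroup.eq_bot_iff_forall _).2 fun r hr => by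
    have hr' : r ∈ 𝒜 g := hr
    rwa [hpos g hg, Submodule.mem_bot] at hr'
  have hf : IsField (GrLC.deg0 (asub 𝒜)) :=
    MulEquiv.isField (Field.toIsField k) (RingEquiv.ofBijective _ (toDeg0_bijective (𝒜 := 𝒜) h0)).symm.toMulEquiv
  have hm : GrLC.IsStarLocal (asub 𝒜) (Asub.hid (irr 𝒜)) := by
    convert posIdeal_isStarLocal hpos' hf using 1
    exact HomogeneousIdeal.toIdeal_injective rfl
  have hnm : (Asub.hid (irr 𝒜)).toIdeal.height = n := by
    have h1 := ringKrullDim_eq_height_starLocal hpos' hm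
    rw [hn] at h1
    exact_mod_cast h1.symm
  obtain ⟨g₀, X, f, φ, hX, hφ⟩ := exists_top_hull hm n hnm (Asub.res I)
  let W := shG (asub 𝒜) X.gr g₀
  let f' : (R ⧸ (Asub.hid (irr 𝒜)).toIdeal) →ₗ[R] W.carrier := f
  have hW : GrLC.IsStarInjHull (asub 𝒜) (GrLC.quotGr (asub 𝒜) (Asub.hid (irr 𝒜))) W.gr f' :=
    { injective := hX.injective
      grHom := fun i x hx => hX.grHom (i + g₀) x (by rw [add_sub_cancel_right]; exact hx)
      essential := fun P hP hne => by
        let P' : Submodule R X.carrier := P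
        exact hX.essential P' (isHomogeneous_of_shG X.gr g₀ P' hP) hne
      starInj := starInj_shift hX.starInj g₀ }
  have hD := isDual_of_hull hpos' hf hm hW
  letI := (Hgr_isInternal (Asub.hid (irr 𝒜)) (Asub.res I) n).chooseDecomposition
  have hφ' := grHom_symm ((Asub.res I).Hgr (Asub.hid (irr 𝒜)) n) X.gr φ hφ
  refine ⟨g₀, fun g hg => ?_, ?_⟩
  · rw [Submodule.eq_bot_iff]
    intro z hz
    refine φ.injective ((hD.uniq (g - g₀) (φ z) ?_ fun c hc => ?_).trans (map_zero φ).symm)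
    · change φ z ∈ X.gr (g - g₀ + g₀)
      rw [sub_add_cancel]
      exact hφ g z hz
    · rw [hpos' (-(g - g₀)) (by omega), AddSubgroup.mem_bot] at hc
      rw [hc, zero_smul]
  · obtain ⟨u, hu, hu0, hline⟩ := hD.line
    have hu' : (u : X.carrier) ∈ X.gr g₀ := by
      have h1 : (u : X.carrier) ∈ X.gr (0 + g₀) := hu
      rwa [zero_add] at h1
    refine finrank_eq_one (⟨φ.symm u, hφ' g₀ u hu'⟩) (fun h => hu0 ?_) fun w => ?_
    · have h1 : φ.symm u = 0 := congrArg Subtype.val h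
      exact φ.symm.injective (h1.trans (map_zero φ.symm).symm)
    · obtain ⟨t, ht, htw⟩ := hline (φ w.1) (show φ w.1 ∈ X.gr (0 + g₀) by rw [zero_add]; exact hφ g₀ _ w.2)
      obtain ⟨c, rfl⟩ := Submodule.mem_span_singleton.1 (h0.le (show t ∈ 𝒜 0 from ht))
      refine ⟨c, Subtype.ext (φ.injective ?_)⟩
      rw [← htw]
      change φ (c • φ.symm u) = (c • (1 : R)) • (u : X.carrier)
      rw [← IsScalarTower.algebraMap_smul R c (φ.symm u), map_smul, LinearEquiv.apply_symm_apply, Algebra.algebraMap_eq_smul_one]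
      rfl

end Groth.L12.GrSegLib
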