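import Groth.Agent.L12.GrSegTopIso
import Groth.Agent.L12.GrSegTopLine
import Groth.Agent.L12.GrLCType
import Groth.Agent.L12.GrLCGorCrit

/-!
# Top cohomology pairings and the Gorenstein property of Segre products
-/

set_option autoImplicit false

universe u

open scoped TensorProduct
open DirectSum

namespace Groth.L12.GrSegLib

open Groth.L12.GrLCLib
open scoped KMod Groth.L12.GrLCLib.Asub

variable {k : Type u} [Field k] {R : Type u} [CommRing R] [Algebra k R] {𝒜 : ℤ → Submodule k R} [GradedAlgebra 𝒜]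
  [Algebra.FiniteType k R]

section Basic

variable (hpos : ∀ n : ℤ, n < 0 → 𝒜 n = ⊥) (h0 : 𝒜 0 = Submodule.span k {(1 : R)})

include h0 in
lemma finite_piece (d : ℤ) : Module.Finite k (𝒜 d) := by
  haveI := finite_pieceK (𝒜 := 𝒜) 𝒜 h0 d
  rwa [show pieceK 𝒜 𝒜 d = 𝒜 d from Submodule.ext fun x => mem_pieceK 𝒜] at this

include h0 in
lemma isField_deg0_asub [Nontrivial R] : IsField (GrLC.deg0 (asub 𝒜)) :=
  MulEquiv.isField (Field.toIsField k) (RingEquiv.ofBijective _ (toDeg0_bijective (𝒜 := 𝒜) h0)).symm.toMulEquiv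

include hpos in
lemma asub_pos : ∀ g : ℤ, g < 0 → asub 𝒜 g = ⊥ := fun g hg => (AddSubgroup.eq_bot_iff_forall _).2 fun r hr => by
  have hr' : r ∈ 𝒜 g := hr
  rwa [hpos g hg, Submodule.mem_bot] at hr'

include hpos h0 in
lemma irr_isStarLocal [Nontrivial R] : GrLC.IsStarLocal (asub 𝒜) (Asub.hid (irr 𝒜)) := by
  haveI : IsNoetherianRing R := Algebra.FiniteType.isNoetherianRing k R
  convert posIdeal_isStarLocal (asub_pos hpos) (isField_deg0_asub h0) using 1
  exact HomogeneousIdeal.toIdeal_injective rfl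

omit [Algebra.FiniteType k R] in
lemma eq_irr {m : HomogeneousIdeal 𝒜} (hm : m.toIdeal = Ideal.span (⋃ n ∈ Set.Ioi (0 : ℤ), (𝒜 n : Set R))) :
    m = irr 𝒜 := HomogeneousIdeal.toIdeal_injective hm

/-- the end of the top cohomology of a Gorenstein algebra -/
theorem exists_endDeg [Nontrivial R] [LocCoh.IsGorensteinRing R] (hpos : ∀ n : ℤ, n < 0 → 𝒜 n = ⊥)
    (h0 : 𝒜 0 = Submodule.span k {(1 : R)}) {n : ℕ} (hn : ringKrullDim R = n) (I : GrLC.StarInjRes 𝒜 𝒜) :
    ∃ a : ℤ, GrLC.endDeg (I.Hgr (irr 𝒜) n) = ((a : WithTop ℤ) : WithBot (WithTop ℤ)) := by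
  obtain ⟨g₀, htop, hline⟩ := exists_top_line hpos h0 hn I
  refine ⟨g₀, le_antisymm ((endDeg_le_coe_iff _ _).2 fun g hg => (Hk_eq_bot_iff_Hgr I n g).1 (htop g hg))
    (le_iSup₂ (f := fun (m : ℤ) (_ : I.Hgr (irr 𝒜) n m ≠ ⊥) => ((m : WithTop ℤ) : WithBot (WithTop ℤ))) g₀ fun h => ?_)⟩
  rw [(Hk_eq_bot_iff_Hgr I n g₀).2 h, finrank_bot] at hline
  exact zero_ne_one hline

include hpos h0 in
/-- duality of a Gorenstein algebra with its top cohomology -/
theorem gorenstein_pairing [Nontrivial R] [LocCoh.IsGorensteinRing R] {n : ℕ} (hn : ringKrullDim R = n)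
    (I : GrLC.StarInjRes 𝒜 𝒜) {a : ℤ}
    (ha : GrLC.endDeg (I.Hgr (irr 𝒜) n) = ((a : WithTop ℤ) : WithBot (WithTop ℤ))) :
    (∀ g, Module.finrank k (Hk I (irr 𝒜) n g) = Module.finrank k (𝒜 (a - g))) ∧
    ∀ g, ∀ x ∈ I.Hgr (irr 𝒜) n g, (∀ c ∈ 𝒜 (a - g), c • x = 0) → x = 0 := by
  haveI : IsNoetherianRing R := Algebra.FiniteType.isNoetherianRing k R
  have hf := isField_deg0_asub (𝒜 := 𝒜) h0
  have ha' : GrLC.endDeg ((Asub.res I).Hgr (Asub.hid (irr 𝒜)) n) = ((a : WithTop ℤ) : WithBot (WithTop ℤ)) := ha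
  obtain ⟨W, φ, hD, hφ, hφ'⟩ := exists_dual_top (asub_pos hpos) hf (irr_isStarLocal hpos h0) n hn (Asub.res I) a ha'
  let j : k →+* GrLC.deg0 (asub 𝒜) := (algebraMap k R).codRestrict _ fun c => SetLike.algebraMap_mem_graded 𝒜 c
  have hj : Function.Bijective j := by
    refine ⟨fun c d h => (algebraMap k R).injective (congrArg Subtype.val h), fun r => ?_⟩
    obtain ⟨c, hc⟩ := Submodule.mem_span_singleton.1 (h0.le r.2)
    exact ⟨c, Subtype.ext ((Algebra.algebraMap_eq_smul_one c).trans hc)⟩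
  refine ⟨fun g => ?_, fun g x hx hkill => ?_⟩
  · let e : Hk I (irr 𝒜) n g ≃+ GrLC.comp (asub 𝒜) W.gr (g - a) :=
      { toFun := fun x => ⟨φ x.1, hφ g x.1 x.2⟩
        invFun := fun w => ⟨φ.symm w.1, by
          have h1 := hφ' (g - a) w.1 w.2
          rw [sub_add_cancel] at h1
          exact h1⟩
        left_inv := fun x => Subtype.ext (φ.symm_apply_apply _)
        right_inv := fun w => Subtype.ext (φ.apply_symm_apply _)
        map_add' := fun v w => Subtype.ext (map_add φ _ _) }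
    let e' : 𝒜 (a - g) ≃+ GrLC.comp (asub 𝒜) (asub 𝒜) (a - g) :=
      { toFun := fun x => ⟨x.1, x.2⟩, invFun := fun x => ⟨x.1, x.2⟩, map_add' := fun _ _ => rfl }
    obtain ⟨-, h1⟩ := hD.finrank_comp hf (g - a)
    rw [neg_sub] at h1
    have he : ∀ c w, e (c • w) = j c • e w := fun c w => Subtype.ext (by
      change φ (c • w.1) = algebraMap k R c • φ w.1
      exact ((congrArg φ (IsScalarTower.algebraMap_smul R c w.1).symm).trans (map_smul φ _ _)))
    have he' : ∀ c w, e' (c • w) = j c • e' w := fun c w => Subtype.ext (Algebra.smul_def c (w : R))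
    rw [← finrank_transfer j hj e he, h1, finrank_transfer j hj e' he']
  · refine φ.injective ((hD.uniq (g - a) (φ x) (hφ g x hx) fun c hc => ?_).trans (map_zero φ).symm)
    rw [neg_sub] at hc
    exact (map_smul φ c x).symm.trans ((congrArg φ (hkill c hc)).trans (map_zero φ))

end Basic


section Criterion

/-- an injective pairing into a line between spaces of equal dimension is perfect -/
theorem pairing_surjective {V A C : Type u} [AddCommGroup V] [Module k V] [AddCommGroup A] [Module k A]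
    [AddCommGroup C] [Module k C] [Module.Finite k V] [Module.Finite k A] [Module.Finite k C]
    (β : V →ₗ[k] A →ₗ[k] C) (hβ : Function.Injective β) (hV : Module.finrank k V = Module.finrank k A)
    (hC : Module.finrank k C = 1) : Function.Surjective β :=
  (LinearMap.injective_iff_surjective_of_finrank_eq_finrank (by rw [Module.finrank_linearMap, hC, mul_one, hV])).1 hβ

/-- a Cohen–Macaulay algebra with a perfect pairing into a top line is Gorenstein -/
theorem gorenstein_of_pairing [Nontrivial R] [LocCoh.IsCohenMacaulayRing R] (hpos : ∀ n : ℤ, n < 0 → 𝒜 n = ⊥)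
    (h0 : 𝒜 0 = Submodule.span k {(1 : R)}) {n : ℕ} (hn : ringKrullDim R = n) (I : GrLC.StarInjRes 𝒜 𝒜) (a : ℤ)
    (hfr : ∀ g, Module.finrank k (Hk I (irr 𝒜) n g) = Module.finrank k (𝒜 (a - g)))
    (huniq : ∀ g, ∀ x ∈ I.Hgr (irr 𝒜) n g, (∀ c ∈ 𝒜 (a - g), c • x = 0) → x = 0) : LocCoh.IsGorensteinRing R := by
  classical
  haveI : IsNoetherianRing R := Algebra.FiniteType.isNoetherianRing k R
  have hf := isField_deg0_asub (𝒜 := 𝒜) h0
  have hm := irr_isStarLocal hpos h0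
  letI := (Hgr_isInternal (Asub.hid (irr 𝒜)) (Asub.res I) n).chooseDecomposition
  haveI : SetLike.GradedSMul (asub 𝒜) ((Asub.res I).Hgr (Asub.hid (irr 𝒜)) n) :=
    ⟨fun {_ _ _ _} hr hx => smul_mem_Hgr (Asub.res I) (Asub.hid (irr 𝒜)) n hr hx⟩
  haveI : ∀ g, Module.Finite k (Hk I (irr 𝒜) n g) := fun g => finite_Hk I _ h0 rfl n g
  haveI : ∀ g, Module.Finite k (𝒜 g) := fun g => finite_piece h0 g
  have hone : Module.finrank k (Hk I (irr 𝒜) n a) = 1 := by
    rw [hfr, sub_self, h0, finrank_span_singleton one_ne_zero]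
  obtain ⟨u, hu0, hu⟩ := finrank_eq_one_iff'.1 hone
  let W := shG (asub 𝒜) ((Asub.res I).Hgr (Asub.hid (irr 𝒜)) n) a
  have hdeg : ∀ (g : ℤ) (x : I.H (irr 𝒜) n), x ∈ I.Hgr (irr 𝒜) n (g + a) → ∀ c ∈ 𝒜 (-g),
      c • x ∈ I.Hgr (irr 𝒜) n a := fun g x hx c hc => by
    have h1 := smul_mem_Hgr I (irr 𝒜) n hc hx
    rwa [show -g + (g + a) = a by ring] at h1
  have hD : IsDual (asub 𝒜) W.gr := by
    refine ⟨fun g x hx hkill => ?_, ?_, fun g lam hl hadd hsm => ?_⟩
    · refine huniq (g + a) x hx fun c hc => ?_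
      rw [show a - (g + a) = -g by ring] at hc
      exact hkill c hc
    · refine ⟨(u.1 : I.H (irr 𝒜) n), ?_, fun h => hu0 (Subtype.ext h), fun y hy => ?_⟩
      · change u.1 ∈ I.Hgr (irr 𝒜) n (0 + a)
        rw [zero_add]
        exact u.2
      · have hy' : (y : I.H (irr 𝒜) n) ∈ I.Hgr (irr 𝒜) n a := by
          have h1 : (y : I.H (irr 𝒜) n) ∈ I.Hgr (irr 𝒜) n (0 + a) := hy
          rwa [zero_add] at h1
        obtain ⟨c, hc⟩ := hu ⟨y, hy'⟩
        refine ⟨algebraMap k R c, SetLike.algebraMap_mem_graded 𝒜 c, ?_⟩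
        refine (IsScalarTower.algebraMap_smul R c (u.1 : I.H (irr 𝒜) n)).trans ?_
        exact congrArg Subtype.val hc
    · let Ψ : Hk I (irr 𝒜) n (g + a) →ₗ[k] (𝒜 (-g) →ₗ[k] Hk I (irr 𝒜) n a) :=
        { toFun := fun x =>
            { toFun := fun c => ⟨(c : R) • x.1, hdeg g x.1 x.2 c c.2⟩
              map_add' := fun c c' => Subtype.ext (add_smul _ _ _)
              map_smul' := fun r c => Subtype.ext (smul_assoc r (c : R) x.1) }
          map_add' := fun x y => LinearMap.ext fun c => Subtype.ext (smul_add _ _ _)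
          map_smul' := fun r x => LinearMap.ext fun c => Subtype.ext (smul_comm (c : R) r x.1) }
      have hΨi : Function.Injective Ψ := (injective_iff_map_eq_zero _).2 fun x hx => Subtype.ext (by
        refine huniq (g + a) x.1 x.2 fun c hc => ?_
        rw [show a - (g + a) = -g by ring] at hc
        exact congrArg Subtype.val (LinearMap.congr_fun hx ⟨c, hc⟩))
      have hfr' : Module.finrank k (Hk I (irr 𝒜) n (g + a)) = Module.finrank k (𝒜 (-g)) := by
        rw [hfr, show a - (g + a) = -g by ring]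
      have hΨ : Function.Surjective Ψ := pairing_surjective Ψ hΨi hfr' hone
      have hlam : ∀ c ∈ 𝒜 (-g), (lam c : I.H (irr 𝒜) n) ∈ I.Hgr (irr 𝒜) n a := fun c hc => by
        have h1 : (lam c : I.H (irr 𝒜) n) ∈ I.Hgr (irr 𝒜) n (0 + a) := hl c hc
        rwa [zero_add] at h1
      let μ : 𝒜 (-g) →ₗ[k] Hk I (irr 𝒜) n a :=
        { toFun := fun c => ⟨lam c, hlam c c.2⟩
          map_add' := fun c c' => Subtype.ext (hadd c c.2 c' c'.2)
          map_smul' := fun r c => Subtype.ext (by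
            change (show I.H (irr 𝒜) n from lam ((r • c : 𝒜 (-g)) : R)) = r • (show I.H (irr 𝒜) n from lam c)
            rw [← IsScalarTower.algebraMap_smul R r (show I.H (irr 𝒜) n from lam c), Submodule.coe_smul, Algebra.smul_def]
            exact hsm _ (SetLike.algebraMap_mem_graded 𝒜 r) c c.2) }
      obtain ⟨x, hx⟩ := hΨ μ
      exact ⟨x.1, x.2, fun c hc => congrArg Subtype.val (LinearMap.congr_fun hx ⟨c, hc⟩)⟩
  let W' := shG (asub 𝒜) W.gr (-a)
  refine (isGorenstein_iff_starInj_top hm n ?_ (Asub.res I)).2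
    ⟨W', LinearEquiv.refl R _, starInj_shift (hD.starInj hf) (-a), fun g x hx => ?_⟩
  · have h1 := ringKrullDim_eq_height_starLocal (asub_pos hpos) hm
    rw [hn] at h1
    exact_mod_cast h1.symm
  · change x ∈ (Asub.res I).Hgr (Asub.hid (irr 𝒜)) n (g + -a + a)
    rw [neg_add_cancel_right]
    exact hx

end Criterion

section Seg

variable {S : Type u} [CommRing S] [Algebra k S] {ℬ : ℤ → Submodule k S} [GradedAlgebra ℬ] [Algebra.FiniteType k S]
  {T : Type u} [CommRing T] [Algebra k T] {𝒯 : ℤ → Submodule k T} [GradedAlgebra 𝒯] {ψ : T →ₐ[k] R ⊗[k] S}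

/-- dimensions of the pieces of a Segre product of algebras -/
theorem finrank_segRing (hT : GrSeg.IsSegreRing 𝒜 ℬ 𝒯 ψ) (d : ℤ) :
    Module.finrank k (𝒯 d) = Module.finrank k (𝒜 d) * Module.finrank k (ℬ d) := by
  have h := finrank_seg_piece (𝒜 := 𝒜) (ℬ := ℬ) (𝒯 := 𝒯) (isSegreMod_self 𝒜 ℬ 𝒯 hT) d
  rwa [show pieceK 𝒯 𝒯 d = 𝒯 d from Submodule.ext fun x => mem_pieceK 𝒯,
    show pieceK 𝒜 𝒜 d = 𝒜 d from Submodule.ext fun x => mem_pieceK 𝒜,
    show pieceK ℬ ℬ d = ℬ d from Submodule.ext fun x => mem_pieceK ℬ] at h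

variable {X : Type u} [AddCommGroup X] [Module R X] [Module k X] [IsScalarTower k R X]
  {𝒳 : ℤ → AddSubgroup X} [DirectSum.Decomposition 𝒳] [SetLike.GradedSMul 𝒜 𝒳]
  {Y : Type u} [AddCommGroup Y] [Module S Y] [Module k Y] [IsScalarTower k S Y]
  {𝒴 : ℤ → AddSubgroup Y} [DirectSum.Decomposition 𝒴] [SetLike.GradedSMul ℬ 𝒴]
  {Z : Type u} [AddCommGroup Z] [Module T Z] [Module k Z] [IsScalarTower k T Z]
  {𝒵 : ℤ → AddSubgroup Z} [DirectSum.Decomposition 𝒵] {φ : Z →ₗ[k] X ⊗[k] Y}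

omit [Algebra.FiniteType k R] [Algebra.FiniteType k S] in
/-- two perfect pairings give one on the Segre product -/
theorem seg_kill (hT : GrSeg.IsSegreRing 𝒜 ℬ 𝒯 ψ) (hP : GrSeg.IsSegreMod ψ 𝒳 𝒴 𝒵 φ) (g e : ℤ)
    (hX : ∀ x ∈ 𝒳 g, (∀ c ∈ 𝒜 e, c • x = 0) → x = 0) (hY : ∀ y ∈ 𝒴 g, (∀ c ∈ ℬ e, c • y = 0) → y = 0)
    {p : Z} (hp : p ∈ 𝒵 g) (hkill : ∀ t ∈ 𝒯 e, t • p = 0) : p = 0 := by
  classical
  refine hP.injective (Eq.trans ?_ (map_zero φ).symm)
  let f : (𝒜 e) ⊕ {h : ℤ // h ≠ g} → X →ₗ[k] X :=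
    Sum.elim (fun c => Algebra.lsmul k k X (c : R) ∘ₗ cpk 𝒜 𝒳 g) fun h => cpk 𝒜 𝒳 h.1
  let f' : (ℬ e) ⊕ {h : ℤ // h ≠ g} → Y →ₗ[k] Y :=
    Sum.elim (fun c => Algebra.lsmul k k Y (c : S) ∘ₗ cpk ℬ 𝒴 g) fun h => cpk ℬ 𝒴 h.1
  have hz : φ p ∈ GrSeg.segrePiece k 𝒳 𝒴 g := seg_mem_piece 𝒳 𝒴 hP hp
  refine eq_zero_of_map f f' (fun x hx => eq_zero_of_cp 𝒳 fun h => ?_) (fun y hy => eq_zero_of_cp 𝒴 fun h => ?_)
    (φ p) fun i i' => ?_
  · by_cases hh : h = g
    · subst hh
      exact hX _ (cp_mem _ _ _) fun c hc => hx (Sum.inl ⟨c, hc⟩)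
    · exact hx (Sum.inr ⟨h, hh⟩)
  · by_cases hh : h = g
    · subst hh
      exact hY _ (cp_mem _ _ _) fun c hc => hy (Sum.inl ⟨c, hc⟩)
    · exact hy (Sum.inr ⟨h, hh⟩)
  · rcases i with c | ⟨h, hh⟩
    · rcases i' with c' | ⟨h', hh'⟩
      · obtain ⟨t, ht, htc⟩ := (hT.2 e).ge (Submodule.subset_span ⟨c.1, c.2, c'.1, c'.2, rfl⟩)
        have h1 : GrSeg.act k R S X Y (c.1 ⊗ₜ[k] c'.1) (φ p) = 0 := by
          rw [← show ψ t = c.1 ⊗ₜ[k] c'.1 from htc, ← hP.map_smul, hkill t ht, map_zero]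
        refine Eq.trans ?_ h1
        clear h1
        generalize φ p = z at hz ⊢
        induction hz using Submodule.span_induction with
        | mem z hz =>
          obtain ⟨x, hx, y, hy, rfl⟩ := hz
          rw [GrSeg.act_tmul]
          change ((c : R) • cp 𝒳 g x) ⊗ₜ[k] ((c' : S) • cp 𝒴 g y) = _
          rw [cp_same 𝒳 hx, cp_same 𝒴 hy]
        | zero => simp
        | add a b _ _ ha hb => rw [map_add, map_add, ha, hb]
        | smul r a _ ha => rw [map_smul, map_smul, ha]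
      · generalize φ p = z at hz ⊢
        induction hz using Submodule.span_induction with
        | mem z hz =>
          obtain ⟨x, -, y, hy, rfl⟩ := hz
          change _ ⊗ₜ[k] cp 𝒴 h' y = 0
          rw [cp_ne 𝒴 hy (Ne.symm hh'), TensorProduct.tmul_zero]
        | zero => simp
        | add a b _ _ ha hb => rw [map_add, ha, hb, add_zero]
        | smul r a _ ha => rw [map_smul, ha, smul_zero]
    · generalize φ p = z at hz ⊢
      induction hz using Submodule.span_induction with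
      | mem z hz =>
        obtain ⟨x, hx, y, -, rfl⟩ := hz
        change cp 𝒳 h x ⊗ₜ[k] _ = 0
        rw [cp_ne 𝒳 hx (Ne.symm hh), TensorProduct.zero_tmul]
      | zero => simp
      | add a b _ _ ha hb => rw [map_add, ha, hb, add_zero]
      | smul r a _ ha => rw [map_smul, ha, smul_zero]

end Seg

end Groth.L12.GrSegLib
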