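import Groth.Agent.L12.GrSegTopIso
import Groth.Agent.L12.GrSegGorTop
import Groth.Agent.L12.GrSegCanon
import Groth.Agent.L12.GrLCMatlis

/-!
# The Segre product of canonical modules
-/

set_option autoImplicit false

universe u

open scoped TensorProduct
open DirectSum

namespace Groth.L12.GrSegLib

open Groth.L12.GrLCLib
open scoped KMod Groth.L12.GrLCLib.Asub

variable {k : Type u} [Field k]

section Functional

variable {R : Type u} [CommRing R] [Algebra k R] {𝒜 : ℤ → Submodule k R} [GradedAlgebra 𝒜]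
  [Algebra.FiniteType k R] [Nontrivial R]
  (hpos : ∀ n : ℤ, n < 0 → 𝒜 n = ⊥) (h0 : 𝒜 0 = Submodule.span k {(1 : R)})
  {X : Type u} [AddCommGroup X] [Module R X] [Module k X] [IsScalarTower k R X]
  {𝒳 : ℤ → AddSubgroup X} [DirectSum.Decomposition 𝒳] [SetLike.GradedSMul 𝒜 𝒳]
  {e : (R ⧸ (irr 𝒜).toIdeal) →ₗ[R] X} (he : GrLC.IsStarInjHull 𝒜 (GrLC.quotGr 𝒜 (irr 𝒜)) 𝒳 e)
  {C : Type u} [AddCommGroup C] [Module R C] [Module k C] [IsScalarTower k R C]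
  {𝒞 : ℤ → AddSubgroup C} [DirectSum.Decomposition 𝒞] [SetLike.GradedSMul 𝒜 𝒞]

include hpos h0 he

omit [Module k X] [IsScalarTower k R X] in
/-- the envelope of the residue field is a dual -/
theorem isDual_hull : IsDual (asub 𝒜) 𝒳 := by
  haveI : IsNoetherianRing R := Algebra.FiniteType.isNoetherianRing k R
  haveI : SetLike.GradedSMul (asub 𝒜) 𝒳 :=
    ⟨fun {_ _ _ _} hr hx => SetLike.GradedSMul.smul_mem (A := 𝒜) (B := 𝒳) hr hx⟩
  exact isDual_of_hull (m := Asub.hid (irr 𝒜)) (e := e) (asub_pos hpos) (isField_deg0_asub h0) (irr_isStarLocal hpos h0)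
    { injective := he.injective
      grHom := fun g x hx => he.grHom g x hx
      essential := fun P hP hne => he.essential P hP hne
      starInj := fun A B f hf hinj g hg => he.starInj (Asub.down A) (Asub.down B) f hf hinj g hg }

/-- the residue functional of a dual -/
theorem exists_residue : ∃ ε : X →ₗ[k] k,
    (∀ g x, g ≠ 0 → x ∈ 𝒳 g → ε x = 0) ∧ (∀ x : X, (∀ c : R, ε (c • x) = 0) → x = 0) ∧
    ∀ (d : ℤ) (q : C →ₗ[k] k), (∀ g x, g + d ≠ 0 → x ∈ 𝒞 g → q x = 0) →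
      ∃ F : C →ₗ[R] X, GrLC.IsGrHomDeg 𝒞 𝒳 F d ∧ ∀ x, ε (F x) = q x := by
  classical
  have hD := isDual_hull hpos h0 he
  obtain ⟨u, hu, hu0, hline⟩ := hD.line
  obtain ⟨μ, hμ⟩ : ∃ μ : X →ₗ[k] k, μ u ≠ 0 := by
    by_contra! hall
    exact hu0 ((Module.forall_dual_apply_eq_zero_iff k u).1 hall)
  let ε : X →ₗ[k] k := (μ u)⁻¹ • (μ ∘ₗ cpk 𝒜 𝒳 0)
  have hεu : ε u = 1 := by
    change (μ u)⁻¹ * μ (cp 𝒳 0 u) = 1
    rw [cp_same 𝒳 hu, inv_mul_cancel₀ hμ]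
  have hε : ∀ g x, g ≠ 0 → x ∈ 𝒳 g → ε x = 0 := fun g x hg hx => by
    change (μ u)⁻¹ * μ (cp 𝒳 0 x) = 0
    rw [cp_ne 𝒳 hx hg, map_zero, mul_zero]
  have hε0 : ∀ x ∈ 𝒳 0, ε x • u = x := fun x hx => by
    obtain ⟨t, ht, rfl⟩ := hline x hx
    obtain ⟨c, rfl⟩ := Submodule.mem_span_singleton.1 (h0.le (show t ∈ 𝒜 0 from ht))
    rw [smul_assoc, one_smul, map_smul, hεu, smul_eq_mul, mul_one]
  refine ⟨ε, hε, fun x hx => eq_zero_of_cp 𝒳 fun g => hD.uniq g _ (cp_mem 𝒳 g x) fun c hc => ?_, fun d q hq => ?_⟩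
  · have h1 : cp 𝒳 0 (c • x) = c • cp 𝒳 g x := by
      have h2 := cp_smul_hom 𝒜 𝒳 (show c ∈ 𝒜 (-g) from hc) g x
      rwa [neg_add_cancel] at h2
    have h3 : c • cp 𝒳 g x ∈ 𝒳 0 := h1 ▸ cp_mem 𝒳 0 (c • x)
    rw [← hε0 _ h3]
    have h4 : ε (c • cp 𝒳 g x) = ε (c • x) := by
      change (μ u)⁻¹ * μ (cp 𝒳 0 (c • cp 𝒳 g x)) = (μ u)⁻¹ * μ (cp 𝒳 0 (c • x))
      rw [h1, cp_same 𝒳 h3]
    rw [h4, hx c, zero_smul]
  · let 𝒩 : ℤ → AddSubgroup C := fun g => asub 𝒞 (g + -d)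
    letI : DirectSum.Decomposition 𝒩 := (shift_isInternal 𝒞 (-d)).chooseDecomposition
    haveI : SetLike.GradedSMul (asub 𝒜) 𝒩 := ⟨fun {i j _ _} hr hx => by
      have h := SetLike.GradedSMul.smul_mem (A := 𝒜) (B := 𝒞) hr hx
      rw [vadd_eq_add] at h ⊢
      change _ ∈ 𝒞 (i + j + -d)
      rwa [add_assoc]⟩
    haveI : SetLike.GradedSMul (asub 𝒜) 𝒳 :=
      ⟨fun {_ _ _ _} hr hx => SetLike.GradedSMul.smul_mem (A := 𝒜) (B := 𝒳) hr hx⟩
    obtain ⟨F, hF, hFq⟩ := hD.exists_hom (N := C) (𝒩 := 𝒩) (fun x => q x • u) (fun x _ => smul_k_mem 𝒜 𝒳 0 _ hu)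
      (fun a _ b _ => by rw [map_add, add_smul]) fun r hr x _ => by
        obtain ⟨c, rfl⟩ := Submodule.mem_span_singleton.1 (h0.le (show r ∈ 𝒜 0 from hr))
        change q ((c • (1 : R)) • x) • u = (c • (1 : R)) • q x • u
        rw [smul_assoc, one_smul, map_smul, smul_eq_mul, mul_smul, smul_assoc c (1 : R) (q x • u), one_smul]
    have hdeg : GrLC.IsGrHomDeg 𝒞 𝒳 F d := fun g x hx => hF (g + d) x (show x ∈ 𝒞 (g + d + -d) by rwa [add_neg_cancel_right])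
    refine ⟨F, hdeg, fun x => ?_⟩
    induction x using induction_on_hom 𝒞 with
    | h0 => simp
    | ha a b ha hb => rw [map_add, map_add, map_add, ha, hb]
    | hh g y hy =>
      by_cases hg : g + d = 0
      · have hy' : y ∈ 𝒩 0 := show y ∈ 𝒞 (0 + -d) by rwa [zero_add, show -d = g by omega]
        rw [hFq y hy', map_smul, hεu, smul_eq_mul, mul_one]
      · rw [hε _ _ hg (hdeg g y hy), hq g y hg hy]

variable {I : GrLC.StarInjRes 𝒜 𝒜}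

/-- top cohomology inside the linear dual of the canonical module -/
theorem exists_canonical_pairing (r : ℕ) (hC : GrLC.IsStarCanonical 𝒜 𝒞 𝒳 (irr 𝒜) r I) :
    ∃ α : I.H (irr 𝒜) r →ₗ[k] (C →ₗ[k] k),
      (∀ (c : R) h x, α (c • h) x = α h (c • x)) ∧ Function.Injective α ∧
      (∀ d, ∀ h ∈ I.Hgr (irr 𝒜) r d, ∀ g x, g + d ≠ 0 → x ∈ 𝒞 g → α h x = 0) ∧
      ∀ d, Module.finrank k (Hk I (irr 𝒜) r d) = Module.finrank k (pieceK 𝒜 𝒞 (-d)) := by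
  classical
  haveI : IsNoetherianRing R := Algebra.FiniteType.isNoetherianRing k R
  haveI := hC.1
  obtain ⟨Φ, hΦ⟩ := hC.2
  obtain ⟨ε, hε, hεi, -⟩ := exists_residue (C := C) (𝒞 := 𝒞) hpos h0 he
  letI := (Hgr_isInternal (irr 𝒜) I r).chooseDecomposition
  have hk : ∀ (a : k) (h : I.H (irr 𝒜) r) (x : C), Φ.symm (a • h) x = a • Φ.symm h x := fun a h x => by
    rw [← IsScalarTower.algebraMap_smul R a h, map_smul, LinearMap.smul_apply, IsScalarTower.algebraMap_smul]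
  let α : I.H (irr 𝒜) r →ₗ[k] (C →ₗ[k] k) :=
    { toFun := fun h => ε ∘ₗ (Φ.symm h).restrictScalars k
      map_add' := fun h h' => LinearMap.ext fun x => by
        change ε (Φ.symm (h + h') x) = ε (Φ.symm h x) + ε (Φ.symm h' x)
        rw [map_add, LinearMap.add_apply, map_add]
      map_smul' := fun a h => LinearMap.ext fun x => by
        change ε (Φ.symm (a • h) x) = a • ε (Φ.symm h x)
        rw [hk, map_smul] }
  have hmem : ∀ d, ∀ h ∈ I.Hgr (irr 𝒜) r d, GrLC.IsGrHomDeg 𝒞 𝒳 (Φ.symm h) d := fun d h hh => by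
    haveI : SetLike.GradedSMul (asub 𝒜) 𝒳 :=
      ⟨fun {_ _ _ _} hr hx => SetLike.GradedSMul.smul_mem (A := 𝒜) (B := 𝒳) hr hx⟩
    haveI : SetLike.GradedSMul (asub 𝒜) 𝒞 :=
      ⟨fun {_ _ _ _} hr hx => SetLike.GradedSMul.smul_mem (A := 𝒜) (B := 𝒞) hr hx⟩
    exact mem_homDeg_of_map (𝒜 := asub 𝒜) (𝒞 := 𝒞) (𝒳 := 𝒳) (𝒴 := I.Hgr (irr 𝒜) r) Φ
      (fun g f hf => hΦ g f hf) (show Φ (Φ.symm h) ∈ I.Hgr (irr 𝒜) r d by rwa [Φ.apply_symm_apply])
  refine ⟨α, fun c h x => ?_, (injective_iff_map_eq_zero α).2 fun h hh => ?_, fun d h hh g x hg hx => ?_, fun d => ?_⟩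
  · change ε (Φ.symm (c • h) x) = ε (Φ.symm h (c • x))
    rw [map_smul, LinearMap.smul_apply, ← map_smul (Φ.symm h)]
  · refine Φ.symm.injective ((LinearMap.ext fun x => ?_ : Φ.symm h = 0).trans (map_zero Φ.symm).symm)
    refine hεi _ fun c => ?_
    rw [← map_smul]
    exact LinearMap.congr_fun hh (c • x)
  · exact hε _ _ hg (hmem d h hh g x hx)
  · have h1 := finrank_canonical_piece hpos h0 (mR := irr 𝒜) rfl he r hC (-d)
    rw [neg_neg, finrank_comp 𝒞 h0] at h1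
    exact h1.symm

end Functional


section Segre

variable {R : Type u} [CommRing R] [Algebra k R] {𝒜 : ℤ → Submodule k R} [GradedAlgebra 𝒜]
  {S : Type u} [CommRing S] [Algebra k S] {ℬ : ℤ → Submodule k S} [GradedAlgebra ℬ]
  {T : Type u} [CommRing T] [Algebra k T] {𝒯 : ℤ → Submodule k T} [GradedAlgebra 𝒯] {ψ : T →ₐ[k] R ⊗[k] S}
  {X : Type u} [AddCommGroup X] [Module R X] [Module k X] [IsScalarTower k R X]
  {𝒳 : ℤ → AddSubgroup X}
  {Y : Type u} [AddCommGroup Y] [Module S Y] [Module k Y] [IsScalarTower k S Y]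
  {𝒴 : ℤ → AddSubgroup Y}
  {Z : Type u} [AddCommGroup Z] [Module T Z] [Module k Z] [IsScalarTower k T Z]
  {𝒵 : ℤ → AddSubgroup Z} [DirectSum.Decomposition 𝒵] {Φ : Z →ₗ[k] X ⊗[k] Y}
  {C : Type u} [AddCommGroup C] [Module R C] [Module k C] [IsScalarTower k R C]
  {𝒞 : ℤ → AddSubgroup C} [DirectSum.Decomposition 𝒞] [SetLike.GradedSMul 𝒜 𝒞]
  {D : Type u} [AddCommGroup D] [Module S D] [Module k D] [IsScalarTower k S D]
  {𝒟 : ℤ → AddSubgroup D} [DirectSum.Decomposition 𝒟] [SetLike.GradedSMul ℬ 𝒟]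
  {P : Type u} [AddCommGroup P] [Module T P] [Module k P] [IsScalarTower k T P]
  {𝒬 : ℤ → AddSubgroup P} [DirectSum.Decomposition 𝒬] {φ : P →ₗ[k] C ⊗[k] D}

omit [DirectSum.Decomposition 𝒵] [DirectSum.Decomposition 𝒞] [DirectSum.Decomposition 𝒟] [DirectSum.Decomposition 𝒬]
  [SetLike.GradedSMul 𝒜 𝒞] [SetLike.GradedSMul ℬ 𝒟] [GradedAlgebra 𝒜] [GradedAlgebra ℬ] [GradedAlgebra 𝒯] in
/-- pairing of a tensor product with a tensor product -/
theorem exists_tensor_pairing (α : X →ₗ[k] (C →ₗ[k] k)) (β : Y →ₗ[k] (D →ₗ[k] k))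
    (hα : ∀ (c : R) h x, α (c • h) x = α h (c • x)) (hβ : ∀ (c : S) h x, β (c • h) x = β h (c • x)) :
    ∃ G : X ⊗[k] Y →ₗ[k] (C ⊗[k] D →ₗ[k] k), (∀ h h' x y, G (h ⊗ₜ[k] h') (x ⊗ₜ[k] y) = α h x * β h' y) ∧
      ∀ ξ z w, G (GrSeg.act k R S X Y ξ z) w = G z (GrSeg.act k R S C D ξ w) := by
  let G : X ⊗[k] Y →ₗ[k] (C ⊗[k] D →ₗ[k] k) := TensorProduct.dualDistrib k C D ∘ₗ TensorProduct.map α β
  have hG : ∀ h h' x y, G (h ⊗ₜ[k] h') (x ⊗ₜ[k] y) = α h x * β h' y := fun h h' x y => by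
    simp [G, TensorProduct.dualDistrib_apply]
  refine ⟨G, hG, fun ξ z w => ?_⟩
  induction ξ using TensorProduct.induction_on with
  | zero => simp
  | add a b ha hb => simp only [map_add, LinearMap.add_apply, ha, hb]
  | tmul c e =>
    induction z using TensorProduct.induction_on with
    | zero => simp
    | add a b ha hb => simp only [map_add, LinearMap.add_apply, ha, hb]
    | tmul h h' =>
      induction w using TensorProduct.induction_on with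
      | zero => simp
      | add a b ha hb => simp only [map_add, ha, hb]
      | tmul x y => rw [GrSeg.act_tmul, GrSeg.act_tmul, hG, hG, hα, hβ]

omit [DirectSum.Decomposition 𝒵] [DirectSum.Decomposition 𝒬] [DirectSum.Decomposition 𝒞] [DirectSum.Decomposition 𝒟]
  [SetLike.GradedSMul 𝒜 𝒞] [SetLike.GradedSMul ℬ 𝒟] [GradedAlgebra 𝒜] [GradedAlgebra ℬ] [GradedAlgebra 𝒯] in
/-- support of the pairing -/
theorem pairing_supp {α : X →ₗ[k] (C →ₗ[k] k)} {β : Y →ₗ[k] (D →ₗ[k] k)}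
    {G : X ⊗[k] Y →ₗ[k] (C ⊗[k] D →ₗ[k] k)} (hG : ∀ h h' x y, G (h ⊗ₜ[k] h') (x ⊗ₜ[k] y) = α h x * β h' y)
    (hα : ∀ d, ∀ h ∈ 𝒳 d, ∀ g x, g + d ≠ 0 → x ∈ 𝒞 g → α h x = 0)
    {d g : ℤ} (hdg : g + d ≠ 0) {z : X ⊗[k] Y} (hz : z ∈ GrSeg.segrePiece k 𝒳 𝒴 d) {w : C ⊗[k] D}
    (hw : w ∈ GrSeg.segrePiece k 𝒞 𝒟 g) : G z w = 0 := by
  induction hz using Submodule.span_induction with
  | mem z hz =>
    obtain ⟨h, hh, h', -, rfl⟩ := hz
    induction hw using Submodule.span_induction with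
    | mem w hw =>
      obtain ⟨x, hx, y, -, rfl⟩ := hw
      rw [hG, hα d h hh g x hdg hx, zero_mul]
    | zero => rw [map_zero]
    | add a b _ _ ha hb => rw [map_add, ha, hb, add_zero]
    | smul c a _ ha => rw [map_smul, ha, smul_zero]
  | zero => simp
  | add a b _ _ ha hb => rw [map_add, LinearMap.add_apply, ha, hb, add_zero]
  | smul c a _ ha => rw [map_smul, LinearMap.smul_apply, ha, smul_zero]

omit [DirectSum.Decomposition 𝒵] [DirectSum.Decomposition 𝒬] [GradedAlgebra 𝒯] in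
/-- the pairing is nondegenerate -/
theorem pairing_inj {α : X →ₗ[k] (C →ₗ[k] k)} {β : Y →ₗ[k] (D →ₗ[k] k)}
    {G : X ⊗[k] Y →ₗ[k] (C ⊗[k] D →ₗ[k] k)} (hG : ∀ h h' x y, G (h ⊗ₜ[k] h') (x ⊗ₜ[k] y) = α h x * β h' y)
    (hα : ∀ d, ∀ h ∈ 𝒳 d, ∀ g x, g + d ≠ 0 → x ∈ 𝒞 g → α h x = 0)
    (hβ : ∀ d, ∀ h ∈ 𝒴 d, ∀ g x, g + d ≠ 0 → x ∈ 𝒟 g → β h x = 0)
    (hαi : Function.Injective α) (hβi : Function.Injective β)
    {d : ℤ} {z : X ⊗[k] Y} (hz : z ∈ GrSeg.segrePiece k 𝒳 𝒴 d)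
    (hzero : ∀ w ∈ GrSeg.segrePiece k 𝒞 𝒟 (-d), G z w = 0) : z = 0 := by
  classical
  rcases subsingleton_or_nontrivial X with hX | hX
  · exact Subsingleton.elim _ _
  rcases subsingleton_or_nontrivial Y with hY | hY
  · exact Subsingleton.elim _ _
  obtain ⟨h₀, hh₀⟩ := exists_ne (0 : X)
  obtain ⟨h₀', hh₀'⟩ := exists_ne (0 : Y)
  let f : C → X →ₗ[k] X := fun x => ((LinearMap.applyₗ x) ∘ₗ α).smulRight h₀
  let f' : D → Y →ₗ[k] Y := fun y => ((LinearMap.applyₗ y) ∘ₗ β).smulRight h₀'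
  refine eq_zero_of_map f f' (fun h hh => hαi ((LinearMap.ext fun x => ?_ : α h = 0).trans (map_zero α).symm))
    (fun h hh => hβi ((LinearMap.ext fun x => ?_ : β h = 0).trans (map_zero β).symm)) z fun x y => ?_
  · exact (smul_eq_zero.1 (hh x)).resolve_right hh₀
  · exact (smul_eq_zero.1 (hh x)).resolve_right hh₀'
  · suffices h : TensorProduct.map (f x) (f' y) z = G z (cp 𝒞 (-d) x ⊗ₜ[k] cp 𝒟 (-d) y) • (h₀ ⊗ₜ[k] h₀') by
      rw [h, hzero _ (Submodule.subset_span ⟨_, cp_mem _ _ _, _, cp_mem _ _ _, rfl⟩), zero_smul]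
    have hα' : ∀ h ∈ 𝒳 d, ∀ x, α h x = α h (cp 𝒞 (-d) x) := fun h hh x => by
      induction x using induction_on_hom 𝒞 with
      | h0 => simp
      | ha a b ha hb => simp only [map_add, ha, hb]
      | hh g x hx =>
        by_cases hg : g = -d
        · subst hg; rw [cp_same 𝒞 hx]
        · rw [cp_ne 𝒞 hx hg, map_zero, hα d h hh g x (fun e => hg (by omega)) hx]
    have hβ' : ∀ h ∈ 𝒴 d, ∀ x, β h x = β h (cp 𝒟 (-d) x) := fun h hh x => by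
      induction x using induction_on_hom 𝒟 with
      | h0 => simp
      | ha a b ha hb => simp only [map_add, ha, hb]
      | hh g x hx =>
        by_cases hg : g = -d
        · subst hg; rw [cp_same 𝒟 hx]
        · rw [cp_ne 𝒟 hx hg, map_zero, hβ d h hh g x (fun e => hg (by omega)) hx]
    clear hzero
    induction hz using Submodule.span_induction with
    | mem z hz =>
      obtain ⟨h, hh, h', hh', rfl⟩ := hz
      rw [hG, ← hα' h hh, ← hβ' h' hh']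
      change (α h x • h₀) ⊗ₜ[k] (β h' y • h₀') = _
      rw [TensorProduct.tmul_smul, TensorProduct.smul_tmul', TensorProduct.smul_tmul', smul_smul, mul_comm]
    | zero => simp
    | add a b _ _ ha hb => rw [map_add, map_add, LinearMap.add_apply, add_smul, ha, hb]
    | smul c a _ ha => rw [map_smul, map_smul, LinearMap.smul_apply, ha, smul_eq_mul, mul_smul]

end Segre

section Main

variable {R : Type u} [CommRing R] [Algebra k R] {𝒜 : ℤ → Submodule k R} [GradedAlgebra 𝒜] [Algebra.FiniteType k R]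
  [Nontrivial R]
  {S : Type u} [CommRing S] [Algebra k S] {ℬ : ℤ → Submodule k S} [GradedAlgebra ℬ] [Algebra.FiniteType k S]
  [Nontrivial S]
  {T : Type u} [CommRing T] [Algebra k T] {𝒯 : ℤ → Submodule k T} [GradedAlgebra 𝒯] {ψ : T →ₐ[k] R ⊗[k] S}
  (hT : GrSeg.IsSegreRing 𝒜 ℬ 𝒯 ψ)
  (hposR : ∀ n : ℤ, n < 0 → 𝒜 n = ⊥) (h0R : 𝒜 0 = Submodule.span k {(1 : R)})
  (hposS : ∀ n : ℤ, n < 0 → ℬ n = ⊥) (h0S : ℬ 0 = Submodule.span k {(1 : S)})
  {I : GrLC.StarInjRes 𝒜 𝒜} {J : GrLC.StarInjRes ℬ ℬ} {IT : GrLC.StarInjRes 𝒯 𝒯}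
  {ER : Type u} [AddCommGroup ER] [Module R ER] {𝓔R : ℤ → AddSubgroup ER} [DirectSum.Decomposition 𝓔R]
  [SetLike.GradedSMul 𝒜 𝓔R] {eR : (R ⧸ (irr 𝒜).toIdeal) →ₗ[R] ER}
  (heR : GrLC.IsStarInjHull 𝒜 (GrLC.quotGr 𝒜 (irr 𝒜)) 𝓔R eR)
  {CR : Type u} [AddCommGroup CR] [Module R CR] [Module k CR] [IsScalarTower k R CR] {𝒞R : ℤ → AddSubgroup CR}
  [DirectSum.Decomposition 𝒞R] [SetLike.GradedSMul 𝒜 𝒞R]
  {ES : Type u} [AddCommGroup ES] [Module S ES] {𝓔S : ℤ → AddSubgroup ES} [DirectSum.Decomposition 𝓔S]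
  [SetLike.GradedSMul ℬ 𝓔S] {eS : (S ⧸ (irr ℬ).toIdeal) →ₗ[S] ES}
  (heS : GrLC.IsStarInjHull ℬ (GrLC.quotGr ℬ (irr ℬ)) 𝓔S eS)
  {CS : Type u} [AddCommGroup CS] [Module S CS] [Module k CS] [IsScalarTower k S CS] {𝒞S : ℤ → AddSubgroup CS}
  [DirectSum.Decomposition 𝒞S] [SetLike.GradedSMul ℬ 𝒞S]
  {ET : Type u} [AddCommGroup ET] [Module T ET] {𝓔T : ℤ → AddSubgroup ET} [DirectSum.Decomposition 𝓔T]
  [SetLike.GradedSMul 𝒯 𝓔T] {eT : (T ⧸ (irr 𝒯).toIdeal) →ₗ[T] ET}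
  (heT : GrLC.IsStarInjHull 𝒯 (GrLC.quotGr 𝒯 (irr 𝒯)) 𝓔T eT)
  {P : Type u} [AddCommGroup P] [Module T P] [Module k P] [IsScalarTower k T P] {𝒬 : ℤ → AddSubgroup P}
  [DirectSum.Decomposition 𝒬] [SetLike.GradedSMul 𝒯 𝒬] {φ : P →ₗ[k] CR ⊗[k] CS}

include hT hposR h0R hposS h0S heR heS heT

/-- the Segre product of canonical modules is canonical -/
theorem isStarCanonical_segre (i j : ℕ) (hr : ringKrullDim R ≤ ((i + 2 : ℕ) : WithBot ℕ∞))
    (hs : ringKrullDim S ≤ ((j + 2 : ℕ) : WithBot ℕ∞))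
    (hCR : GrLC.IsStarCanonical 𝒜 𝒞R 𝓔R (irr 𝒜) (i + 2) I) (hCS : GrLC.IsStarCanonical ℬ 𝒞S 𝓔S (irr ℬ) (j + 2) J)
    (hP : GrSeg.IsSegreMod ψ 𝒞R 𝒞S 𝒬 φ) : GrLC.IsStarCanonical 𝒯 𝒬 𝓔T (irr 𝒯) (i + j + 3) IT := by
  classical
  haveI := hCR.1
  haveI := hCS.1
  haveI : IsNoetherianRing R := Algebra.FiniteType.isNoetherianRing k R
  haveI : IsNoetherianRing S := Algebra.FiniteType.isNoetherianRing k S
  haveI := seg_nontrivial ψ
  haveI := seg_finiteType hT hposR h0R h0S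
  haveI : IsNoetherianRing T := Algebra.FiniteType.isNoetherianRing k T
  haveI : IsNoetherian T T := inferInstance
  haveI hPN : IsNoetherian T P := isNoetherian_segreMod 𝒜 ℬ 𝒞R 𝒞S 𝒯 𝒬 hT hP
  haveI hPF : Module.Finite T P := ⟨hPN.noetherian ⊤⟩
  refine ⟨hPF, ?_⟩
  have hposT : ∀ n : ℤ, n < 0 → 𝒯 n = ⊥ := fun n hn => (Submodule.eq_bot_iff _).2 (seg_pos hT hposR n hn)
  have h0T := seg_deg0 hT h0R h0S
  letI : Module k ER := Module.compHom ER (algebraMap k R)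
  haveI : IsScalarTower k R ER := ⟨fun c r x => by
    change (c • r) • x = algebraMap k R c • r • x
    rw [Algebra.smul_def, mul_smul]⟩
  letI : Module k ES := Module.compHom ES (algebraMap k S)
  haveI : IsScalarTower k S ES := ⟨fun c r x => by
    change (c • r) • x = algebraMap k S c • r • x
    rw [Algebra.smul_def, mul_smul]⟩
  letI : Module k ET := Module.compHom ET (algebraMap k T)
  haveI : IsScalarTower k T ET := ⟨fun c r x => by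
    change (c • r) • x = algebraMap k T c • r • x
    rw [Algebra.smul_def, mul_smul]⟩
  obtain ⟨α, hα, hαi, hαd, hαf⟩ := exists_canonical_pairing hposR h0R heR (i + 2) hCR
  obtain ⟨β, hβ, hβi, hβd, hβf⟩ := exists_canonical_pairing hposS h0S heS (j + 2) hCS
  obtain ⟨ε, hε, hεi, hεex⟩ := exists_residue (C := P) (𝒞 := 𝒬) hposT h0T heT
  obtain ⟨G, hG, hGact⟩ := exists_tensor_pairing α β hα hβ
  rw [← Module.supportDim_self_eq_ringKrullDim] at hr hs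
  obtain ⟨Φ, hΦ⟩ := exists_segre_top (isSegreMod_self 𝒜 ℬ 𝒯 hT) hT hposR hposS h0R h0S (mR := irr 𝒜) rfl
    (mS := irr ℬ) rfl (mT := irr 𝒯) rfl I J IT i j (fun p hp d => Hk_eq_bot_of_dim_lt I hr hp d)
    (fun q hq d => Hk_eq_bot_of_dim_lt J hs hq d)
  letI := (Hgr_isInternal (irr 𝒜) I (i + 2)).chooseDecomposition
  letI := (Hgr_isInternal (irr ℬ) J (j + 2)).chooseDecomposition
  letI := (Hgr_isInternal (irr 𝒯) IT (i + j + 3)).chooseDecomposition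
  haveI : SetLike.GradedSMul 𝒜 (I.Hgr (irr 𝒜) (i + 2)) := ⟨fun {_ _ _ _} hr hx => smul_mem_Hgr I _ _ hr hx⟩
  haveI : SetLike.GradedSMul ℬ (J.Hgr (irr ℬ) (j + 2)) := ⟨fun {_ _ _ _} hr hx => smul_mem_Hgr J _ _ hr hx⟩
  haveI : SetLike.GradedSMul 𝒯 (IT.Hgr (irr 𝒯) (i + j + 3)) := ⟨fun {_ _ _ _} hr hx => smul_mem_Hgr IT _ _ hr hx⟩
  let Δ : IT.H (irr 𝒯) (i + j + 3) →ₗ[k] (P →ₗ[k] k) := LinearMap.lcomp k k φ ∘ₗ G ∘ₗ Φ
  have hΔv : ∀ h p, Δ h p = G (Φ h) (φ p) := fun _ _ => rfl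
  have hΔact : ∀ (t : T) h p, Δ (t • h) p = Δ h (t • p) := fun t h p => by
    rw [hΔv, hΔv, hΦ.map_smul, hP.map_smul, hGact]
  have hΔd : ∀ d, ∀ h ∈ IT.Hgr (irr 𝒯) (i + j + 3) d, ∀ g p, g + d ≠ 0 → p ∈ 𝒬 g → Δ h p = 0 := fun d h hh g p hgd hp =>
    pairing_supp (𝒳 := I.Hgr (irr 𝒜) (i + 2)) (𝒴 := J.Hgr (irr ℬ) (j + 2)) hG hαd hgd
      (seg_mem_piece _ _ hΦ hh) (seg_mem_piece 𝒞R 𝒞S hP hp)
  have hΔcp : ∀ d h p, Δ (cp (IT.Hgr (irr 𝒯) (i + j + 3)) d h) p = Δ h (cp 𝒬 (-d) p) := fun d h p => by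
    induction h using induction_on_hom (IT.Hgr (irr 𝒯) (i + j + 3)) with
    | h0 => simp
    | ha a b ha hb => simp only [map_add, LinearMap.add_apply, ha, hb]
    | hh d' h hh =>
      induction p using induction_on_hom 𝒬 with
      | h0 => simp
      | ha a b ha hb => simp only [map_add, ha, hb]
      | hh g p hp =>
        by_cases h1 : g = -d
        · subst h1
          by_cases h2 : d' = d
          · subst h2; rw [cp_same _ hh, cp_same 𝒬 hp]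
          · rw [cp_ne _ hh h2, map_zero, LinearMap.zero_apply, cp_same 𝒬 hp, hΔd d' h hh (-d) p (by omega) hp]
        · rw [cp_ne 𝒬 hp h1, map_zero]
          by_cases h2 : d' = d
          · subst h2; rw [cp_same _ hh, hΔd d' h hh g p (by omega) hp]
          · rw [cp_ne _ hh h2, map_zero, LinearMap.zero_apply]
  have hΔi0 : ∀ d, ∀ h ∈ IT.Hgr (irr 𝒯) (i + j + 3) d, Δ h = 0 → h = 0 := fun d h hh h0 => by
    refine hΦ.injective ((pairing_inj (𝒳 := I.Hgr (irr 𝒜) (i + 2)) (𝒴 := J.Hgr (irr ℬ) (j + 2)) (𝒞 := 𝒞R) (𝒟 := 𝒞S)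
      hG hαd hβd hαi hβi (seg_mem_piece _ _ hΦ hh) fun w hw => ?_).trans (map_zero Φ).symm)
    obtain ⟨p, -, rfl⟩ := seg_exists 𝒞R 𝒞S hP hw
    exact LinearMap.congr_fun h0 p
  have hΔi : Function.Injective Δ := (injective_iff_map_eq_zero Δ).2 fun h h0 =>
    eq_zero_of_cp (IT.Hgr (irr 𝒯) (i + j + 3)) fun d => hΔi0 d _ (cp_mem _ d h) (LinearMap.ext fun p => by
      rw [hΔcp, h0, LinearMap.zero_apply, LinearMap.zero_apply])
  haveI : ∀ d, Module.Finite k (Hk IT (irr 𝒯) (i + j + 3) d) := fun d => finite_Hk IT _ h0T rfl _ d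
  haveI : ∀ d, Module.Finite k (pieceK 𝒯 𝒬 d) := fun d => finite_pieceK 𝒬 h0T d
  have hΔs : ∀ d (q : P →ₗ[k] k), (∀ g p, g + d ≠ 0 → p ∈ 𝒬 g → q p = 0) →
      ∃ h ∈ IT.Hgr (irr 𝒯) (i + j + 3) d, Δ h = q := fun d q hq => by
    let L : Hk IT (irr 𝒯) (i + j + 3) d →ₗ[k] Module.Dual k (pieceK 𝒯 𝒬 (-d)) :=
      LinearMap.lcomp k k (pieceK 𝒯 𝒬 (-d)).subtype ∘ₗ Δ ∘ₗ (Hk IT (irr 𝒯) (i + j + 3) d).subtype
    have hext : ∀ q' : P →ₗ[k] k, (∀ g p, g + d ≠ 0 → p ∈ 𝒬 g → q' p = 0) →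
        (∀ p ∈ 𝒬 (-d), q' p = 0) → q' = 0 := fun q' h1 h2 => LinearMap.ext fun p => by
      induction p using induction_on_hom 𝒬 with
      | h0 => simp
      | ha a b ha hb => simp only [map_add, LinearMap.zero_apply] at ha hb ⊢; rw [ha, hb, add_zero]
      | hh g p hp =>
        by_cases hg : g + d = 0
        · exact h2 p (by rwa [show -d = g by omega])
        · exact h1 g p hg hp
    have hLi : Function.Injective L := (injective_iff_map_eq_zero L).2 fun h h0 => Subtype.ext (hΔi0 d h.1 h.2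
      (hext _ (hΔd d h.1 h.2) fun p hp => LinearMap.congr_fun h0 ⟨p, (mem_pieceK 𝒬).2 hp⟩))
    have hfr : Module.finrank k (Hk IT (irr 𝒯) (i + j + 3) d) = Module.finrank k (pieceK 𝒯 𝒬 (-d)) := by
      have h1 := finrank_seg_piece (𝒜 := 𝒜) (ℬ := ℬ) (𝒯 := 𝒯) hΦ d
      rw [show pieceK 𝒯 (IT.Hgr (irr 𝒯) (i + j + 3)) d = Hk IT (irr 𝒯) (i + j + 3) d from Submodule.ext fun x => mem_pieceK _,
        show pieceK 𝒜 (I.Hgr (irr 𝒜) (i + 2)) d = Hk I (irr 𝒜) (i + 2) d from Submodule.ext fun x => mem_pieceK _,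
        show pieceK ℬ (J.Hgr (irr ℬ) (j + 2)) d = Hk J (irr ℬ) (j + 2) d from Submodule.ext fun x => mem_pieceK _] at h1
      rw [h1, hαf, hβf, finrank_seg_piece (𝒜 := 𝒜) (ℬ := ℬ) (𝒯 := 𝒯) hP (-d)]
    have hLs : Function.Surjective L :=
      (LinearMap.injective_iff_surjective_of_finrank_eq_finrank (hfr.trans Subspace.dual_finrank_eq.symm)).1 hLi
    obtain ⟨h, hh⟩ := hLs (q ∘ₗ (pieceK 𝒯 𝒬 (-d)).subtype)
    refine ⟨h.1, h.2, sub_eq_zero.1 (hext _ (fun g p hg hp => ?_) fun p hp => ?_)⟩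
    · rw [LinearMap.sub_apply, hΔd d h.1 h.2 g p hg hp, hq g p hg hp, sub_zero]
    · rw [LinearMap.sub_apply, sub_eq_zero]
      exact LinearMap.congr_fun hh ⟨p, (mem_pieceK 𝒬).2 hp⟩
  let Γ : (P →ₗ[T] ET) → (P →ₗ[k] k) := fun F => ε ∘ₗ F.restrictScalars k
  have hΓi : ∀ F F', Γ F = Γ F' → F = F' := fun F F' h => LinearMap.ext fun p => sub_eq_zero.1 (hεi _ fun c => by
    rw [smul_sub, map_sub, sub_eq_zero, ← map_smul F, ← map_smul F']
    exact LinearMap.congr_fun h (c • p))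
  have hΓd : ∀ d (F : P →ₗ[T] ET), GrLC.IsGrHomDeg 𝒬 𝓔T F d → ∀ g p, g + d ≠ 0 → p ∈ 𝒬 g → Γ F p = 0 :=
    fun d F hF g p hg hp => hε _ _ hg (hF g p hp)
  have hto : ∀ h, ∃ F : P →ₗ[T] ET, Γ F = Δ h := fun h => by
    induction h using induction_on_hom (IT.Hgr (irr 𝒯) (i + j + 3)) with
    | h0 => exact ⟨0, LinearMap.ext fun p => by simp [Γ]⟩
    | ha a b ha hb =>
      obtain ⟨F, hF⟩ := ha
      obtain ⟨F', hF'⟩ := hb
      refine ⟨F + F', LinearMap.ext fun p => ?_⟩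
      change ε (F p + F' p) = _
      rw [map_add, map_add Δ, LinearMap.add_apply, ← hF, ← hF']
      rfl
    | hh d h hh =>
      obtain ⟨F, -, hF⟩ := hεex d (Δ h) (hΔd d h hh)
      exact ⟨F, LinearMap.ext hF⟩
  choose Λ hΛ using hto
  have hΛl : ∀ (t : T) h, Λ (t • h) = t • Λ h := fun t h => hΓi _ _ (LinearMap.ext fun p => by
    rw [hΛ, hΔact, ← hΛ h]
    change ε (Λ h (t • p)) = ε (t • Λ h p)
    rw [map_smul])
  let Λ' : IT.H (irr 𝒯) (i + j + 3) →ₗ[T] (P →ₗ[T] ET) :=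
    { toFun := Λ
      map_add' := fun h h' => hΓi _ _ (LinearMap.ext fun p => by
        rw [hΛ, map_add, LinearMap.add_apply, ← hΛ h, ← hΛ h']
        change ε (Λ h p) + ε (Λ h' p) = ε (Λ h p + Λ h' p)
        rw [map_add])
      map_smul' := hΛl }
  haveI : SetLike.GradedSMul (asub 𝒯) 𝓔T :=
    ⟨fun {_ _ _ _} hr hx => SetLike.GradedSMul.smul_mem (A := 𝒯) (B := 𝓔T) hr hx⟩
  haveI : SetLike.GradedSMul (asub 𝒯) 𝒬 :=
    ⟨fun {_ _ _ _} hr hx => SetLike.GradedSMul.smul_mem (A := 𝒯) (B := 𝒬) hr hx⟩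
  have hhit : ∀ d (F : P →ₗ[T] ET), GrLC.IsGrHomDeg 𝒬 𝓔T F d →
      ∃ h ∈ IT.Hgr (irr 𝒯) (i + j + 3) d, Λ' h = F := fun d F hF => by
    obtain ⟨h, hh, hhq⟩ := hΔs d (Γ F) (hΓd d F hF)
    exact ⟨h, hh, hΓi _ _ ((hΛ h).trans hhq)⟩
  have hΛb : Function.Bijective Λ' := by
    refine ⟨fun h h' e => hΔi ?_, fun F => ?_⟩
    · rw [← hΛ h, ← hΛ h', show Λ h = Λ h' from e]
    · obtain ⟨t, f, hf, -, hsum⟩ := exists_sum_homPart (𝒜 := asub 𝒯) (𝒞 := 𝒬) (𝒳 := 𝓔T) F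
      choose h _ hF using fun g => hhit g (f g) (hf g)
      exact ⟨∑ g ∈ t, h g, by rw [map_sum, Finset.sum_congr rfl fun g _ => hF g, hsum]⟩
  refine ⟨(LinearEquiv.ofBijective Λ' hΛb).symm, fun d F hF => ?_⟩
  obtain ⟨h, hh, rfl⟩ := hhit d F hF
  change (LinearEquiv.ofBijective Λ' hΛb).symm (Λ' h) ∈ _
  rw [show Λ' h = LinearEquiv.ofBijective Λ' hΛb h from rfl, LinearEquiv.symm_apply_apply]
  exact hh

end Main

end Groth.L12.GrSegLib
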