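import Groth.Agent.L12.GrSegQuo
import Groth.Agent.L12.GrLCAcyclic
import Groth.Agent.L04.LC.Annihilate

/-!
# Graded local cohomology of a Segre product as cohomology of a tensor product of complexes
-/

set_option autoImplicit false

universe u

open scoped TensorProduct
open DirectSum CategoryTheory

namespace Groth.L12.GrSegLib

open Groth.L12.GrLCLib
open scoped KMod Groth.L12.GrLCLib.Asub

section Retract

variable {R : Type u} [CommRing R]

/-- a retract of an acyclic module is acyclic -/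
theorem subsingleton_H_retract {M N : Type u} [AddCommGroup M] [Module R M] [AddCommGroup N] [Module R N]
    (i : M →ₗ[R] N) (r : N →ₗ[R] M) (h : r ∘ₗ i = LinearMap.id) (I : Ideal R) (q : ℕ)
    [Subsingleton (LocCoh.H I q N)] : Subsingleton (LocCoh.H I q M) := by
  have key : ∀ x : LocCoh.H I q M, x = 0 := fun x => by
    have h1 := Groth.L04.LC.map_comp_apply (I := I) (i := q) i r x
    rw [h, Subsingleton.elim (((localCohomology I q).map (ModuleCat.ofHom i)).hom x) 0, map_zero,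
      ModuleCat.ofHom_id, CategoryTheory.Functor.map_id] at h1
    exact h1.symm
  exact subsingleton_of_forall_eq 0 key

end Retract

section Aug

variable {R : Type u} [CommRing R] {σ : Type u} [SetLike σ R] [AddSubgroupClass σ R] {𝒜 : ℤ → σ} [GradedRing 𝒜]
  {M : Type u} [AddCommGroup M] [Module R M] {τ : Type u} [SetLike τ M] [AddSubgroupClass τ M] {ℳ : ℤ → τ}
  [DirectSum.Decomposition ℳ] [SetLike.GradedSMul 𝒜 ℳ] (E : GrLC.StarInjRes 𝒜 ℳ)

/-- the augmentation into the sum of the resolution -/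
noncomputable def augT : M →ₗ[R] (resSeq E).tot.carrier := (resSeq E).inc 0 ∘ₗ E.ε

lemma augT_grHom : GrLC.IsGrHom ℳ (resSeq E).tot.gr (augT E) :=
  fun g x hx => (resSeq E).inc_grHom 0 g _ (E.ε_grHom g x hx)

lemma augT_injective : Function.Injective (augT E) := fun a b h => E.ε_injective (by
  have h1 := congrArg ((resSeq E).prj 0) h
  exact ((resSeq E).prj_inc 0 _).symm.trans (h1.trans ((resSeq E).prj_inc 0 _)))

lemma dT_augT (x : M) : (resSeq E).dT (augT E x) = 0 := by
  change (resSeq E).dT ((resSeq E).inc 0 (E.ε x)) = 0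
  rw [GrSeq.dT_inc]
  exact (congrArg ((resSeq E).inc 1) (d_ε E x : (resSeq E).d 0 (E.ε x) = 0)).trans (map_zero _)

lemma sgn_augT (x : M) : (resSeq E).sgn (augT E x) = augT E x := by
  change (resSeq E).sgn ((resSeq E).inc 0 (E.ε x)) = _
  rw [GrSeq.sgn_inc, pow_zero, one_smul]
  rfl

lemma lev_augT (x : M) : (resSeq E).lev 0 (augT E x) = augT E x :=
  congrArg ((resSeq E).inc 0) ((resSeq E).prj_inc 0 _)

lemma lev_augT_ne {i : ℕ} (hi : i ≠ 0) (x : M) : (resSeq E).lev i (augT E x) = 0 := by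
  change (resSeq E).inc i ((resSeq E).prj i ((resSeq E).inc 0 (E.ε x))) = 0
  rw [GrSeq.prj_inc_ne _ hi, map_zero]

/-- the sum of a resolution is exact except for the augmentation -/
theorem exists_of_dT_eq_zero (v : (resSeq E).tot.carrier) (hv : (resSeq E).dT v = 0) :
    ∃ m w, v = augT E m + (resSeq E).dT w := by
  have hd : ∀ n, E.d n ((resSeq E).prj n v) = 0 := fun n => by
    have h1 := congrArg ((resSeq E).prj (n + 1)) hv
    rw [GrSeq.prj_dT_succ, map_zero] at h1
    exact h1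
  obtain ⟨m, hm⟩ := E.exact_zero.le (LinearMap.mem_ker.2 (hd 0))
  have hw : ∀ n, ∃ w, E.d n w = (resSeq E).prj (n + 1) v := fun n => (E.exact_succ n).le (LinearMap.mem_ker.2 (hd (n + 1)))
  choose w hw using hw
  obtain ⟨B, hB⟩ := (resSeq E).exists_bound v
  refine ⟨m, ∑ n ∈ Finset.range B, (resSeq E).inc n (w n), (resSeq E).ext_prj fun i => ?_⟩
  rw [map_sum, map_add, map_sum]
  have h0 : ∀ n, (resSeq E).dT ((resSeq E).inc n (w n)) = (resSeq E).inc (n + 1) ((resSeq E).prj (n + 1) v) := fun n => by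
    rw [GrSeq.dT_inc]
    exact congrArg _ (hw n)
  simp only [h0]
  cases i with
  | zero =>
    rw [Finset.sum_eq_zero fun n _ => GrSeq.prj_inc_ne _ (by omega) _, add_zero]
    exact (hm.symm).trans ((resSeq E).prj_inc 0 _).symm
  | succ i =>
    rw [show (resSeq E).prj (i + 1) (augT E m) = 0 from GrSeq.prj_inc_ne _ (by omega) _, zero_add]
    by_cases hi : i < B
    · rw [Finset.sum_eq_single i (fun n _ hn => GrSeq.prj_inc_ne _ (by omega) _) (fun hn => absurd (Finset.mem_range.2 hi) hn),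
        GrSeq.prj_inc]
    · rw [hB (i + 1) (by omega), Finset.sum_eq_zero fun n hn => GrSeq.prj_inc_ne _ (by rw [Finset.mem_range] at hn; omega) _]

end Aug

variable {k : Type u} [Field k] {R : Type u} [CommRing R] [Algebra k R] {𝒜 : ℤ → Submodule k R} [GradedAlgebra 𝒜]
  {S : Type u} [CommRing S] [Algebra k S] {ℬ : ℤ → Submodule k S} [GradedAlgebra ℬ]
  {T : Type u} [CommRing T] [Algebra k T] {𝒯 : ℤ → Submodule k T} [GradedAlgebra 𝒯] {ψ : T →ₐ[k] R ⊗[k] S}
  {M : Type u} [AddCommGroup M] [Module R M] [Module k M] [IsScalarTower k R M]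
  {τ : Type u} [SetLike τ M] [AddSubgroupClass τ M] {ℳ : ℤ → τ} [DirectSum.Decomposition ℳ] [SetLike.GradedSMul 𝒜 ℳ]
  (E : GrLC.StarInjRes 𝒜 ℳ)
  {N : Type u} [AddCommGroup N] [Module S N] [Module k N] [IsScalarTower k S N]
  {τ' : Type u} [SetLike τ' N] [AddSubgroupClass τ' N] {𝒩 : ℤ → τ'} [DirectSum.Decomposition 𝒩] [SetLike.GradedSMul ℬ 𝒩]
  (E' : GrLC.StarInjRes ℬ 𝒩)

/-- the augmentation on the tensor product -/
noncomputable def augk : M ⊗[k] N →ₗ[k] (resSeq E).tot.carrier ⊗[k] (resSeq E').tot.carrier :=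
  TensorProduct.map ((augT E).restrictScalars k) ((augT E').restrictScalars k)

lemma augk_tmul (x : M) (y : N) : augk E E' (x ⊗ₜ[k] y) = augT E x ⊗ₜ[k] augT E' y := rfl

theorem isSegOp_augk : IsSegOp 𝒜 ℬ ℳ 𝒩 (resSeq E).tot.gr (resSeq E').tot.gr (augk (k := k) E E') :=
  isSegOp_map (augT E) (augT_grHom E) (augT E') (augT_grHom E')

lemma augk_injective : Function.Injective (augk (k := k) E E') := by
  rw [augk, ← LinearMap.lTensor_comp_rTensor, LinearMap.coe_comp]
  refine Function.Injective.comp ?_ ?_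
  · exact Module.Flat.lTensor_preserves_injective_linearMap ((augT E').restrictScalars k) (augT_injective E')
  · exact Module.Flat.rTensor_preserves_injective_linearMap ((augT E).restrictScalars k) (augT_injective E)

lemma Lk_zero_augk (z : M ⊗[k] N) : Lk (resSeq E) (resSeq E') 0 (augk E E' z) = augk E E' z := by
  induction z using TensorProduct.induction_on with
  | zero => simp
  | add a b ha hb => simp only [map_add, ha, hb]
  | tmul x y => rw [augk_tmul, Lk_tmul, Finset.Nat.antidiagonal_zero, Finset.sum_singleton, lev_augT, lev_augT]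

lemma Lk_succ_augk (n : ℕ) (z : M ⊗[k] N) : Lk (resSeq E) (resSeq E') (n + 1) (augk E E' z) = 0 := by
  induction z using TensorProduct.induction_on with
  | zero => simp
  | add a b ha hb => simp only [map_add, ha, hb, add_zero]
  | tmul x y =>
    rw [augk_tmul, Lk_tmul]
    refine Finset.sum_eq_zero fun p hp => ?_
    rw [Finset.mem_antidiagonal] at hp
    by_cases h1 : p.1 = 0
    · rw [lev_augT_ne E' (by omega), TensorProduct.tmul_zero]
    · rw [lev_augT_ne E h1, TensorProduct.zero_tmul]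

lemma Dk_augk (z : M ⊗[k] N) : Dk (resSeq E) (resSeq E') (augk E E' z) = 0 := by
  induction z using TensorProduct.induction_on with
  | zero => simp
  | add a b ha hb => rw [map_add, map_add, ha, hb, add_zero]
  | tmul x y => rw [augk_tmul, Dk_tmul, dT_augT, dT_augT, TensorProduct.zero_tmul, TensorProduct.tmul_zero, add_zero]

/-- cycles of the total tensor product -/
theorem exists_of_Dk_eq_zero {z : (resSeq E).tot.carrier ⊗[k] (resSeq E').tot.carrier}
    (hz : Dk (resSeq E) (resSeq E') z = 0) : ∃ w u, z = Dk (resSeq E) (resSeq E') w + augk E E' u := by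
  obtain ⟨w, v, rfl⟩ := (isSign_tot (resSeq E) (resSeq E')).exists_cycT hz
  suffices h : ∃ w u, cycT ((resSeq E).dT.restrictScalars k) ((resSeq E').dT.restrictScalars k) v =
      Dk (resSeq E) (resSeq E') w + augk E E' u by
    obtain ⟨w', u, hu⟩ := h
    refine ⟨w + w', u, ?_⟩
    rw [hu, map_add, add_assoc]
    rfl
  clear hz
  induction v using TensorProduct.induction_on with
  | zero => exact ⟨0, 0, (map_zero _).trans (by rw [map_zero, map_zero, add_zero])⟩
  | add a b ha hb =>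
    obtain ⟨w₁, u₁, h₁⟩ := ha
    obtain ⟨w₂, u₂, h₂⟩ := hb
    exact ⟨w₁ + w₂, u₁ + u₂, by rw [map_add, h₁, h₂, map_add, map_add]; abel⟩
  | tmul x y =>
    obtain ⟨m, a, hx⟩ := exists_of_dT_eq_zero E x.1 x.2
    obtain ⟨n, b, hy⟩ := exists_of_dT_eq_zero E' y.1 y.2
    refine ⟨a ⊗ₜ[k] y.1 + augT E m ⊗ₜ[k] b, m ⊗ₜ[k] n, ?_⟩
    change (x.1 ⊗ₜ[k] y.1 : (resSeq E).tot.carrier ⊗[k] (resSeq E').tot.carrier) = _
    rw [map_add, Dk_tmul, Dk_tmul, show (resSeq E').dT y.1 = 0 from y.2, dT_augT, sgn_augT, TensorProduct.tmul_zero,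
      TensorProduct.zero_tmul, add_zero, zero_add, augk_tmul]
    conv_lhs => rw [hx, TensorProduct.add_tmul]
    conv_lhs => arg 1; rw [hy, TensorProduct.tmul_add]
    abel

variable (hT : GrSeg.IsSegreRing 𝒜 ℬ 𝒯 ψ)
  {P : Type u} [AddCommGroup P] [Module T P] [Module k P] [IsScalarTower k T P]
  {τQ : Type u} [SetLike τQ P] [AddSubgroupClass τQ P] {𝒬 : ℤ → τQ} [DirectSum.Decomposition 𝒬]
  {φ : P →ₗ[k] M ⊗[k] N} (hP : GrSeg.IsSegreMod ψ ℳ 𝒩 𝒬 φ)

/-- the augmentation of the total Segre product -/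
noncomputable def augZ : P →ₗ[T] (totZ (resSeq E) (resSeq E') hT).carrier :=
  segOp hP (totZ_isSegreMod (resSeq E) (resSeq E') hT) (isSegOp_augk E E')

lemma augZ_spec (p : P) : totInc (resSeq E) (resSeq E') hT (augZ E E' hT hP p) = augk E E' (φ p) := segOp_spec _ _ _ p

lemma augZ_grHom : GrLC.IsGrHom 𝒬 (totZ (resSeq E) (resSeq E') hT).gr (augZ E E' hT hP) := segOp_grHom _ _ _

lemma augZ_injective : Function.Injective (augZ E E' hT hP) := fun a b h =>
  hP.injective (augk_injective E E' (by rw [← augZ_spec E E' hT hP, ← augZ_spec E E' hT hP, h]))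

lemma LZ_augZ (p : P) : LZ (resSeq E) (resSeq E') hT 0 (augZ E E' hT hP p) = augZ E E' hT hP p :=
  (totZ_isSegreMod (resSeq E) (resSeq E') hT).injective (by rw [LZ_spec, augZ_spec, Lk_zero_augk])

lemma DZ_augZ (p : P) : DZ (resSeq E) (resSeq E') hT (augZ E E' hT hP p) = 0 :=
  (totZ_isSegreMod (resSeq E) (resSeq E') hT).injective (by rw [DZ_spec, augZ_spec, Dk_augk, map_zero])

include hP in
lemma exists_augZ {z : (totZ (resSeq E) (resSeq E') hT).carrier} (h0 : LZ (resSeq E) (resSeq E') hT 0 z = z)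
    (hd : DZ (resSeq E) (resSeq E') hT z = 0) : ∃ p, augZ E E' hT hP p = z := by
  obtain ⟨w, u, hw⟩ := exists_of_Dk_eq_zero E E' (z := totInc _ _ hT z) (by rw [← DZ_spec, hd, map_zero])
  refine exists_segOp_eq hP _ (isSegOp_augk E E') z (z := u) ?_
  conv_rhs => rw [← h0, LZ_spec, hw, map_add, Lk_zero_Dk, Lk_zero_augk, zero_add]

lemma exists_DZ {n : ℕ} {z : (totZ (resSeq E) (resSeq E') hT).carrier}
    (h0 : LZ (resSeq E) (resSeq E') hT (n + 1) z = z) (hd : DZ (resSeq E) (resSeq E') hT z = 0) :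
    ∃ w, DZ (resSeq E) (resSeq E') hT (LZ (resSeq E) (resSeq E') hT n w) = z := by
  obtain ⟨w, u, hw⟩ := exists_of_Dk_eq_zero E E' (z := totInc _ _ hT z) (by rw [← DZ_spec, hd, map_zero])
  have hop := (isSegOp_Lk (resSeq E) (resSeq E') n).comp (isSegOp_Dk (resSeq E) (resSeq E'))
  obtain ⟨p, hp⟩ := exists_segOp_eq (totZ_isSegreMod (resSeq E) (resSeq E') hT) (totZ_isSegreMod (resSeq E) (resSeq E') hT)
    hop z (z := w) (by
      conv_rhs => rw [← h0]
      change _ = totInc (resSeq E) (resSeq E') hT _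
      rw [LZ_spec, hw, map_add, Lk_succ_Dk, Lk_succ_augk, add_zero]
      rfl)
  refine ⟨p, (totZ_isSegreMod (resSeq E) (resSeq E') hT).injective ?_⟩
  rw [DZ_spec, LZ_spec, ← hp]
  exact (segOp_spec _ _ hop p).symm

/-- the levels of the total Segre product -/
noncomputable def levG (n : ℕ) : GrLC.GMod.{u} 𝒯 :=
  subG 𝒯 (totZ (resSeq E) (resSeq E') hT).gr (LinearMap.range (LZ (resSeq E) (resSeq E') hT n))
    (range_isHomogeneous _ _ (LZ_grHom (resSeq E) (resSeq E') hT n))

/-- inclusion of a level -/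
noncomputable def levI (n : ℕ) : (levG E E' hT n).carrier →ₗ[T] (totZ (resSeq E) (resSeq E') hT).carrier :=
  (LinearMap.range (LZ (resSeq E) (resSeq E') hT n)).subtype

lemma levI_injective (n : ℕ) : Function.Injective (levI E E' hT n) := Submodule.injective_subtype _

lemma LZ_levI (n : ℕ) (y : (levG E E' hT n).carrier) :
    LZ (resSeq E) (resSeq E') hT n (levI E E' hT n y) = levI E E' hT n y := by
  obtain ⟨w, hw⟩ := (y : LinearMap.range (LZ (resSeq E) (resSeq E') hT n)).2
  change LZ _ _ hT n (levI E E' hT n y) = _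
  rw [show levI E E' hT n y = LZ _ _ hT n w from hw.symm, LZ_LZ, if_pos rfl]

lemma exists_levI (n : ℕ) {z : (totZ (resSeq E) (resSeq E') hT).carrier} (h : LZ (resSeq E) (resSeq E') hT n z = z) :
    ∃ y, levI E E' hT n y = z :=
  ⟨(⟨z, z, h⟩ : LinearMap.range (LZ (resSeq E) (resSeq E') hT n)), rfl⟩

/-- the differential between levels -/
noncomputable def levD (n : ℕ) : (levG E E' hT n).carrier →ₗ[T] (levG E E' hT (n + 1)).carrier :=
  LinearMap.codRestrict _ (DZ (resSeq E) (resSeq E') hT ∘ₗ levI E E' hT n) fun y =>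
    ⟨DZ (resSeq E) (resSeq E') hT (levI E E' hT n y), by rw [LZ_succ_DZ, LZ_levI]; rfl⟩

lemma levI_levD (n : ℕ) (y : (levG E E' hT n).carrier) :
    levI E E' hT (n + 1) (levD E E' hT n y) = DZ (resSeq E) (resSeq E') hT (levI E E' hT n y) := rfl

variable [Algebra.FiniteType k R] [Algebra.FiniteType k S]
  (hposR : ∀ n : ℤ, n < 0 → 𝒜 n = ⊥) (hposS : ∀ n : ℤ, n < 0 → ℬ n = ⊥)
  (h0R : 𝒜 0 = Submodule.span k {(1 : R)}) (h0S : ℬ 0 = Submodule.span k {(1 : S)})
  (mR : HomogeneousIdeal 𝒜) (hmR : mR.toIdeal = Ideal.span (⋃ n ∈ Set.Ioi (0 : ℤ), (𝒜 n : Set R)))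
  (mS : HomogeneousIdeal ℬ) (hmS : mS.toIdeal = Ideal.span (⋃ n ∈ Set.Ioi (0 : ℤ), (ℬ n : Set S)))
  (mT : HomogeneousIdeal 𝒯) (hmT : mT.toIdeal = Ideal.span (⋃ n ∈ Set.Ioi (0 : ℤ), (𝒯 n : Set T)))

include hP hposR hposS h0R h0S hmR hmS hmT

/-- the levels form an acyclic resolution -/
noncomputable def acSeq [IsNoetherianRing T] : AcSeq (R := T) (Asub.hid mT) (asub 𝒬) where
  Y n := Asub.up (levG E E' hT n)
  d n := levD E E' hT n
  ε := LinearMap.codRestrict _ (augZ E E' hT hP) fun p => ⟨_, LZ_augZ E E' hT hP p⟩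
  d_grHom n g y hy := DZ_grHom (resSeq E) (resSeq E') hT g _ hy
  ε_grHom g p hp := augZ_grHom E E' hT hP g p hp
  ε_injective a b h := augZ_injective E E' hT hP (congrArg Subtype.val h)
  exact_zero := by
    refine le_antisymm (fun y hy => ?_) ?_
    · obtain ⟨p, hp⟩ := exists_augZ E E' hT hP (LZ_levI E E' hT 0 y)
        ((congrArg (levI E E' hT (0 + 1)) (show levD E E' hT 0 y = 0 from hy)).trans (map_zero _))
      exact ⟨p, levI_injective E E' hT 0 hp⟩
    · rintro _ ⟨p, rfl⟩
      exact LinearMap.mem_ker.2 (levI_injective E E' hT (0 + 1) ((DZ_augZ E E' hT hP p).trans (map_zero _).symm))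
  exact_succ n := by
    refine le_antisymm (fun y hy => ?_) ?_
    · obtain ⟨w, hw⟩ := exists_DZ E E' hT (LZ_levI E E' hT (n + 1) y)
        ((congrArg (levI E E' hT (n + 1 + 1)) (show levD E E' hT (n + 1) y = 0 from hy)).trans (map_zero _))
      exact ⟨(⟨_, w, rfl⟩ : LinearMap.range (LZ (resSeq E) (resSeq E') hT n)), levI_injective E E' hT (n + 1) hw⟩
    · rintro _ ⟨y, rfl⟩
      exact LinearMap.mem_ker.2 (levI_injective E E' hT (n + 1 + 1)
        ((DZ_DZ (resSeq E) (resSeq E') hT _).trans (map_zero _).symm))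
  acyclic n i := by
    haveI : IsNoetherianRing R := Algebra.FiniteType.isNoetherianRing k R
    haveI : IsNoetherianRing S := Algebra.FiniteType.isNoetherianRing k S
    haveI := segAc_div_div hT hposR hposS h0R h0S mR hmR mS hmS mT hmT (resSeq E).tot
      ((resSeq E).isDiv_tot fun n => isDiv_starInj (E.starInj n)) (resSeq E').tot
      ((resSeq E').isDiv_tot fun n => isDiv_starInj (E'.starInj n)) i
    exact @subsingleton_H_retract T _ _ _ _ _ _ _ (levI E E' hT n)
      (LinearMap.rangeRestrict (LZ (resSeq E) (resSeq E') hT n))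
      (LinearMap.ext fun y => Subtype.ext (LZ_levI E E' hT n y)) mT.toIdeal (i + 1) this

end Groth.L12.GrSegLib
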