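import Groth.Agent.L12.GrSegTot

/-!
# The Künneth formula degree by degree
-/

set_option autoImplicit false

universe u

open scoped TensorProduct
open DirectSum

namespace Groth.L12.GrSegLib

open Groth.L12.GrLCLib
open scoped KMod

variable {k : Type u} [Field k] {R : Type u} [CommRing R] [Algebra k R] {𝒜 : ℤ → Submodule k R} [GradedAlgebra 𝒜]

/-- cycles of degree `d` as a vector space -/
noncomputable def GrSeq.cyK (Q : GrSeq 𝒜) (i : ℕ) (d : ℤ) : Submodule k (Q.X i).carrier :=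
  LinearMap.range (cpk 𝒜 (Q.X i).gr d) ⊓ LinearMap.ker ((Q.d i).restrictScalars k)

/-- boundaries as a vector space -/
noncomputable def GrSeq.bdK (Q : GrSeq 𝒜) : (i : ℕ) → Submodule k (Q.X i).carrier
  | 0 => ⊥
  | i + 1 => LinearMap.range ((Q.d i).restrictScalars k)

/-- cohomology in degree `d` as a vector space -/
abbrev GrSeq.GK (Q : GrSeq 𝒜) (i : ℕ) (d : ℤ) : Type u := Q.cyK i d ⧸ (Q.bdK i).comap (Q.cyK i d).subtype

lemma GrSeq.mem_cyK (Q : GrSeq 𝒜) {i : ℕ} {d : ℤ} {x : (Q.X i).carrier} :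
    x ∈ Q.cyK i d ↔ x ∈ (Q.X i).gr d ∧ Q.d i x = 0 := by
  refine ⟨fun ⟨⟨y, hy⟩, h⟩ => ⟨hy ▸ cp_mem _ d y, h⟩, fun ⟨h, h'⟩ => ⟨⟨x, cp_same _ h⟩, h'⟩⟩

lemma GrSeq.cp_bdK (Q : GrSeq 𝒜) {i : ℕ} (d : ℤ) {x : (Q.X i).carrier} (hx : x ∈ Q.bdK i) :
    cp (Q.X i).gr d x ∈ Q.bdK i := by
  cases i with
  | zero => rw [(Submodule.mem_bot k).1 hx, map_zero]; exact zero_mem _
  | succ i =>
    obtain ⟨w, rfl⟩ := hx
    exact ⟨cp (Q.X i).gr d w, (cp_map (Q.X i).gr (Q.X (i + 1)).gr (Q.d i).toAddMonoidHom (Q.d_grHom i) d w).symm⟩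

/-- a projection onto cohomology -/
theorem GrSeq.exists_proj (Q : GrSeq 𝒜) (i : ℕ) (d : ℤ) : ∃ r : (Q.X i).carrier →ₗ[k] Q.GK i d,
    (∀ x ∈ Q.bdK i, r x = 0) ∧ (∀ x : Q.cyK i d, r x.1 = Submodule.Quotient.mk x) ∧
      ∀ x, r (cp (Q.X i).gr d x) = r x := by
  let j : Q.GK i d →ₗ[k] (Q.X i).carrier ⧸ Q.bdK i := Submodule.mapQ _ _ (Q.cyK i d).subtype le_rfl
  have hj : LinearMap.ker j = ⊥ := LinearMap.ker_eq_bot'.2 fun x hx => by
    obtain ⟨x, rfl⟩ := Submodule.Quotient.mk_surjective _ x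
    exact (Submodule.Quotient.mk_eq_zero _).2 ((Submodule.Quotient.mk_eq_zero _).1 hx : x.1 ∈ Q.bdK i)
  obtain ⟨l, hl⟩ := j.exists_leftInverse_of_injective hj
  refine ⟨l ∘ₗ (Q.bdK i).mkQ ∘ₗ cpk 𝒜 (Q.X i).gr d, fun x hx => ?_, fun x => ?_, fun x => ?_⟩
  · change l (Submodule.Quotient.mk (cp (Q.X i).gr d x)) = 0
    rw [(Submodule.Quotient.mk_eq_zero _).2 (Q.cp_bdK d hx), map_zero]
  · change l (Submodule.Quotient.mk (cp (Q.X i).gr d x.1)) = _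
    rw [cp_same _ ((Q.mem_cyK).1 x.2).1]
    exact LinearMap.congr_fun hl (Submodule.Quotient.mk x)
  · exact congrArg (fun v => l (Submodule.Quotient.mk v)) (cp_same _ (cp_mem _ d x))

variable {S : Type u} [CommRing S] [Algebra k S] {ℬ : ℤ → Submodule k S} [GradedAlgebra ℬ]
  (Q : GrSeq 𝒜) (Q' : GrSeq ℬ)

/-- tensors of cycles up to boundaries -/
theorem inc_tmul_boundary {i j : ℕ} {a a' : (Q.X i).carrier} {b b' : (Q'.X j).carrier}
    (hb : Q'.d j b = 0) (ha' : Q.d i a' = 0) (haa : a - a' ∈ Q.bdK i) (hbb : b - b' ∈ Q'.bdK j) :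
    Q.inc i a ⊗ₜ[k] Q'.inc j b - Q.inc i a' ⊗ₜ[k] Q'.inc j b' ∈ LinearMap.range (Dk Q Q') := by
  have e : Q.inc i a ⊗ₜ[k] Q'.inc j b - Q.inc i a' ⊗ₜ[k] Q'.inc j b' =
      Q.inc i (a - a') ⊗ₜ[k] Q'.inc j b + Q.inc i a' ⊗ₜ[k] Q'.inc j (b - b') := by
    rw [map_sub, map_sub, TensorProduct.sub_tmul, TensorProduct.tmul_sub]
    abel
  rw [e]
  refine add_mem ?_ ?_
  · cases i with
    | zero => rw [(Submodule.mem_bot k).1 haa, map_zero, TensorProduct.zero_tmul]; exact zero_mem _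
    | succ i =>
      obtain ⟨w, hw⟩ := haa
      refine ⟨Q.inc i w ⊗ₜ[k] Q'.inc j b, ?_⟩
      rw [Dk_tmul, GrSeq.dT_inc, GrSeq.dT_inc, hb, map_zero, TensorProduct.tmul_zero, add_zero]
      exact congrArg (fun v => Q.inc (i + 1) v ⊗ₜ[k] Q'.inc j b) hw
  · cases j with
    | zero => rw [(Submodule.mem_bot k).1 hbb, map_zero, TensorProduct.tmul_zero]; exact zero_mem _
    | succ j =>
      obtain ⟨w, hw⟩ := hbb
      refine ⟨Q.sgn (Q.inc i a') ⊗ₜ[k] Q'.inc j w, ?_⟩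
      have hsq : Q.sgn (Q.sgn (Q.inc i a')) = Q.inc i a' := (isSign_tot Q Q').sq _
      rw [Dk_tmul, hsq, GrSeq.sgn_inc, map_smul, GrSeq.dT_inc, GrSeq.dT_inc, ha', map_zero, smul_zero,
        TensorProduct.zero_tmul, zero_add]
      exact congrArg (fun v => Q.inc i a' ⊗ₜ[k] Q'.inc (j + 1) v) hw

/-- cycles of level `n` and degree `d` -/
noncomputable def cyT (n : ℕ) (d : ℤ) : Submodule k (Q.tot.carrier ⊗[k] Q'.tot.carrier) :=
  LinearMap.ker (bproj 𝒜 ℬ Q.tot.gr Q'.tot.gr d - LinearMap.id) ⊓ LinearMap.ker (Lk Q Q' n - LinearMap.id) ⊓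
    LinearMap.ker (Dk Q Q')

lemma mem_cyT {n : ℕ} {d : ℤ} {z : Q.tot.carrier ⊗[k] Q'.tot.carrier} : z ∈ cyT Q Q' n d ↔
    (bproj 𝒜 ℬ Q.tot.gr Q'.tot.gr d z = z ∧ Lk Q Q' n z = z) ∧ Dk Q Q' z = 0 := by
  rw [cyT, Submodule.mem_inf, Submodule.mem_inf, LinearMap.mem_ker, LinearMap.mem_ker, LinearMap.mem_ker,
    LinearMap.sub_apply, LinearMap.sub_apply, sub_eq_zero, sub_eq_zero]
  rfl

/-- the target of the Künneth map -/
abbrev KT (n : ℕ) (d : ℤ) : Type u :=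
  ∀ p : {p : ℕ × ℕ // p ∈ Finset.HasAntidiagonal.antidiagonal n}, Q.GK p.1.1 d ⊗[k] Q'.GK p.1.2 d

/-- the Künneth map -/
noncomputable def theta (r : ∀ i d, (Q.X i).carrier →ₗ[k] Q.GK i d) (r' : ∀ i d, (Q'.X i).carrier →ₗ[k] Q'.GK i d)
    (n : ℕ) (d : ℤ) : Q.tot.carrier ⊗[k] Q'.tot.carrier →ₗ[k] KT Q Q' n d :=
  LinearMap.pi fun p => TensorProduct.map (r p.1.1 d ∘ₗ (Q.prj p.1.1).restrictScalars k)
    (r' p.1.2 d ∘ₗ (Q'.prj p.1.2).restrictScalars k)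

lemma theta_tmul (r : ∀ i d, (Q.X i).carrier →ₗ[k] Q.GK i d) (r' : ∀ i d, (Q'.X i).carrier →ₗ[k] Q'.GK i d) (n : ℕ)
    (d : ℤ) (x : Q.tot.carrier) (y : Q'.tot.carrier) (p : {p : ℕ × ℕ // p ∈ Finset.HasAntidiagonal.antidiagonal n}) :
    theta Q Q' r r' n d (x ⊗ₜ[k] y) p = r p.1.1 d (Q.prj p.1.1 x) ⊗ₜ[k] r' p.1.2 d (Q'.prj p.1.2 y) := rfl

variable {r : ∀ i d, (Q.X i).carrier →ₗ[k] Q.GK i d} {r' : ∀ i d, (Q'.X i).carrier →ₗ[k] Q'.GK i d}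
  (hr : ∀ i d, (∀ x ∈ Q.bdK i, r i d x = 0) ∧ (∀ x : Q.cyK i d, r i d x.1 = Submodule.Quotient.mk x) ∧
    ∀ x, r i d (cp (Q.X i).gr d x) = r i d x)
  (hr' : ∀ i d, (∀ x ∈ Q'.bdK i, r' i d x = 0) ∧ (∀ x : Q'.cyK i d, r' i d x.1 = Submodule.Quotient.mk x) ∧
    ∀ x, r' i d (cp (Q'.X i).gr d x) = r' i d x)

include hr hr'

theorem theta_Dk (n : ℕ) (d : ℤ) (w : Q.tot.carrier ⊗[k] Q'.tot.carrier) : theta Q Q' r r' n d (Dk Q Q' w) = 0 := by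
  induction w using TensorProduct.induction_on with
  | zero => simp
  | add a b ha hb => rw [map_add, map_add, ha, hb, add_zero]
  | tmul x y =>
    have h1 : ∀ i, r i d (Q.prj i (Q.dT x)) = 0 := fun i => (hr i d).1 _ (by
      cases i with
      | zero => rw [Q.prj_dT_zero]; exact zero_mem _
      | succ i => rw [Q.prj_dT_succ]; exact ⟨_, rfl⟩)
    have h2 : ∀ i, r' i d (Q'.prj i (Q'.dT y)) = 0 := fun i => (hr' i d).1 _ (by
      cases i with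
      | zero => rw [Q'.prj_dT_zero]; exact zero_mem _
      | succ i => rw [Q'.prj_dT_succ]; exact ⟨_, rfl⟩)
    funext p
    rw [Dk_tmul, map_add, Pi.add_apply, theta_tmul, theta_tmul, h1, h2, TensorProduct.zero_tmul, TensorProduct.tmul_zero,
      add_zero]
    rfl

theorem exists_cyT_theta (n : ℕ) (d : ℤ) (v : KT Q Q' n d) : ∃ z ∈ cyT Q Q' n d, theta Q Q' r r' n d z = v := by
  classical
  let φ : {p : ℕ × ℕ // p ∈ Finset.HasAntidiagonal.antidiagonal n} → Type u :=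
    fun p => Q.GK p.1.1 d ⊗[k] Q'.GK p.1.2 d
  letI : ∀ p, AddCommGroup (φ p) := fun p => inferInstanceAs (AddCommGroup (Q.GK p.1.1 d ⊗[k] Q'.GK p.1.2 d))
  letI : ∀ p, Module k (φ p) := fun p => inferInstanceAs (Module k (Q.GK p.1.1 d ⊗[k] Q'.GK p.1.2 d))
  suffices h : ∀ p, ∀ w : φ p, ∃ z ∈ cyT Q Q' n d, theta Q Q' r r' n d z = LinearMap.single k φ p w by
    choose z hz hzv using h
    refine ⟨∑ p, z p (v p), Submodule.sum_mem _ fun p _ => hz p _, ?_⟩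
    refine (map_sum _ _ _).trans ((Finset.sum_congr rfl fun p _ => hzv p (v p)).trans ?_)
    exact LinearMap.sum_single_apply φ v
  intro p w
  induction w using TensorProduct.induction_on with
  | zero => exact ⟨0, zero_mem _, (map_zero _).trans (map_zero (LinearMap.single k φ p)).symm⟩
  | add a b ha hb =>
    obtain ⟨z, hz, hza⟩ := ha
    obtain ⟨z', hz', hzb⟩ := hb
    exact ⟨z + z', add_mem hz hz', ((map_add _ z z').trans (congrArg₂ (· + ·) hza hzb)).trans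
      (map_add (LinearMap.single k φ p) a b).symm⟩
  | tmul a b =>
    obtain ⟨a, rfl⟩ := Submodule.Quotient.mk_surjective _ a
    obtain ⟨b, rfl⟩ := Submodule.Quotient.mk_surjective _ b
    obtain ⟨ha, ha'⟩ := Q.mem_cyK.1 a.2
    obtain ⟨hb, hb'⟩ := Q'.mem_cyK.1 b.2
    refine ⟨Q.inc p.1.1 a.1 ⊗ₜ[k] Q'.inc p.1.2 b.1, (mem_cyT Q Q').2 ⟨⟨?_, ?_⟩, ?_⟩, funext fun q => ?_⟩
    · rw [bproj_tmul, cp_same _ (Q.inc_grHom _ d _ ha), cp_same _ (Q'.inc_grHom _ d _ hb)]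
    · rw [Lk_tmul, Finset.sum_eq_single p.1 (fun q hq hne => ?_) (fun h => absurd p.2 h)]
      · change Q.inc _ (Q.prj _ (Q.inc _ a.1)) ⊗ₜ[k] Q'.inc _ (Q'.prj _ (Q'.inc _ b.1)) = _
        rw [GrSeq.prj_inc, GrSeq.prj_inc]
      · have h1 : q.1 ≠ p.1.1 := fun h1 => hne (Prod.ext h1 (by
          have h2 := p.2
          rw [Finset.mem_antidiagonal] at hq h2
          omega))
        change Q.inc _ (Q.prj _ (Q.inc _ a.1)) ⊗ₜ[k] _ = 0
        rw [GrSeq.prj_inc_ne _ h1, map_zero, TensorProduct.zero_tmul]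
    · rw [Dk_tmul, GrSeq.dT_inc, GrSeq.dT_inc, ha', hb', map_zero, map_zero, TensorProduct.zero_tmul,
        TensorProduct.tmul_zero, add_zero]
    · rw [theta_tmul]
      by_cases h : q = p
      · subst h
        change _ = Pi.single (M := φ) q _ q
        rw [Pi.single_eq_same, GrSeq.prj_inc, GrSeq.prj_inc, (hr _ d).2.1, (hr' _ d).2.1]
      · change _ = Pi.single (M := φ) p _ q
        rw [Pi.single_eq_of_ne h, GrSeq.prj_inc_ne _ (fun h1 => h (Subtype.ext (Prod.ext h1 (by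
          have h2 := p.2
          have h3 := q.2
          rw [Finset.mem_antidiagonal] at h2 h3
          omega)))), map_zero, TensorProduct.zero_tmul]

theorem eq_Dk_of_theta_eq_zero (n : ℕ) (d : ℤ) {z : Q.tot.carrier ⊗[k] Q'.tot.carrier} (hz : z ∈ cyT Q Q' n d)
    (h0 : theta Q Q' r r' n d z = 0) : ∃ w, Dk Q Q' w = z := by
  classical
  obtain ⟨⟨hzb, hzl⟩, hzd⟩ := (mem_cyT Q Q').1 hz
  have hsec : ∀ i, ∃ s : Q.GK i d →ₗ[k] Q.cyK i d, ∀ g, Submodule.Quotient.mk (s g) = g := fun i => by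
    obtain ⟨s, hs⟩ := (Submodule.mkQ ((Q.bdK i).comap (Q.cyK i d).subtype)).exists_rightInverse_of_surjective
      (Submodule.range_mkQ _)
    exact ⟨s, fun g => LinearMap.congr_fun hs g⟩
  have hsec' : ∀ i, ∃ s : Q'.GK i d →ₗ[k] Q'.cyK i d, ∀ g, Submodule.Quotient.mk (s g) = g := fun i => by
    obtain ⟨s, hs⟩ := (Submodule.mkQ ((Q'.bdK i).comap (Q'.cyK i d).subtype)).exists_rightInverse_of_surjective
      (Submodule.range_mkQ _)
    exact ⟨s, fun g => LinearMap.congr_fun hs g⟩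
  choose s hs using hsec
  choose s' hs' using hsec'
  let Kc : KT Q Q' n d →ₗ[k] Q.tot.carrier ⊗[k] Q'.tot.carrier :=
    ∑ p, (TensorProduct.map ((Q.inc p.1.1).restrictScalars k ∘ₗ (Q.cyK _ d).subtype ∘ₗ s p.1.1)
      ((Q'.inc p.1.2).restrictScalars k ∘ₗ (Q'.cyK _ d).subtype ∘ₗ s' p.1.2)) ∘ₗ LinearMap.proj p
  let F : Q.tot.carrier ⊗[k] Q'.tot.carrier →ₗ[k] Q.tot.carrier ⊗[k] Q'.tot.carrier :=
    Lk Q Q' n ∘ₗ bproj 𝒜 ℬ Q.tot.gr Q'.tot.gr d - Kc ∘ₗ theta Q Q' r r' n d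
  suffices h : F z ∈ LinearMap.range (Dk Q Q') by
    obtain ⟨w, hw⟩ := h
    refine ⟨w, hw.trans ?_⟩
    change Lk Q Q' n (bproj 𝒜 ℬ Q.tot.gr Q'.tot.gr d z) - Kc (theta Q Q' r r' n d z) = z
    rw [h0, map_zero, sub_zero, hzb, hzl]
  obtain ⟨w, v, rfl⟩ := (isSign_tot Q Q').exists_cycT hzd
  rw [map_add]
  refine add_mem ?_ ?_
  · change Lk Q Q' n (bproj 𝒜 ℬ Q.tot.gr Q'.tot.gr d (Dk Q Q' w)) - Kc (theta Q Q' r r' n d (Dk Q Q' w)) ∈ _
    rw [theta_Dk Q Q' hr hr', map_zero, sub_zero, (isSegOp_Dk Q Q').proj]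
    cases n with
    | zero => rw [Lk_zero_Dk]; exact zero_mem _
    | succ n => rw [Lk_succ_Dk]; exact ⟨_, rfl⟩
  · clear hz hzb hzl hzd h0
    induction v using TensorProduct.induction_on with
    | zero => rw [map_zero, map_zero]; exact zero_mem _
    | add a b ha hb => rw [map_add, map_add]; exact add_mem ha hb
    | tmul x y =>
      change Lk Q Q' n (bproj 𝒜 ℬ Q.tot.gr Q'.tot.gr d (x.1 ⊗ₜ[k] y.1)) - Kc (theta Q Q' r r' n d (x.1 ⊗ₜ[k] y.1)) ∈ _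
      rw [bproj_tmul, Lk_tmul, ← Finset.sum_coe_sort (Finset.HasAntidiagonal.antidiagonal n)]
      simp only [Kc, LinearMap.sum_apply, LinearMap.comp_apply, LinearMap.proj_apply, theta_tmul, TensorProduct.map_tmul]
      rw [← Finset.sum_sub_distrib]
      refine Submodule.sum_mem _ fun p _ => ?_
      have hx : ∀ i, Q.d i (Q.prj i x.1) = 0 := fun i => by
        rw [← Q.prj_dT_succ, show Q.dT x.1 = 0 from x.2, map_zero]
      have hy : ∀ i, Q'.d i (Q'.prj i y.1) = 0 := fun i => by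
        rw [← Q'.prj_dT_succ, show Q'.dT y.1 = 0 from y.2, map_zero]
      have hdx : Q.d p.1.1 (cp (Q.X _).gr d (Q.prj p.1.1 x.1)) = 0 := by
        rw [show Q.d p.1.1 (cp (Q.X _).gr d (Q.prj p.1.1 x.1)) = cp (Q.X (p.1.1 + 1)).gr d (Q.d p.1.1 (Q.prj p.1.1 x.1))
          from (cp_map (Q.X _).gr (Q.X _).gr (Q.d p.1.1).toAddMonoidHom (Q.d_grHom _) d _).symm, hx, map_zero]
      have hdy : Q'.d p.1.2 (cp (Q'.X _).gr d (Q'.prj p.1.2 y.1)) = 0 := by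
        rw [show Q'.d p.1.2 (cp (Q'.X _).gr d (Q'.prj p.1.2 y.1)) = cp (Q'.X (p.1.2 + 1)).gr d (Q'.d p.1.2 (Q'.prj p.1.2 y.1))
          from (cp_map (Q'.X _).gr (Q'.X _).gr (Q'.d p.1.2).toAddMonoidHom (Q'.d_grHom _) d _).symm, hy, map_zero]
      let a : Q.cyK p.1.1 d := ⟨_, Q.mem_cyK.2 ⟨cp_mem _ d (Q.prj p.1.1 x.1), hdx⟩⟩
      let b : Q'.cyK p.1.2 d := ⟨_, Q'.mem_cyK.2 ⟨cp_mem _ d (Q'.prj p.1.2 y.1), hdy⟩⟩
      have e1 : Q.lev p.1.1 (cp Q.tot.gr d x.1) = Q.inc p.1.1 a.1 := congrArg (Q.inc p.1.1)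
        (cp_map Q.tot.gr (Q.X p.1.1).gr (Q.prj p.1.1).toAddMonoidHom (Q.prj_grHom _) d x.1).symm
      have e2 : Q'.lev p.1.2 (cp Q'.tot.gr d y.1) = Q'.inc p.1.2 b.1 := congrArg (Q'.inc p.1.2)
        (cp_map Q'.tot.gr (Q'.X p.1.2).gr (Q'.prj p.1.2).toAddMonoidHom (Q'.prj_grHom _) d y.1).symm
      rw [e1, e2, ← (hr _ d).2.2 (Q.prj p.1.1 x.1), ← (hr' _ d).2.2 (Q'.prj p.1.2 y.1), (hr _ d).2.1 a,
        (hr' _ d).2.1 b]
      refine inc_tmul_boundary Q Q' hdy ((Q.mem_cyK).1 (s p.1.1 (Submodule.Quotient.mk a)).2).2 ?_ ?_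
      · exact ((Submodule.Quotient.eq ((Q.bdK p.1.1).comap (Q.cyK p.1.1 d).subtype)).1
          (hs p.1.1 (Submodule.Quotient.mk a)).symm :)
      · exact ((Submodule.Quotient.eq ((Q'.bdK p.1.2).comap (Q'.cyK p.1.2 d).subtype)).1
          (hs' p.1.2 (Submodule.Quotient.mk b)).symm :)

end Groth.L12.GrSegLib
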