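import Groth.Agent.L12.GrSegCls

/-!
# Connecting classes: cycles modulo torsion give local cohomology of the Segre product
-/

set_option autoImplicit false

universe u

open scoped TensorProduct
open DirectSum

namespace Groth.L12.GrSegLib

open Groth.L12.GrLCLib
open scoped KMod Groth.L12.GrLCLib.Asub

lemma mem_gam_of_injective {R : Type u} [CommRing R] {I : Ideal R} {X Y : Type u} [AddCommGroup X] [Module R X]
    [AddCommGroup Y] [Module R Y] (f : X →ₗ[R] Y) (hf : Function.Injective f) {x : X} (hx : f x ∈ GrLC.gam I Y) :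
    x ∈ GrLC.gam I X := by
  obtain ⟨n, hn⟩ := hx
  exact ⟨n, fun c hc => hf (by rw [map_smul, hn c hc, map_zero])⟩

variable {k : Type u} [Field k] {R : Type u} [CommRing R] [Algebra k R] {𝒜 : ℤ → Submodule k R} [GradedAlgebra 𝒜]
  {S : Type u} [CommRing S] [Algebra k S] {ℬ : ℤ → Submodule k S} [GradedAlgebra ℬ]
  {T : Type u} [CommRing T] [Algebra k T] {𝒯 : ℤ → Submodule k T} [GradedAlgebra 𝒯] {ψ : T →ₐ[k] R ⊗[k] S}
  {M : Type u} [AddCommGroup M] [Module R M] [Module k M] [IsScalarTower k R M]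
  {τ : Type u} [SetLike τ M] [AddSubgroupClass τ M] {ℳ : ℤ → τ} [DirectSum.Decomposition ℳ] [SetLike.GradedSMul 𝒜 ℳ]
  (E : GrLC.StarInjRes 𝒜 ℳ)
  {N : Type u} [AddCommGroup N] [Module S N] [Module k N] [IsScalarTower k S N]
  {τ' : Type u} [SetLike τ' N] [AddSubgroupClass τ' N] {𝒩 : ℤ → τ'} [DirectSum.Decomposition 𝒩] [SetLike.GradedSMul ℬ 𝒩]
  (E' : GrLC.StarInjRes ℬ 𝒩)
  (mR : HomogeneousIdeal 𝒜) (mS : HomogeneousIdeal ℬ)
  (hT : GrSeg.IsSegreRing 𝒜 ℬ 𝒯 ψ)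

/-- the total Segre product of two resolutions modulo torsion -/
noncomputable abbrev zq : GrLC.GMod.{u} 𝒯 := totZ ((resSeq E).tq mR) ((resSeq E').tq mS) hT

/-- cycles of a given level modulo torsion -/
noncomputable def cyc (n : ℕ) : Submodule T (zq E E' mR mS hT).carrier :=
  LinearMap.ker (LZ ((resSeq E).tq mR) ((resSeq E').tq mS) hT n - LinearMap.id) ⊓
    LinearMap.ker (DZ ((resSeq E).tq mR) ((resSeq E').tq mS) hT)

lemma mem_cyc {n : ℕ} {x : (zq E E' mR mS hT).carrier} : x ∈ cyc E E' mR mS hT n ↔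
    LZ ((resSeq E).tq mR) ((resSeq E').tq mS) hT n x = x ∧ DZ ((resSeq E).tq mR) ((resSeq E').tq mS) hT x = 0 := by
  rw [cyc, Submodule.mem_inf, LinearMap.mem_ker, LinearMap.mem_ker, LinearMap.sub_apply, sub_eq_zero]
  rfl

variable {P : Type u} [AddCommGroup P] [Module T P] [Module k P] [IsScalarTower k T P]
  {τQ : Type u} [SetLike τQ P] [AddSubgroupClass τQ P] {𝒬 : ℤ → τQ} [DirectSum.Decomposition 𝒬]
  [SetLike.GradedSMul 𝒯 𝒬] {φ : P →ₗ[k] M ⊗[k] N} (hP : GrSeg.IsSegreMod ψ ℳ 𝒩 𝒬 φ)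

/-- what dies in local cohomology -/
noncomputable def bd : ℕ → Submodule T (zq E E' mR mS hT).carrier
  | 0 => LinearMap.range (qZ (resSeq E) (resSeq E') mR mS hT ∘ₗ augZ E E' hT hP)
  | n + 1 => LinearMap.range (DZ ((resSeq E).tq mR) ((resSeq E').tq mS) hT ∘ₗ LZ ((resSeq E).tq mR) ((resSeq E').tq mS) hT n)

variable [Algebra.FiniteType k R] [Algebra.FiniteType k S]
  (hposR : ∀ n : ℤ, n < 0 → 𝒜 n = ⊥) (hposS : ∀ n : ℤ, n < 0 → ℬ n = ⊥)
  (h0R : 𝒜 0 = Submodule.span k {(1 : R)}) (h0S : ℬ 0 = Submodule.span k {(1 : S)})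
  (hmR : mR.toIdeal = Ideal.span (⋃ n ∈ Set.Ioi (0 : ℤ), (𝒜 n : Set R)))
  (hmS : mS.toIdeal = Ideal.span (⋃ n ∈ Set.Ioi (0 : ℤ), (ℬ n : Set S)))
  (mT : HomogeneousIdeal 𝒯) (hmT : mT.toIdeal = Ideal.span (⋃ n ∈ Set.Ioi (0 : ℤ), (𝒯 n : Set T)))

include hposR hmR hmS hmT

omit [SetLike.GradedSMul 𝒯 𝒬] in
/-- the torsion of the Segre product -/
theorem qZ_augZ_eq_zero (p : P) :
    qZ (resSeq E) (resSeq E') mR mS hT (augZ E E' hT hP p) = 0 ↔ p ∈ GrLC.gam mT.toIdeal P := by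
  rw [qZ_eq_zero (resSeq E) (resSeq E') mR mS hT hposR hmR hmS mT hmT]
  exact ⟨mem_gam_of_injective _ (augZ_injective E E' hT hP), gam_mono _⟩

include hP hposS h0R h0S in
/-- local cohomology of positive degree from cycles modulo torsion -/
theorem exists_delta (EP : GrLC.StarInjRes 𝒯 𝒬) (n : ℕ) :
    ∃ δ : cyc E E' mR mS hT n →ₗ[T] EP.H mT (n + 1), Function.Surjective δ ∧
      (∀ x, δ x = 0 ↔ x.1 ∈ bd E E' mR mS hT hP n) ∧
      ∀ (g : ℤ) (x : cyc E E' mR mS hT n), x.1 ∈ (zq E E' mR mS hT).gr g → δ x ∈ EP.Hgr mT (n + 1) g := by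
  haveI : IsNoetherianRing T := isNoetherian_segreMod 𝒜 ℬ 𝒜 ℬ 𝒯 𝒯 hT (isSegreMod_self 𝒜 ℬ 𝒯 hT)
  let A := acSeq E E' hT hP hposR hposS h0R h0S mR hmR mS hmS mT hmT
  obtain ⟨c, hcs, hck, hcg⟩ := A.exists_classMap (Asub.res EP) (n + 1)
  let q := qZ (resSeq E) (resSeq E') mR mS hT
  let D := DZ (resSeq E) (resSeq E') hT
  let Z := totZ (resSeq E) (resSeq E') hT
  have hq0 : ∀ z : Z.carrier, q z = 0 ↔ z ∈ GrLC.gam mT.toIdeal Z.carrier := fun z =>
    qZ_eq_zero (resSeq E) (resSeq E') mR mS hT hposR hmR hmS mT hmT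
  let W : Submodule T (levG E E' hT n).carrier := Submodule.comap (D ∘ₗ levI E E' hT n) (GrLC.gam mT.toIdeal Z.carrier)
  have hW : ∀ y : W, levD E E' hT n y.1 ∈ A.cocyc (n + 1) := fun y =>
    ⟨mem_gam_of_injective (levI E E' hT (n + 1)) (levI_injective E E' hT _) y.2,
      LinearMap.mem_ker.2 (levI_injective E E' hT (n + 1 + 1) ((DZ_DZ (resSeq E) (resSeq E') hT _).trans (map_zero _).symm))⟩
  let γ : W →ₗ[T] EP.H mT (n + 1) := c ∘ₗ LinearMap.codRestrict (A.cocyc (n + 1)) (levD E E' hT n ∘ₗ W.subtype) hW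
  have hsmem : ∀ y : W, q (levI E E' hT n y.1) ∈ cyc E E' mR mS hT n := fun y =>
    (mem_cyc E E' mR mS hT).2 ⟨by rw [← qZ_LZ, LZ_levI], by rw [← qZ_DZ]; exact (hq0 _).2 y.2⟩
  let s : W →ₗ[T] cyc E E' mR mS hT n := LinearMap.codRestrict _ (q ∘ₗ levI E E' hT n ∘ₗ W.subtype) hsmem
  have hlift : ∀ (x : cyc E E' mR mS hT n) (z : Z.carrier), q z = x.1 →
      ∃ y : W, levI E E' hT n y.1 = LZ (resSeq E) (resSeq E') hT n z ∧ s y = x := fun x z hz => by
    obtain ⟨h1, h2⟩ := (mem_cyc E E' mR mS hT).1 x.2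
    obtain ⟨y, hy⟩ := exists_levI E E' hT n (z := LZ (resSeq E) (resSeq E') hT n z) (by rw [LZ_LZ, if_pos rfl])
    have hqy : q (levI E E' hT n y) = x.1 := by rw [hy, qZ_LZ, hz, h1]
    refine ⟨⟨y, (hq0 _).1 ?_⟩, hy, Subtype.ext hqy⟩
    change q (D (levI E E' hT n y)) = 0
    rw [qZ_DZ, hqy, h2]
  have hss : Function.Surjective s := fun x => by
    obtain ⟨z, hz⟩ := qZ_surjective (resSeq E) (resSeq E') mR mS hT x.1
    obtain ⟨y, -, hy⟩ := hlift x z hz
    exact ⟨y, hy⟩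
  have hγ : ∀ y, γ y = 0 ↔ ∃ w, w ∈ GrLC.gam mT.toIdeal (levG E E' hT n).carrier ∧
      levD E E' hT n w = levD E E' hT n y.1 := fun y => (hck _).trans Iff.rfl
  have hker : LinearMap.ker s ≤ LinearMap.ker γ := fun y hy => (hγ y).2
    ⟨y.1, mem_gam_of_injective _ (levI_injective E E' hT n) ((hq0 _).1 (congrArg Subtype.val (LinearMap.mem_ker.1 hy))), rfl⟩
  let e := LinearMap.quotKerEquivOfSurjective s hss
  let δ : cyc E E' mR mS hT n →ₗ[T] EP.H mT (n + 1) := Submodule.liftQ (LinearMap.ker s) γ hker ∘ₗ e.symm.toLinearMap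
  have hδ : ∀ y, δ (s y) = γ y := fun y => by
    change Submodule.liftQ (LinearMap.ker s) γ hker (e.symm (s y)) = γ y
    rw [show e.symm (s y) = Submodule.Quotient.mk y from e.symm_apply_eq.2 rfl]
    rfl
  refine ⟨δ, fun x => ?_, fun x => ?_, fun g x hx => ?_⟩
  · obtain ⟨u, rfl⟩ := hcs x
    obtain ⟨v, hv⟩ := (A.exact_succ n).le u.2.2
    have hvW : v ∈ W := by
      have h1 := gam_mono (levI E E' hT (n + 1)) u.2.1
      rw [← hv] at h1
      exact h1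
    exact ⟨s ⟨v, hvW⟩, (hδ _).trans (congrArg c (Subtype.ext hv))⟩
  · obtain ⟨y, rfl⟩ := hss x
    rw [hδ, hγ]
    constructor
    · rintro ⟨w, hw, hwy⟩
      have hdiff : y.1 - w ∈ LinearMap.ker (levD E E' hT n) :=
        LinearMap.mem_ker.2 (by rw [map_sub, hwy, sub_self])
      have hq : q (levI E E' hT n (y.1 - w)) = q (levI E E' hT n y.1) := by
        rw [map_sub, map_sub, (hq0 _).2 (gam_mono (levI E E' hT n) hw), sub_zero]
      change q (levI E E' hT n y.1) ∈ _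
      rw [← hq]
      cases n with
      | zero =>
        obtain ⟨p, hp⟩ := A.exact_zero.le hdiff
        exact ⟨p, congrArg q (congrArg (levI E E' hT 0) hp)⟩
      | succ m =>
        obtain ⟨v, hv⟩ := (A.exact_succ m).le hdiff
        refine ⟨q (levI E E' hT m v), ?_⟩
        rw [← hv]
        change DZ _ _ hT (LZ _ _ hT m (q (levI E E' hT m v))) = q (D (levI E E' hT m v))
        rw [← qZ_LZ, LZ_levI, ← qZ_DZ]
    · intro h
      suffices h : ∃ v : (levG E E' hT n).carrier, levD E E' hT n v = 0 ∧ q (levI E E' hT n v) = q (levI E E' hT n y.1) by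
        obtain ⟨v, hv, hvy⟩ := h
        refine ⟨y.1 - v, mem_gam_of_injective _ (levI_injective E E' hT n) ((hq0 _).1 ?_), ?_⟩
        · rw [map_sub, map_sub, hvy, sub_self]
        · rw [map_sub, hv, sub_zero]
      cases n with
      | zero =>
        obtain ⟨p, hp⟩ := h
        obtain ⟨v, hv⟩ := exists_levI E E' hT 0 (LZ_augZ E E' hT hP p)
        exact ⟨v, levI_injective E E' hT 1 (by rw [levI_levD, hv, DZ_augZ, map_zero]), by rw [hv]; exact hp⟩
      | succ m =>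
        obtain ⟨u, hu⟩ := h
        obtain ⟨u, rfl⟩ := qZ_surjective (resSeq E) (resSeq E') mR mS hT u
        obtain ⟨v, hv⟩ := exists_levI E E' hT (m + 1) (z := D (LZ (resSeq E) (resSeq E') hT m u))
          (by rw [LZ_succ_DZ, LZ_LZ, if_pos rfl])
        refine ⟨v, levI_injective E E' hT (m + 1 + 1) (by rw [levI_levD, hv, DZ_DZ, map_zero]), ?_⟩
        rw [hv, qZ_DZ, qZ_LZ]
        exact hu
  · obtain ⟨z, hz⟩ := qZ_surjective (resSeq E) (resSeq E') mR mS hT x.1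
    have hz' : q (cp Z.gr g z) = x.1 := by
      rw [show q (cp Z.gr g z) = cp (zq E E' mR mS hT).gr g (q z) from
        (cp_map Z.gr (zq E E' mR mS hT).gr q.toAddMonoidHom (qZ_grHom (resSeq E) (resSeq E') mR mS hT) g z).symm, hz]
      exact cp_same _ hx
    obtain ⟨y, hy, hs⟩ := hlift x _ hz'
    rw [← hs, hδ]
    refine hcg g _ ?_
    change D (levI E E' hT n y.1) ∈ Z.gr g
    rw [hy]
    exact DZ_grHom (resSeq E) (resSeq E') hT g _ (LZ_grHom (resSeq E) (resSeq E') hT n g _ (cp_mem _ g z))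

end Groth.L12.GrSegLib
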