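import Groth.Agent.L12.GrSegHom

/-!
# Dimensions of the local cohomology of Segre products
-/

set_option autoImplicit false

universe u

open scoped TensorProduct
open DirectSum

namespace Groth.L12.GrSegLib

open Groth.L12.GrLCLib
open scoped KMod

variable {k : Type u} [Field k]
  {R : Type u} [CommRing R] [Algebra k R] {𝒜 : ℤ → Submodule k R} [GradedAlgebra 𝒜]
  {S : Type u} [CommRing S] [Algebra k S] {ℬ : ℤ → Submodule k S} [GradedAlgebra ℬ]
  {T : Type u} [CommRing T] [Algebra k T] {𝒯 : ℤ → Submodule k T} [GradedAlgebra 𝒯] {ψ : T →ₐ[k] R ⊗[k] S}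

/-- the degree-zero part of a Segre ring -/
theorem seg_deg0 (hT : GrSeg.IsSegreRing 𝒜 ℬ 𝒯 ψ) (h0R : 𝒜 0 = Submodule.span k {(1 : R)})
    (h0S : ℬ 0 = Submodule.span k {(1 : S)}) : 𝒯 0 = Submodule.span k {(1 : T)} := by
  refine le_antisymm (fun t ht => ?_) (Submodule.span_le.2 (Set.singleton_subset_iff.2 (SetLike.one_mem_graded 𝒯)))
  have h : ψ t ∈ Submodule.span k {(1 : R ⊗[k] S)} := by
    have h1 : ψ t ∈ GrSeg.segrePiece k 𝒜 ℬ 0 := (hT.2 0).le ⟨t, ht, rfl⟩
    generalize ψ t = ξ at h1 ⊢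
    induction h1 using Submodule.span_induction with
    | mem ξ hξ =>
      obtain ⟨a, ha, b, hb, rfl⟩ := hξ
      obtain ⟨c, rfl⟩ := Submodule.mem_span_singleton.1 (h0R.le ha)
      obtain ⟨e, rfl⟩ := Submodule.mem_span_singleton.1 (h0S.le hb)
      rw [TensorProduct.tmul_smul, ← TensorProduct.smul_tmul']
      exact Submodule.smul_mem _ _ (Submodule.smul_mem _ _ (Submodule.subset_span rfl))
    | zero => exact zero_mem _
    | add a b _ _ ha hb => exact add_mem ha hb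
    | smul c a _ ha => exact Submodule.smul_mem _ c ha
  obtain ⟨c, hc⟩ := Submodule.mem_span_singleton.1 h
  exact Submodule.mem_span_singleton.2 ⟨c, hT.1 (by rw [map_smul, map_one, hc])⟩

theorem seg_nontrivial [Nontrivial R] [Nontrivial S] (ψ : T →ₐ[k] R ⊗[k] S) : Nontrivial T := by
  haveI : Nontrivial (R ⊗[k] S) := by
    haveI := Module.Free.of_divisionRing k R
    exact Function.Injective.nontrivial (f := fun s : S => (1 : R) ⊗ₜ[k] s)
      (Algebra.TensorProduct.includeRight_injective (algebraMap k R).injective)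
  exact ψ.toRingHom.domain_nontrivial

variable
  {M : Type u} [AddCommGroup M] [Module R M] [Module k M] [IsScalarTower k R M]
  {τ : Type u} [SetLike τ M] [AddSubgroupClass τ M] {ℳ : ℤ → τ} [DirectSum.Decomposition ℳ] [SetLike.GradedSMul 𝒜 ℳ]
  {N : Type u} [AddCommGroup N] [Module S N] [Module k N] [IsScalarTower k S N]
  {τ' : Type u} [SetLike τ' N] [AddSubgroupClass τ' N] {𝒩 : ℤ → τ'} [DirectSum.Decomposition 𝒩] [SetLike.GradedSMul ℬ 𝒩]
  {P : Type u} [AddCommGroup P] [Module T P] [Module k P] [IsScalarTower k T P]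
  {τQ : Type u} [SetLike τQ P] [AddSubgroupClass τQ P] {𝒬 : ℤ → τQ} [DirectSum.Decomposition 𝒬]
  [SetLike.GradedSMul 𝒯 𝒬] {φ : P →ₗ[k] M ⊗[k] N}
  (hP : GrSeg.IsSegreMod ψ ℳ 𝒩 𝒬 φ) [Algebra.FiniteType k R] [Algebra.FiniteType k S]
  (hT : GrSeg.IsSegreRing 𝒜 ℬ 𝒯 ψ)
  (hposR : ∀ n : ℤ, n < 0 → 𝒜 n = ⊥) (hposS : ∀ n : ℤ, n < 0 → ℬ n = ⊥)
  (h0R : 𝒜 0 = Submodule.span k {(1 : R)}) (h0S : ℬ 0 = Submodule.span k {(1 : S)})
  {mR : HomogeneousIdeal 𝒜} (hmR : mR.toIdeal = Ideal.span (⋃ n ∈ Set.Ioi (0 : ℤ), (𝒜 n : Set R)))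
  {mS : HomogeneousIdeal ℬ} (hmS : mS.toIdeal = Ideal.span (⋃ n ∈ Set.Ioi (0 : ℤ), (ℬ n : Set S)))
  {mT : HomogeneousIdeal 𝒯} (hmT : mT.toIdeal = Ideal.span (⋃ n ∈ Set.Ioi (0 : ℤ), (𝒯 n : Set T)))
  (EM : GrLC.StarInjRes 𝒜 ℳ) (EN : GrLC.StarInjRes ℬ 𝒩) (EP : GrLC.StarInjRes 𝒯 𝒬)

include hP hT hposR hposS h0R h0S hmR hmS hmT

/-- the Künneth formula for a Segre product when low local cohomology vanishes -/
theorem kunneth_formula [Module.Finite R M] [Module.Finite S N] (d : ℤ)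
    (hM : ∀ q ≤ 1, Hk EM mR q d = ⊥) (hN : ∀ q ≤ 1, Hk EN mS q d = ⊥) (q : ℕ) :
    Module.finrank k (Hk EP mT q d) =
      Module.finrank k (pieceK 𝒜 ℳ d) * Module.finrank k (Hk EN mS q d) +
      Module.finrank k (Hk EM mR q d) * Module.finrank k (pieceK ℬ 𝒩 d) +
      (Finset.range (q + 2)).sum (fun i => Module.finrank k (Hk EM mR i d) * Module.finrank k (Hk EN mS (q + 1 - i) d)) := by
  choose r hr using fun i d => ((resSeq EM).tq mR).exists_proj i d
  choose r' hr' using fun i d => ((resSeq EN).tq mS).exists_proj i d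
  haveI := finite_pieceK (𝒜 := 𝒜) ℳ h0R d
  haveI := finite_pieceK (𝒜 := ℬ) 𝒩 h0S d
  have hM0 : ∀ q ≤ 1, Module.finrank k (Hk EM mR q d) = 0 := fun q hq => by rw [hM q hq, finrank_bot]
  have hN0 : ∀ q ≤ 1, Module.finrank k (Hk EN mS q d) = 0 := fun q hq => by rw [hN q hq, finrank_bot]
  have hu := finrank_range_augQ EM mR hr d
  have hu' := finrank_range_augQ EN mS hr' d
  have hg := finrank_G1_zero EM mR hr h0R hmR d
  have hg' := finrank_G1_zero EN mS hr' h0S hmS d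
  rw [hM0 0 zero_le_one, add_zero] at hu
  rw [hN0 0 zero_le_one, add_zero] at hu'
  rw [hM0 1 le_rfl, add_zero, hu] at hg
  rw [hN0 1 le_rfl, add_zero, hu'] at hg'
  obtain ⟨h1, h0⟩ := finrank_Hk_low hP hT hposR hposS h0R h0S hmR hmS hmT EM EN EP d hr hr'
  rw [hu, hu', hg, hg'] at h1
  rw [hu, hu'] at h0
  have hsum : ∀ q : ℕ, q ≤ 1 → (Finset.range (q + 2)).sum
      (fun i => Module.finrank k (Hk EM mR i d) * Module.finrank k (Hk EN mS (q + 1 - i) d)) = 0 := fun q hq =>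
    Finset.sum_eq_zero fun i _ => by
      by_cases hi : i ≤ 1
      · rw [hM0 i hi, zero_mul]
      · rw [hN0 (q + 1 - i) (by omega), mul_zero]
  match q with
  | 0 => rw [hsum 0 zero_le_one, hM0 0 zero_le_one, hN0 0 zero_le_one]; omega
  | 1 => rw [hsum 1 le_rfl, hM0 1 le_rfl, hN0 1 le_rfl]; omega
  | n + 2 =>
    have hgs : ∀ i, Module.finrank k (G1 EM mR (i + 1) d) = Module.finrank k (Hk EM mR (i + 2) d) := fun i =>
      (nonempty_G1_succ EM mR i d).some.finrank_eq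
    have hgs' : ∀ i, Module.finrank k (G1 EN mS (i + 1) d) = Module.finrank k (Hk EN mS (i + 2) d) := fun i =>
      (nonempty_G1_succ EN mS i d).some.finrank_eq
    rw [finrank_Hk_succ_succ hP hT hposR hposS h0R h0S hmR hmS hmT EM EN EP n d,
      Finset.Nat.sum_antidiagonal_eq_sum_range_succ
        (fun i j => Module.finrank k (G1 EM mR i d) * Module.finrank k (G1 EN mS j d)),
      Finset.sum_range_succ, Finset.sum_range_succ', Finset.sum_range_succ' _ (n + 2 + 1), Finset.sum_range_succ' _ (n + 2),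
      Finset.sum_range_succ _ (n + 1), Finset.sum_range_succ _ n]
    simp only [Nat.sub_zero, Nat.sub_self, hgs, hg, hg', hgs', hM0 0 zero_le_one, hM0 1 le_rfl, zero_add, zero_mul, add_zero,
      hN0 (n + 2 + 1 - (n + 1 + 1 + 1)) (by omega), hN0 (n + 2 + 1 - (n + 1 + 1)) (by omega), mul_zero]
    have : ∀ i ∈ Finset.range n, Module.finrank k (Hk EM mR (i + 2) d) * Module.finrank k (G1 EN mS (n + 1 - (i + 1)) d) =
        Module.finrank k (Hk EM mR (i + 1 + 1) d) * Module.finrank k (Hk EN mS (n + 2 + 1 - (i + 1 + 1)) d) := fun i hi => by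
      rw [Finset.mem_range] at hi
      rw [show n + 1 - (i + 1) = (n - i - 1) + 1 by omega, hgs', show n + 2 + 1 - (i + 1 + 1) = n - i - 1 + 2 by omega]
    rw [Finset.sum_congr rfl this, show n + 1 - (n + 1) = 0 from Nat.sub_self _, hg']
    abel

end Groth.L12.GrSegLib
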