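import Groth.Agent.L12.GrSegOneDim
import Groth.Agent.L12.GrSegDelta

/-!
# Local cohomology of Segre products, degree by degree
-/

set_option autoImplicit false

universe u

open scoped TensorProduct
open DirectSum

namespace Groth.L12.GrSegLib

open Groth.L12.GrLCLib
open scoped KMod Groth.L12.GrLCLib.Asub

variable {k : Type u} [Field k]

/-- the range of a tensor product of maps -/
theorem finrank_range_map {A B C D : Type u} [AddCommGroup A] [Module k A] [AddCommGroup B] [Module k B]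
    [AddCommGroup C] [Module k C] [AddCommGroup D] [Module k D] (f : A →ₗ[k] C) (g : B →ₗ[k] D) :
    Module.finrank k (LinearMap.range (TensorProduct.map f g)) =
      Module.finrank k (LinearMap.range f) * Module.finrank k (LinearMap.range g) := by
  have h : TensorProduct.map f g = TensorProduct.map (LinearMap.range f).subtype (LinearMap.range g).subtype ∘ₗ
      TensorProduct.map f.rangeRestrict g.rangeRestrict := TensorProduct.ext' fun _ _ => rfl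
  have hs : Function.Surjective (TensorProduct.map f.rangeRestrict g.rangeRestrict) :=
    TensorProduct.map_surjective (hg := f.surjective_rangeRestrict) (hg' := g.surjective_rangeRestrict)
  have hi : Function.Injective (TensorProduct.map (LinearMap.range f).subtype (LinearMap.range g).subtype) := by
    rw [← LinearMap.lTensor_comp_rTensor, LinearMap.coe_comp]
    refine Function.Injective.comp ?_ ?_
    · exact Module.Flat.lTensor_preserves_injective_linearMap (LinearMap.range g).subtype (Submodule.injective_subtype _)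
    · exact Module.Flat.rTensor_preserves_injective_linearMap (LinearMap.range f).subtype (Submodule.injective_subtype _)
  rw [h, LinearMap.range_comp_of_range_eq_top _ (LinearMap.range_eq_top.2 hs), ← (LinearEquiv.ofInjective _ hi).finrank_eq,
    Module.finrank_tensorProduct]

variable {R : Type u} [CommRing R] [Algebra k R] {𝒜 : ℤ → Submodule k R} [GradedAlgebra 𝒜]
  {S : Type u} [CommRing S] [Algebra k S] {ℬ : ℤ → Submodule k S} [GradedAlgebra ℬ]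
  {T : Type u} [CommRing T] [Algebra k T] {𝒯 : ℤ → Submodule k T} [GradedAlgebra 𝒯] {ψ : T →ₐ[k] R ⊗[k] S}
  {M : Type u} [AddCommGroup M] [Module R M] [Module k M] [IsScalarTower k R M]
  {τ : Type u} [SetLike τ M] [AddSubgroupClass τ M] {ℳ : ℤ → τ} [DirectSum.Decomposition ℳ] [SetLike.GradedSMul 𝒜 ℳ]
  {N : Type u} [AddCommGroup N] [Module S N] [Module k N] [IsScalarTower k S N]
  {τ' : Type u} [SetLike τ' N] [AddSubgroupClass τ' N] {𝒩 : ℤ → τ'} [DirectSum.Decomposition 𝒩] [SetLike.GradedSMul ℬ 𝒩]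
  {P : Type u} [AddCommGroup P] [Module T P] [Module k P] [IsScalarTower k T P]
  {τQ : Type u} [SetLike τQ P] [AddSubgroupClass τQ P] {𝒬 : ℤ → τQ} [DirectSum.Decomposition 𝒬]
  [SetLike.GradedSMul 𝒯 𝒬] {φ : P →ₗ[k] M ⊗[k] N}

/-- a piece of a Segre product -/
theorem finrank_seg_piece (hP : GrSeg.IsSegreMod ψ ℳ 𝒩 𝒬 φ) (d : ℤ) :
    Module.finrank k (pieceK 𝒯 𝒬 d) = Module.finrank k (pieceK 𝒜 ℳ d) * Module.finrank k (pieceK ℬ 𝒩 d) := by
  let L : pieceK 𝒯 𝒬 d →ₗ[k] M ⊗[k] N := φ ∘ₗ (pieceK 𝒯 𝒬 d).subtype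
  have hL : LinearMap.range L = LinearMap.range (bproj 𝒜 ℬ ℳ 𝒩 d) := by
    refine le_antisymm ?_ ?_
    · rintro _ ⟨p, rfl⟩
      exact ⟨φ p.1, bproj_of_mem 𝒜 ℬ ℳ 𝒩 (seg_mem_piece ℳ 𝒩 hP ((mem_pieceK 𝒬).1 p.2))⟩
    · rintro _ ⟨z, rfl⟩
      obtain ⟨p, hp, hpz⟩ := seg_exists ℳ 𝒩 hP (bproj_mem 𝒜 ℬ ℳ 𝒩 d z)
      exact ⟨⟨p, (mem_pieceK 𝒬).2 hp⟩, hpz⟩
  have hLi : Function.Injective L := hP.injective.comp Subtype.val_injective
  rw [(LinearEquiv.ofInjective L hLi).finrank_eq, hL]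
  exact finrank_range_map _ _

theorem finite_seg_piece [Algebra.FiniteType k R] [Algebra.FiniteType k S] [Module.Finite R M] [Module.Finite S N]
    (h0R : 𝒜 0 = Submodule.span k {(1 : R)}) (h0S : ℬ 0 = Submodule.span k {(1 : S)})
    (hP : GrSeg.IsSegreMod ψ ℳ 𝒩 𝒬 φ) (d : ℤ) : Module.Finite k (pieceK 𝒯 𝒬 d) := by
  haveI := finite_pieceK (𝒜 := 𝒜) ℳ h0R d
  haveI := finite_pieceK (𝒜 := ℬ) 𝒩 h0S d
  let L : pieceK 𝒜 ℳ d ⊗[k] pieceK ℬ 𝒩 d →ₗ[k] M ⊗[k] N :=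
    TensorProduct.map (pieceK 𝒜 ℳ d).subtype (pieceK ℬ 𝒩 d).subtype
  have hmem : ∀ p : pieceK 𝒯 𝒬 d, φ p.1 ∈ LinearMap.range L := fun p => by
    have h := seg_mem_piece ℳ 𝒩 hP ((mem_pieceK 𝒬).1 p.2)
    generalize φ p.1 = z at h ⊢
    induction h using Submodule.span_induction with
    | mem z hz =>
      obtain ⟨x, hx, y, hy, rfl⟩ := hz
      exact ⟨(⟨x, (mem_pieceK ℳ).2 hx⟩ : pieceK 𝒜 ℳ d) ⊗ₜ[k] (⟨y, (mem_pieceK 𝒩).2 hy⟩ : pieceK ℬ 𝒩 d), rfl⟩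
    | zero => exact zero_mem _
    | add a b _ _ ha hb => exact add_mem ha hb
    | smul c a _ ha => exact Submodule.smul_mem _ c ha
  exact Module.Finite.of_injective (LinearMap.codRestrict (LinearMap.range L) (φ ∘ₗ (pieceK 𝒯 𝒬 d).subtype) hmem)
    fun a b h => Subtype.ext (hP.injective (congrArg Subtype.val h))

variable (hP : GrSeg.IsSegreMod ψ ℳ 𝒩 𝒬 φ) [Algebra.FiniteType k R] [Algebra.FiniteType k S]
  (hT : GrSeg.IsSegreRing 𝒜 ℬ 𝒯 ψ)
  (hposR : ∀ n : ℤ, n < 0 → 𝒜 n = ⊥) (hposS : ∀ n : ℤ, n < 0 → ℬ n = ⊥)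
  (h0R : 𝒜 0 = Submodule.span k {(1 : R)}) (h0S : ℬ 0 = Submodule.span k {(1 : S)})
  {mR : HomogeneousIdeal 𝒜} (hmR : mR.toIdeal = Ideal.span (⋃ n ∈ Set.Ioi (0 : ℤ), (𝒜 n : Set R)))
  {mS : HomogeneousIdeal ℬ} (hmS : mS.toIdeal = Ideal.span (⋃ n ∈ Set.Ioi (0 : ℤ), (ℬ n : Set S)))
  {mT : HomogeneousIdeal 𝒯} (hmT : mT.toIdeal = Ideal.span (⋃ n ∈ Set.Ioi (0 : ℤ), (𝒯 n : Set T)))
  (EM : GrLC.StarInjRes 𝒜 ℳ) (EN : GrLC.StarInjRes ℬ 𝒩) (EP : GrLC.StarInjRes 𝒯 𝒬)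

include hP hT hposR hposS h0R h0S hmR hmS hmT

/-- cycles in one degree -/
theorem exists_FD (n : ℕ) (d : ℤ)
    {r : ∀ i d, (((resSeq EM).tq mR).X i).carrier →ₗ[k] G1 EM mR i d}
    (hr : ∀ i d, (∀ x ∈ ((resSeq EM).tq mR).bdK i, r i d x = 0) ∧
      (∀ x : ((resSeq EM).tq mR).cyK i d, r i d x.1 = Submodule.Quotient.mk x) ∧
      ∀ x, r i d (cp (((resSeq EM).tq mR).X i).gr d x) = r i d x)
    {r' : ∀ i d, (((resSeq EN).tq mS).X i).carrier →ₗ[k] G1 EN mS i d}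
    (hr' : ∀ i d, (∀ x ∈ ((resSeq EN).tq mS).bdK i, r' i d x = 0) ∧
      (∀ x : ((resSeq EN).tq mS).cyK i d, r' i d x.1 = Submodule.Quotient.mk x) ∧
      ∀ x, r' i d (cp (((resSeq EN).tq mS).X i).gr d x) = r' i d x) :
    ∃ (C : Submodule k (zq EM EN mR mS hT).carrier) (F : C →ₗ[k] KT ((resSeq EM).tq mR) ((resSeq EN).tq mS) n d)
      (G : C →ₗ[k] Hk EP mT (n + 1) d),
      Function.Surjective F ∧ Function.Surjective G ∧
      (∀ x, F x = 0 ↔ ∃ w, totInc _ _ hT x.1 = Dk _ _ w) ∧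
      (∀ x, G x = 0 ↔ x.1 ∈ bd EM EN mR mS hT hP n) ∧
      (∀ x, F x = theta _ _ r r' n d (totInc _ _ hT x.1)) ∧
      ∀ x, x ∈ C ↔ x ∈ cyc EM EN mR mS hT n ∧ x ∈ (zq EM EN mR mS hT).gr d := by
  obtain ⟨δ, hδs, hδk, hδg⟩ := exists_delta EM EN mR mS hT hP hposR hposS h0R h0S hmR hmS mT hmT EP n
  let Qb := (resSeq EM).tq mR
  let Qb' := (resSeq EN).tq mS
  let Zb := zq EM EN mR mS hT
  let C : Submodule k Zb.carrier := (cyc EM EN mR mS hT n).restrictScalars k ⊓ pieceK 𝒯 Zb.gr d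
  have hC : ∀ x, x ∈ C ↔ x ∈ cyc EM EN mR mS hT n ∧ x ∈ Zb.gr d := fun x =>
    ⟨fun h => ⟨h.1, (mem_pieceK Zb.gr).1 h.2⟩, fun h => ⟨h.1, (mem_pieceK Zb.gr).2 h.2⟩⟩
  have hinc : ∀ x : C, totInc Qb Qb' hT x.1 ∈ cyT Qb Qb' n d := fun x => by
    obtain ⟨h1, h2⟩ := (mem_cyc EM EN mR mS hT).1 x.2.1
    refine (mem_cyT _ _).2 ⟨⟨?_, ?_⟩, ?_⟩
    · exact bproj_of_mem 𝒜 ℬ _ _ (seg_mem_piece _ _ (totZ_isSegreMod Qb Qb' hT) ((hC _).1 x.2).2)
    · rw [← LZ_spec, h1]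
    · rw [← DZ_spec, h2, map_zero]
  let F : C →ₗ[k] KT Qb Qb' n d := theta Qb Qb' r r' n d ∘ₗ totInc Qb Qb' hT ∘ₗ C.subtype
  let G : C →ₗ[k] Hk EP mT (n + 1) d :=
    { toFun := fun x => ⟨δ ⟨x.1, x.2.1⟩, hδg d ⟨x.1, x.2.1⟩ ((hC _).1 x.2).2⟩
      map_add' := fun x y => Subtype.ext (map_add δ ⟨x.1, x.2.1⟩ ⟨y.1, y.2.1⟩)
      map_smul' := fun c x => Subtype.ext ((δ.restrictScalars k).map_smul c ⟨x.1, x.2.1⟩) }
  have hid : GrLC.IsGrHom Zb.gr Zb.gr (LinearMap.id : Zb.carrier →ₗ[T] Zb.carrier) := fun _ _ h => h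
  have hcyc : (cyc EM EN mR mS hT n).IsHomogeneous Zb.gr := fun i x hx =>
    ⟨ker_isHomogeneous Zb.gr Zb.gr (f := LZ Qb Qb' hT n - LinearMap.id)
      (fun g y hy => sub_mem (LZ_grHom Qb Qb' hT n g y hy) hy) i hx.1,
     ker_isHomogeneous Zb.gr Zb.gr (DZ_grHom Qb Qb' hT) i hx.2⟩
  refine ⟨C, F, G, fun v => ?_, fun y => ?_, fun x => ⟨fun h => ?_, fun ⟨w, hw⟩ => ?_⟩,
    fun x => ⟨fun h => (hδk _).1 (congrArg Subtype.val h), fun h => Subtype.ext ((hδk _).2 h)⟩, fun x => rfl, hC⟩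
  · obtain ⟨z, hz, hzv⟩ := exists_cyT_theta Qb Qb' hr hr' n d v
    obtain ⟨⟨hzb, hzl⟩, hzd⟩ := (mem_cyT _ _).1 hz
    obtain ⟨p, hp, hpz⟩ := seg_exists Qb.tot.gr Qb'.tot.gr (totZ_isSegreMod Qb Qb' hT)
      (hzb ▸ bproj_mem 𝒜 ℬ Qb.tot.gr Qb'.tot.gr d z)
    refine ⟨⟨p, (hC p).2 ⟨(mem_cyc EM EN mR mS hT).2 ⟨?_, ?_⟩, hp⟩⟩, ?_⟩
    · exact (totZ_isSegreMod Qb Qb' hT).injective (by rw [LZ_spec]; exact (congrArg _ hpz).trans (hzl.trans hpz.symm))
    · exact (totZ_isSegreMod Qb Qb' hT).injective (by rw [DZ_spec, map_zero]; exact (congrArg _ hpz).trans hzd)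
    · exact (congrArg (theta Qb Qb' r r' n d) hpz).trans hzv
  · obtain ⟨x, hx, hxy⟩ := exists_homog_preimage Zb.gr (EP.Hgr mT (n + 1)) (Hgr_isInternal mT EP (n + 1)) _ hcyc δ hδg hδs y.2
    exact ⟨⟨x.1, (hC _).2 ⟨x.2, hx⟩⟩, Subtype.ext hxy⟩
  · obtain ⟨w, hw⟩ := eq_Dk_of_theta_eq_zero Qb Qb' hr hr' n d (hinc x) h
    exact ⟨w, hw.symm⟩
  · change theta Qb Qb' r r' n d (totInc Qb Qb' hT x.1) = 0
    rw [hw, theta_Dk Qb Qb' hr hr']

/-- positive levels -/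
theorem nonempty_KT_succ (n : ℕ) (d : ℤ) :
    Nonempty (KT ((resSeq EM).tq mR) ((resSeq EN).tq mS) (n + 1) d ≃ₗ[k] Hk EP mT (n + 2) d) := by
  choose r hr using fun i d => ((resSeq EM).tq mR).exists_proj i d
  choose r' hr' using fun i d => ((resSeq EN).tq mS).exists_proj i d
  obtain ⟨C, F, G, hFs, hGs, hFk, hGk, -, hC⟩ :=
    exists_FD hP hT hposR hposS h0R h0S hmR hmS hmT EM EN EP (n + 1) d hr hr'
  refine nonempty_equiv_of_ker_eq (W := KT ((resSeq EM).tq mR) ((resSeq EN).tq mS) (n + 1) d) F G hFs hGs ?_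
  ext x
  rw [LinearMap.mem_ker, LinearMap.mem_ker, hFk, hGk]
  constructor
  · rintro ⟨w, hw⟩
    obtain ⟨h1, h2⟩ := (mem_cyc EM EN mR mS hT).1 ((hC _).1 x.2).1
    have hop := (isSegOp_Lk ((resSeq EM).tq mR) ((resSeq EN).tq mS) n).comp (isSegOp_Dk ((resSeq EM).tq mR) ((resSeq EN).tq mS))
    obtain ⟨p, hp⟩ := exists_segOp_eq (totZ_isSegreMod _ _ hT) (totZ_isSegreMod _ _ hT) hop x.1 (z := w) (by
      change Dk _ _ (Lk _ _ n w) = totInc _ _ hT x.1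
      rw [← Lk_succ_Dk, ← hw, ← LZ_spec, h1])
    refine ⟨p, (totZ_isSegreMod ((resSeq EM).tq mR) ((resSeq EN).tq mS) hT).injective ?_⟩
    change totInc _ _ hT (DZ _ _ hT (LZ _ _ hT n p)) = totInc _ _ hT x.1
    rw [DZ_spec, LZ_spec, ← hp]
    exact (segOp_spec _ _ hop p).symm
  · rintro ⟨u, hu⟩
    refine ⟨Lk _ _ n (totInc _ _ hT u), ?_⟩
    rw [← hu]
    change totInc _ _ hT (DZ _ _ hT (LZ _ _ hT n u)) = _
    rw [DZ_spec, LZ_spec]

/-- local cohomology in degrees at least two -/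
theorem finrank_Hk_succ_succ [Module.Finite R M] [Module.Finite S N] (n : ℕ) (d : ℤ) :
    Module.finrank k (Hk EP mT (n + 2) d) = ∑ p ∈ Finset.HasAntidiagonal.antidiagonal (n + 1),
      Module.finrank k (G1 EM mR p.1 d) * Module.finrank k (G1 EN mS p.2 d) := by
  choose r hr using fun i d => ((resSeq EM).tq mR).exists_proj i d
  choose r' hr' using fun i d => ((resSeq EN).tq mS).exists_proj i d
  haveI : ∀ i, Module.Finite k (G1 EM mR i d) := fun i => by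
    cases i with
    | zero => exact finite_G1_zero EM mR hr h0R hmR d
    | succ i => exact finite_G1_succ EM mR h0R hmR i d
  haveI : ∀ i, Module.Finite k (G1 EN mS i d) := fun i => by
    cases i with
    | zero => exact finite_G1_zero EN mS hr' h0S hmS d
    | succ i => exact finite_G1_succ EN mS h0S hmS i d
  obtain ⟨e⟩ := nonempty_KT_succ hP hT hposR hposS h0R h0S hmR hmS hmT EM EN EP n d
  rw [← e.finrank_eq, Module.finrank_pi_fintype]
  simp only [Module.finrank_tensorProduct]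
  exact Finset.sum_coe_sort (Finset.HasAntidiagonal.antidiagonal (n + 1))
    (fun p => Module.finrank k (G1 EM mR p.1 d) * Module.finrank k (G1 EN mS p.2 d))

/-- local cohomology in degrees zero and one -/
theorem finrank_Hk_low [Module.Finite R M] [Module.Finite S N] (d : ℤ)
    {r : ∀ i d, (((resSeq EM).tq mR).X i).carrier →ₗ[k] G1 EM mR i d}
    (hr : ∀ i d, (∀ x ∈ ((resSeq EM).tq mR).bdK i, r i d x = 0) ∧
      (∀ x : ((resSeq EM).tq mR).cyK i d, r i d x.1 = Submodule.Quotient.mk x) ∧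
      ∀ x, r i d (cp (((resSeq EM).tq mR).X i).gr d x) = r i d x)
    {r' : ∀ i d, (((resSeq EN).tq mS).X i).carrier →ₗ[k] G1 EN mS i d}
    (hr' : ∀ i d, (∀ x ∈ ((resSeq EN).tq mS).bdK i, r' i d x = 0) ∧
      (∀ x : ((resSeq EN).tq mS).cyK i d, r' i d x.1 = Submodule.Quotient.mk x) ∧
      ∀ x, r' i d (cp (((resSeq EN).tq mS).X i).gr d x) = r' i d x) :
    Module.finrank k (Hk EP mT 1 d) +
        Module.finrank k (LinearMap.range (r 0 d ∘ₗ augQ EM mR)) * Module.finrank k (LinearMap.range (r' 0 d ∘ₗ augQ EN mS)) =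
      Module.finrank k (G1 EM mR 0 d) * Module.finrank k (G1 EN mS 0 d) ∧
    Module.finrank k (Hk EP mT 0 d) +
        Module.finrank k (LinearMap.range (r 0 d ∘ₗ augQ EM mR)) * Module.finrank k (LinearMap.range (r' 0 d ∘ₗ augQ EN mS)) =
      Module.finrank k (pieceK 𝒜 ℳ d) * Module.finrank k (pieceK ℬ 𝒩 d) := by
  obtain ⟨C, F, G, hFs, hGs, hFk, hGk, hF, hC⟩ := exists_FD hP hT hposR hposS h0R h0S hmR hmS hmT EM EN EP 0 d hr hr'
  let Qb := (resSeq EM).tq mR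
  let Qb' := (resSeq EN).tq mS
  haveI := finite_G1_zero EM mR hr h0R hmR d
  haveI := finite_G1_zero EN mS hr' h0S hmS d
  have hFi : Function.Injective F := (injective_iff_map_eq_zero F).2 fun x hx => Subtype.ext (by
    obtain ⟨w, hw⟩ := (hFk x).1 hx
    refine (totZ_isSegreMod Qb Qb' hT).injective ?_
    obtain ⟨h1, -⟩ := (mem_cyc EM EN mR mS hT).1 ((hC _).1 x.2).1
    rw [← h1, LZ_spec, hw, Lk_zero_Dk]
    exact (map_zero (totInc Qb Qb' hT)).symm)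
  let i₀ : {p : ℕ × ℕ // p ∈ Finset.HasAntidiagonal.antidiagonal 0} := ⟨(0, 0), by simp⟩
  have huniq : ∀ p : {p : ℕ × ℕ // p ∈ Finset.HasAntidiagonal.antidiagonal 0}, p = i₀ := fun p => Subtype.ext (by
    have h := Finset.mem_antidiagonal.1 p.2; exact Prod.ext (show p.1.1 = 0 by omega) (show p.1.2 = 0 by omega))
  let e₀ : KT Qb Qb' 0 d →ₗ[k] G1 EM mR 0 d ⊗[k] G1 EN mS 0 d := LinearMap.proj i₀
  have he₀ : Function.Bijective e₀ := ⟨fun v w h => funext fun p => by rw [huniq p]; exact h,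
    fun x => ⟨fun p => (huniq p).symm ▸ x, rfl⟩⟩
  let eC : C ≃ₗ[k] G1 EM mR 0 d ⊗[k] G1 EN mS 0 d := LinearEquiv.ofBijective (e₀ ∘ₗ F) (he₀.comp ⟨hFi, hFs⟩)
  haveI : Module.Finite k C := Module.Finite.equiv eC.symm
  haveI := finite_seg_piece (𝒯 := 𝒯) h0R h0S hP d
  have hmemC : ∀ p : pieceK 𝒯 𝒬 d,
      qZ (resSeq EM) (resSeq EN) mR mS hT (augZ EM EN hT hP p.1) ∈ C := fun p => (hC _).2
    ⟨(mem_cyc EM EN mR mS hT).2 ⟨by rw [← qZ_LZ, LZ_augZ], by rw [← qZ_DZ, DZ_augZ, map_zero]⟩,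
      qZ_grHom (resSeq EM) (resSeq EN) mR mS hT d _ (augZ_grHom EM EN hT hP d _ ((mem_pieceK 𝒬).1 p.2))⟩
  let Λ : pieceK 𝒯 𝒬 d →ₗ[k] C := LinearMap.codRestrict C
    (((qZ (resSeq EM) (resSeq EN) mR mS hT ∘ₗ augZ EM EN hT hP).restrictScalars k) ∘ₗ (pieceK 𝒯 𝒬 d).subtype) hmemC
  have hG : LinearMap.range Λ = LinearMap.ker G := by
    refine le_antisymm ?_ fun x hx => ?_
    · rintro _ ⟨p, rfl⟩
      exact (hGk _).2 ⟨p.1, rfl⟩
    · obtain ⟨p, hp⟩ := (hGk x).1 hx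
      refine ⟨⟨cp 𝒬 d p, (mem_pieceK 𝒬).2 (cp_mem 𝒬 d p)⟩, Subtype.ext ?_⟩
      have hgr : GrLC.IsGrHom 𝒬 (zq EM EN mR mS hT).gr (qZ (resSeq EM) (resSeq EN) mR mS hT ∘ₗ augZ EM EN hT hP) :=
        fun g y hy => qZ_grHom (resSeq EM) (resSeq EN) mR mS hT g _ (augZ_grHom EM EN hT hP g y hy)
      change (qZ (resSeq EM) (resSeq EN) mR mS hT ∘ₗ augZ EM EN hT hP) (cp 𝒬 d p) = x.1
      rw [show (qZ (resSeq EM) (resSeq EN) mR mS hT ∘ₗ augZ EM EN hT hP) (cp 𝒬 d p) = _ from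
        (cp_map 𝒬 (zq EM EN mR mS hT).gr (qZ (resSeq EM) (resSeq EN) mR mS hT ∘ₗ augZ EM EN hT hP).toAddMonoidHom hgr d p).symm]
      exact (congrArg (cp (zq EM EN mR mS hT).gr d) hp).trans (cp_same _ ((hC _).1 x.2).2)
  let u := r 0 d ∘ₗ augQ EM mR
  let u' := r' 0 d ∘ₗ augQ EN mS
  have hkey : ∀ p : pieceK 𝒯 𝒬 d, eC (Λ p) = TensorProduct.map u u' (φ p.1) := fun p => by
    change F (Λ p) i₀ = _
    rw [hF]
    change theta Qb Qb' r r' 0 d (totInc Qb Qb' hT (qZ (resSeq EM) (resSeq EN) mR mS hT (augZ EM EN hT hP p.1))) i₀ = _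
    rw [qZ_spec, augZ_spec]
    generalize φ p.1 = z
    induction z using TensorProduct.induction_on with
    | zero => simp
    | add a b ha hb => simp only [map_add, Pi.add_apply, ha, hb]
    | tmul x y =>
      rw [augk_tmul, qk_tmul, theta_tmul, TensorProduct.map_tmul, GrSeq.prj_tmap, GrSeq.prj_tmap,
        show (resSeq EM).prj 0 (augT EM x) = EM.ε x from (resSeq EM).prj_inc 0 _,
        show (resSeq EN).prj 0 (augT EN y) = EN.ε y from (resSeq EN).prj_inc 0 _]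
      rfl
  have hrange : LinearMap.range (eC.toLinearMap ∘ₗ Λ) = LinearMap.range (TensorProduct.map u u') := by
    refine le_antisymm ?_ ?_
    · rintro _ ⟨p, rfl⟩
      exact ⟨_, (hkey p).symm⟩
    · rintro _ ⟨z, rfl⟩
      obtain ⟨p, hp, hpz⟩ := seg_exists ℳ 𝒩 hP (bproj_mem 𝒜 ℬ ℳ 𝒩 d z)
      refine ⟨⟨p, (mem_pieceK 𝒬).2 hp⟩, (hkey _).trans ?_⟩
      change TensorProduct.map u u' (φ p) = _
      rw [hpz]
      clear hpz hp
      induction z using TensorProduct.induction_on with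
      | zero => simp
      | add a b ha hb => simp only [map_add, ha, hb]
      | tmul x y =>
        rw [bproj_tmul, TensorProduct.map_tmul, TensorProduct.map_tmul]
        exact congrArg₂ (· ⊗ₜ[k] ·) (r_augQ_cp EM mR hr d x) (r_augQ_cp EN mS hr' d y)
  have hΛ : Module.finrank k (LinearMap.range Λ) = Module.finrank k (LinearMap.range u) * Module.finrank k (LinearMap.range u') := by
    rw [← finrank_range_map, ← hrange, LinearMap.range_comp, eC.finrank_map_eq]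
  refine ⟨?_, ?_⟩
  · rw [← hΛ, hG, ← Module.finrank_tensorProduct (R := k) (S := k), ← eC.finrank_eq,
      ← LinearMap.finrank_range_add_finrank_ker G, LinearMap.range_eq_top.2 hGs, finrank_top]
  · obtain ⟨e⟩ := exists_Hk_zero EP mT d
    have hker : Module.finrank k (LinearMap.ker Λ) = Module.finrank k (Hk EP mT 0 d) := by
      rw [← e.finrank_eq, show LinearMap.ker Λ = ((GrLC.gam mT.toIdeal P).restrictScalars k).comap (pieceK 𝒯 𝒬 d).subtype from ?_]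
      · exact ((Submodule.equivMapOfInjective _ (pieceK 𝒯 𝒬 d).injective_subtype _).trans
          (LinearEquiv.ofEq _ _ (Submodule.map_comap_subtype _ _))).finrank_eq
      · ext p
        exact ⟨fun h => (qZ_augZ_eq_zero EM EN mR mS hT hP hposR hmR hmS mT hmT p.1).1 (congrArg Subtype.val h),
          fun h => Subtype.ext ((qZ_augZ_eq_zero EM EN mR mS hT hP hposR hmR hmS mT hmT p.1).2 h)⟩
    rw [← hΛ, ← hker, add_comm, LinearMap.finrank_range_add_finrank_ker, finrank_seg_piece (𝒜 := 𝒜) (ℬ := ℬ) (𝒯 := 𝒯) hP]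

end Groth.L12.GrSegLib
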