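import Groth.Agent.L12.GrSegProd
import Groth.Agent.L12.GrLCExt
import Groth.Agent.L12.GrLCCanonH
import Groth.Agent.L12.GrLCAsub

/-!
# Torsion in Segre products
-/

set_option autoImplicit false

universe u

open scoped TensorProduct
open DirectSum

namespace Groth.L12.GrSegLib

open Groth.L12.GrLCLib
open scoped Groth.L12.GrLCLib.Asub KMod

section Deg

variable {R : Type u} [CommRing R] [IsNoetherianRing R] {σ : Type u} [SetLike σ R] [AddSubgroupClass σ R]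
  {𝒜 : ℤ → σ} [GradedRing 𝒜]

/-- high degrees lie in powers of the irrelevant ideal -/
theorem exists_deg_le_pow (m : HomogeneousIdeal 𝒜)
    (hm : m.toIdeal = Ideal.span (⋃ n ∈ Set.Ioi (0 : ℤ), (𝒜 n : Set R))) (k : ℕ) :
    ∃ B : ℤ, ∀ n, B ≤ n → ∀ r ∈ 𝒜 n, r ∈ m.toIdeal ^ k := by
  classical
  obtain ⟨p, deg, x, hx, hspan⟩ := exists_homog_gens 𝒜 (P := m.toIdeal) (fun i r hr => m.isHomogeneous i hr)
    (IsNoetherian.noetherian _)
  have hxm : ∀ b, x b ∈ m.toIdeal := fun b => hspan ▸ Submodule.subset_span ⟨b, rfl⟩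
  obtain ⟨D, hD⟩ := (Finset.univ.image deg).bddAbove
  induction k with
  | zero => exact ⟨0, fun _ _ r _ => by simp⟩
  | succ k ih =>
    obtain ⟨B, hB⟩ := ih
    refine ⟨max 1 (B + D), fun n hn r hr => ?_⟩
    have hn1 : (0 : ℤ) < n := lt_of_lt_of_le zero_lt_one (le_trans (le_max_left _ _) hn)
    have hrm : r ∈ m.toIdeal := hm ▸ Ideal.subset_span (Set.mem_iUnion₂.2 ⟨n, hn1, hr⟩)
    obtain ⟨c, hc⟩ := (Submodule.mem_span_range_iff_exists_fun R).1 (hspan.symm ▸ hrm : r ∈ Submodule.span R (Set.range x))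
    rw [← cp_same 𝒜 hr, ← hc, map_sum]
    refine Ideal.sum_mem _ fun b _ => ?_
    rw [cp_smul_mem 𝒜 𝒜 (c b) (hx b)]
    rw [pow_succ, smul_eq_mul]
    refine Ideal.mul_mem_mul (hB _ ?_ _ (cp_mem 𝒜 _ _)) (hxm b)
    have h1 := hD (Finset.mem_image_of_mem deg (Finset.mem_univ b))
    have h2 := le_trans (le_max_right 1 (B + D)) hn
    omega

/-- a torsion element is killed by high degrees -/
theorem exists_deg_kill (m : HomogeneousIdeal 𝒜)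
    (hm : m.toIdeal = Ideal.span (⋃ n ∈ Set.Ioi (0 : ℤ), (𝒜 n : Set R)))
    {M : Type u} [AddCommGroup M] [Module R M] {x : M} (hx : x ∈ GrLC.gam m.toIdeal M) :
    ∃ B : ℤ, ∀ n, B ≤ n → ∀ r ∈ 𝒜 n, r • x = 0 := by
  obtain ⟨k, hk⟩ := hx
  obtain ⟨B, hB⟩ := exists_deg_le_pow m hm k
  exact ⟨B, fun n hn r hr => hk r (hB n hn r hr)⟩

omit [IsNoetherianRing R] in
/-- what is killed by high degrees is torsion -/
theorem mem_gam_of_deg_kill (hpos : ∀ n : ℤ, n < 0 → ∀ r ∈ 𝒜 n, r = 0) (m : HomogeneousIdeal 𝒜)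
    (hm : m.toIdeal = Ideal.span (⋃ n ∈ Set.Ioi (0 : ℤ), (𝒜 n : Set R)))
    {M : Type u} [AddCommGroup M] [Module R M] {x : M} (B : ℤ) (h : ∀ n, B ≤ n → ∀ r ∈ 𝒜 n, r • x = 0) :
    x ∈ GrLC.gam m.toIdeal M := by
  refine ⟨B.toNat, fun c hc => ?_⟩
  obtain ⟨s, hs, -⟩ := exists_sum_cp 𝒜 c
  rw [← hs, Finset.sum_smul]
  refine Finset.sum_eq_zero fun d _ => ?_
  by_cases hd : d < (B.toNat : ℤ)
  · have h1 := cp_eq_zero_of_mem_pow (𝒜 := asub 𝒜) (fun n hn => (AddSubgroup.eq_bot_iff_forall _).2 (hpos n hn))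
      (m := Asub.hid m) hm B.toNat c hc d hd
    rw [Asub.cp_asub] at h1
    rw [h1, zero_smul]
  · exact h d (by have := Int.self_le_toNat B; omega) _ (cp_mem 𝒜 d c)

end Deg

variable {k : Type u} [Field k] {R : Type u} [CommRing R] [Algebra k R] {𝒜 : ℤ → Submodule k R} [GradedAlgebra 𝒜]
  {S : Type u} [CommRing S] [Algebra k S] {ℬ : ℤ → Submodule k S} [GradedAlgebra ℬ]
  {T : Type u} [CommRing T] [Algebra k T] {𝒯 : ℤ → Submodule k T} [GradedAlgebra 𝒯] {ψ : T →ₐ[k] R ⊗[k] S}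
  {M : Type u} [AddCommGroup M] [Module R M] [Module k M] [IsScalarTower k R M]
  {N : Type u} [AddCommGroup N] [Module S N] [Module k N] [IsScalarTower k S N]

/-- the Segre ring has no negative degrees -/
theorem seg_pos (hT : GrSeg.IsSegreRing 𝒜 ℬ 𝒯 ψ) (hposR : ∀ n : ℤ, n < 0 → 𝒜 n = ⊥) :
    ∀ n : ℤ, n < 0 → ∀ t ∈ 𝒯 n, t = 0 := by
  intro n hn t ht
  have h : ψ t ∈ GrSeg.segrePiece k 𝒜 ℬ n := (hT.2 n).le ⟨t, ht, rfl⟩
  refine hT.1 ?_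
  rw [map_zero]
  generalize ψ t = ξ at h ⊢
  induction h using Submodule.span_induction with
  | mem ξ hξ =>
    obtain ⟨a, ha, b, -, rfl⟩ := hξ
    rw [hposR n hn, Submodule.mem_bot] at ha
    rw [ha, TensorProduct.zero_tmul]
  | zero => rfl
  | add a b _ _ ha hb => rw [ha, hb, add_zero]
  | smul c a _ ha => rw [ha, smul_zero]

omit [GradedAlgebra 𝒜] [GradedAlgebra ℬ] in
lemma act_eq_zero_left {n : ℤ} {x : M} (hx : ∀ r ∈ 𝒜 n, r • x = 0) (y : N) {ξ : R ⊗[k] S}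
    (hξ : ξ ∈ GrSeg.segrePiece k 𝒜 ℬ n) : GrSeg.act k R S M N ξ (x ⊗ₜ[k] y) = 0 := by
  induction hξ using Submodule.span_induction with
  | mem ξ hξ =>
    obtain ⟨a, ha, b, -, rfl⟩ := hξ
    rw [GrSeg.act_tmul, hx a ha, TensorProduct.zero_tmul]
  | zero => simp
  | add a b _ _ ha hb => rw [map_add, LinearMap.add_apply, ha, hb, add_zero]
  | smul c a _ ha => rw [map_smul, LinearMap.smul_apply, ha, smul_zero]

omit [GradedAlgebra 𝒜] [GradedAlgebra ℬ] in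
lemma act_eq_zero_right {n : ℤ} (x : M) {y : N} (hy : ∀ r ∈ ℬ n, r • y = 0) {ξ : R ⊗[k] S}
    (hξ : ξ ∈ GrSeg.segrePiece k 𝒜 ℬ n) : GrSeg.act k R S M N ξ (x ⊗ₜ[k] y) = 0 := by
  induction hξ using Submodule.span_induction with
  | mem ξ hξ =>
    obtain ⟨a, -, b, hb, rfl⟩ := hξ
    rw [GrSeg.act_tmul, hy b hb, TensorProduct.tmul_zero]
  | zero => simp
  | add a b _ _ ha hb => rw [map_add, LinearMap.add_apply, ha, hb, add_zero]
  | smul c a _ ha => rw [map_smul, LinearMap.smul_apply, ha, smul_zero]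

variable [Algebra.FiniteType k R] [Algebra.FiniteType k S]

/-- tensors with a torsion factor are killed by high degrees of the Segre ring -/
theorem exists_deg_act_eq_zero (mR : HomogeneousIdeal 𝒜)
    (hmR : mR.toIdeal = Ideal.span (⋃ n ∈ Set.Ioi (0 : ℤ), (𝒜 n : Set R))) (mS : HomogeneousIdeal ℬ)
    (hmS : mS.toIdeal = Ideal.span (⋃ n ∈ Set.Ioi (0 : ℤ), (ℬ n : Set S))) (z : M ⊗[k] N)
    (hz : z ∈ Submodule.span k {w : M ⊗[k] N | ∃ x y, w = x ⊗ₜ[k] y ∧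
      (x ∈ GrLC.gam mR.toIdeal M ∨ y ∈ GrLC.gam mS.toIdeal N)}) :
    ∃ B : ℤ, ∀ n, B ≤ n → ∀ ξ ∈ GrSeg.segrePiece k 𝒜 ℬ n, GrSeg.act k R S M N ξ z = 0 := by
  haveI : IsNoetherianRing R := Algebra.FiniteType.isNoetherianRing k R
  haveI : IsNoetherianRing S := Algebra.FiniteType.isNoetherianRing k S
  induction hz using Submodule.span_induction with
  | mem w hw =>
    obtain ⟨x, y, rfl, hx | hy⟩ := hw
    · obtain ⟨B, hB⟩ := exists_deg_kill mR hmR hx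
      exact ⟨B, fun n hn ξ hξ => act_eq_zero_left (hB n hn) y hξ⟩
    · obtain ⟨B, hB⟩ := exists_deg_kill mS hmS hy
      exact ⟨B, fun n hn ξ hξ => act_eq_zero_right x (hB n hn) hξ⟩
  | zero => exact ⟨0, fun n _ ξ _ => map_zero _⟩
  | add a b _ _ ha hb =>
    obtain ⟨B, hB⟩ := ha
    obtain ⟨B', hB'⟩ := hb
    exact ⟨max B B', fun n hn ξ hξ => by
      rw [map_add, hB n (le_of_max_le_left hn) ξ hξ, hB' n (le_of_max_le_right hn) ξ hξ, add_zero]⟩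
  | smul c a _ ha =>
    obtain ⟨B, hB⟩ := ha
    exact ⟨B, fun n hn ξ hξ => by rw [map_smul, hB n hn ξ hξ, smul_zero]⟩

variable {τ τ' : Type u} [SetLike τ M] [SetLike τ' N] {ℳ : ℤ → τ} {𝒩 : ℤ → τ'}
  {P : Type u} [AddCommGroup P] [Module T P] [Module k P] [IsScalarTower k T P]
  {τQ : Type u} [SetLike τQ P] [AddSubgroupClass τQ P] {𝒬 : ℤ → τQ} [DirectSum.Decomposition 𝒬]
  {φ : P →ₗ[k] M ⊗[k] N}

/-- elements of a Segre product with a torsion factor are torsion -/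
theorem seg_mem_gam (hT : GrSeg.IsSegreRing 𝒜 ℬ 𝒯 ψ) (hposR : ∀ n : ℤ, n < 0 → 𝒜 n = ⊥)
    (hP : GrSeg.IsSegreMod ψ ℳ 𝒩 𝒬 φ) (mR : HomogeneousIdeal 𝒜)
    (hmR : mR.toIdeal = Ideal.span (⋃ n ∈ Set.Ioi (0 : ℤ), (𝒜 n : Set R))) (mS : HomogeneousIdeal ℬ)
    (hmS : mS.toIdeal = Ideal.span (⋃ n ∈ Set.Ioi (0 : ℤ), (ℬ n : Set S))) (mT : HomogeneousIdeal 𝒯)
    (hmT : mT.toIdeal = Ideal.span (⋃ n ∈ Set.Ioi (0 : ℤ), (𝒯 n : Set T))) (p : P)
    (hp : φ p ∈ Submodule.span k {w : M ⊗[k] N | ∃ x y, w = x ⊗ₜ[k] y ∧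
      (x ∈ GrLC.gam mR.toIdeal M ∨ y ∈ GrLC.gam mS.toIdeal N)}) : p ∈ GrLC.gam mT.toIdeal P := by
  obtain ⟨B, hB⟩ := exists_deg_act_eq_zero mR hmR mS hmS _ hp
  refine mem_gam_of_deg_kill (seg_pos hT hposR) mT hmT B fun n hn t ht => hP.injective ?_
  rw [map_zero, hP.map_smul]
  exact hB n hn _ ((hT.2 n).le ⟨t, ht, rfl⟩)

/-- a Segre product with a torsion factor is torsion -/
theorem seg_gam_eq_top (hT : GrSeg.IsSegreRing 𝒜 ℬ 𝒯 ψ) (hposR : ∀ n : ℤ, n < 0 → 𝒜 n = ⊥)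
    (hP : GrSeg.IsSegreMod ψ ℳ 𝒩 𝒬 φ) (mR : HomogeneousIdeal 𝒜)
    (hmR : mR.toIdeal = Ideal.span (⋃ n ∈ Set.Ioi (0 : ℤ), (𝒜 n : Set R))) (mS : HomogeneousIdeal ℬ)
    (hmS : mS.toIdeal = Ideal.span (⋃ n ∈ Set.Ioi (0 : ℤ), (ℬ n : Set S))) (mT : HomogeneousIdeal 𝒯)
    (hmT : mT.toIdeal = Ideal.span (⋃ n ∈ Set.Ioi (0 : ℤ), (𝒯 n : Set T)))
    (h : GrLC.gam mR.toIdeal M = ⊤ ∨ GrLC.gam mS.toIdeal N = ⊤) : GrLC.gam mT.toIdeal P = ⊤ := by
  refine eq_top_iff.2 fun p _ => seg_mem_gam hT hposR hP mR hmR mS hmS mT hmT p ?_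
  generalize φ p = z
  induction z using TensorProduct.induction_on with
  | zero => exact zero_mem _
  | add a b ha hb => exact add_mem ha hb
  | tmul x y =>
    refine Submodule.subset_span ⟨x, y, rfl, ?_⟩
    rcases h with h | h
    · exact Or.inl (h ▸ trivial)
    · exact Or.inr (h ▸ trivial)

end Groth.L12.GrSegLib
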