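import Groth.Agent.L12.GrSegParam
import Groth.Agent.L12.GrSegHom
import Groth.Agent.L12.GrSegTors

/-!
# The dimension of a Segre product
-/

set_option autoImplicit false

universe u

open scoped TensorProduct
open DirectSum

namespace Groth.L12.GrSegLib

open Groth.L12.GrLCLib

section Chain

variable (k : Type u) [Field k] (r s : ℕ)

/-- the parametrisation of rank-one matrices -/
noncomputable def rankOne : MvPolynomial (Fin r × Fin s) k →ₐ[k] MvPolynomial (Fin r ⊕ Fin s) k :=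
  MvPolynomial.aeval fun p => MvPolynomial.X (Sum.inl p.1) * MvPolynomial.X (Sum.inr p.2)

variable {k r s}

/-- rank-one matrices form a variety of dimension at least `r + s - 1` -/
theorem le_ringKrullDim_rankOne (hr : 1 ≤ r) (hs : 1 ≤ s) {K : Ideal (MvPolynomial (Fin r × Fin s) k)}
    (hK : K ≤ RingHom.ker (rankOne k r s)) :
    ((r + s - 1 : ℕ) : WithBot ℕ∞) ≤ ringKrullDim (MvPolynomial (Fin r × Fin s) k ⧸ K) := by
  classical
  let ρ : Fin r ⊕ Fin s → ℕ := Sum.elim (fun i => if i.1 < r - 1 then i.1 else r + s)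
    (fun j => if j.1 < s - 1 then r - 1 + j.1 else r + s)
  let σ : ℕ → MvPolynomial (Fin r ⊕ Fin s) k →ₐ[k] MvPolynomial (Fin r ⊕ Fin s) k := fun l =>
    MvPolynomial.aeval fun v => if ρ v < l then 0 else MvPolynomial.X v
  have hσσ : ∀ l, (σ (l + 1)).comp (σ l) = σ (l + 1) := fun l => MvPolynomial.algHom_ext fun v => by
    simp only [σ, AlgHom.comp_apply, MvPolynomial.aeval_X]
    by_cases h : ρ v < l
    · rw [if_pos h, map_zero, if_pos (h.trans (Nat.lt_succ_self l))]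
    · rw [if_neg h, MvPolynomial.aeval_X]
  let C : MvPolynomial (Fin r × Fin s) k →+* k := MvPolynomial.constantCoeff
  let I : ℕ → Ideal (MvPolynomial (Fin r × Fin s) k) := fun l =>
    if l < r + s - 1 then RingHom.ker ((σ l).comp (rankOne k r s)) else RingHom.ker C
  have hprime : ∀ l, (I l).IsPrime := fun l => by
    simp only [I]
    split_ifs <;> exact RingHom.ker_isPrime _
  have hX : ∀ l i j, (σ l).comp (rankOne k r s) (MvPolynomial.X (i, j)) =
      (if ρ (Sum.inl i) < l then 0 else MvPolynomial.X (Sum.inl i)) *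
        (if ρ (Sum.inr j) < l then 0 else MvPolynomial.X (Sum.inr j)) := fun l i j => by
    simp [σ, rankOne]
  have hlt : ∀ l, l < r + s - 1 → I l < I (l + 1) := fun l hl => by
    have hlast : ρ (Sum.inl ⟨r - 1, by omega⟩) = r + s ∧ ρ (Sum.inr ⟨s - 1, by omega⟩) = r + s := by simp [ρ]
    refine lt_of_le_not_ge (fun f hf => ?_) fun hle => ?_
    · simp only [I, if_pos hl, RingHom.mem_ker] at hf
      simp only [I]
      split_ifs with h
      · rw [RingHom.mem_ker]
        rw [← hσσ l]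
        simp only [AlgHom.comp_apply] at hf ⊢
        rw [hf, map_zero]
      · have hC : (MvPolynomial.constantCoeff.comp ((σ l).comp (rankOne k r s)).toRingHom) = C := by
          refine MvPolynomial.ringHom_ext (fun c => by simp [σ, rankOne, C]) fun v => ?_
          simp only [RingHom.comp_apply, AlgHom.toRingHom_eq_coe, RingHom.coe_coe]
          rw [hX]
          split_ifs <;> simp [C]
        rw [RingHom.mem_ker, ← hC, RingHom.comp_apply]
        exact (congrArg MvPolynomial.constantCoeff hf).trans (map_zero _)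
    by_cases h : l + 1 < r + s - 1
    · simp only [I, if_pos hl, if_pos h] at hle
      suffices ∃ i j, (ρ (Sum.inl i) = l ∧ r + s ≤ ρ (Sum.inr j)) ∨ (r + s ≤ ρ (Sum.inl i) ∧ ρ (Sum.inr j) = l) by
        obtain ⟨i, j, hij⟩ := this
        have h1 : (σ (l + 1)).comp (rankOne k r s) (MvPolynomial.X (i, j)) = 0 := by
          rw [hX]
          rcases hij with ⟨h1, -⟩ | ⟨-, h1⟩
          · rw [if_pos (by omega), zero_mul]
          · rw [if_pos (show ρ (Sum.inr j) < l + 1 by omega), mul_zero]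
        have h2 := hle (RingHom.mem_ker.2 h1)
        rw [RingHom.mem_ker, hX, if_neg (by omega), if_neg (by omega)] at h2
        exact mul_ne_zero (MvPolynomial.X_ne_zero _) (MvPolynomial.X_ne_zero _) h2
      by_cases h1 : l < r - 1
      · exact ⟨⟨l, by omega⟩, ⟨s - 1, by omega⟩, Or.inl ⟨by simp [ρ, h1], hlast.2.ge⟩⟩
      · exact ⟨⟨r - 1, by omega⟩, ⟨l - (r - 1), by omega⟩, Or.inr ⟨hlast.1.ge, by
          simp only [ρ, Sum.elim_inr]
          rw [if_pos (by omega)]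
          omega⟩⟩
    · simp only [I, if_pos hl, if_neg h] at hle
      have h1 : C (MvPolynomial.X (⟨r - 1, by omega⟩, ⟨s - 1, by omega⟩)) = 0 := by simp [C]
      have h2 := hle (RingHom.mem_ker.2 h1)
      rw [RingHom.mem_ker, hX, hlast.1, hlast.2, if_neg (by omega), if_neg (by omega)] at h2
      exact mul_ne_zero (MvPolynomial.X_ne_zero _) (MvPolynomial.X_ne_zero _) h2
  have hIK : ∀ l, K ≤ I l := fun l => by
    have h0 : K ≤ I 0 := by
      simp only [I, if_pos (show 0 < r + s - 1 by omega)]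
      refine hK.trans fun f hf => ?_
      rw [RingHom.mem_ker] at hf ⊢
      rw [AlgHom.comp_apply, hf, map_zero]
    induction l with
    | zero => exact h0
    | succ l ih =>
      by_cases h : l < r + s - 1
      · exact ih.trans (hlt l h).le
      · simp only [I, if_neg (show ¬ l + 1 < r + s - 1 by omega), if_neg h] at ih ⊢
        exact ih
  rw [ringKrullDim_quotient]
  let c : LTSeries (PrimeSpectrum.zeroLocus (K : Set (MvPolynomial (Fin r × Fin s) k))) :=
    { length := r + s - 1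
      toFun := fun l => ⟨⟨I l.1, hprime _⟩, hIK _⟩
      step := fun l => hlt l.1 l.2 }
  exact Order.LTSeries.length_le_krullDim c

end Chain

variable {k : Type u} [Field k] {R : Type u} [CommRing R] [Algebra k R] {𝒜 : ℤ → Submodule k R} [GradedAlgebra 𝒜]
  {S : Type u} [CommRing S] [Algebra k S] {ℬ : ℤ → Submodule k S} [GradedAlgebra ℬ]
  {T : Type u} [CommRing T] [Algebra k T] {𝒯 : ℤ → Submodule k T} [GradedAlgebra 𝒯] {ψ : T →ₐ[k] R ⊗[k] S}

/-- generation passes to elements generating the generators -/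
theorem Gen.trans {X : Type u} [AddCommGroup X] [Module T X] {τ : Type u} [SetLike τ X] [AddSubgroupClass τ X]
    {𝒳 : ℤ → τ} [SetLike.GradedSMul 𝒯 𝒳] {ι κ : Type} [Fintype ι] [Fintype κ] {x : ι → T} {E : ι → ℤ}
    {z : κ → T} {D : κ → ℤ} (h : Gen 𝒳 x E) (a : ι → κ → T) (ha : ∀ i j, a i j ∈ 𝒯 (E i - D j))
    (hx : ∀ i, x i = ∑ j, z j * a i j) : Gen 𝒳 z D := by
  obtain ⟨d₀, h⟩ := h
  refine ⟨d₀, fun d hd m hm => ?_⟩
  obtain ⟨c, hc, rfl⟩ := h d hd m hm
  refine ⟨fun j => ∑ i, a i j • c i, fun j => sum_mem fun i _ => ?_, ?_⟩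
  · have h1 := smul_mem' 𝒯 𝒳 (ha i j) (hc i)
    rwa [show E i - D j + (d - E i) = d - D j by ring] at h1
  · simp only [Finset.smul_sum]
    rw [Finset.sum_comm]
    refine Finset.sum_congr rfl fun i _ => ?_
    rw [hx i, Finset.sum_smul]
    exact Finset.sum_congr rfl fun j _ => mul_smul _ _ _

variable {M : Type u} [AddCommGroup M] [Module R M] [Module k M] [IsScalarTower k R M]
  {τ : Type u} [SetLike τ M] [AddSubgroupClass τ M] {ℳ : ℤ → τ} [DirectSum.Decomposition ℳ] [SetLike.GradedSMul 𝒜 ℳ]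
  {N : Type u} [AddCommGroup N] [Module S N] [Module k N] [IsScalarTower k S N]
  {τ' : Type u} [SetLike τ' N] [AddSubgroupClass τ' N] {𝒩 : ℤ → τ'} [DirectSum.Decomposition 𝒩] [SetLike.GradedSMul ℬ 𝒩]
  {P : Type u} [AddCommGroup P] [Module T P] [Module k P] [IsScalarTower k T P]
  {τQ : Type u} [SetLike τQ P] [AddSubgroupClass τQ P] {𝒬 : ℤ → τQ} [DirectSum.Decomposition 𝒬]
  {φ : P →ₗ[k] M ⊗[k] N}

omit [DirectSum.Decomposition ℳ] [DirectSum.Decomposition 𝒩] in
/-- generation of a Segre product by products of parameters -/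
theorem seg_gen (hT : GrSeg.IsSegreRing 𝒜 ℬ 𝒯 ψ) (hP : GrSeg.IsSegreMod ψ ℳ 𝒩 𝒬 φ) {r s : ℕ} {D : ℤ}
    {x : Fin r → R} {y : Fin s → S} {t : Fin r × Fin s → T} (ht : ∀ p, t p ∈ 𝒯 D)
    (hψt : ∀ p, ψ (t p) = x p.1 ⊗ₜ[k] y p.2) (hgx : Gen ℳ x fun _ => D) (hgy : Gen 𝒩 y fun _ => D) :
    Gen 𝒬 t fun _ => D := by
  haveI := seg_gradedSMul 𝒜 ℬ ℳ 𝒩 hP hT
  obtain ⟨d₁, h₁⟩ := hgx
  obtain ⟨d₂, h₂⟩ := hgy
  refine ⟨max d₁ d₂, fun d hd p hp => ?_⟩
  suffices ∀ z ∈ GrSeg.segrePiece k ℳ 𝒩 d, ∃ c : Fin r × Fin s → P, (∀ i, c i ∈ 𝒬 (d - D)) ∧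
      φ (∑ i, t i • c i) = z by
    obtain ⟨c, hc, h⟩ := this _ (seg_mem_piece ℳ 𝒩 hP hp)
    exact ⟨c, hc, hP.injective h.symm⟩
  intro z hz
  induction hz using Submodule.span_induction with
  | mem z hz =>
    obtain ⟨m, hm, n, hn, rfl⟩ := hz
    obtain ⟨c, hc, rfl⟩ := h₁ d ((le_max_left _ _).trans_lt hd) m hm
    obtain ⟨e, he, rfl⟩ := h₂ d ((le_max_right _ _).trans_lt hd) n hn
    have : ∀ i : Fin r × Fin s, ∃ q ∈ 𝒬 (d - D), φ q = c i.1 ⊗ₜ[k] e i.2 := fun i =>
      seg_exists ℳ 𝒩 hP (Submodule.subset_span ⟨_, hc i.1, _, he i.2, rfl⟩)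
    choose q hq hφq using this
    refine ⟨q, hq, ?_⟩
    simp only [map_sum, hP.map_smul, hφq, hψt, GrSeg.act_tmul, TensorProduct.sum_tmul, TensorProduct.tmul_sum]
    exact (Fintype.sum_prod_type' fun i j => (x i • c i) ⊗ₜ[k] (y j • e j)).trans Finset.sum_comm
  | zero => exact ⟨0, fun _ => zero_mem _, by simp⟩
  | add a b _ _ ha hb =>
    obtain ⟨ca, hca, rfl⟩ := ha
    obtain ⟨cb, hcb, rfl⟩ := hb
    exact ⟨ca + cb, fun i => add_mem (hca i) (hcb i), by simp [smul_add, Finset.sum_add_distrib]⟩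
  | smul a v _ hv =>
    obtain ⟨cv, hcv, rfl⟩ := hv
    exact ⟨fun i => a • cv i, fun i => smul_k_mem 𝒯 𝒬 _ a (hcv i), by
      simp [smul_comm _ a, ← Finset.smul_sum]⟩

/-- the anti-diagonal sums of a matrix -/
noncomputable def antidiag {r s : ℕ} (t : Fin r × Fin s → T) (l : Fin (r + s - 1)) : T :=
  ∑ p ∈ Finset.univ.filter (fun p : Fin r × Fin s => p.1.1 + p.2.1 = l.1), t p

omit [Algebra k T] [GradedAlgebra 𝒯] in
/-- entries of a rank one matrix lie in every prime containing its anti-diagonal sums -/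
theorem mem_radical_antidiag {r s : ℕ} {t : Fin r × Fin s → T}
    (hmul : ∀ p q : Fin r × Fin s, t p * t q = t (p.1, q.2) * t (q.1, p.2)) (p : Fin r × Fin s) :
    t p ∈ (Ideal.span (Set.range (antidiag t))).radical := by
  rw [Ideal.radical_eq_sInf, Submodule.mem_sInf]
  rintro J ⟨hJ, hJp⟩
  suffices ∀ (l : ℕ) (p : Fin r × Fin s), p.1.1 + p.2.1 = l → t p ∈ J from this _ p rfl
  intro l
  induction l using Nat.strong_induction_on with
  | _ l ih =>
    intro p hp
    by_contra hne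
    have hrest : ∀ q : Fin r × Fin s, q.1.1 + q.2.1 = l → q ≠ p → t q ∈ J := fun q hq hqp => by
      refine (hJp.mem_or_mem (x := t p) (y := t q) ?_).resolve_left hne
      rw [hmul]
      rcases lt_trichotomy p.1.1 q.1.1 with h | h | h
      · exact Ideal.mul_mem_right _ J (ih (p.1.1 + q.2.1) (by omega) (p.1, q.2) rfl)
      · exact absurd (Prod.ext (Fin.ext h.symm) (Fin.ext (by omega))) hqp
      · exact Ideal.mul_mem_left J _ (ih (q.1.1 + p.2.1) (by omega) (q.1, p.2) rfl)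
    have hl : l < r + s - 1 := by have := p.1.2; have := p.2.2; omega
    have hz : antidiag t ⟨l, hl⟩ ∈ J := hJ (Ideal.subset_span ⟨_, rfl⟩)
    rw [antidiag, ← Finset.add_sum_erase _ _ (Finset.mem_filter.2 ⟨Finset.mem_univ p, hp⟩)] at hz
    exact hne ((J.add_mem_iff_left (J.sum_mem fun q hq =>
      hrest q (Finset.mem_filter.1 (Finset.mem_of_mem_erase hq)).2 (Finset.ne_of_mem_erase hq))).1 hz)

variable [Algebra.FiniteType k R] [Algebra.FiniteType k S] [Module.Finite R M] [Module.Finite S N]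

omit [Algebra.FiniteType k R] [Algebra.FiniteType k S] [Module.Finite S N] [DirectSum.Decomposition 𝒩] [SetLike.GradedSMul ℬ 𝒩] in
theorem seg_low (hposR : ∀ n : ℤ, n < 0 → 𝒜 n = ⊥) (hP : GrSeg.IsSegreMod ψ ℳ 𝒩 𝒬 φ) :
    ∃ lo : ℤ, ∀ d < lo, ∀ p ∈ 𝒬 d, p = 0 := by
  obtain ⟨lo, hlo⟩ := exists_low (k := k) (𝒜 := 𝒜) (ℳ := ℳ) hposR
  refine ⟨lo, fun d hd p hp => hP.injective (Eq.trans ?_ (map_zero φ).symm)⟩
  have h := seg_mem_piece ℳ 𝒩 hP hp
  generalize φ p = z at h ⊢
  induction h using Submodule.span_induction with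
  | mem z hz =>
    obtain ⟨m, hm, n, -, rfl⟩ := hz
    rw [hlo d hd m hm, TensorProduct.zero_tmul]
  | zero => rfl
  | add a b _ _ ha hb => rw [ha, hb, add_zero]
  | smul a v _ hv => rw [hv, smul_zero]

/-- the dimension of a Segre product is at most `r + s - 1` -/
theorem seg_supportDim_le (hposR : ∀ n : ℤ, n < 0 → 𝒜 n = ⊥)
    (h0R : 𝒜 0 = Submodule.span k {(1 : R)}) (h0S : ℬ 0 = Submodule.span k {(1 : S)})
    (hT : GrSeg.IsSegreRing 𝒜 ℬ 𝒯 ψ) (hP : GrSeg.IsSegreMod ψ ℳ 𝒩 𝒬 φ) {r s : ℕ} {D : ℤ} (hD : 0 < D)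
    {x : Fin r → R} {y : Fin s → S} (hx : ∀ i, x i ∈ 𝒜 D) (hy : ∀ i, y i ∈ ℬ D)
    (hgx : Gen ℳ x fun _ => D) (hgy : Gen 𝒩 y fun _ => D) :
    Module.supportDim T P ≤ ((r + s - 1 : ℕ) : WithBot ℕ∞) := by
  classical
  haveI := seg_gradedSMul 𝒜 ℬ ℳ 𝒩 hP hT
  haveI : IsNoetherian T P := isNoetherian_segreMod 𝒜 ℬ ℳ 𝒩 𝒯 𝒬 hT hP
  have : ∀ p : Fin r × Fin s, ∃ t ∈ 𝒯 D, ψ t = x p.1 ⊗ₜ[k] y p.2 := fun p =>
    (hT.2 D).ge (Submodule.subset_span ⟨_, hx p.1, _, hy p.2, rfl⟩)
  choose t ht hψt using this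
  have hmul : ∀ p q : Fin r × Fin s, t p * t q = t (p.1, q.2) * t (q.1, p.2) := fun p q => hT.1 (by
    simp only [map_mul, hψt, Algebra.TensorProduct.tmul_mul_tmul, mul_comm (y q.2)])
  have hz : ∀ l, antidiag t l ∈ 𝒯 D := fun l => sum_mem fun p _ => ht p
  have : ∀ p, ∃ e : ℕ, t p ^ (e + 1) ∈ Ideal.span (Set.range (antidiag t)) := fun p => by
    obtain ⟨e, he⟩ := mem_radical_antidiag hmul p
    exact ⟨e, by rw [pow_succ]; exact Ideal.mul_mem_right _ _ he⟩
  choose e he using this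
  have hg' := Gen.pow (𝒜 := 𝒯) (ℳ := 𝒬) ht (fun _ => hD) (seg_gen hT hP ht hψt hgx hgy) e
  have : ∀ p, ∃ a : Fin (r + s - 1) → T, (∀ l, a l ∈ 𝒯 ((e p + 1 : ℕ) * D - D)) ∧
      t p ^ (e p + 1) = ∑ l, antidiag t l * a l := fun p => by
    obtain ⟨c, hc⟩ := (Ideal.mem_span_range_iff_exists_fun).1 (he p)
    refine ⟨fun l => cp 𝒯 ((e p + 1 : ℕ) * D - D) (c l), fun l => cp_mem _ _ _, ?_⟩
    have h1 : t p ^ (e p + 1) ∈ 𝒯 ((e p + 1 : ℕ) * D) := by
      have := SetLike.pow_mem_graded (e p + 1) (ht p)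
      rwa [nsmul_eq_mul] at this
    rw [← cp_same 𝒯 h1, ← hc, map_sum]
    exact Finset.sum_congr rfl fun l _ => by rw [mul_comm (c l), ← smul_eq_mul (antidiag t l) (c l), cp_smul_hom' 𝒯 𝒯 (hz l), smul_eq_mul]
  choose a ha hxa using this
  obtain ⟨g, hg⟩ := (Gen.trans (D := fun _ => D) hg' a ha hxa).exists_span (fun _ => hD) (seg_low hposR hP)
    fun d => finite_seg_piece (𝒯 := 𝒯) h0R h0S hP d
  rw [Module.supportDim_eq_ringKrullDim_quotient_annihilator,
    ringKrullDim_quotient_annihilator_eq (X := P) (MvPolynomial.aeval (R := k) (antidiag t)).toRingHom g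
      (fun p => hg p)]
  refine (ringKrullDim_quotient_le _).trans (le_of_eq ?_)
  rw [MvPolynomial.ringKrullDim_of_isNoetherianRing, ringKrullDim_eq_zero_of_field, zero_add, Nat.card_fin]

/-- the dimension of a Segre product is at least `r + s - 1` -/
theorem le_seg_supportDim (hposR : ∀ n : ℤ, n < 0 → 𝒜 n = ⊥)
    (h0R : 𝒜 0 = Submodule.span k {(1 : R)}) (h0S : ℬ 0 = Submodule.span k {(1 : S)})
    (hT : GrSeg.IsSegreRing 𝒜 ℬ 𝒯 ψ) (hP : GrSeg.IsSegreMod ψ ℳ 𝒩 𝒬 φ) {r s : ℕ} (hr : 1 ≤ r) (hs : 1 ≤ s)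
    {D : ℤ} (hD : 0 < D)
    {x : Fin r → R} {y : Fin s → S} (hx : ∀ i, x i ∈ 𝒜 D) (hy : ∀ i, y i ∈ ℬ D)
    (hgx : Gen ℳ x fun _ => D) (hgy : Gen 𝒩 y fun _ => D) {d : ℤ} {m : M} {n : N} (hm : m ∈ ℳ d) (hn : n ∈ 𝒩 d)
    (hxm : ∀ f, MvPolynomial.aeval (R := k) x f • m = 0 → f = 0)
    (hyn : ∀ f, MvPolynomial.aeval (R := k) y f • n = 0 → f = 0) :
    ((r + s - 1 : ℕ) : WithBot ℕ∞) ≤ Module.supportDim T P := by
  classical
  haveI := seg_gradedSMul 𝒜 ℬ ℳ 𝒩 hP hT
  haveI : IsNoetherian T P := isNoetherian_segreMod 𝒜 ℬ ℳ 𝒩 𝒯 𝒬 hT hP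
  have : ∀ p : Fin r × Fin s, ∃ t ∈ 𝒯 D, ψ t = x p.1 ⊗ₜ[k] y p.2 := fun p =>
    (hT.2 D).ge (Submodule.subset_span ⟨_, hx p.1, _, hy p.2, rfl⟩)
  choose t ht hψt using this
  obtain ⟨g, hg⟩ := (seg_gen hT hP ht hψt hgx hgy).exists_span (fun _ => hD) (seg_low hposR hP)
    fun e => finite_seg_piece (𝒯 := 𝒯) h0R h0S hP e
  rw [Module.supportDim_eq_ringKrullDim_quotient_annihilator,
    ringKrullDim_quotient_annihilator_eq (X := P) (MvPolynomial.aeval (R := k) t).toRingHom g (fun p => hg p)]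
  refine le_ringKrullDim_rankOne hr hs fun f hf => ?_
  rw [RingHom.mem_ker] at hf ⊢
  rw [RingHom.comp_apply, Ideal.Quotient.eq_zero_iff_mem, Module.mem_annihilator] at hf
  obtain ⟨p, -, hp⟩ := seg_exists ℳ 𝒩 hP (n := d) (z := m ⊗ₜ[k] n) (Submodule.subset_span ⟨m, hm, n, hn, rfl⟩)
  let v : Fin r ⊕ Fin s → R ⊗[k] S := Sum.elim (fun i => x i ⊗ₜ 1) (fun j => 1 ⊗ₜ y j)
  have hcomp : (MvPolynomial.aeval (R := k) v).comp (rankOne k r s) = ψ.comp (MvPolynomial.aeval t) :=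
    MvPolynomial.algHom_ext fun q => by simp [v, rankOne, hψt]
  have h0 : GrSeg.act k R S M N (MvPolynomial.aeval v (rankOne k r s f)) (m ⊗ₜ[k] n) = 0 := by
    rw [show MvPolynomial.aeval v (rankOne k r s f) = ψ (MvPolynomial.aeval t f) from DFunLike.congr_fun hcomp f,
      ← hp, ← hP.map_smul]
    exact (congrArg φ (hf p)).trans (map_zero φ)
  let E : MvPolynomial (Fin r) k ⊗[k] MvPolynomial (Fin s) k →ₐ[k] MvPolynomial (Fin r ⊕ Fin s) k :=
    Algebra.TensorProduct.productMap (MvPolynomial.rename Sum.inl) (MvPolynomial.rename Sum.inr)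
  have hE : Function.Surjective E := fun q => by
    induction q using MvPolynomial.induction_on with
    | C c => exact ⟨algebraMap k _ c, E.commutes c⟩
    | add a b ha hb =>
      obtain ⟨a', rfl⟩ := ha
      obtain ⟨b', rfl⟩ := hb
      exact ⟨a' + b', map_add E a' b'⟩
    | mul_X a i ha =>
      obtain ⟨a', rfl⟩ := ha
      rcases i with i | j
      · exact ⟨a' * (MvPolynomial.X i ⊗ₜ 1), by simp [E]⟩
      · exact ⟨a' * (1 ⊗ₜ MvPolynomial.X j), by simp [E]⟩
  let fm : MvPolynomial (Fin r) k →ₗ[k] M :=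
    ((LinearMap.toSpanSingleton R M m).restrictScalars k).comp (MvPolynomial.aeval x).toLinearMap
  let fn : MvPolynomial (Fin s) k →ₗ[k] N :=
    ((LinearMap.toSpanSingleton S N n).restrictScalars k).comp (MvPolynomial.aeval y).toLinearMap
  have hfm : Function.Injective fm := (injective_iff_map_eq_zero fm).2 fun q hq => hxm q hq
  have hfn : Function.Injective fn := (injective_iff_map_eq_zero fn).2 fun q hq => hyn q hq
  have hmap : Function.Injective (TensorProduct.map fm fn) := by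
    rw [← LinearMap.rTensor_comp_lTensor, LinearMap.coe_comp]
    exact (Module.Flat.rTensor_preserves_injective_linearMap fm hfm).comp
      (Module.Flat.lTensor_preserves_injective_linearMap fn hfn)
  obtain ⟨u, hu⟩ := hE (rankOne k r s f)
  have hkey : ∀ u, GrSeg.act k R S M N (MvPolynomial.aeval v (E u)) (m ⊗ₜ[k] n) = TensorProduct.map fm fn u := by
    intro u
    induction u using TensorProduct.induction_on with
    | zero => simp
    | add a b ha hb => simp only [map_add, LinearMap.add_apply, ha, hb]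
    | tmul a b =>
      have h1 : MvPolynomial.aeval v (E (a ⊗ₜ b)) = MvPolynomial.aeval x a ⊗ₜ[k] MvPolynomial.aeval y b := by
        have ha : (MvPolynomial.aeval v).comp (MvPolynomial.rename Sum.inl) =
            (Algebra.TensorProduct.includeLeft (R := k) (S := k) (B := S)).comp (MvPolynomial.aeval x) :=
          MvPolynomial.algHom_ext fun i => by simp [v]
        have hb : (MvPolynomial.aeval v).comp (MvPolynomial.rename Sum.inr) =
            (Algebra.TensorProduct.includeRight (R := k) (A := R)).comp (MvPolynomial.aeval y) :=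
          MvPolynomial.algHom_ext fun i => by simp [v]
        have hA := DFunLike.congr_fun ha a
        have hB := DFunLike.congr_fun hb b
        simp only [AlgHom.comp_apply, Algebra.TensorProduct.includeLeft_apply,
          Algebra.TensorProduct.includeRight_apply] at hA hB
        rw [Algebra.TensorProduct.productMap_apply_tmul, map_mul, hA, hB, Algebra.TensorProduct.tmul_mul_tmul,
          mul_one, one_mul]
      rw [h1, GrSeg.act_tmul, TensorProduct.map_tmul]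
      rfl
  rw [← hu, hkey] at h0
  rw [← hu, hmap (h0.trans (map_zero _).symm), map_zero]

end Groth.L12.GrSegLib
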