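import Groth.Agent.L12.GrSegQuo
import Groth.Agent.L12.GrLCAcyclic
import Groth.Agent.L12.GrSegPieces

/-!
# Local cohomology of a Segre product with a module on which a positive degree element is bijective
-/

set_option autoImplicit false

universe u

open scoped TensorProduct
open DirectSum

namespace Groth.L12.GrSegLib

open Groth.L12.GrLCLib
open scoped KMod Groth.L12.GrLCLib.Asub

variable {k : Type u} [Field k] {R : Type u} [CommRing R] [Algebra k R] {𝒜 : ℤ → Submodule k R} [GradedAlgebra 𝒜]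
  {S : Type u} [CommRing S] [Algebra k S] {ℬ : ℤ → Submodule k S} [GradedAlgebra ℬ]
  {T : Type u} [CommRing T] [Algebra k T] {𝒯 : ℤ → Submodule k T} [GradedAlgebra 𝒯] {ψ : T →ₐ[k] R ⊗[k] S}

/-- tensors of linear maps respect the factorwise action -/
theorem act_map {M M' N N' : Type u} [AddCommGroup M] [Module R M] [Module k M] [IsScalarTower k R M]
    [AddCommGroup M'] [Module R M'] [Module k M'] [IsScalarTower k R M'] [AddCommGroup N] [Module S N] [Module k N]
    [IsScalarTower k S N] [AddCommGroup N'] [Module S N'] [Module k N'] [IsScalarTower k S N']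
    (f : M →ₗ[R] M') (g : N →ₗ[S] N') (ξ : R ⊗[k] S) (z : M ⊗[k] N) :
    TensorProduct.map (f.restrictScalars k) (g.restrictScalars k) (GrSeg.act k R S M N ξ z) =
      GrSeg.act k R S M' N' ξ (TensorProduct.map (f.restrictScalars k) (g.restrictScalars k) z) := by
  induction ξ using TensorProduct.induction_on with
  | zero => simp
  | add a b ha hb => simp only [map_add, LinearMap.add_apply, ha, hb]
  | tmul a b =>
    induction z using TensorProduct.induction_on with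
    | zero => simp
    | add v w hv hw => simp only [map_add, hv, hw]
    | tmul x y => simp only [GrSeg.act_tmul, TensorProduct.map_tmul, LinearMap.coe_restrictScalars, map_smul]

theorem segAc_bij [Algebra.FiniteType k R] [Algebra.FiniteType k S] (hT : GrSeg.IsSegreRing 𝒜 ℬ 𝒯 ψ)
    (hposR : ∀ n : ℤ, n < 0 → 𝒜 n = ⊥) (hposS : ∀ n : ℤ, n < 0 → ℬ n = ⊥)
    (h0R : 𝒜 0 = Submodule.span k {(1 : R)}) (h0S : ℬ 0 = Submodule.span k {(1 : S)})
    (mR : HomogeneousIdeal 𝒜) (hmR : mR.toIdeal = Ideal.span (⋃ n ∈ Set.Ioi (0 : ℤ), (𝒜 n : Set R)))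
    (mS : HomogeneousIdeal ℬ) (hmS : mS.toIdeal = Ideal.span (⋃ n ∈ Set.Ioi (0 : ℤ), (ℬ n : Set S)))
    (mT : HomogeneousIdeal 𝒯) (hmT : mT.toIdeal = Ideal.span (⋃ n ∈ Set.Ioi (0 : ℤ), (𝒯 n : Set T)))
    (X : GrLC.GMod.{u} 𝒜) (hX : IsDiv 𝒜 X.gr)
    {N : Type u} [AddCommGroup N] [Module S N] [inst : Module k N] [IsScalarTower k S N] {𝒩 : ℤ → AddSubgroup N}
    [DirectSum.Decomposition 𝒩] [SetLike.GradedSMul ℬ 𝒩] {e : ℤ} (he : 0 < e) {g : S} (hg : g ∈ ℬ e)
    (hgN : Function.Bijective fun y : N => g • y) (i : ℕ) :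
    Subsingleton (LocCoh.H mT.toIdeal (i + 1) (sgG 𝒜 ℬ X.gr 𝒩 hT).carrier) := by
  have hinst : inst = Module.compHom N (algebraMap k S) :=
    Module.ext' _ _ fun c x => (IsScalarTower.algebraMap_smul S c x).symm
  subst hinst
  exact segAc_div_bijective hT hposR hposS h0R h0S mR hmR mS hmS mT hmT X hX
    { carrier := N, gr := 𝒩 } he hg hgN i

section Setting

variable [Algebra.FiniteType k R] [Algebra.FiniteType k S] (hT : GrSeg.IsSegreRing 𝒜 ℬ 𝒯 ψ)
  (hposR : ∀ n : ℤ, n < 0 → 𝒜 n = ⊥)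
  (mR : HomogeneousIdeal 𝒜) (hmR : mR.toIdeal = Ideal.span (⋃ n ∈ Set.Ioi (0 : ℤ), (𝒜 n : Set R)))
  (mS : HomogeneousIdeal ℬ) (hmS : mS.toIdeal = Ideal.span (⋃ n ∈ Set.Ioi (0 : ℤ), (ℬ n : Set S)))
  (mT : HomogeneousIdeal 𝒯) (hmT : mT.toIdeal = Ideal.span (⋃ n ∈ Set.Ioi (0 : ℤ), (𝒯 n : Set T)))
  {X : Type u} [AddCommGroup X] [Module R X] [Module k X] [IsScalarTower k R X] {𝒳 : ℤ → AddSubgroup X}
  [DirectSum.Decomposition 𝒳] [SetLike.GradedSMul 𝒜 𝒳]
  {N : Type u} [AddCommGroup N] [Module S N] [Module k N] [IsScalarTower k S N] {𝒩 : ℤ → AddSubgroup N}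
  [DirectSum.Decomposition 𝒩] [SetLike.GradedSMul ℬ 𝒩] (hN : GrLC.gam mS.toIdeal N = ⊥)
  {P : Type u} [AddCommGroup P] [Module T P] [Module k P] [IsScalarTower k T P]
  {τQ : Type u} [SetLike τQ P] [AddSubgroupClass τQ P] {𝒬 : ℤ → τQ} [DirectSum.Decomposition 𝒬]
  {φ : P →ₗ[k] X ⊗[k] N} (hP : GrSeg.IsSegreMod ψ 𝒳 𝒩 𝒬 φ)

include hT hposR hmR hmS hmT hN hP

/-- torsion in a Segre product with a torsion free factor -/
theorem mem_gam_iff_left (p : P) : p ∈ GrLC.gam mT.toIdeal P ↔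
    φ p ∈ LinearMap.range (LinearMap.rTensor N ((GrLC.gam mR.toIdeal X).subtype.restrictScalars k)) := by
  haveI : IsNoetherianRing R := Algebra.FiniteType.isNoetherianRing k R
  haveI : IsNoetherianRing T := isNoetherian_segreMod 𝒜 ℬ 𝒜 ℬ 𝒯 𝒯 hT (isSegreMod_self 𝒜 ℬ 𝒯 hT)
  refine ⟨fun hp => ?_, fun ⟨w, hw⟩ => ?_⟩
  · obtain ⟨B, hB⟩ := exists_deg_kill mT hmT hp
    let π : X →ₗ[R] X ⧸ GrLC.gam mR.toIdeal X := Submodule.mkQ _
    have h0 : TensorProduct.map (π.restrictScalars k) ((LinearMap.id : N →ₗ[S] N).restrictScalars k) (φ p) = 0 := by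
      refine eq_zero_of_deg_kill mR hmR mS hmS (gam_quo_eq_bot (IsNoetherian.noetherian _) X) hN _ B fun n hn ξ hξ => ?_
      obtain ⟨t, ht, rfl⟩ := (hT.2 n).ge hξ
      change GrSeg.act k R S (X ⧸ GrLC.gam mR.toIdeal X) N (ψ t) _ = 0
      rw [← act_map, ← hP.map_smul, hB n hn t ht, map_zero, map_zero]
    have hex : Function.Exact ((GrLC.gam mR.toIdeal X).subtype.restrictScalars k) (π.restrictScalars k) :=
      LinearMap.exact_subtype_mkQ (GrLC.gam mR.toIdeal X)
    exact (rTensor_exact N hex (Submodule.mkQ_surjective _) (φ p)).1 h0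
  · refine seg_mem_gam hT hposR hP mR hmR mS hmS mT hmT p ?_
    rw [← hw]
    clear hw
    induction w using TensorProduct.induction_on with
    | zero => rw [map_zero]; exact zero_mem _
    | add v w hv hw => rw [map_add]; exact add_mem hv hw
    | tmul x y => exact Submodule.subset_span ⟨_, y, rfl, Or.inl x.2⟩

end Setting

section Main

variable [Algebra.FiniteType k R] [Algebra.FiniteType k S] (hT : GrSeg.IsSegreRing 𝒜 ℬ 𝒯 ψ)
  (hposR : ∀ n : ℤ, n < 0 → 𝒜 n = ⊥) (hposS : ∀ n : ℤ, n < 0 → ℬ n = ⊥)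
  (h0R : 𝒜 0 = Submodule.span k {(1 : R)}) (h0S : ℬ 0 = Submodule.span k {(1 : S)})
  {mR : HomogeneousIdeal 𝒜} (hmR : mR.toIdeal = Ideal.span (⋃ n ∈ Set.Ioi (0 : ℤ), (𝒜 n : Set R)))
  {mT : HomogeneousIdeal 𝒯} (hmT : mT.toIdeal = Ideal.span (⋃ n ∈ Set.Ioi (0 : ℤ), (𝒯 n : Set T)))
  {M : Type u} [AddCommGroup M] [Module R M] [Module k M] [IsScalarTower k R M]
  {ℳ : ℤ → AddSubgroup M} [DirectSum.Decomposition ℳ] [SetLike.GradedSMul 𝒜 ℳ] (EM : GrLC.StarInjRes 𝒜 ℳ)
  {N : Type u} [AddCommGroup N] [Module S N] [Module k N] [IsScalarTower k S N]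
  {𝒩 : ℤ → AddSubgroup N} [DirectSum.Decomposition 𝒩] [SetLike.GradedSMul ℬ 𝒩]
  {e : ℤ} (he : 0 < e) {g : S} (hg : g ∈ ℬ e) (hgN : Function.Bijective fun y : N => g • y)
  {P : Type u} [AddCommGroup P] [Module T P] [Module k P] [IsScalarTower k T P]
  {𝒬 : ℤ → AddSubgroup P} [DirectSum.Decomposition 𝒬] [SetLike.GradedSMul 𝒯 𝒬]
  {φ : P →ₗ[k] M ⊗[k] N} (hP : GrSeg.IsSegreMod ψ ℳ 𝒩 𝒬 φ) (EP : GrLC.StarInjRes 𝒯 𝒬) (q : ℕ)
  [DirectSum.Decomposition (EP.Hgr mT q)]

include hT hposR hposS h0R h0S hmR hmT he hg hgN hP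

/-- local cohomology of a Segre product with a divisible factor is a Segre product -/
theorem exists_segre_H : ∃ φ' : EP.H mT q →ₗ[k] EM.H mR q ⊗[k] N,
    GrSeg.IsSegreMod ψ (EM.Hgr mR q) 𝒩 (EP.Hgr mT q) φ' := by
  haveI : IsNoetherianRing R := Algebra.FiniteType.isNoetherianRing k R
  haveI : IsNoetherianRing T := isNoetherian_segreMod 𝒜 ℬ 𝒜 ℬ 𝒯 𝒯 hT (isSegreMod_self 𝒜 ℬ 𝒯 hT)
  let mS : HomogeneousIdeal ℬ := ⟨Ideal.span (⋃ n ∈ Set.Ioi (0 : ℤ), (ℬ n : Set S)),
    Ideal.homogeneous_span ℬ _ fun x hx => by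
      obtain ⟨n, -, hn⟩ := Set.mem_iUnion₂.1 hx
      exact ⟨n, hn⟩⟩
  have hNtf : GrLC.gam mS.toIdeal N = ⊥ := eq_bot_iff.2 fun y hy => (Submodule.mem_bot S).2 (by
    obtain ⟨n, hn⟩ := hy
    have h1 := hn (g ^ n) (Ideal.pow_mem_pow (Ideal.subset_span (Set.mem_iUnion₂.2 ⟨e, he, hg⟩)) n)
    clear hn
    induction n generalizing y with
    | zero => rwa [pow_zero, one_smul] at h1
    | succ n ih => exact hgN.1 (show g • y = g • 0 by rw [ih (g • y) (by rwa [← mul_smul, ← pow_succ]), smul_zero]))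
  have hid : GrLC.IsGrHom 𝒩 𝒩 (LinearMap.id : N →ₗ[S] N) := fun _ _ h => h
  let Y : ℕ → GrLC.GMod.{u} 𝒯 := fun n => sgG 𝒜 ℬ (EM.X n).gr 𝒩 hT
  let inc : ∀ n, (Y n).carrier →ₗ[k] (EM.X n).carrier ⊗[k] N := fun n => sgInc 𝒜 ℬ (EM.X n).gr 𝒩 hT
  have hY : ∀ n, GrSeg.IsSegreMod ψ (EM.X n).gr 𝒩 (Y n).gr (inc n) := fun n => sgG_isSegreMod 𝒜 ℬ (EM.X n).gr 𝒩 hT
  have opd := fun n => isSegOp_map (k := k) (𝒜 := 𝒜) (ℬ := ℬ) (EM.d n) (EM.d_grHom n) (LinearMap.id : N →ₗ[S] N) hid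
  have opε := isSegOp_map (k := k) (𝒜 := 𝒜) (ℬ := ℬ) EM.ε EM.ε_grHom (LinearMap.id : N →ₗ[S] N) hid
  let dY : ∀ n, (Y n).carrier →ₗ[T] (Y (n + 1)).carrier := fun n => segOp (hY n) (hY (n + 1)) (opd n)
  let εY : P →ₗ[T] (Y 0).carrier := segOp hP (hY 0) opε
  have hdY : ∀ n z, inc (n + 1) (dY n z) = LinearMap.rTensor N ((EM.d n).restrictScalars k) (inc n z) := fun n z =>
    segOp_spec (hY n) (hY (n + 1)) (opd n) z
  have hεY : ∀ p, inc 0 (εY p) = LinearMap.rTensor N (EM.ε.restrictScalars k) (φ p) := fun p =>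
    segOp_spec hP (hY 0) opε p
  have hex0 : Function.Exact (EM.ε.restrictScalars k) ((EM.d 0).restrictScalars k) :=
    (LinearMap.exact_iff.2 EM.exact_zero : Function.Exact EM.ε (EM.d 0))
  have hexs : ∀ n, Function.Exact ((EM.d n).restrictScalars k) ((EM.d (n + 1)).restrictScalars k) := fun n =>
    (LinearMap.exact_iff.2 (EM.exact_succ n) : Function.Exact (EM.d n) (EM.d (n + 1)))
  let A : AcSeq (R := T) (Asub.hid mT) (asub 𝒬) :=
    { Y := fun n => Asub.up (Y n)
      d := dY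
      ε := εY
      d_grHom := fun n => segOp_grHom (hY n) (hY (n + 1)) (opd n)
      ε_grHom := fun g p hp => segOp_grHom hP (hY 0) opε g p hp
      ε_injective := fun a b h => hP.injective
        (Module.Flat.rTensor_preserves_injective_linearMap (EM.ε.restrictScalars k) EM.ε_injective
          (by rw [← hεY, ← hεY, h]))
      exact_zero := by
        refine le_antisymm (fun z hz => ?_) ?_
        · obtain ⟨w, hw⟩ := (Module.Flat.rTensor_exact N hex0 (inc 0 z)).1 (by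
            rw [← hdY, show dY 0 z = 0 from hz, map_zero])
          exact exists_segOp_eq hP (hY 0) opε z hw
        · rintro _ ⟨p, rfl⟩
          refine LinearMap.mem_ker.2 ((hY (0 + 1)).injective ?_)
          rw [hdY, hεY, map_zero]
          exact (Module.Flat.rTensor_exact N hex0 _).2 ⟨_, rfl⟩
      exact_succ := fun n => by
        refine le_antisymm (fun z hz => ?_) ?_
        · obtain ⟨w, hw⟩ := (Module.Flat.rTensor_exact N (hexs n) (inc (n + 1) z)).1 (by
            rw [← hdY, show dY (n + 1) z = 0 from hz, map_zero])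
          exact exists_segOp_eq (hY n) (hY (n + 1)) (opd n) z hw
        · rintro _ ⟨p, rfl⟩
          refine LinearMap.mem_ker.2 ((hY (n + 1 + 1)).injective ?_)
          rw [hdY, hdY, map_zero]
          exact (Module.Flat.rTensor_exact N (hexs n) _).2 ⟨_, rfl⟩
      acyclic := fun n i => segAc_bij hT hposR hposS h0R h0S mR hmR mS rfl mT hmT (EM.X n)
        (isDiv_starInj (EM.starInj n)) he hg hgN i }
  obtain ⟨c, hcs, hck, hcg⟩ := A.exists_classMap (Asub.res EP) q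
  let Coc : Submodule T (Y q).carrier := GrLC.gam mT.toIdeal (Y q).carrier ⊓ LinearMap.ker (dY q)
  let c₀ : Coc →ₗ[T] EP.H mT q := c
  have hgam : ∀ n (z : (Y n).carrier), z ∈ GrLC.gam mT.toIdeal (Y n).carrier ↔
      inc n z ∈ LinearMap.range (LinearMap.rTensor N ((GrLC.gam mR.toIdeal (EM.X n).carrier).subtype.restrictScalars k)) :=
    fun n z => mem_gam_iff_left hT hposR mR hmR mS rfl mT hmT hNtf (hY n) z
  let ι : (EM.cocyc mR q) →ₗ[k] (EM.X q).carrier := (EM.cocyc mR q).subtype.restrictScalars k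
  have hιi : Function.Injective (LinearMap.rTensor N ι) :=
    Module.Flat.rTensor_preserves_injective_linearMap ι Subtype.val_injective
  have hlift : ∀ z : Coc, inc q z.1 ∈ LinearMap.range (LinearMap.rTensor N ι) := fun z => by
    obtain ⟨w, hw⟩ := (hgam q z.1).1 z.2.1
    let dG : GrLC.gam mR.toIdeal (EM.X q).carrier →ₗ[k] (EM.X (q + 1)).carrier :=
      (EM.d q ∘ₗ (GrLC.gam mR.toIdeal (EM.X q).carrier).subtype).restrictScalars k
    let iG : (EM.cocyc mR q) →ₗ[k] GrLC.gam mR.toIdeal (EM.X q).carrier :=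
      (Submodule.inclusion (inf_le_left : EM.cocyc mR q ≤ GrLC.gam mR.toIdeal (EM.X q).carrier)).restrictScalars k
    have hex : Function.Exact iG dG := fun x => ⟨fun hx => ⟨⟨x.1, x.2, hx⟩, rfl⟩, fun ⟨y, hy⟩ => hy ▸ y.2.2⟩
    obtain ⟨v, rfl⟩ := (Module.Flat.rTensor_exact N hex w).1 (by
      have h1 : LinearMap.rTensor N ((EM.d q).restrictScalars k) (inc q z.1) = 0 := by
        rw [← hdY, show dY q z.1 = 0 from z.2.2, map_zero]
      rw [← hw, ← LinearMap.comp_apply, ← LinearMap.rTensor_comp] at h1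
      exact h1)
    refine ⟨v, ?_⟩
    rw [← hw, ← LinearMap.comp_apply, ← LinearMap.rTensor_comp]
    rfl
  let lift : Coc →ₗ[k] (EM.cocyc mR q) ⊗[k] N := (LinearEquiv.ofInjective _ hιi).symm.toLinearMap ∘ₗ
    LinearMap.codRestrict (LinearMap.range (LinearMap.rTensor N ι)) ((inc q) ∘ₗ (Coc.subtype.restrictScalars k)) hlift
  have hlift' : ∀ z, LinearMap.rTensor N ι (lift z) = inc q z.1 := fun z =>
    congrArg Subtype.val ((LinearEquiv.ofInjective _ hιi).apply_symm_apply _)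
  let φ₀ : Coc →ₗ[k] EM.H mR q ⊗[k] N := LinearMap.rTensor N ((EM.toH mR q).restrictScalars k) ∘ₗ lift
  have hker : ∀ z, φ₀ z = 0 ↔ c₀ z = 0 := fun z => by
    refine Iff.trans ?_ (hck z).symm
    let pQ : Submodule R (EM.cocyc mR q) := (EM.cobdy mR q).comap (EM.cocyc mR q).subtype
    have hexQ : Function.Exact (pQ.subtype.restrictScalars k) ((EM.toH mR q).restrictScalars k) :=
      LinearMap.exact_subtype_mkQ pQ
    refine ((rTensor_exact N hexQ (Submodule.mkQ_surjective pQ)) (lift z)).trans ?_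
    cases q with
    | zero =>
      refine ⟨fun ⟨w, hw⟩ => (Submodule.mem_bot T).2 ((hY 0).injective ?_), fun h => ⟨0, hιi ?_⟩⟩
      · rw [map_zero, ← hlift' z, ← hw, ← LinearMap.comp_apply, ← LinearMap.rTensor_comp,
          show ι ∘ₗ pQ.subtype.restrictScalars k = 0 from LinearMap.ext fun x => (Submodule.mem_bot R).1 x.2,
          LinearMap.rTensor_zero, LinearMap.zero_apply]
      · rw [map_zero, map_zero, hlift' z, show z.1 = 0 from (Submodule.mem_bot T).1 h, map_zero]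
    | succ m =>
      let G := GrLC.gam mR.toIdeal (EM.X m).carrier
      let GG := subG 𝒜 (EM.X m).gr G (gam_isHomogeneous 𝒜 (EM.X m).gr mR)
      let iGG : GG.carrier →ₗ[R] (EM.X m).carrier := G.subtype
      have hiG : GrLC.IsGrHom GG.gr (EM.X m).gr iGG := fun _ _ h => h
      have opi := isSegOp_map (k := k) (𝒜 := 𝒜) (ℬ := ℬ) iGG hiG (LinearMap.id : N →ₗ[S] N) hid
      have hYG := sgG_isSegreMod 𝒜 ℬ GG.gr 𝒩 hT
      have opc := opi.comp (opd m)
      let f : pQ →ₗ[k] (EM.X (m + 1)).carrier := ι ∘ₗ pQ.subtype.restrictScalars k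
      let f' : GG.carrier →ₗ[k] (EM.X (m + 1)).carrier := (EM.d m ∘ₗ iGG).restrictScalars k
      have hrange : LinearMap.range (LinearMap.rTensor N f) = LinearMap.range (LinearMap.rTensor N f') := by
        have e1 : LinearMap.range f = LinearMap.range f' := by
          refine le_antisymm ?_ ?_
          · rintro _ ⟨x, rfl⟩
            obtain ⟨y, hy, hyx⟩ := x.2
            exact ⟨(⟨y, hy⟩ : G), hyx⟩
          · rintro _ ⟨y, rfl⟩
            exact ⟨⟨⟨_, gam_mono (EM.d m) (y : G).2, LinearMap.mem_ker.2 (d_d EM m _)⟩, _, (y : G).2, rfl⟩, rfl⟩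
        rw [LinearMap.rTensor_def, LinearMap.rTensor_def, TensorProduct.range_map, TensorProduct.range_map, e1]
      constructor
      · rintro ⟨w, hw⟩
        obtain ⟨v, hv⟩ := hrange.le ⟨w, by rw [LinearMap.rTensor_comp, LinearMap.comp_apply, hw, hlift']⟩
        obtain ⟨u, hu⟩ := exists_segOp_eq hYG (hY (m + 1)) opc z.1 (z := v) (by
          rw [← hv]
          change (LinearMap.rTensor N ((EM.d m).restrictScalars k) ∘ₗ LinearMap.rTensor N (iGG.restrictScalars k)) v = _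
          rw [← LinearMap.rTensor_comp]
          rfl)
        refine ⟨segOp hYG (hY m) opi u, ?_, ?_⟩
        · exact (hgam m _).2 ⟨sgInc 𝒜 ℬ GG.gr 𝒩 hT u, (segOp_spec hYG (hY m) opi u).symm⟩
        · refine (hY (m + 1)).injective ?_
          rw [← hu, segOp_spec]
          rw [show inc m (segOp hYG (hY m) opi u) = _ from segOp_spec hYG (hY m) opi u,
            show inc (m + 1) (segOp hYG (hY (m + 1)) opc u) = _ from segOp_spec hYG (hY (m + 1)) opc u]
          rfl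
      · rintro ⟨u, hu, huz⟩
        obtain ⟨v, hv⟩ := (hgam m u).1 hu
        obtain ⟨w, hw⟩ := hrange.ge ⟨v, rfl⟩
        refine ⟨w, hιi ?_⟩
        rw [hlift', ← huz]
        change _ = inc (m + 1) (dY m u)
        rw [hdY, ← hv, ← LinearMap.comp_apply, ← LinearMap.rTensor_comp, hw, ← LinearMap.comp_apply,
          ← LinearMap.rTensor_comp]
        rfl
  have hck' : ∀ (a : k) (z : Coc), c₀ (a • z) = a • c₀ z := fun a z => by
    rw [← IsScalarTower.algebraMap_smul T a z, map_smul, IsScalarTower.algebraMap_smul]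
  let cK : Coc →ₗ[k] EP.H mT q := { toFun := c₀, map_add' := map_add c₀, map_smul' := hck' }
  have hle : LinearMap.ker cK ≤ LinearMap.ker φ₀ := fun z hz => (hker z).2 hz
  let eH := cK.quotKerEquivOfSurjective hcs
  let φ' : EP.H mT q →ₗ[k] EM.H mR q ⊗[k] N := Submodule.liftQ (LinearMap.ker cK) φ₀ hle ∘ₗ eH.symm.toLinearMap
  have hφ' : ∀ z, φ' (c₀ z) = φ₀ z := fun z => by
    change Submodule.liftQ (LinearMap.ker cK) φ₀ hle (eH.symm (cK z)) = φ₀ z
    rw [show eH.symm (cK z) = Submodule.Quotient.mk z from eH.symm_apply_eq.2 rfl]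
    rfl
  have hCoch : Coc.IsHomogeneous (Y q).gr := fun i x hx =>
    ⟨gam_isHomogeneous 𝒯 (Y q).gr mT i hx.1, ker_isHomogeneous (Y q).gr (Y (q + 1)).gr (segOp_grHom (hY q) (hY (q + 1)) (opd q)) i hx.2⟩
  refine ⟨φ', ⟨fun x y hxy => ?_, fun d => ?_, fun t x => ?_⟩⟩
  · obtain ⟨z, rfl⟩ : ∃ z : Coc, c₀ z = x := hcs x
    obtain ⟨w, rfl⟩ : ∃ w : Coc, c₀ w = y := hcs y
    have h1 : φ₀ (z - w) = 0 := by rw [map_sub, ← hφ', ← hφ']; exact sub_eq_zero.2 hxy
    have h2 := (hker _).1 h1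
    rw [map_sub, sub_eq_zero] at h2
    exact h2
  · refine Set.Subset.antisymm ?_ fun v hv => ?_
    · rintro _ ⟨x, hx, rfl⟩
      obtain ⟨z, hz, rfl⟩ := exists_homog_preimage (Y q).gr (EP.Hgr mT q) (Hgr_isInternal mT EP q) Coc hCoch c₀
        (fun g z hz => hcg g z hz) hcs hx
      rw [SetLike.mem_coe, hφ']
      let cpC : EM.cocyc mR q →ₗ[k] EM.cocyc mR q := LinearMap.codRestrict ((EM.cocyc mR q).restrictScalars k)
        ((cpk 𝒜 (EM.X q).gr d) ∘ₗ ι) fun x => cp_cocyc mR EM q d x.2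
      have hw : TensorProduct.map cpC (cpk ℬ 𝒩 d) (lift z) = lift z := hιi (by
        rw [hlift']
        conv_rhs => rw [← bproj_of_mem 𝒜 ℬ (EM.X q).gr 𝒩 (seg_mem_piece _ _ (hY q) hz), ← hlift']
        generalize lift z = w
        induction w using TensorProduct.induction_on with
        | zero => simp
        | add a b ha hb => simp only [map_add, ha, hb]
        | tmul x y => rfl)
      change LinearMap.rTensor N ((EM.toH mR q).restrictScalars k) (lift z) ∈ _
      rw [← hw]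
      generalize lift z = w
      induction w using TensorProduct.induction_on with
      | zero => simp
      | add a b ha hb => rw [map_add, map_add]; exact add_mem ha hb
      | tmul x y => exact Submodule.subset_span ⟨_, ⟨cpC x, cp_mem _ _ _, rfl⟩, _, cp_mem 𝒩 d y, rfl⟩
    · rw [SetLike.mem_coe] at hv
      induction hv using Submodule.span_induction with
      | mem v hv =>
        obtain ⟨_, ⟨a, ha, rfl⟩, b, hb, rfl⟩ := hv
        obtain ⟨z, hz, hzv⟩ := seg_exists (k := k) (EM.X q).gr 𝒩 (hY q)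
          (z := (a.1 : (EM.X q).carrier) ⊗ₜ[k] b) (Submodule.subset_span ⟨_, ha, _, hb, rfl⟩)
        have hzC : z ∈ Coc := ⟨(hgam q z).2 ⟨(⟨a.1, a.2.1⟩ : GrLC.gam mR.toIdeal (EM.X q).carrier) ⊗ₜ[k] b, hzv.symm⟩,
          LinearMap.mem_ker.2 ((hY (q + 1)).injective (by
            rw [hdY, hzv, map_zero, LinearMap.rTensor_tmul]
            exact (congrArg (· ⊗ₜ[k] b) (LinearMap.mem_ker.1 a.2.2)).trans (TensorProduct.zero_tmul _ b)))⟩
        refine ⟨c₀ ⟨z, hzC⟩, hcg d _ hz, ?_⟩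
        rw [hφ']
        change LinearMap.rTensor N _ (lift ⟨z, hzC⟩) = _
        rw [show lift ⟨z, hzC⟩ = a ⊗ₜ[k] b from hιi ((hlift' _).trans hzv)]
        rfl
      | zero => exact ⟨0, (EP.Hgr mT q d).zero_mem, map_zero _⟩
      | add a b _ _ ha hb =>
        obtain ⟨x, hx, rfl⟩ := ha
        obtain ⟨y, hy, rfl⟩ := hb
        exact ⟨x + y, (EP.Hgr mT q d).add_mem hx hy, map_add _ _ _⟩
      | smul a v _ hv =>
        obtain ⟨x, hx, rfl⟩ := hv
        refine ⟨a • x, ?_, map_smul _ _ _⟩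
        obtain ⟨w, hw, rfl⟩ := hx
        refine ⟨a • w, smul_k_mem 𝒯 (EP.X q).gr d a hw, ?_⟩
        rw [← IsScalarTower.algebraMap_smul T a w, map_smul, IsScalarTower.algebraMap_smul]
  · obtain ⟨z, rfl⟩ : ∃ z : Coc, c₀ z = x := hcs x
    change φ' (t • c₀ z) = GrSeg.act k R S _ N (ψ t) (φ' (c₀ z))
    rw [← map_smul, hφ', hφ']
    have h1 : lift (t • z) = GrSeg.act k R S (EM.cocyc mR q) N (ψ t) (lift z) := hιi (by
      rw [hlift', show LinearMap.rTensor N ι = TensorProduct.map ((EM.cocyc mR q).subtype.restrictScalars k)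
        ((LinearMap.id : N →ₗ[S] N).restrictScalars k) from rfl, act_map]
      change inc q (t • z.1) = _
      rw [(hY q).map_smul, ← hlift']
      rfl)
    change LinearMap.rTensor N ((EM.toH mR q).restrictScalars k) (lift (t • z)) =
      GrSeg.act k R S (EM.H mR q) N (ψ t) (LinearMap.rTensor N ((EM.toH mR q).restrictScalars k) (lift z))
    rw [h1]
    exact act_map (EM.toH mR q) (LinearMap.id : N →ₗ[S] N) (ψ t) (lift z)

end Main

section AnyInstance

/-- the canonical vector space structure on local cohomology -/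
@[reducible] noncomputable def canH {M : Type u} [AddCommGroup M] [Module R M] {τ : Type u} [SetLike τ M]
    [AddSubgroupClass τ M] {ℳ : ℤ → τ} [DirectSum.Decomposition ℳ] [SetLike.GradedSMul 𝒜 ℳ]
    (E : GrLC.StarInjRes 𝒜 ℳ) (a : HomogeneousIdeal 𝒜) (i : ℕ) : Module k (E.H a i) := inferInstance

lemma canH_smul {M : Type u} [AddCommGroup M] [Module R M] {τ : Type u} [SetLike τ M]
    [AddSubgroupClass τ M] {ℳ : ℤ → τ} [DirectSum.Decomposition ℳ] [SetLike.GradedSMul 𝒜 ℳ]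
    (E : GrLC.StarInjRes 𝒜 ℳ) (a : HomogeneousIdeal 𝒜) (i : ℕ) (c : k) (x : E.H a i) :
    algebraMap k R c • x = (canH E a i).toSMul.smul c x := IsScalarTower.algebraMap_smul R c x

end AnyInstance

end Groth.L12.GrSegLib
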