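import Groth.Agent.L12.GrSegDiv

/-!
# Segre products with a divisible factor, for arbitrary compatible vector space structures
-/

set_option autoImplicit false

universe u

open scoped TensorProduct

namespace Groth.L12.GrSegLib

variable {k : Type u} [Field k] {R : Type u} [CommRing R] [Algebra k R] {𝒜 : ℤ → Submodule k R} [GradedAlgebra 𝒜]
  {S : Type u} [CommRing S] [Algebra k S] {ℬ : ℤ → Submodule k S} [GradedAlgebra ℬ]
  {T : Type u} [CommRing T] [Algebra k T] {𝒯 : ℤ → Submodule k T} [GradedAlgebra 𝒯] {ψ : T →ₐ[k] R ⊗[k] S}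

variable [Algebra.FiniteType k R] [Algebra.FiniteType k S]

/-- the same for arbitrary compatible vector space structures -/
theorem exists_segre_H_any (hT : GrSeg.IsSegreRing 𝒜 ℬ 𝒯 ψ)
    (hposR : ∀ n : ℤ, n < 0 → 𝒜 n = ⊥) (hposS : ∀ n : ℤ, n < 0 → ℬ n = ⊥)
    (h0R : 𝒜 0 = Submodule.span k {(1 : R)}) (h0S : ℬ 0 = Submodule.span k {(1 : S)})
    {mR : HomogeneousIdeal 𝒜} (hmR : mR.toIdeal = Ideal.span (⋃ n ∈ Set.Ioi (0 : ℤ), (𝒜 n : Set R)))
    {mT : HomogeneousIdeal 𝒯} (hmT : mT.toIdeal = Ideal.span (⋃ n ∈ Set.Ioi (0 : ℤ), (𝒯 n : Set T)))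
    {M : Type u} [AddCommGroup M] [Module R M] [Module k M] [IsScalarTower k R M]
    {ℳ : ℤ → AddSubgroup M} [DirectSum.Decomposition ℳ] [SetLike.GradedSMul 𝒜 ℳ] (EM : GrLC.StarInjRes 𝒜 ℳ)
    {N : Type u} [AddCommGroup N] [Module S N] [Module k N] [IsScalarTower k S N]
    {𝒩 : ℤ → AddSubgroup N} [DirectSum.Decomposition 𝒩] [SetLike.GradedSMul ℬ 𝒩]
    {e : ℤ} (he : 0 < e) {g : S} (hg : g ∈ ℬ e) (hgN : Function.Bijective fun y : N => g • y)
    {P : Type u} [AddCommGroup P] [Module T P] [Module k P] [IsScalarTower k T P]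
    {𝒬 : ℤ → AddSubgroup P} [DirectSum.Decomposition 𝒬] [SetLike.GradedSMul 𝒯 𝒬]
    {φ : P →ₗ[k] M ⊗[k] N} (hP : GrSeg.IsSegreMod ψ ℳ 𝒩 𝒬 φ) (EP : GrLC.StarInjRes 𝒯 𝒬) (q : ℕ)
    [i1 : Module k (EM.H mR q)] [IsScalarTower k R (EM.H mR q)] [i2 : Module k (EP.H mT q)]
    [IsScalarTower k T (EP.H mT q)] [DirectSum.Decomposition (EP.Hgr mT q)] :
    ∃ φ' : EP.H mT q →ₗ[k] EM.H mR q ⊗[k] N, GrSeg.IsSegreMod ψ (EM.Hgr mR q) 𝒩 (EP.Hgr mT q) φ' := by
  have h1 : i1 = canH EM mR q := Module.ext' _ _ fun c x =>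
    (IsScalarTower.algebraMap_smul R c x).symm.trans (canH_smul EM mR q c x)
  have h2 : i2 = canH EP mT q := Module.ext' _ _ fun c x =>
    (IsScalarTower.algebraMap_smul T c x).symm.trans (canH_smul EP mT q c x)
  subst h1 h2
  exact exists_segre_H hT hposR hposS h0R h0S hmR hmT EM he hg hgN hP EP q

end Groth.L12.GrSegLib
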