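import Groth.Agent.L12.GrSegTopLine

/-!
# Standard graded algebras of dimension one generated by one linear form
-/

set_option autoImplicit false

universe u

open DirectSum

namespace Groth.L12.GrSegLib

open Groth.L12.GrLCLib

variable {k : Type u} [Field k] {R : Type u} [CommRing R] [Algebra k R] {𝒜 : ℤ → Submodule k R} [GradedAlgebra 𝒜]

/-- in a standard graded algebra the pieces are the powers of the linear piece -/
theorem piece_eq_pow (hpos : ∀ n : ℤ, n < 0 → 𝒜 n = ⊥) (h0 : 𝒜 0 = Submodule.span k {(1 : R)})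
    (hstd : Ideal.span (⋃ n ∈ Set.Ioi (0 : ℤ), (𝒜 n : Set R)) = Ideal.span ((𝒜 1 : Submodule k R) : Set R))
    (n : ℕ) : 𝒜 (n : ℤ) = 𝒜 1 ^ n := by
  induction n with
  | zero => rw [Nat.cast_zero, h0, Submodule.pow_zero, Submodule.one_eq_span]
  | succ n ih =>
    rw [pow_succ, ← ih]
    refine le_antisymm (fun v hv => ?_) (Submodule.mul_le.2 fun a ha b hb => ?_)
    · have hv1 : v ∈ Ideal.span ((𝒜 1 : Submodule k R) : Set R) :=
        hstd ▸ Ideal.subset_span (Set.mem_iUnion₂.2 ⟨_, Set.mem_Ioi.2 (by omega), hv⟩)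
      suffices h : ∀ w ∈ Ideal.span ((𝒜 1 : Submodule k R) : Set R),
          cp 𝒜 ((n + 1 : ℕ) : ℤ) w ∈ 𝒜 (n : ℤ) * 𝒜 1 by
        have h1 := h v hv1
        rwa [cp_same 𝒜 hv] at h1
      intro w hw
      induction hw using Submodule.span_induction with
      | mem x hx =>
        rcases eq_or_ne n 0 with rfl | hn
        · have hx' : x ∈ 𝒜 ((0 + 1 : ℕ) : ℤ) := by simpa using hx
          rw [cp_same 𝒜 hx', show x = 1 * x from (one_mul x).symm]
          exact Submodule.mul_mem_mul (show (1 : R) ∈ 𝒜 ((0 : ℕ) : ℤ) from SetLike.one_mem_graded 𝒜) hx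
        · rw [cp_ne 𝒜 (show x ∈ 𝒜 1 from hx) (by omega)]
          exact zero_mem _
      | zero => rw [map_zero]; exact zero_mem _
      | add x y _ _ hx hy => rw [map_add]; exact add_mem hx hy
      | smul a x hxmem hxih =>
        clear hv1 hxih
        induction hxmem using Submodule.span_induction generalizing a with
        | mem x hx =>
          rw [smul_eq_mul, show a * x = x • a from mul_comm a x, cp_smul_hom' 𝒜 𝒜 (show x ∈ 𝒜 1 from hx),
            smul_eq_mul, mul_comm x]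
          refine Submodule.mul_mem_mul ?_ hx
          rw [show ((n + 1 : ℕ) : ℤ) - 1 = (n : ℤ) by omega]
          exact cp_mem 𝒜 _ a
        | zero => rw [smul_zero, map_zero]; exact zero_mem _
        | add x y _ _ hx hy => rw [smul_add, map_add]; exact add_mem (hx a) (hy a)
        | smul b x _ hx => rw [smul_smul]; exact hx (a * b)
    · have h1 := SetLike.mul_mem_graded (A := 𝒜) ha hb
      rwa [show ((n + 1 : ℕ) : ℤ) = (n : ℤ) + 1 by omega]

variable [Algebra.FiniteType k R]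

/-- a piece which is a line forces a single linear generator -/
theorem exists_gen_of_finrank_one [Nontrivial R] [LocCoh.IsCohenMacaulayRing R] (hpos : ∀ n : ℤ, n < 0 → 𝒜 n = ⊥)
    (h0 : 𝒜 0 = Submodule.span k {(1 : R)})
    (hstd : Ideal.span (⋃ n ∈ Set.Ioi (0 : ℤ), (𝒜 n : Set R)) = Ideal.span ((𝒜 1 : Submodule k R) : Set R))
    (hr : ringKrullDim R = 1) {g : ℤ} (hg : 1 ≤ g) (h1 : Module.finrank k (𝒜 g) = 1) :
    ∃ l ∈ 𝒜 1, 𝒜 1 ≤ Submodule.span k {l} := by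
  haveI : IsNoetherianRing R := Algebra.FiniteType.isNoetherianRing k R
  obtain ⟨m, rfl⟩ : ∃ m : ℕ, g = ((m + 1 : ℕ) : ℤ) := ⟨(g - 1).toNat, by omega⟩
  obtain ⟨z, hz0, hz⟩ := finrank_eq_one_iff'.1 h1
  have hspan : 𝒜 ((m + 1 : ℕ) : ℤ) = Submodule.span k {(z : R)} := le_antisymm
    (fun v hv => by
      obtain ⟨c, hc⟩ := hz ⟨v, hv⟩
      exact Submodule.mem_span_singleton.2 ⟨c, congrArg Subtype.val hc⟩)
    ((Submodule.span_singleton_le_iff_mem _ _).2 z.2)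
  have hdim : Module.supportDim R R = (1 : ℕ) := by
    rw [Module.supportDim_self_eq_ringKrullDim, hr]; rfl
  obtain ⟨D, hD, hpar⟩ := exists_param (ℳ := 𝒜) hpos h0 hdim
  obtain ⟨x, hx, hgen, -⟩ := hpar 1 one_pos
  rw [Nat.cast_one, mul_one] at hx hgen
  have htf : ∀ (d : ℤ), ∀ r ∈ 𝒜 d, x 0 * r = 0 → r = 0 := fun d r hr' hxr => by
    by_contra hr0
    refine MvPolynomial.X_ne_zero (R := k) (0 : Fin 1) (tf_of_cm (ℳ := 𝒜) hpos h0 hdim (isCMRing_iff.1 ‹_›) hD hgen hr' hr0 _ ?_)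
    rw [MvPolynomial.aeval_X, smul_eq_mul, hxr]
  have hpowtf : ∀ (j : ℕ) (d : ℤ), ∀ r ∈ 𝒜 d, x 0 ^ j * r = 0 → r = 0 := fun j => by
    induction j with
    | zero => intro d r _ h; rwa [pow_zero, one_mul] at h
    | succ j ih =>
      intro d r hr' h
      rw [pow_succ, mul_assoc] at h
      exact htf d r hr' (ih (D + d) _ (SetLike.mul_mem_graded (hx 0) hr') h)
  have hzz : ∀ r ∈ 𝒜 1, (z : R) * r = 0 → r = 0 := fun r hr' hzr => by
    obtain ⟨E, rfl⟩ : ∃ E : ℕ, D = (E : ℤ) := ⟨D.toNat, by omega⟩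
    refine hpowtf (m + 1) 1 r hr' ?_
    have hmem : x 0 ^ (m + 1) ∈ Submodule.span k {(z : R) ^ E} := by
      have h2 : x 0 ^ (m + 1) ∈ (𝒜 1 ^ E) ^ (m + 1) := Submodule.pow_mem_pow _ (piece_eq_pow hpos h0 hstd E ▸ hx 0) _
      rw [← pow_mul, mul_comm, pow_mul, ← piece_eq_pow hpos h0 hstd (m + 1), hspan, Submodule.span_pow,
        Set.singleton_pow] at h2
      exact h2
    obtain ⟨c, hc⟩ := Submodule.mem_span_singleton.1 hmem
    obtain ⟨e, rfl⟩ : ∃ e : ℕ, E = e + 1 := ⟨E - 1, by omega⟩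
    rw [← hc, smul_mul_assoc, pow_succ, mul_assoc, hzr, mul_zero, smul_zero]
  have hnz : ¬ 𝒜 (m : ℤ) * 𝒜 1 = ⊥ := fun h => hz0 (Subtype.ext (by
    have h2 := (piece_eq_pow hpos h0 hstd (m + 1)).le z.2
    rw [pow_succ, ← piece_eq_pow hpos h0 hstd, h, Submodule.mem_bot] at h2
    exact h2))
  obtain ⟨w, hw, l, hl, hwl⟩ : ∃ w ∈ 𝒜 (m : ℤ), ∃ l ∈ 𝒜 1, w * l ≠ 0 := by
    by_contra h
    simp only [not_exists, not_and, not_not] at h
    exact hnz (eq_bot_iff.2 (Submodule.mul_le.2 fun a ha b hb => (Submodule.mem_bot k).2 (h a ha b hb)))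
  have hmul : ∀ v ∈ 𝒜 1, ∃ c : k, c • (z : R) = w * v := fun v hv => Submodule.mem_span_singleton.1 (hspan ▸ by
    have := SetLike.mul_mem_graded (A := 𝒜) hw hv
    rwa [show ((m + 1 : ℕ) : ℤ) = (m : ℤ) + 1 by omega])
  obtain ⟨c, hc⟩ := hmul l hl
  have hc0 : c ≠ 0 := fun h => hwl (by rw [← hc, h, zero_smul])
  refine ⟨l, hl, fun v hv => ?_⟩
  obtain ⟨c', hc'⟩ := hmul v hv
  have h2 := hzz (c • v - c' • l) (sub_mem (Submodule.smul_mem _ c hv) (Submodule.smul_mem _ c' hl)) (by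
    rw [mul_sub, mul_smul_comm, mul_smul_comm, ← smul_mul_assoc, ← smul_mul_assoc c', hc, hc']
    ring)
  refine Submodule.mem_span_singleton.2 ⟨c⁻¹ * c', ?_⟩
  rw [mul_smul, ← sub_eq_zero.1 h2, ← mul_smul, inv_mul_cancel₀ hc0, one_smul]

/-- a polynomial ring in one variable has a single linear generator -/
theorem exists_gen_of_algEquiv (hpos : ∀ n : ℤ, n < 0 → 𝒜 n = ⊥) (h0 : 𝒜 0 = Submodule.span k {(1 : R)}) (e : R ≃ₐ[k] Polynomial k) :
    ∃ l ∈ 𝒜 1, 𝒜 1 ≤ Submodule.span k {l} := by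
  classical
  haveI : IsPrincipalIdealRing R := IsPrincipalIdealRing.of_surjective e.symm.toRingEquiv.toRingHom e.symm.surjective
  obtain ⟨p, hp⟩ := IsPrincipalIdealRing.principal (irr 𝒜).toIdeal
  have hp' : p ∈ (irr 𝒜).toIdeal := hp.symm ▸ Submodule.mem_span_singleton_self p
  have hp0 : cp 𝒜 0 p = 0 := by
    suffices h : ∀ w ∈ Ideal.span (⋃ n ∈ Set.Ioi (0 : ℤ), (𝒜 n : Set R)), ∀ a : R, cp 𝒜 0 (a * w) = 0 by
      simpa using h p hp' 1
    intro w hw
    induction hw using Submodule.span_induction with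
    | mem x hx =>
      intro a
      obtain ⟨n, hn, hxn⟩ := Set.mem_iUnion₂.1 hx
      rw [mul_comm, show x * a = x • a from rfl, cp_smul_hom' 𝒜 𝒜 hxn]
      have h0 : cp 𝒜 (0 - n) a = 0 := (Submodule.mem_bot k).1 (hpos (0 - n) (by have : (0:ℤ) < n := hn; omega) ▸ cp_mem 𝒜 (0 - n) a)
      rw [h0, smul_zero]
    | zero => intro a; rw [mul_zero, map_zero]
    | add x y _ _ hx hy => intro a; rw [mul_add, map_add, hx, hy, add_zero]
    | smul b x _ hx => intro a; rw [smul_eq_mul, ← mul_assoc]; exact hx _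
  refine ⟨cp 𝒜 1 p, cp_mem 𝒜 1 p, fun v hv => ?_⟩
  have hvi : v ∈ (irr 𝒜).toIdeal := Ideal.subset_span (Set.mem_iUnion₂.2 ⟨1, Set.mem_Ioi.2 zero_lt_one, hv⟩)
  rw [hp] at hvi
  obtain ⟨a, rfl⟩ := Submodule.mem_span_singleton.1 hvi
  suffices h : ∀ a : R, cp 𝒜 1 (a • p) = cp 𝒜 0 a * cp 𝒜 1 p by
    rw [← cp_same 𝒜 hv, h]
    obtain ⟨c, hc⟩ : ∃ c : k, c • (1 : R) = cp 𝒜 0 a := by
      refine Submodule.mem_span_singleton.1 ?_
      exact h0 ▸ cp_mem 𝒜 0 a
    rw [← hc, smul_mul_assoc, one_mul]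
    exact Submodule.smul_mem _ c (Submodule.mem_span_singleton_self _)
  intro a
  induction a using induction_on_hom 𝒜 with
  | h0 => simp
  | ha a b ha hb => rw [add_smul, map_add, ha, hb, map_add, add_mul]
  | hh d z hz =>
    rw [cp_smul_hom' 𝒜 𝒜 hz, smul_eq_mul]
    rcases lt_trichotomy d 0 with hd | hd | hd
    · rw [hpos d hd, Submodule.mem_bot] at hz
      simp [hz]
    · subst hd; rw [sub_zero, cp_same 𝒜 hz]
    · rw [cp_ne 𝒜 hz hd.ne', zero_mul]
      rcases eq_or_ne d 1 with rfl | hd1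
      · rw [sub_self, hp0, mul_zero]
      · have h1 := cp_mem 𝒜 (1 - d) p
        rw [hpos (1 - d) (by omega), Submodule.mem_bot] at h1
        rw [h1, mul_zero]


section Poly

open scoped Polynomial

variable (hpos : ∀ n : ℤ, n < 0 → 𝒜 n = ⊥) (h0 : 𝒜 0 = Submodule.span k {(1 : R)})
  (hstd : Ideal.span (⋃ n ∈ Set.Ioi (0 : ℤ), (𝒜 n : Set R)) = Ideal.span ((𝒜 1 : Submodule k R) : Set R))
  (hr : ringKrullDim R = 1) {l : R} (hl : l ∈ 𝒜 1) (hgen : 𝒜 1 ≤ Submodule.span k {l})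

include hpos h0 hstd hr hl hgen

/-- a single linear generator makes the algebra a polynomial ring -/
theorem aeval_gen_bijective : Function.Bijective (Polynomial.aeval l : k[X] →ₐ[k] R) ∧
    ∀ n : ℕ, 𝒜 (n : ℤ) = Submodule.span k {l ^ n} := by
  classical
  have hspan : 𝒜 1 = Submodule.span k {l} := le_antisymm hgen ((Submodule.span_singleton_le_iff_mem _ _).2 hl)
  have hpow : ∀ n : ℕ, 𝒜 (n : ℤ) = Submodule.span k {l ^ n} := fun n => by
    rw [piece_eq_pow hpos h0 hstd, hspan, Submodule.span_pow, Set.singleton_pow]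
  have hne : ∀ n : ℕ, l ^ n ≠ 0 := fun n h => by
    refine piece_ne_bot hpos h0 hstd (r := 1) (by rw [hr]; rfl) le_rfl (d := (n : ℤ)) (by omega) ?_
    rw [hpow, h, Submodule.span_zero_singleton]
  have hmem : ∀ n : ℕ, l ^ n ∈ 𝒜 (n : ℤ) := fun n => (hpow n).ge (Submodule.mem_span_singleton_self _)
  refine ⟨⟨(injective_iff_map_eq_zero _).2 fun p hp => ?_, fun v => ?_⟩, hpow⟩
  · ext j
    rw [Polynomial.coeff_zero]
    by_contra hj
    have h1 : cp 𝒜 (j : ℤ) (Polynomial.aeval l p) = p.coeff j • l ^ j := by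
      rw [Polynomial.aeval_eq_sum_range, map_sum, Finset.sum_eq_single j]
      · exact cp_same 𝒜 (Submodule.smul_mem _ _ (hmem j))
      · intro i _ hij
        exact cp_ne 𝒜 (Submodule.smul_mem _ _ (hmem i)) (by omega)
      · intro h
        rw [Finset.mem_range, Nat.lt_succ_iff] at h
        exact absurd (Polynomial.coeff_eq_zero_of_natDegree_lt (lt_of_not_ge h)) hj
    rw [hp, map_zero, eq_comm, smul_eq_zero] at h1
    exact h1.elim hj (hne j)
  · induction v using induction_on_hom 𝒜 with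
    | h0 => exact ⟨0, map_zero _⟩
    | ha a b ha hb =>
      obtain ⟨x, rfl⟩ := ha
      obtain ⟨y, rfl⟩ := hb
      exact ⟨x + y, map_add _ _ _⟩
    | hh g y hy =>
      rcases lt_or_ge g 0 with hg | hg
      · rw [hpos g hg, Submodule.mem_bot] at hy
        exact ⟨0, by rw [hy, map_zero]⟩
      · obtain ⟨n, rfl⟩ : ∃ n : ℕ, g = (n : ℤ) := ⟨g.toNat, by omega⟩
        rw [hpow] at hy
        obtain ⟨c, rfl⟩ := Submodule.mem_span_singleton.1 hy
        exact ⟨c • Polynomial.X ^ n, by rw [map_smul, map_pow, Polynomial.aeval_X]⟩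

end Poly

section Seg

open scoped TensorProduct

variable {S : Type u} [CommRing S] [Algebra k S] {ℬ : ℤ → Submodule k S} [GradedAlgebra ℬ] [Algebra.FiniteType k S]
  {T : Type u} [CommRing T] [Algebra k T] {𝒯 : ℤ → Submodule k T} [GradedAlgebra 𝒯] {ψ : T →ₐ[k] R ⊗[k] S}

/-- the Segre product with a polynomial ring in one variable does nothing -/
theorem seg_nonempty_algEquiv (hT : GrSeg.IsSegreRing 𝒜 ℬ 𝒯 ψ) (hposR : ∀ n : ℤ, n < 0 → 𝒜 n = ⊥)
    (hpos : ∀ n : ℤ, n < 0 → ℬ n = ⊥) (h0 : ℬ 0 = Submodule.span k {(1 : S)})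
    (hstd : Ideal.span (⋃ n ∈ Set.Ioi (0 : ℤ), (ℬ n : Set S)) = Ideal.span ((ℬ 1 : Submodule k S) : Set S))
    (hs : ringKrullDim S = 1) {l : S} (hl : l ∈ ℬ 1) (hgen : ℬ 1 ≤ Submodule.span k {l}) :
    Nonempty (T ≃ₐ[k] R) := by
  classical
  obtain ⟨hbij, hpow⟩ := aeval_gen_bijective hpos h0 hstd hs hl hgen
  let e₀ := AlgEquiv.ofBijective _ hbij
  let χ : S →ₐ[k] k := (Polynomial.aeval (1 : k)).comp e₀.symm.toAlgHom
  have hχ : χ l = 1 := by
    have h1 : e₀.symm l = Polynomial.X := by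
      rw [AlgEquiv.symm_apply_eq]
      exact (Polynomial.aeval_X (R := k) l).symm
    change Polynomial.aeval (1 : k) (e₀.symm l) = 1
    rw [h1, Polynomial.aeval_X]
  let π : T →ₐ[k] R := ((Algebra.TensorProduct.rid k k R).toAlgHom.comp
    (Algebra.TensorProduct.map (AlgHom.id k R) χ)).comp ψ
  have hπ : ∀ (n : ℕ), ∀ t ∈ 𝒯 (n : ℤ), π t ∈ 𝒜 (n : ℤ) ∧ ψ t = π t ⊗ₜ[k] (l ^ n) := fun n t ht => by
    have key : ∀ z ∈ GrSeg.segrePiece k 𝒜 ℬ (n : ℤ),
        ((Algebra.TensorProduct.rid k k R).toAlgHom.comp (Algebra.TensorProduct.map (AlgHom.id k R) χ)) z ∈ 𝒜 (n : ℤ) ∧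
        z = ((Algebra.TensorProduct.rid k k R).toAlgHom.comp (Algebra.TensorProduct.map (AlgHom.id k R) χ)) z ⊗ₜ[k] (l ^ n) := by
      intro z hz
      induction hz using Submodule.span_induction with
      | mem z hz =>
        obtain ⟨a, ha, b, hb, rfl⟩ := hz
        obtain ⟨c, rfl⟩ := Submodule.mem_span_singleton.1 ((hpow n).le hb)
        have h1 : ((Algebra.TensorProduct.rid k k R).toAlgHom.comp (Algebra.TensorProduct.map (AlgHom.id k R) χ))
            (a ⊗ₜ[k] (c • l ^ n)) = c • a := by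
          simp [hχ]
        rw [h1]
        exact ⟨Submodule.smul_mem _ c ha, (TensorProduct.smul_tmul c a (l ^ n)).symm⟩
      | zero => simp
      | add x y _ _ hx hy =>
        rw [map_add, TensorProduct.add_tmul, ← hx.2, ← hy.2]
        exact ⟨add_mem hx.1 hy.1, rfl⟩
      | smul c x _ hx =>
        rw [map_smul, ← TensorProduct.smul_tmul', ← hx.2]
        exact ⟨Submodule.smul_mem _ c hx.1, rfl⟩
    exact key _ ((hT.2 _).le ⟨t, ht, rfl⟩)
  have hdeg : ∀ g, ∀ t ∈ 𝒯 g, π t ∈ 𝒜 g := fun g t ht => by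
    rcases lt_or_ge g 0 with hg | hg
    · rw [seg_pos hT hposR g hg t ht, map_zero]; exact zero_mem _
    · obtain ⟨n, rfl⟩ : ∃ n : ℕ, g = (n : ℤ) := ⟨g.toNat, by omega⟩
      exact (hπ n t ht).1
  refine ⟨AlgEquiv.ofBijective π ⟨(injective_iff_map_eq_zero π).2 fun t ht => eq_zero_of_cp 𝒯 fun g => ?_, fun a => ?_⟩⟩
  · have h1 := (cp_map 𝒯 𝒜 π.toRingHom.toAddMonoidHom hdeg g t)
    change cp 𝒜 g (π t) = π (cp 𝒯 g t) at h1
    rw [ht, map_zero] at h1
    rcases lt_or_ge g 0 with hg | hg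
    · exact seg_pos hT hposR g hg _ (cp_mem 𝒯 g t)
    · obtain ⟨n, rfl⟩ : ∃ n : ℕ, g = (n : ℤ) := ⟨g.toNat, by omega⟩
      exact hT.1 ((hπ n _ (cp_mem 𝒯 _ t)).2.trans (by rw [← h1, TensorProduct.zero_tmul, map_zero]))
  · induction a using induction_on_hom 𝒜 with
    | h0 => exact ⟨0, map_zero _⟩
    | ha a b ha hb =>
      obtain ⟨x, rfl⟩ := ha
      obtain ⟨y, rfl⟩ := hb
      exact ⟨x + y, map_add _ _ _⟩
    | hh g y hy =>
      rcases lt_or_ge g 0 with hg | hg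
      · rw [hposR g hg, Submodule.mem_bot] at hy
        exact ⟨0, by rw [hy, map_zero]⟩
      · obtain ⟨n, rfl⟩ : ∃ n : ℕ, g = (n : ℤ) := ⟨g.toNat, by omega⟩
        obtain ⟨t, ht, htψ⟩ := (hT.2 (n : ℤ)).ge (Submodule.subset_span
          ⟨y, hy, l ^ n, (hpow n).ge (Submodule.mem_span_singleton_self _), rfl⟩)
        refine ⟨t, ?_⟩
        change ((Algebra.TensorProduct.rid k k R).toAlgHom.comp (Algebra.TensorProduct.map (AlgHom.id k R) χ)) (ψ t) = y
        rw [show ψ t = y ⊗ₜ[k] (l ^ n) from htψ]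
        simp [hχ]

variable (hposR : ∀ n : ℤ, n < 0 → 𝒜 n = ⊥) (h0R : 𝒜 0 = Submodule.span k {(1 : R)})
  (hposS : ∀ n : ℤ, n < 0 → ℬ n = ⊥) (h0S : ℬ 0 = Submodule.span k {(1 : S)})

include hposR h0R hposS h0S

/-- the first cohomology of a Segre product of one-dimensional algebras -/
theorem seg_finrank_one_one (hT : GrSeg.IsSegreRing 𝒜 ℬ 𝒯 ψ) (hr : ringKrullDim R = 1) (hs : ringKrullDim S = 1)
    [LocCoh.IsCohenMacaulayRing R] [LocCoh.IsCohenMacaulayRing S]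
    (EM : GrLC.StarInjRes 𝒜 𝒜) (EN : GrLC.StarInjRes ℬ ℬ) (EP : GrLC.StarInjRes 𝒯 𝒯) (d : ℤ) :
    Module.finrank k (Hk EP (irr 𝒯) 1 d) =
      Module.finrank k (𝒜 d) * Module.finrank k (Hk EN (irr ℬ) 1 d) +
      Module.finrank k (Hk EM (irr 𝒜) 1 d) * Module.finrank k (ℬ d) +
      Module.finrank k (Hk EM (irr 𝒜) 1 d) * Module.finrank k (Hk EN (irr ℬ) 1 d) := by
  haveI : IsNoetherianRing R := Algebra.FiniteType.isNoetherianRing k R
  haveI : IsNoetherianRing S := Algebra.FiniteType.isNoetherianRing k S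
  have hdM : Module.supportDim R R = (1 : ℕ) := by rw [Module.supportDim_self_eq_ringKrullDim, hr]; rfl
  have hdN : Module.supportDim S S = (1 : ℕ) := by rw [Module.supportDim_self_eq_ringKrullDim, hs]; rfl
  have hM0 := fun d => (cm_iff_Hk EM (m := irr 𝒜) rfl hposR h0R (n := 1) hdM).1 (isCMRing_iff.1 ‹_›) 0 zero_lt_one d
  have hN0 := fun d => (cm_iff_Hk EN (m := irr ℬ) rfl hposS h0S (n := 1) hdN).1 (isCMRing_iff.1 ‹_›) 0 zero_lt_one d
  haveI : IsNoetherianRing T := isNoetherian_segreMod 𝒜 ℬ 𝒜 ℬ 𝒯 𝒯 hT (isSegreMod_self 𝒜 ℬ 𝒯 hT)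
  haveI := seg_finiteType hT hposR h0R h0S
  haveI : ∀ i d, Module.Finite k (Hk EP (irr 𝒯) i d) := fun i d => finite_Hk EP _ (seg_deg0 hT h0R h0S) rfl i d
  haveI : ∀ d, Module.Finite k (pieceK 𝒜 𝒜 d) := fun d => finite_pieceK _ h0R d
  haveI : ∀ d, Module.Finite k (pieceK ℬ ℬ d) := fun d => finite_pieceK _ h0S d
  choose r hr using fun i d => ((resSeq EM).tq (irr 𝒜)).exists_proj i d
  choose r' hr' using fun i d => ((resSeq EN).tq (irr ℬ)).exists_proj i d
  have hu : Module.finrank k (LinearMap.range (r 0 d ∘ₗ augQ EM (irr 𝒜))) = Module.finrank k (pieceK 𝒜 𝒜 d) := by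
    have := finrank_range_augQ EM (irr 𝒜) hr d
    rwa [finrank_Hk_zero_of_bot EM (hM0 d), add_zero] at this
  have hu' : Module.finrank k (LinearMap.range (r' 0 d ∘ₗ augQ EN (irr ℬ))) = Module.finrank k (pieceK ℬ ℬ d) := by
    have := finrank_range_augQ EN (irr ℬ) hr' d
    rwa [finrank_Hk_zero_of_bot EN (hN0 d), add_zero] at this
  have h1 := (finrank_Hk_low (isSegreMod_self 𝒜 ℬ 𝒯 hT) hT hposR hposS h0R h0S (mR := irr 𝒜) rfl (mS := irr ℬ) rfl
    (mT := irr 𝒯) rfl EM EN EP d hr hr').1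
  rw [finrank_G1_zero EM (irr 𝒜) hr h0R rfl d, finrank_G1_zero EN (irr ℬ) hr' h0S rfl d, hu, hu'] at h1
  have hA : ∀ d, pieceK 𝒜 𝒜 d = 𝒜 d := fun d => by ext x; exact mem_pieceK 𝒜
  have hB : ∀ d, pieceK ℬ ℬ d = ℬ d := fun d => by ext x; exact mem_pieceK ℬ
  rw [hA, hB, add_mul, mul_add, mul_add] at h1
  omega

end Seg

end Groth.L12.GrSegLib
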