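import Mathlib.LinearAlgebra.TensorProduct.RightExactness
import Mathlib.LinearAlgebra.Basis.VectorSpace
import Mathlib.RingTheory.Flat.Basic

/-!
# An elementary Künneth formula over a field

For differentials `d` on `A`, `d'` on `B` and a sign `ε` on `A`, the cycles of `D = d ⊗ 1 + ε ⊗ d'` are, modulo
boundaries, the tensors of cycles, and a tensor of cycles is a boundary exactly when it vanishes in `H(A) ⊗ H(B)`.
-/

set_option autoImplicit false

universe u

open scoped TensorProduct

namespace Groth.L12.GrSegLib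

variable {k : Type u} [Field k]

/-- every linear map over a field has a generalized inverse -/
theorem exists_gen_inverse {A B : Type u} [AddCommGroup A] [Module k A] [AddCommGroup B] [Module k B] (d : A →ₗ[k] B) :
    ∃ h : B →ₗ[k] A, ∀ x, d (h (d x)) = d x := by
  obtain ⟨r, hr⟩ := d.rangeRestrict.exists_rightInverse_of_surjective d.range_rangeRestrict
  obtain ⟨p, hp⟩ := (LinearMap.range d).subtype.exists_leftInverse_of_injective (LinearMap.range d).ker_subtype
  refine ⟨r ∘ₗ p, fun x => ?_⟩
  have h1 := congrArg Subtype.val (LinearMap.congr_fun hr (d.rangeRestrict x))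
  rw [LinearMap.comp_apply, show p (d x) = d.rangeRestrict x from LinearMap.congr_fun hp (d.rangeRestrict x)]
  exact h1

section Kunneth

variable {A B : Type u} [AddCommGroup A] [Module k A] [AddCommGroup B] [Module k B]
variable (d : A →ₗ[k] A) (d' : B →ₗ[k] B) (ε : A →ₗ[k] A)

/-- the differential of a tensor product -/
noncomputable def totD : A ⊗[k] B →ₗ[k] A ⊗[k] B := TensorProduct.map d LinearMap.id + TensorProduct.map ε d'

@[simp] lemma totD_tmul (x : A) (y : B) : totD d d' ε (x ⊗ₜ[k] y) = d x ⊗ₜ[k] y + ε x ⊗ₜ[k] d' y := rfl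

/-- tensors of cycles -/
noncomputable def cycT : LinearMap.ker d ⊗[k] LinearMap.ker d' →ₗ[k] A ⊗[k] B :=
  TensorProduct.map (LinearMap.ker d).subtype (LinearMap.ker d').subtype

/-- the class in the tensor product of the homologies -/
noncomputable def cycClass : LinearMap.ker d ⊗[k] LinearMap.ker d' →ₗ[k]
    (LinearMap.ker d ⧸ (LinearMap.range d).comap (LinearMap.ker d).subtype) ⊗[k]
      (LinearMap.ker d' ⧸ (LinearMap.range d').comap (LinearMap.ker d').subtype) :=
  TensorProduct.map (Submodule.mkQ _) (Submodule.mkQ _)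

/-- hypotheses on the sign -/
structure IsSign : Prop where
  sq : ∀ x, ε (ε x) = x
  anti : ∀ x, ε (d x) = -d (ε x)
  d_d : ∀ x, d (d x) = 0
  d'_d' : ∀ y, d' (d' y) = 0
  inv : ∃ h : A →ₗ[k] A, (∀ x, d (h (d x)) = d x) ∧ ∀ x, ε (h x) = -h (ε x)

variable {d d' ε} (hs : IsSign d d' ε)

include hs

theorem IsSign.totD_totD (z : A ⊗[k] B) : totD d d' ε (totD d d' ε z) = 0 := by
  induction z using TensorProduct.induction_on with
  | zero => simp
  | add a b ha hb => rw [map_add, map_add, ha, hb, add_zero]
  | tmul x y =>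
    rw [totD_tmul, map_add, totD_tmul, totD_tmul, hs.d_d, hs.d'_d', hs.anti, hs.sq,
      TensorProduct.zero_tmul, TensorProduct.tmul_zero, TensorProduct.neg_tmul, zero_add, add_zero, neg_add_cancel]

theorem IsSign.totD_cycT (v : LinearMap.ker d ⊗[k] LinearMap.ker d') : totD d d' ε (cycT d d' v) = 0 := by
  induction v using TensorProduct.induction_on with
  | zero => simp
  | add a b ha hb => rw [map_add, map_add, ha, hb, add_zero]
  | tmul x y =>
    change totD d d' ε ((x : A) ⊗ₜ[k] (y : B)) = 0
    rw [totD_tmul, LinearMap.mem_ker.1 x.2, LinearMap.mem_ker.1 y.2, TensorProduct.zero_tmul, TensorProduct.tmul_zero,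
      add_zero]

/-- cycles are tensors of cycles up to boundaries -/
theorem IsSign.exists_cycT {z : A ⊗[k] B} (hz : totD d d' ε z = 0) :
    ∃ (w : A ⊗[k] B) (v : LinearMap.ker d ⊗[k] LinearMap.ker d'), z = totD d d' ε w + cycT d d' v := by
  obtain ⟨h, hh, hεh⟩ := hs.inv
  obtain ⟨g, hg⟩ := exists_gen_inverse d'
  let e : A →ₗ[k] A := LinearMap.id - d ∘ₗ h - h ∘ₗ d
  let f : B →ₗ[k] B := LinearMap.id - d' ∘ₗ g - g ∘ₗ d'
  let K : A ⊗[k] B →ₗ[k] A ⊗[k] B := TensorProduct.map h LinearMap.id + TensorProduct.map (ε ∘ₗ e) g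
  have hde : ∀ x, d (e x) = 0 := fun x => by
    simp only [e, LinearMap.sub_apply, LinearMap.id_apply, LinearMap.comp_apply, map_sub, hs.d_d, hh, sub_zero, sub_self]
  have hed : ∀ x, e (d x) = 0 := fun x => by
    simp only [e, LinearMap.sub_apply, LinearMap.id_apply, LinearMap.comp_apply, hs.d_d, map_zero, hh, sub_zero, sub_self]
  have hεe : ∀ x, ε (e x) = e (ε x) := fun x => by
    simp only [e, LinearMap.sub_apply, LinearMap.id_apply, LinearMap.comp_apply, map_sub, hs.anti, hεh, map_neg, neg_neg]
  have hdf : ∀ y, d' (f y) = 0 := fun y => by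
    simp only [f, LinearMap.sub_apply, LinearMap.id_apply, LinearMap.comp_apply, map_sub, hs.d'_d', hg, sub_zero, sub_self]
  let ef : A ⊗[k] B →ₗ[k] LinearMap.ker d ⊗[k] LinearMap.ker d' :=
    TensorProduct.map (e.codRestrict _ fun x => LinearMap.mem_ker.2 (hde x))
      (f.codRestrict _ fun y => LinearMap.mem_ker.2 (hdf y))
  have key : ∀ z, totD d d' ε (K z) + K (totD d d' ε z) + cycT d d' (ef z) = z := fun z => by
    induction z using TensorProduct.induction_on with
    | zero => simp
    | add a b ha hb =>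
      simp only [map_add]
      conv_rhs => rw [← ha, ← hb]
      abel
    | tmul x y =>
      have h1 : K (x ⊗ₜ[k] y) = h x ⊗ₜ[k] y + ε (e x) ⊗ₜ[k] g y := rfl
      have h2 : K (d x ⊗ₜ[k] y) = h (d x) ⊗ₜ[k] y + ε (e (d x)) ⊗ₜ[k] g y := rfl
      have h3 : K (ε x ⊗ₜ[k] d' y) = h (ε x) ⊗ₜ[k] d' y + ε (e (ε x)) ⊗ₜ[k] g (d' y) := rfl
      have h4 : cycT d d' (ef (x ⊗ₜ[k] y)) = e x ⊗ₜ[k] f y := rfl
      rw [h1, map_add, totD_tmul, totD_tmul, totD_tmul, map_add, h2, h3, h4, hed, map_zero, TensorProduct.zero_tmul,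
        hεh x, ← hεe, hs.sq, show d (ε (e x)) = 0 by rw [← neg_eq_zero, ← hs.anti, hde, map_zero],
        TensorProduct.zero_tmul, zero_add, add_zero, TensorProduct.neg_tmul]
      conv_rhs => rw [show x = d (h x) + h (d x) + e x by simp only [e, LinearMap.sub_apply, LinearMap.id_apply, LinearMap.comp_apply]; abel,
        TensorProduct.add_tmul, TensorProduct.add_tmul]
      conv_rhs => enter [2]; rw [show y = d' (g y) + g (d' y) + f y by simp only [f, LinearMap.sub_apply, LinearMap.id_apply, LinearMap.comp_apply]; abel,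
        TensorProduct.tmul_add, TensorProduct.tmul_add]
      abel
  refine ⟨K z, ef z, ?_⟩
  have h1 := key z
  rw [hz, map_zero, add_zero] at h1
  exact h1.symm

/-- a tensor of cycles is a boundary iff its class vanishes -/
theorem IsSign.cycT_mem_range_iff (v : LinearMap.ker d ⊗[k] LinearMap.ker d') :
    cycT d d' v ∈ LinearMap.range (totD d d' ε) ↔ cycClass d d' v = 0 := by
  constructor
  · rintro ⟨w, hw⟩
    obtain ⟨h, hh, hεh⟩ := hs.inv
    obtain ⟨g, hg⟩ := exists_gen_inverse d'
    let e : A →ₗ[k] A := LinearMap.id - d ∘ₗ h - h ∘ₗ d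
    let f : B →ₗ[k] B := LinearMap.id - d' ∘ₗ g - g ∘ₗ d'
    have hde : ∀ x, d (e x) = 0 := fun x => by
      simp only [e, LinearMap.sub_apply, LinearMap.id_apply, LinearMap.comp_apply, map_sub, hs.d_d, hh, sub_zero, sub_self]
    have hed : ∀ x, e (d x) = 0 := fun x => by
      simp only [e, LinearMap.sub_apply, LinearMap.id_apply, LinearMap.comp_apply, hs.d_d, map_zero, hh, sub_zero, sub_self]
    have hdf : ∀ y, d' (f y) = 0 := fun y => by
      simp only [f, LinearMap.sub_apply, LinearMap.id_apply, LinearMap.comp_apply, map_sub, hs.d'_d', hg, sub_zero, sub_self]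
    have hfd : ∀ y, f (d' y) = 0 := fun y => by
      simp only [f, LinearMap.sub_apply, LinearMap.id_apply, LinearMap.comp_apply, hs.d'_d', map_zero, hg, sub_zero, sub_self]
    let pA := Submodule.mkQ ((LinearMap.range d).comap (LinearMap.ker d).subtype) ∘ₗ e.codRestrict _ fun x => LinearMap.mem_ker.2 (hde x)
    let pB := Submodule.mkQ ((LinearMap.range d').comap (LinearMap.ker d').subtype) ∘ₗ f.codRestrict _ fun y => LinearMap.mem_ker.2 (hdf y)
    have hD : ∀ w, TensorProduct.map pA pB (totD d d' ε w) = 0 := fun w => by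
      induction w using TensorProduct.induction_on with
      | zero => simp
      | add a b ha hb => rw [map_add, map_add, ha, hb, add_zero]
      | tmul x y =>
        rw [totD_tmul, map_add, TensorProduct.map_tmul, TensorProduct.map_tmul,
          show pA (d x) = 0 from (congrArg (Submodule.mkQ _) (Subtype.ext (hed x) :
            (e.codRestrict _ fun x => LinearMap.mem_ker.2 (hde x)) (d x) = 0)).trans (map_zero _),
          show pB (d' y) = 0 from (congrArg (Submodule.mkQ _) (Subtype.ext (hfd y) :
            (f.codRestrict _ fun y => LinearMap.mem_ker.2 (hdf y)) (d' y) = 0)).trans (map_zero _),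
          TensorProduct.zero_tmul, TensorProduct.tmul_zero, add_zero]
    have hcls : TensorProduct.map pA pB (cycT d d' v) = cycClass d d' v := by
      refine LinearMap.congr_fun (f := (TensorProduct.map pA pB) ∘ₗ cycT d d') (g := cycClass d d') ?_ v
      refine TensorProduct.ext' fun x y => ?_
      change pA (x : A) ⊗ₜ[k] pB (y : B) = Submodule.mkQ _ x ⊗ₜ[k] Submodule.mkQ _ y
      congr 1
      · refine (Submodule.Quotient.eq _).2 ⟨-(h (x : A)), ?_⟩
        change d (-(h (x : A))) = e x - x
        simp only [e, LinearMap.sub_apply, LinearMap.id_apply, LinearMap.comp_apply, LinearMap.mem_ker.1 x.2, map_zero, map_neg, sub_zero]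
        abel
      · refine (Submodule.Quotient.eq _).2 ⟨-(g (y : B)), ?_⟩
        change d' (-(g (y : B))) = f y - y
        simp only [f, LinearMap.sub_apply, LinearMap.id_apply, LinearMap.comp_apply, LinearMap.mem_ker.1 y.2, map_zero, map_neg, sub_zero]
        abel
    rw [← hcls, ← hw, hD]
  · intro hv
    have h1 : v ∈ LinearMap.ker (cycClass d d') := hv
    rw [cycClass, TensorProduct.map_ker (LinearMap.exact_subtype_mkQ _) (Submodule.mkQ_surjective _)
      (LinearMap.exact_subtype_mkQ _) (Submodule.mkQ_surjective _)] at h1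
    obtain ⟨a, ha, b, hb, rfl⟩ := Submodule.mem_sup.1 h1
    rw [map_add]
    refine add_mem ?_ ?_
    · obtain ⟨a, rfl⟩ := ha
      clear hv h1
      induction a using TensorProduct.induction_on with
      | zero => simp
      | add p q hp hq => rw [map_add, map_add]; exact add_mem hp hq
      | tmul x y =>
        obtain ⟨w, hw⟩ := y.2
        refine ⟨ε (x : A) ⊗ₜ[k] w, ?_⟩
        change totD d d' ε _ = (x : A) ⊗ₜ[k] (((LinearMap.range d').comap (LinearMap.ker d').subtype).subtype y : B)
        rw [totD_tmul, hs.sq, show d (ε (x : A)) = 0 by rw [← neg_eq_zero, ← hs.anti, LinearMap.mem_ker.1 x.2, map_zero],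
          TensorProduct.zero_tmul, zero_add]
        exact congrArg ((x : A) ⊗ₜ[k] ·) hw
    · obtain ⟨a, rfl⟩ := hb
      clear hv h1
      induction a using TensorProduct.induction_on with
      | zero => simp
      | add p q hp hq => rw [map_add, map_add]; exact add_mem hp hq
      | tmul x y =>
        obtain ⟨w, hw⟩ := x.2
        refine ⟨w ⊗ₜ[k] (y : B), ?_⟩
        change totD d d' ε _ = (((LinearMap.range d).comap (LinearMap.ker d).subtype).subtype x : A) ⊗ₜ[k] (y : B)
        rw [totD_tmul, LinearMap.mem_ker.1 y.2, TensorProduct.tmul_zero, add_zero]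
        exact congrArg (· ⊗ₜ[k] (y : B)) hw

end Kunneth

end Groth.L12.GrSegLib
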