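import Groth.Prelude.Def_GrSeg
import Groth.Agent.L12.GrLCBase
import Mathlib.RingTheory.FiniteType
import Mathlib.RingTheory.FiniteStability

/-!
# Segre products of finitely generated graded modules are finitely generated
-/

set_option autoImplicit false

universe u

open scoped TensorProduct
open DirectSum

namespace Groth.L12.GrSegLib

open Groth.L12.GrLCLib

section Linear

variable {k : Type u} [Field k] {R : Type u} [CommRing R] [Algebra k R] (𝒜 : ℤ → Submodule k R) [GradedAlgebra 𝒜]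
  {M : Type u} [AddCommGroup M] [Module R M] [Module k M] [IsScalarTower k R M]
  {τ : Type u} [SetLike τ M] [AddSubgroupClass τ M] (ℳ : ℤ → τ) [DirectSum.Decomposition ℳ] [SetLike.GradedSMul 𝒜 ℳ]

include 𝒜 in
lemma cp_smul_k (n : ℤ) (c : k) (x : M) : cp ℳ n (c • x) = c • cp ℳ n x := by
  rw [← IsScalarTower.algebraMap_smul R c x, cp_smul_hom' 𝒜 ℳ (SetLike.algebraMap_mem_graded 𝒜 c) n x, sub_zero,
    IsScalarTower.algebraMap_smul]

include 𝒜 in
lemma smul_k_mem (n : ℤ) (c : k) {x : M} (hx : x ∈ ℳ n) : c • x ∈ ℳ n := by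
  rw [← IsScalarTower.algebraMap_smul R c x]
  have := smul_mem' 𝒜 ℳ (SetLike.algebraMap_mem_graded 𝒜 c) hx
  rwa [zero_add] at this

/-- component as a linear map over the field -/
noncomputable def cpk (n : ℤ) : M →ₗ[k] M where
  toFun := cp ℳ n
  map_add' := map_add _
  map_smul' c x := cp_smul_k 𝒜 ℳ n c x

end Linear

section Main

variable {k : Type u} [Field k] {R : Type u} [CommRing R] [Algebra k R] (𝒜 : ℤ → Submodule k R) [GradedAlgebra 𝒜]
  {S : Type u} [CommRing S] [Algebra k S] (ℬ : ℤ → Submodule k S) [GradedAlgebra ℬ]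
  {M : Type u} [AddCommGroup M] [Module R M] [Module k M] [IsScalarTower k R M]
  {τ : Type u} [SetLike τ M] [AddSubgroupClass τ M] (ℳ : ℤ → τ) [DirectSum.Decomposition ℳ] [SetLike.GradedSMul 𝒜 ℳ]
  {N : Type u} [AddCommGroup N] [Module S N] [Module k N] [IsScalarTower k S N]
  {τ' : Type u} [SetLike τ' N] [AddSubgroupClass τ' N] (𝒩 : ℤ → τ') [DirectSum.Decomposition 𝒩] [SetLike.GradedSMul ℬ 𝒩]

/-- the bilinear diagonal map -/
noncomputable def diagHom : M →+ (N →ₗ[k] M ⊗[k] N) :=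
  (DirectSum.toAddMonoid fun n =>
    ({ toFun := fun x => (TensorProduct.mk k M N (x : M)).comp (cpk ℬ 𝒩 n)
       map_zero' := by simp
       map_add' := fun x y => by
        refine LinearMap.ext fun z => ?_
        change ((x + y : ℳ n) : M) ⊗ₜ[k] _ = (x : M) ⊗ₜ[k] _ + (y : M) ⊗ₜ[k] _
        rw [AddMemClass.coe_add, TensorProduct.add_tmul] } : ℳ n →+ (N →ₗ[k] M ⊗[k] N))).comp
    (DirectSum.decomposeAddEquiv ℳ).toAddMonoidHom

lemma diagHom_apply {i : ℤ} {x : M} (hx : x ∈ ℳ i) (y : N) :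
    diagHom (k := k) ℬ ℳ 𝒩 x y = x ⊗ₜ[k] cp 𝒩 i y := by
  rw [diagHom, AddMonoidHom.comp_apply]
  rw [show (DirectSum.decomposeAddEquiv ℳ).toAddMonoidHom x = DirectSum.of _ i ⟨x, hx⟩ from
    DirectSum.decompose_of_mem ℳ hx, DirectSum.toAddMonoid_of]
  rfl

/-- projection onto the diagonal of a tensor product of graded modules -/
noncomputable def diag : M ⊗[k] N →ₗ[k] M ⊗[k] N :=
  TensorProduct.lift
    { toFun := diagHom (k := k) ℬ ℳ 𝒩
      map_add' := map_add _
      map_smul' := fun c x => by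
        induction x using induction_on_hom ℳ with
        | h0 => simp
        | hh i x hx =>
          refine LinearMap.ext fun y => ?_
          rw [diagHom_apply ℬ ℳ 𝒩 (smul_k_mem 𝒜 ℳ i c hx), RingHom.id_apply, LinearMap.smul_apply,
            diagHom_apply ℬ ℳ 𝒩 hx, TensorProduct.smul_tmul']
        | ha x y hx hy => rw [smul_add, map_add, hx, hy, map_add, RingHom.id_apply, smul_add] }

lemma diag_tmul {i j : ℤ} {x : M} {y : N} (hx : x ∈ ℳ i) (hy : y ∈ 𝒩 j) :
    diag 𝒜 ℬ ℳ 𝒩 (x ⊗ₜ[k] y) = if j = i then x ⊗ₜ[k] y else 0 := by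
  rw [diag, TensorProduct.lift.tmul]
  change diagHom (k := k) ℬ ℳ 𝒩 x y = _
  rw [diagHom_apply ℬ ℳ 𝒩 hx]
  split_ifs with h
  · rw [cp_same 𝒩 (h ▸ hy)]
  · rw [cp_ne 𝒩 hy h, TensorProduct.tmul_zero]

variable {T : Type u} [CommRing T] [Algebra k T] (𝒯 : ℤ → Submodule k T) [GradedAlgebra 𝒯]
  {ψ : T →ₐ[k] R ⊗[k] S}
  {P : Type u} [AddCommGroup P] [Module T P] [Module k P] [IsScalarTower k T P]
  {τQ : Type u} [SetLike τQ P] [AddSubgroupClass τQ P] (𝒬 : ℤ → τQ) [DirectSum.Decomposition 𝒬]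
  {φ : P →ₗ[k] M ⊗[k] N}

omit [DirectSum.Decomposition ℳ] [SetLike.GradedSMul 𝒜 ℳ] [DirectSum.Decomposition 𝒩] [SetLike.GradedSMul ℬ 𝒩]
  [GradedAlgebra 𝒜] [GradedAlgebra ℬ] in
lemma act_mul (ξ η : R ⊗[k] S) (z : M ⊗[k] N) :
    GrSeg.act k R S M N (ξ * η) z = GrSeg.act k R S M N ξ (GrSeg.act k R S M N η z) := by
  induction ξ using TensorProduct.induction_on with
  | zero => simp
  | add a b ha hb => simp [add_mul, ha, hb]
  | tmul a b =>
    induction η using TensorProduct.induction_on with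
    | zero => simp
    | add c d hc hd => simp [mul_add, hc, hd]
    | tmul c d =>
      induction z using TensorProduct.induction_on with
      | zero => simp
      | add v w hv hw => simp only [map_add, hv, hw]
      | tmul v w => simp [Algebra.TensorProduct.tmul_mul_tmul, GrSeg.act_tmul, mul_smul]

omit [DirectSum.Decomposition ℳ] [SetLike.GradedSMul 𝒜 ℳ] [DirectSum.Decomposition 𝒩] [SetLike.GradedSMul ℬ 𝒩]
  [GradedAlgebra 𝒜] [GradedAlgebra ℬ] in
lemma act_one (z : M ⊗[k] N) : GrSeg.act k R S M N 1 z = z := by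
  induction z using TensorProduct.induction_on with
  | zero => simp
  | add v w hv hw => rw [map_add, hv, hw]
  | tmul v w => rw [Algebra.TensorProduct.one_def, GrSeg.act_tmul, one_smul, one_smul]

include 𝒜 ℬ in
theorem isNoetherian_segreMod [Algebra.FiniteType k R] [Algebra.FiniteType k S] [Module.Finite R M]
    [Module.Finite S N] (hT : GrSeg.IsSegreRing 𝒜 ℬ 𝒯 ψ) (hP : GrSeg.IsSegreMod ψ ℳ 𝒩 𝒬 φ) : IsNoetherian T P := by
  classical
  haveI : IsNoetherianRing R := Algebra.FiniteType.isNoetherianRing k R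
  haveI : IsNoetherianRing (R ⊗[k] S) := Algebra.FiniteType.isNoetherianRing R _
  obtain ⟨a, x, hx⟩ := Module.Finite.exists_fin (R := R) (M := M)
  obtain ⟨b, y, hy⟩ := Module.Finite.exists_fin (R := S) (M := N)
  let A := GrSeg.act k R S M N
  let Θ : (Fin a × Fin b → R ⊗[k] S) → M ⊗[k] N := fun v => ∑ c, A (v c) (x c.1 ⊗ₜ[k] y c.2)
  have Θadd : ∀ v w, Θ (v + w) = Θ v + Θ w := fun v w => by
    simp only [Θ, Pi.add_apply, map_add, LinearMap.add_apply, Finset.sum_add_distrib]
  have Θsmul : ∀ ζ v, Θ (ζ • v) = A ζ (Θ v) := fun ζ v => by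
    simp only [Θ, Pi.smul_apply, smul_eq_mul, A, act_mul, map_sum]
  have hsurj : ∀ z, ∃ v, Θ v = z := fun z => by
    induction z using TensorProduct.induction_on with
    | zero => exact ⟨0, by simp [Θ]⟩
    | add z w hz hw =>
      obtain ⟨v, rfl⟩ := hz; obtain ⟨v', rfl⟩ := hw
      exact ⟨v + v', Θadd v v'⟩
    | tmul m n =>
      obtain ⟨cm, rfl⟩ := (Submodule.mem_span_range_iff_exists_fun R).1 (hx ▸ Submodule.mem_top (x := m))
      obtain ⟨cn, rfl⟩ := (Submodule.mem_span_range_iff_exists_fun S).1 (hy ▸ Submodule.mem_top (x := n))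
      refine ⟨fun c => cm c.1 ⊗ₜ[k] cn c.2, ?_⟩
      simp only [Θ, A, GrSeg.act_tmul, Fintype.sum_prod_type, TensorProduct.sum_tmul, TensorProduct.tmul_sum]
      exact Finset.sum_comm
  -- the diagonal of `η φ q` lies in `φ Q`
  have hfix : ∀ w : P, diag 𝒜 ℬ ℳ 𝒩 (φ w) = φ w := fun w => by
    induction w using induction_on_hom 𝒬 with
    | h0 => simp
    | ha v w hv hw => simp [hv, hw]
    | hh n v hv =>
      have hmem : φ v ∈ GrSeg.segrePiece k ℳ 𝒩 n := (hP.image_piece n).subset ⟨v, hv, rfl⟩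
      generalize φ v = z at hmem
      induction hmem using Submodule.span_induction with
      | mem z hz =>
        obtain ⟨m, hm, l, hl, rfl⟩ := hz
        rw [diag_tmul 𝒜 ℬ ℳ 𝒩 hm hl, if_pos rfl]
      | zero => simp
      | add v w _ _ hv hw => simp [hv, hw]
      | smul c v _ hv => simp [hv]
  let Φ : Submodule T P → Submodule k (M ⊗[k] N) := fun Q => (Q.restrictScalars k).map φ
  have hpure : ∀ (Q : Submodule T P) (i j : ℤ) (r : R) (s : S), r ∈ 𝒜 i → s ∈ ℬ j → ∀ q ∈ Q,
      diag 𝒜 ℬ ℳ 𝒩 (A (r ⊗ₜ[k] s) (φ q)) ∈ Φ Q := by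
    intro Q i j r s hr hs q hq
    by_cases hij : j = i
    · subst hij
      obtain ⟨t, -, ht⟩ : r ⊗ₜ[k] s ∈ (𝒯 j).map ψ.toLinearMap :=
        (hT.2 j).symm ▸ Submodule.subset_span ⟨r, hr, s, hs, rfl⟩
      have : A (r ⊗ₜ[k] s) (φ q) = φ (t • q) := by
        rw [hP.map_smul, show ψ t = r ⊗ₜ[k] s from ht]
      rw [this, hfix]
      exact ⟨t • q, Q.smul_mem t hq, rfl⟩
    · suffices h : diag 𝒜 ℬ ℳ 𝒩 (A (r ⊗ₜ[k] s) (φ q)) = 0 by rw [h]; exact zero_mem _
      clear hq
      induction q using induction_on_hom 𝒬 with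
      | h0 => simp
      | ha v w hv hw => simp [hv, hw]
      | hh n v hv =>
        have hmem : φ v ∈ GrSeg.segrePiece k ℳ 𝒩 n := (hP.image_piece n).subset ⟨v, hv, rfl⟩
        generalize φ v = z at hmem
        induction hmem using Submodule.span_induction with
        | mem z hz =>
          obtain ⟨m, hm, l, hl, rfl⟩ := hz
          rw [GrSeg.act_tmul, diag_tmul 𝒜 ℬ ℳ 𝒩 (smul_mem' 𝒜 ℳ hr hm) (smul_mem' ℬ 𝒩 hs hl),
            if_neg fun h => hij (add_right_cancel h)]
        | zero => simp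
        | add v w _ _ hv hw => simp [hv, hw]
        | smul c v _ hv => simp [hv]
  have hgen : ∀ (Q : Submodule T P) (η : R ⊗[k] S), ∀ q ∈ Q, diag 𝒜 ℬ ℳ 𝒩 (A η (φ q)) ∈ Φ Q := by
    intro Q η q hq
    induction η using TensorProduct.induction_on with
    | zero => simp
    | add v w hv hw => simp only [map_add, LinearMap.add_apply]; exact add_mem hv hw
    | tmul r s =>
      induction r using induction_on_hom 𝒜 with
      | h0 => simp
      | ha v w hv hw => simp only [TensorProduct.add_tmul, map_add, LinearMap.add_apply]; exact add_mem hv hw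
      | hh i r hr =>
        induction s using induction_on_hom ℬ with
        | h0 => simp
        | ha v w hv hw => simp only [TensorProduct.tmul_add, map_add, LinearMap.add_apply]; exact add_mem hv hw
        | hh j s hs => exact hpure Q i j r s hr hs q hq
  let L : Submodule T P → Submodule (R ⊗[k] S) (Fin a × Fin b → R ⊗[k] S) := fun Q =>
    { carrier := {v | ∀ η, diag 𝒜 ℬ ℳ 𝒩 (A η (Θ v)) ∈ Φ Q}
      add_mem' := fun {v w} hv hw η => by rw [Θadd, map_add, map_add]; exact add_mem (hv η) (hw η)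
      zero_mem' := fun η => by simp [Θ]
      smul_mem' := fun ζ v hv η => by rw [Θsmul, ← act_mul]; exact hv (η * ζ) }
  have hmono : StrictMono L := fun Q Q' hlt =>
    lt_of_le_of_ne (fun v hv η => by
      obtain ⟨w, hw, hww⟩ := hv η
      exact ⟨w, hlt.le hw, hww⟩) fun heq => by
      obtain ⟨q, hq', hq⟩ := SetLike.exists_of_lt hlt
      obtain ⟨v, hv⟩ := hsurj (φ q)
      have hvL : v ∈ L Q := heq ▸ fun η => hv ▸ hgen Q' η q hq'
      have h1 := hvL 1
      rw [act_one, hv, hfix] at h1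
      obtain ⟨q₀, hq₀, hq₀'⟩ := h1
      exact hq (hP.injective hq₀' ▸ hq₀)
  exact isNoetherian_iff'.2 hmono.wellFoundedGT

end Main

section Ring

variable {k : Type u} [Field k] {R : Type u} [CommRing R] [Algebra k R] (𝒜 : ℤ → Submodule k R) [GradedAlgebra 𝒜]
  {S : Type u} [CommRing S] [Algebra k S] (ℬ : ℤ → Submodule k S) [GradedAlgebra ℬ]
  {T : Type u} [CommRing T] [Algebra k T] (𝒯 : ℤ → Submodule k T) [GradedAlgebra 𝒯]

theorem isSegreMod_self {ψ : T →ₐ[k] R ⊗[k] S} (hT : GrSeg.IsSegreRing 𝒜 ℬ 𝒯 ψ) :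
    GrSeg.IsSegreMod (P := T) ψ 𝒜 ℬ 𝒯 ψ.toLinearMap where
  injective := hT.1
  image_piece n := by
    rw [← hT.2 n]
    rfl
  map_smul t p := by
    change ψ (t * p) = _
    rw [map_mul]
    change ψ t * ψ p = GrSeg.act k R S R S (ψ t) (ψ p)
    generalize ψ t = ξ
    generalize ψ p = η
    induction ξ using TensorProduct.induction_on with
    | zero => simp
    | add a b ha hb => simp [add_mul, ha, hb]
    | tmul a b =>
      induction η using TensorProduct.induction_on with
      | zero => simp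
      | add c d hc hd => simp [mul_add, hc, hd]
      | tmul c d => simp [Algebra.TensorProduct.tmul_mul_tmul, GrSeg.act_tmul]

end Ring

end Groth.L12.GrSegLib
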