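import Groth.Agent.L12.GrSegRes
import Groth.Agent.L12.GrLCH

/-!
# Cycles of a resolution modulo torsion
-/

set_option autoImplicit false

universe u

open DirectSum

namespace Groth.L12.GrSegLib

open Groth.L12.GrLCLib

variable {R : Type u} [CommRing R] {σ : Type u} [SetLike σ R] [AddSubgroupClass σ R] {𝒜 : ℤ → σ} [GradedRing 𝒜]
  {M : Type u} [AddCommGroup M] [Module R M] {τ : Type u} [SetLike τ M] [AddSubgroupClass τ M] {ℳ : ℤ → τ}
  [DirectSum.Decomposition ℳ] [SetLike.GradedSMul 𝒜 ℳ] (E : GrLC.StarInjRes 𝒜 ℳ) (a : HomogeneousIdeal 𝒜)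

/-- boundaries of a resolution modulo torsion, with the augmentation -/
noncomputable def bd1 : (n : ℕ) → Submodule R (((resSeq E).tq a).X n).carrier
  | 0 => LinearMap.range ((resSeq E).tp a 0 ∘ₗ E.ε)
  | n + 1 => LinearMap.range (((resSeq E).tq a).d n)

/-- local cohomology of positive degree from cycles modulo torsion -/
theorem exists_delta1 (n : ℕ) :
    ∃ δ : LinearMap.ker (((resSeq E).tq a).d n) →ₗ[R] E.H a (n + 1), Function.Surjective δ ∧
      (∀ x, δ x = 0 ↔ x.1 ∈ bd1 E a n) ∧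
      ∀ (g : ℤ) (x : LinearMap.ker (((resSeq E).tq a).d n)), x.1 ∈ (((resSeq E).tq a).X n).gr g →
        δ x ∈ E.Hgr a (n + 1) g := by
  let p : (E.X n).carrier →ₗ[R] (((resSeq E).tq a).X n).carrier := (resSeq E).tp a n
  let W : Submodule R (E.X n).carrier := Submodule.comap (E.d n) (GrLC.gam a.toIdeal (E.X (n + 1)).carrier)
  have hW : ∀ y : W, E.d n y.1 ∈ E.cocyc a (n + 1) := fun y => ⟨y.2, LinearMap.mem_ker.2 (d_d E n y.1)⟩
  let γ : W →ₗ[R] E.H a (n + 1) := E.toH a (n + 1) ∘ₗ LinearMap.codRestrict _ (E.d n ∘ₗ W.subtype) hW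
  have hp0 : ∀ y, p y = 0 ↔ y ∈ GrLC.gam a.toIdeal (E.X n).carrier := fun y => (resSeq E).tp_eq_zero a
  have hsmem : ∀ y : W, p y.1 ∈ LinearMap.ker (((resSeq E).tq a).d n) := fun y =>
    LinearMap.mem_ker.2 (((resSeq E).tp_d a n y.1).trans (((resSeq E).tp_eq_zero a).2 y.2))
  let s : W →ₗ[R] LinearMap.ker (((resSeq E).tq a).d n) := LinearMap.codRestrict _ (p ∘ₗ W.subtype) hsmem
  have hlift : ∀ (x : LinearMap.ker (((resSeq E).tq a).d n)) (z : (E.X n).carrier), p z = x.1 →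
      ∃ h : z ∈ W, s ⟨z, h⟩ = x := fun x z hz => by
    refine ⟨((resSeq E).tp_eq_zero a).1 ?_, Subtype.ext hz⟩
    exact (((resSeq E).tp_d a n z).symm.trans (congrArg _ hz)).trans x.2
  have hss : Function.Surjective s := fun x => by
    obtain ⟨z, hz⟩ := (resSeq E).tp_surjective a n x.1
    obtain ⟨h, hs⟩ := hlift x z hz
    exact ⟨_, hs⟩
  have hγ : ∀ y, γ y = 0 ↔ ∃ w, w ∈ GrLC.gam a.toIdeal (E.X n).carrier ∧ E.d n w = E.d n y.1 := fun y =>
    (Submodule.Quotient.mk_eq_zero _).trans Iff.rfl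
  have hker : LinearMap.ker s ≤ LinearMap.ker γ := fun y hy => (hγ y).2
    ⟨y.1, (hp0 _).1 (congrArg Subtype.val (LinearMap.mem_ker.1 hy)), rfl⟩
  let e := LinearMap.quotKerEquivOfSurjective s hss
  let δ : LinearMap.ker (((resSeq E).tq a).d n) →ₗ[R] E.H a (n + 1) :=
    Submodule.liftQ (LinearMap.ker s) γ hker ∘ₗ e.symm.toLinearMap
  have hδ : ∀ y, δ (s y) = γ y := fun y => by
    change Submodule.liftQ (LinearMap.ker s) γ hker (e.symm (s y)) = γ y
    rw [show e.symm (s y) = Submodule.Quotient.mk y from e.symm_apply_eq.2 rfl]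
    rfl
  refine ⟨δ, fun x => ?_, fun x => ?_, fun g x hx => ?_⟩
  · obtain ⟨u, rfl⟩ := Submodule.Quotient.mk_surjective _ x
    obtain ⟨v, hv⟩ := (E.exact_succ n).le u.2.2
    have hvW : v ∈ W := by
      change E.d n v ∈ GrLC.gam a.toIdeal (E.X (n + 1)).carrier
      rw [hv]
      exact u.2.1
    exact ⟨s ⟨v, hvW⟩, (hδ _).trans (congrArg (E.toH a (n + 1)) (Subtype.ext hv))⟩
  · obtain ⟨y, rfl⟩ := hss x
    rw [hδ, hγ]
    constructor
    · rintro ⟨w, hw, hwy⟩
      have hq : p (y.1 - w) = p y.1 := by rw [map_sub, (hp0 _).2 hw, sub_zero]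
      have hdiff : y.1 - w ∈ LinearMap.ker (E.d n) := LinearMap.mem_ker.2 (by rw [map_sub, hwy, sub_self])
      change p y.1 ∈ _
      rw [← hq]
      cases n with
      | zero =>
        obtain ⟨m, hm⟩ := E.exact_zero.le hdiff
        exact ⟨m, congrArg p hm⟩
      | succ i =>
        obtain ⟨v, hv⟩ := (E.exact_succ i).le hdiff
        exact ⟨(resSeq E).tp a i v, ((resSeq E).tp_d a i v).trans (congrArg p hv)⟩
    · intro h
      suffices h : ∃ v : (E.X n).carrier, E.d n v = 0 ∧ p v = p y.1 by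
        obtain ⟨v, hv, hvy⟩ := h
        exact ⟨y.1 - v, (hp0 _).1 (by rw [map_sub, hvy, sub_self]), by rw [map_sub, hv, sub_zero]⟩
      cases n with
      | zero =>
        obtain ⟨m, hm⟩ := h
        exact ⟨E.ε m, d_ε E m, hm⟩
      | succ i =>
        obtain ⟨u, hu⟩ := h
        obtain ⟨u, rfl⟩ := (resSeq E).tp_surjective a i u
        exact ⟨E.d i u, d_d E i u, ((resSeq E).tp_d a i u).symm.trans hu⟩
  · obtain ⟨z, hz, hzx⟩ := hx
    obtain ⟨h, hs⟩ := hlift x z hzx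
    rw [← hs, hδ]
    exact ⟨⟨E.d n z, hW ⟨z, h⟩⟩, E.d_grHom n g z hz, rfl⟩

end Groth.L12.GrSegLib
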