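import Groth.Agent.L12.GrSegPieces
import Groth.Agent.L12.GrSegCount
import Groth.Agent.L12.GrSegOne

/-!
# Cohomology of a resolution modulo torsion, degree by degree
-/

set_option autoImplicit false

universe u

open DirectSum

namespace Groth.L12.GrSegLib

open Groth.L12.GrLCLib
open scoped KMod

variable {k : Type u} [Field k]

/-- two surjections with the same kernel -/
theorem nonempty_equiv_of_ker_eq {V W W' : Type u} [AddCommGroup V] [Module k V] [AddCommGroup W] [Module k W]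
    [AddCommGroup W'] [Module k W'] (f : V →ₗ[k] W) (g : V →ₗ[k] W') (hf : Function.Surjective f)
    (hg : Function.Surjective g) (h : LinearMap.ker f = LinearMap.ker g) : Nonempty (W ≃ₗ[k] W') :=
  ⟨(f.quotKerEquivOfSurjective hf).symm ≪≫ₗ Submodule.quotEquivOfEq _ _ h ≪≫ₗ g.quotKerEquivOfSurjective hg⟩

variable {R : Type u} [CommRing R] [Algebra k R] {𝒜 : ℤ → Submodule k R} [GradedAlgebra 𝒜]
  {M : Type u} [AddCommGroup M] [Module R M]
  {τ : Type u} [SetLike τ M] [AddSubgroupClass τ M] {ℳ : ℤ → τ} [DirectSum.Decomposition ℳ] [SetLike.GradedSMul 𝒜 ℳ]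
  (E : GrLC.StarInjRes 𝒜 ℳ) (a : HomogeneousIdeal 𝒜)

/-- cohomology of the resolution modulo torsion -/
noncomputable abbrev G1 (i : ℕ) (d : ℤ) : Type u := ((resSeq E).tq a).GK i d

/-- the connecting map in one degree -/
theorem exists_deltaK (n : ℕ) (d : ℤ) :
    ∃ D : ((resSeq E).tq a).cyK n d →ₗ[k] Hk E a (n + 1) d, Function.Surjective D ∧
      ∀ x, D x = 0 ↔ x.1 ∈ bd1 E a n := by
  obtain ⟨δ, hδs, hδk, hδg⟩ := exists_delta1 E a n
  have hm : ∀ x : ((resSeq E).tq a).cyK n d, x.1 ∈ LinearMap.ker (((resSeq E).tq a).d n) := fun x =>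
    LinearMap.mem_ker.2 (((resSeq E).tq a).mem_cyK.1 x.2).2
  let D : ((resSeq E).tq a).cyK n d →ₗ[k] Hk E a (n + 1) d :=
    { toFun := fun x => ⟨δ ⟨x.1, hm x⟩, hδg d ⟨x.1, hm x⟩ (((resSeq E).tq a).mem_cyK.1 x.2).1⟩
      map_add' := fun x y => Subtype.ext (map_add δ ⟨x.1, hm x⟩ ⟨y.1, hm y⟩)
      map_smul' := fun c x => Subtype.ext ((δ.restrictScalars k).map_smul c ⟨x.1, hm x⟩) }
  refine ⟨D, fun y => ?_, fun x => ⟨fun h => (hδk _).1 (congrArg Subtype.val h), fun h => Subtype.ext ((hδk _).2 h)⟩⟩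
  obtain ⟨x, hx, hxy⟩ := exists_homog_preimage (((resSeq E).tq a).X n).gr (E.Hgr a (n + 1)) (Hgr_isInternal a E (n + 1))
    _ (ker_isHomogeneous (((resSeq E).tq a).X n).gr (((resSeq E).tq a).X (n + 1)).gr (((resSeq E).tq a).d_grHom n))
    δ hδg hδs y.2
  exact ⟨⟨x.1, ((resSeq E).tq a).mem_cyK.2 ⟨hx, x.2⟩⟩, Subtype.ext hxy⟩

theorem nonempty_G1_succ (n : ℕ) (d : ℤ) : Nonempty (G1 E a (n + 1) d ≃ₗ[k] Hk E a (n + 2) d) := by
  obtain ⟨D, hDs, hDk⟩ := exists_deltaK E a (n + 1) d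
  refine nonempty_equiv_of_ker_eq (Submodule.mkQ _) D (Submodule.mkQ_surjective _) hDs ?_
  ext x
  rw [Submodule.ker_mkQ, LinearMap.mem_ker, hDk]
  rfl

theorem finite_G1_succ [Algebra.FiniteType k R] [Module.Finite R M] (h0 : 𝒜 0 = Submodule.span k {(1 : R)})
    (ha : a.toIdeal = Ideal.span (⋃ n ∈ Set.Ioi (0 : ℤ), (𝒜 n : Set R))) (n : ℕ) (d : ℤ) :
    Module.Finite k (G1 E a (n + 1) d) := by
  obtain ⟨e⟩ := nonempty_G1_succ E a n d
  haveI := finite_Hk E a h0 ha (n + 2) d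
  exact Module.Finite.equiv e.symm

variable [Module k M] [IsScalarTower k R M]

/-- the image of the module in the torsion quotient -/
noncomputable def augQ : M →ₗ[k] (((resSeq E).tq a).X 0).carrier := ((resSeq E).tp a 0 ∘ₗ E.ε).restrictScalars k

lemma cp_augQ (d : ℤ) (x : M) : cp (((resSeq E).tq a).X 0).gr d (augQ E a x) = augQ E a (cp ℳ d x) :=
  cp_map ℳ (((resSeq E).tq a).X 0).gr (((resSeq E).tp a 0 ∘ₗ E.ε)).toAddMonoidHom
    (fun g y hy => (resSeq E).tp_grHom a 0 g _ (E.ε_grHom g y hy)) d x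

lemma augQ_eq_zero {x : M} : augQ E a x = 0 ↔ x ∈ GrLC.gam a.toIdeal M := by
  refine ((resSeq E).tp_eq_zero a).trans ⟨fun ⟨n, hn⟩ => ⟨n, fun c hc => E.ε_injective ?_⟩, fun h => gam_mono E.ε h⟩
  rw [map_smul, map_zero]
  exact hn c hc

lemma d_augQ (x : M) : ((resSeq E).tq a).d 0 (augQ E a x) = 0 := by
  refine ((resSeq E).tp_d a 0 (E.ε x)).trans ?_
  rw [show (resSeq E).d 0 (E.ε x) = 0 from d_ε E x, map_zero]

variable {r : ∀ i d, (((resSeq E).tq a).X i).carrier →ₗ[k] G1 E a i d}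
  (hr : ∀ i d, (∀ x ∈ ((resSeq E).tq a).bdK i, r i d x = 0) ∧
    (∀ x : ((resSeq E).tq a).cyK i d, r i d x.1 = Submodule.Quotient.mk x) ∧
    ∀ x, r i d (cp (((resSeq E).tq a).X i).gr d x) = r i d x)

include hr

lemma r_augQ_eq_zero {d : ℤ} {x : M} (hx : x ∈ pieceK 𝒜 ℳ d) :
    r 0 d (augQ E a x) = 0 ↔ x ∈ GrLC.gam a.toIdeal M := by
  have hc : augQ E a x ∈ ((resSeq E).tq a).cyK 0 d := ((resSeq E).tq a).mem_cyK.2
    ⟨(resSeq E).tp_grHom a 0 d _ (E.ε_grHom d x ((mem_pieceK ℳ).1 hx)), d_augQ E a x⟩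
  refine Iff.trans ?_ (augQ_eq_zero E a)
  refine ⟨fun h => ?_, fun h => by rw [h, map_zero]⟩
  rw [show r 0 d (augQ E a x) = Submodule.Quotient.mk ⟨_, hc⟩ from (hr 0 d).2.1 ⟨_, hc⟩, Submodule.Quotient.mk_eq_zero] at h
  exact (Submodule.mem_bot k).1 h

lemma r_augQ_cp (d : ℤ) (x : M) : r 0 d (augQ E a (cp ℳ d x)) = r 0 d (augQ E a x) := by
  rw [← cp_augQ, (hr 0 d).2.2]

/-- rank and nullity on a piece -/
theorem finrank_range_augQ (d : ℤ) [Module.Finite k (pieceK 𝒜 ℳ d)] :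
    Module.finrank k (LinearMap.range (r 0 d ∘ₗ augQ E a)) + Module.finrank k (Hk E a 0 d) =
      Module.finrank k (pieceK 𝒜 ℳ d) := by
  obtain ⟨e⟩ := exists_Hk_zero E a d
  let f := (r 0 d ∘ₗ augQ E a).domRestrict (pieceK 𝒜 ℳ d)
  have h1 : LinearMap.range f = LinearMap.range (r 0 d ∘ₗ augQ E a) := by
    refine le_antisymm ?_ ?_
    · rintro _ ⟨x, rfl⟩
      exact ⟨x.1, rfl⟩
    · rintro _ ⟨x, rfl⟩
      exact ⟨⟨cp ℳ d x, (mem_pieceK ℳ).2 (cp_mem ℳ d x)⟩, r_augQ_cp E a hr d x⟩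
  have h2 : LinearMap.ker f = ((GrLC.gam a.toIdeal M).restrictScalars k).comap (pieceK 𝒜 ℳ d).subtype := by
    ext x
    exact r_augQ_eq_zero E a hr x.2
  have h3 : Module.finrank k (LinearMap.ker f) = Module.finrank k (Hk E a 0 d) := by
    rw [h2, ← e.finrank_eq]
    exact ((Submodule.equivMapOfInjective _ (pieceK 𝒜 ℳ d).injective_subtype _).trans
      (LinearEquiv.ofEq _ _ (Submodule.map_comap_subtype _ _))).finrank_eq
  rw [← h1, ← h3]
  exact LinearMap.finrank_range_add_finrank_ker f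

theorem exists_D0 (d : ℤ) : ∃ D : G1 E a 0 d →ₗ[k] Hk E a 1 d,
    Function.Surjective D ∧ LinearMap.ker D = LinearMap.range (r 0 d ∘ₗ augQ E a) := by
  obtain ⟨D, hDs, hDk⟩ := exists_deltaK E a 0 d
  let p : Submodule k (((resSeq E).tq a).cyK 0 d) := (((resSeq E).tq a).bdK 0).comap (((resSeq E).tq a).cyK 0 d).subtype
  have hle : p ≤ LinearMap.ker D := fun x hx => by
    rw [LinearMap.mem_ker, hDk, show x.1 = 0 from (Submodule.mem_bot k).1 hx]
    exact zero_mem _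
  refine ⟨Submodule.liftQ p D hle, fun y => ?_, le_antisymm (fun g hg => ?_) ?_⟩
  · obtain ⟨x, rfl⟩ := hDs y
    exact ⟨Submodule.Quotient.mk x, rfl⟩
  · obtain ⟨x, rfl⟩ := Submodule.Quotient.mk_surjective _ g
    obtain ⟨m, hm⟩ := (hDk x).1 hg
    refine ⟨m, ?_⟩
    change r 0 d (augQ E a m) = _
    rw [show augQ E a m = x.1 from hm, (hr 0 d).2.1 x]
  · rintro _ ⟨m, rfl⟩
    have hc : augQ E a (cp ℳ d m) ∈ ((resSeq E).tq a).cyK 0 d := ((resSeq E).tq a).mem_cyK.2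
      ⟨(resSeq E).tp_grHom a 0 d _ (E.ε_grHom d _ (cp_mem ℳ d m)), d_augQ E a _⟩
    change Submodule.liftQ p D hle (r 0 d (augQ E a m)) = 0
    rw [← r_augQ_cp E a hr, show r 0 d (augQ E a (cp ℳ d m)) = Submodule.Quotient.mk ⟨_, hc⟩ from (hr 0 d).2.1 ⟨_, hc⟩]
    exact (hDk ⟨_, hc⟩).2 ⟨cp ℳ d m, rfl⟩

theorem finite_G1_zero [Algebra.FiniteType k R] [Module.Finite R M] (h0 : 𝒜 0 = Submodule.span k {(1 : R)})
    (ha : a.toIdeal = Ideal.span (⋃ n ∈ Set.Ioi (0 : ℤ), (𝒜 n : Set R))) (d : ℤ) : Module.Finite k (G1 E a 0 d) := by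
  obtain ⟨D, hDs, hDk⟩ := exists_D0 E a hr d
  haveI := finite_pieceK (𝒜 := 𝒜) ℳ h0 d
  haveI := finite_Hk E a h0 ha 1 d
  haveI : Module.Finite k (LinearMap.ker D) := by
    rw [hDk]
    have hrange : LinearMap.range (r 0 d ∘ₗ augQ E a) =
        LinearMap.range ((r 0 d ∘ₗ augQ E a).domRestrict (pieceK 𝒜 ℳ d)) := by
      refine le_antisymm ?_ ?_
      · rintro _ ⟨x, rfl⟩
        exact ⟨⟨cp ℳ d x, (mem_pieceK ℳ).2 (cp_mem ℳ d x)⟩, r_augQ_cp E a hr d x⟩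
      · rintro _ ⟨x, rfl⟩
        exact ⟨x.1, rfl⟩
    rw [hrange]
    exact inferInstance
  haveI : Module.Finite k (G1 E a 0 d ⧸ LinearMap.ker D) := Module.Finite.equiv (D.quotKerEquivOfSurjective hDs).symm
  exact Module.Finite.of_submodule_quotient (LinearMap.ker D)

theorem finrank_G1_zero [Algebra.FiniteType k R] [Module.Finite R M] (h0 : 𝒜 0 = Submodule.span k {(1 : R)})
    (ha : a.toIdeal = Ideal.span (⋃ n ∈ Set.Ioi (0 : ℤ), (𝒜 n : Set R))) (d : ℤ) :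
    Module.finrank k (G1 E a 0 d) =
      Module.finrank k (LinearMap.range (r 0 d ∘ₗ augQ E a)) + Module.finrank k (Hk E a 1 d) := by
  obtain ⟨D, hDs, hDk⟩ := exists_D0 E a hr d
  haveI := finite_G1_zero E a hr h0 ha d
  rw [← LinearMap.finrank_range_add_finrank_ker D, hDk, LinearMap.range_eq_top.2 hDs, finrank_top, add_comm]

end Groth.L12.GrSegLib
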