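import Groth.Agent.L12.GrSegTot

/-!
# A resolution modulo torsion
-/

set_option autoImplicit false

universe u

open DirectSum

namespace Groth.L12.GrSegLib

open Groth.L12.GrLCLib

variable {R : Type u} [CommRing R] {σ : Type u} [SetLike σ R] [AddSubgroupClass σ R] {𝒜 : ℤ → σ} [GradedRing 𝒜]

/-- modulo torsion there is no torsion -/
theorem gam_quo_eq_bot {I : Ideal R} (hI : I.FG) (M : Type u) [AddCommGroup M] [Module R M] :
    GrLC.gam I (M ⧸ GrLC.gam I M) = ⊥ := eq_bot_iff.2 fun q hq => by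
  classical
  obtain ⟨y, rfl⟩ := Submodule.mkQ_surjective _ q
  obtain ⟨n, hn⟩ := hq
  obtain ⟨G, hG⟩ := Submodule.FG.pow hI n
  have hg : ∀ g ∈ G, ∃ N : ℕ, ∀ c ∈ I ^ N, c • g • y = 0 := fun g hg =>
    (Submodule.Quotient.mk_eq_zero _).1 ((Submodule.Quotient.mk_smul _ g y).trans (hn g (hG ▸ Ideal.subset_span hg)))
  choose N hN using hg
  let B := G.attach.sup fun g => N g.1 g.2
  refine (Submodule.mem_bot _).2 ((Submodule.Quotient.mk_eq_zero _).2 ⟨B + n, fun c hc => ?_⟩)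
  rw [pow_add] at hc
  induction hc using Submodule.mul_induction_on' with
  | add a _ b _ ha hb => rw [add_smul, ha, hb, add_zero]
  | mem_mul_mem a ha b hb =>
    rw [← hG] at hb
    induction hb using Submodule.span_induction with
    | mem g hg =>
      rw [mul_smul]
      exact hN g hg a (Ideal.pow_le_pow_right (Finset.le_sup (f := fun g : G => N g.1 g.2) (Finset.mem_attach G ⟨g, hg⟩)) ha)
    | zero => rw [mul_zero, zero_smul]
    | add v w _ _ hv hw => rw [mul_add, add_smul, hv, hw, add_zero]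
    | smul r v _ hv => rw [smul_eq_mul, mul_left_comm, mul_smul, hv, smul_zero]

/-- a resolution as a sequence -/
def resSeq {M : Type u} [AddCommGroup M] [Module R M] {τ : Type u} [SetLike τ M] [AddSubgroupClass τ M] {ℳ : ℤ → τ}
    [DirectSum.Decomposition ℳ] [SetLike.GradedSMul 𝒜 ℳ] (E : GrLC.StarInjRes 𝒜 ℳ) : GrSeq 𝒜 where
  X := E.X
  d := E.d
  d_grHom := E.d_grHom
  d_d n x := LinearMap.mem_ker.1 ((E.exact_succ n).ge ⟨x, rfl⟩)

variable (Q : GrSeq 𝒜) (a : HomogeneousIdeal 𝒜)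

/-- a sequence modulo torsion -/
noncomputable def GrSeq.tq : GrSeq 𝒜 where
  X n := quoG 𝒜 (Q.X n).gr (GrLC.gam a.toIdeal (Q.X n).carrier) (gam_isHomogeneous 𝒜 (Q.X n).gr a)
  d n := Submodule.mapQ _ _ (Q.d n) fun _ hx => gam_mono (Q.d n) hx
  d_grHom n g x hx := by
    obtain ⟨y, hy, rfl⟩ := hx
    exact ⟨Q.d n y, Q.d_grHom n g y hy, rfl⟩
  d_d n x := by
    obtain ⟨y, rfl⟩ := Submodule.mkQ_surjective _ x
    change Submodule.Quotient.mk (Q.d (n + 1) (Q.d n y)) = 0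
    rw [Q.d_d]
    rfl

/-- reduction modulo torsion in each term -/
noncomputable def GrSeq.tp (n : ℕ) : (Q.X n).carrier →ₗ[R] ((Q.tq a).X n).carrier :=
  Submodule.mkQ (GrLC.gam a.toIdeal (Q.X n).carrier)

lemma GrSeq.tp_surjective (n : ℕ) : Function.Surjective (Q.tp a n) := Submodule.mkQ_surjective _

lemma GrSeq.tp_eq_zero {n : ℕ} {x : (Q.X n).carrier} : Q.tp a n x = 0 ↔ x ∈ GrLC.gam a.toIdeal (Q.X n).carrier :=
  Submodule.Quotient.mk_eq_zero _

lemma GrSeq.tp_grHom (n : ℕ) : GrLC.IsGrHom (Q.X n).gr ((Q.tq a).X n).gr (Q.tp a n) := fun _ x hx => ⟨x, hx, rfl⟩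

lemma GrSeq.tp_d (n : ℕ) (x : (Q.X n).carrier) : (Q.tq a).d n (Q.tp a n x) = Q.tp a (n + 1) (Q.d n x) := rfl

/-- reduction modulo torsion -/
noncomputable def GrSeq.tmap : Q.tot.carrier →ₗ[R] (Q.tq a).tot.carrier :=
  DirectSum.toModule R ℕ _ fun n => (Q.tq a).inc n ∘ₗ Q.tp a n

lemma GrSeq.tmap_inc (n : ℕ) (x : (Q.X n).carrier) : Q.tmap a (Q.inc n x) = (Q.tq a).inc n (Q.tp a n x) :=
  DirectSum.toModule_lof (M := fun n => (Q.X n).carrier) R n x

lemma GrSeq.prj_tmap (n : ℕ) (v : Q.tot.carrier) : (Q.tq a).prj n (Q.tmap a v) = Q.tp a n (Q.prj n v) := by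
  induction v using Q.induction with
  | h0 => simp
  | ha v w hv hw => simp only [map_add, hv, hw]
  | hi i x =>
    rw [Q.tmap_inc]
    by_cases h : n = i
    · subst h; rw [GrSeq.prj_inc, GrSeq.prj_inc]
    · rw [GrSeq.prj_inc_ne _ h, GrSeq.prj_inc_ne _ h, map_zero]

lemma GrSeq.tmap_grHom : GrLC.IsGrHom Q.tot.gr (Q.tq a).tot.gr (Q.tmap a) := fun g v hv n => by
  change (Q.tq a).prj n (Q.tmap a v) ∈ _
  rw [Q.prj_tmap]
  exact Q.tp_grHom a n g _ (hv n)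

lemma GrSeq.tmap_surjective : Function.Surjective (Q.tmap a) := fun v => by
  induction v using (Q.tq a).induction with
  | h0 => exact ⟨0, map_zero _⟩
  | ha v w hv hw =>
    obtain ⟨v, rfl⟩ := hv
    obtain ⟨w, rfl⟩ := hw
    exact ⟨v + w, map_add _ _ _⟩
  | hi i x =>
    obtain ⟨y, rfl⟩ := Q.tp_surjective a i x
    exact ⟨Q.inc i y, Q.tmap_inc a i y⟩

lemma GrSeq.tmap_dT (v : Q.tot.carrier) : Q.tmap a (Q.dT v) = (Q.tq a).dT (Q.tmap a v) :=
  (Q.tq a).ext_prj fun n => by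
    cases n with
    | zero => rw [Q.prj_tmap, Q.prj_dT_zero, GrSeq.prj_dT_zero, map_zero]
    | succ n => rw [Q.prj_tmap, Q.prj_dT_succ, GrSeq.prj_dT_succ, Q.prj_tmap, Q.tp_d]

lemma GrSeq.tmap_sgn (v : Q.tot.carrier) : Q.tmap a (Q.sgn v) = (Q.tq a).sgn (Q.tmap a v) :=
  (Q.tq a).ext_prj fun n => by rw [Q.prj_tmap, Q.prj_sgn, GrSeq.prj_sgn, Q.prj_tmap, map_smul]

lemma GrSeq.tmap_lev (i : ℕ) (v : Q.tot.carrier) : Q.tmap a (Q.lev i v) = (Q.tq a).lev i (Q.tmap a v) := by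
  change Q.tmap a (Q.inc i (Q.prj i v)) = (Q.tq a).inc i ((Q.tq a).prj i (Q.tmap a v))
  rw [Q.tmap_inc, Q.prj_tmap]

lemma GrSeq.mem_gam_tot (I : Ideal R) {v : Q.tot.carrier} (h : ∀ n, Q.prj n v ∈ GrLC.gam I (Q.X n).carrier) :
    v ∈ GrLC.gam I Q.tot.carrier := by
  obtain ⟨B, hB⟩ := Q.exists_bound v
  have hv : v = ∑ n ∈ Finset.range B, Q.inc n (Q.prj n v) := Q.ext_prj fun m => by
    rw [map_sum]
    by_cases hm : m < B
    · rw [Finset.sum_eq_single m (fun n _ hn => Q.prj_inc_ne (Ne.symm hn) _) (fun hn => absurd (Finset.mem_range.2 hm) hn),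
        Q.prj_inc]
    · rw [hB m (not_lt.1 hm), Finset.sum_eq_zero fun n hn => Q.prj_inc_ne (by rw [Finset.mem_range] at hn; omega) _]
  rw [hv]
  exact Submodule.sum_mem _ fun n _ => gam_mono (Q.inc n) (h n)

lemma GrSeq.tmap_eq_zero {v : Q.tot.carrier} : Q.tmap a v = 0 ↔ v ∈ GrLC.gam a.toIdeal Q.tot.carrier := by
  refine ⟨fun h => Q.mem_gam_tot _ fun n => (Q.tp_eq_zero a).1 ?_, fun h => (Q.tq a).ext_prj fun n => ?_⟩
  · rw [← Q.prj_tmap, h, map_zero]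
  · rw [Q.prj_tmap, map_zero]
    exact (Q.tp_eq_zero a).2 (gam_mono (Q.prj n) h)

lemma GrSeq.gam_tq_tot (ha : a.toIdeal.FG) : GrLC.gam a.toIdeal (Q.tq a).tot.carrier = ⊥ :=
  eq_bot_iff.2 fun v hv => (Submodule.mem_bot _).2 ((Q.tq a).ext_prj fun n => by
    rw [map_zero]
    exact (Submodule.mem_bot _).1 ((gam_quo_eq_bot ha (Q.X n).carrier).le (gam_mono ((Q.tq a).prj n) hv)))

end Groth.L12.GrSegLib
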