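import Groth.Agent.L12.GrSegPieces
import Mathlib.RingTheory.Ideal.AssociatedPrime.Localization
import Mathlib.RingTheory.KrullDimension.Polynomial
import Mathlib.RingTheory.KrullDimension.NonZeroDivisors
import Groth.Agent.L12.GrLCIter
import Groth.Agent.L12.GrSegRes
import Groth.Agent.L12.GrLCVerGor
import Mathlib.RingTheory.KrullDimension.Module

/-!
# Homogeneous systems of parameters of graded modules over a field
-/

set_option autoImplicit false

universe u

open DirectSum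

namespace Groth.L12.GrSegLib

open Groth.L12.GrLCLib
open scoped Groth.L12.GrLCLib.Asub

variable {k : Type u} [Field k] {R : Type u} [CommRing R] [Algebra k R] {𝒜 : ℤ → Submodule k R} [GradedAlgebra 𝒜]
  {M : Type u} [AddCommGroup M] [Module R M] {τ : Type u} [SetLike τ M] [AddSubgroupClass τ M]
  {ℳ : ℤ → τ} [DirectSum.Decomposition ℳ] [SetLike.GradedSMul 𝒜 ℳ]

/-- high pieces are generated by multiples of the given elements -/
def Gen {ι : Type} [Fintype ι] (ℳ : ℤ → τ) (x : ι → R) (D : ι → ℤ) : Prop :=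
  ∃ d₀ : ℤ, ∀ d, d₀ < d → ∀ m ∈ ℳ d, ∃ c : ι → M, (∀ i, c i ∈ ℳ (d - D i)) ∧ m = ∑ i, x i • c i

/-- a generator may be replaced by a power -/
theorem Gen.update {ι : Type} [Fintype ι] [DecidableEq ι] {x : ι → R} {D : ι → ℤ} (hx : ∀ i, x i ∈ 𝒜 (D i))
    (hD : ∀ i, 0 < D i) (hg : Gen ℳ x D) (i₀ : ι) (q : ℕ) :
    Gen ℳ (Function.update x i₀ (x i₀ ^ (q + 1))) (Function.update D i₀ ((q + 1 : ℕ) * D i₀)) := by
  obtain ⟨d₀, hd₀⟩ := hg
  refine ⟨max d₀ (d₀ + q * D i₀), fun d hd m hm => ?_⟩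
  suffices h : ∀ j ≤ q, ∃ c : ι → M, (∀ i ≠ i₀, c i ∈ ℳ (d - D i)) ∧ c i₀ ∈ ℳ (d - (j + 1 : ℕ) * D i₀) ∧
      m = ∑ i ∈ Finset.univ.erase i₀, x i • c i + x i₀ ^ (j + 1) • c i₀ by
    obtain ⟨c, hc, hc0, hcm⟩ := h q le_rfl
    refine ⟨c, fun i => ?_, ?_⟩
    · by_cases hi : i = i₀
      · subst hi; rw [Function.update_self]; exact hc0
      · rw [Function.update_of_ne hi]; exact hc i hi
    · rw [hcm, ← Finset.sum_erase_add Finset.univ _ (Finset.mem_univ i₀), Function.update_self]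
      congr 1
      exact Finset.sum_congr rfl fun i hi => by rw [Function.update_of_ne (Finset.ne_of_mem_erase hi)]
  intro j
  induction j with
  | zero =>
    intro _
    obtain ⟨c, hc, rfl⟩ := hd₀ d ((le_max_left _ _).trans_lt hd) m hm
    refine ⟨c, fun i _ => hc i, by simpa using hc i₀, ?_⟩
    rw [pow_one, Finset.sum_erase_add _ _ (Finset.mem_univ i₀)]
  | succ j ih =>
    intro hj
    obtain ⟨c, hc, hc0, hcm⟩ := ih (by omega)
    obtain ⟨e, he, hce⟩ := hd₀ (d - (j + 1 : ℕ) * D i₀) (by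
      have h1 : ((j + 1 : ℕ) : ℤ) * D i₀ ≤ (q : ℤ) * D i₀ := mul_le_mul_of_nonneg_right (by exact_mod_cast hj) (hD i₀).le
      have := (le_max_right d₀ (d₀ + q * D i₀)).trans_lt hd
      linarith) (c i₀) hc0
    refine ⟨fun i => if i = i₀ then e i₀ else c i + x i₀ ^ (j + 1) • e i, fun i hi => ?_, ?_, ?_⟩
    · simp only [if_neg hi]
      refine add_mem (hc i hi) ?_
      have h1 := smul_mem' 𝒜 ℳ (SetLike.pow_mem_graded (j + 1) (hx i₀)) (he i)
      rwa [nsmul_eq_mul, show ((j + 1 : ℕ) : ℤ) * D i₀ + (d - (j + 1 : ℕ) * D i₀ - D i) = d - D i by ring] at h1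
    · simp only [↓reduceIte]
      have h1 := he i₀
      rwa [show d - ((j + 1 : ℕ) : ℤ) * D i₀ - D i₀ = d - ((j + 1 + 1 : ℕ) : ℤ) * D i₀ by push_cast; ring] at h1
    · conv_lhs => rw [hcm, hce, ← Finset.sum_erase_add Finset.univ _ (Finset.mem_univ i₀)]
      simp only [↓reduceIte]
      rw [smul_add, Finset.smul_sum, ← add_assoc, ← Finset.sum_add_distrib, smul_smul, ← pow_succ]
      congr 1
      refine Finset.sum_congr rfl fun i hi => ?_
      rw [if_neg (Finset.ne_of_mem_erase hi), smul_add, smul_comm (x i₀ ^ (j + 1)) (x i)]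

/-- generators may be replaced by powers -/
theorem Gen.pow {ι : Type} [Fintype ι] {x : ι → R} {D : ι → ℤ} (hx : ∀ i, x i ∈ 𝒜 (D i)) (hD : ∀ i, 0 < D i)
    (hg : Gen ℳ x D) (e : ι → ℕ) : Gen ℳ (fun i => x i ^ (e i + 1)) (fun i => (e i + 1 : ℕ) * D i) := by
  classical
  suffices h : ∀ s : Finset ι, Gen ℳ (fun i => if i ∈ s then x i ^ (e i + 1) else x i)
      (fun i => if i ∈ s then (e i + 1 : ℕ) * D i else D i) by simpa using h Finset.univ
  intro s
  induction s using Finset.induction_on with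
  | empty => simpa using hg
  | insert a s ha ih =>
    have hx' : ∀ i, (if i ∈ s then x i ^ (e i + 1) else x i) ∈ 𝒜 (if i ∈ s then (e i + 1 : ℕ) * D i else D i) := fun i => by
      split_ifs
      · have h1 := SetLike.pow_mem_graded (e i + 1) (hx i)
        rwa [nsmul_eq_mul] at h1
      · exact hx i
    have hD' : ∀ i, 0 < (if i ∈ s then ((e i + 1 : ℕ) : ℤ) * D i else D i) := fun i => by
      split_ifs
      · exact mul_pos (by exact_mod_cast (e i).succ_pos) (hD i)
      · exact hD i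
    have h := Gen.update (ℳ := ℳ) hx' hD' ih a (e a)
    rw [if_neg ha, if_neg ha] at h
    convert h using 1
    · funext i
      by_cases hi : i = a
      · subst hi; rw [Function.update_self, if_pos (Finset.mem_insert_self _ _)]
      · simp [Function.update_of_ne hi, hi]
    · funext i
      by_cases hi : i = a
      · subst hi; rw [Function.update_self, if_pos (Finset.mem_insert_self _ _)]
      · simp [Function.update_of_ne hi, hi]

variable [Module k M] [IsScalarTower k R M]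

/-- generation in high degrees gives finiteness over the polynomial ring -/
theorem Gen.exists_finset {ι : Type} [Fintype ι] {x : ι → R} {D : ι → ℤ} (hD : ∀ i, 0 < D i) (hg : Gen ℳ x D)
    (hbdd : ∃ lo : ℤ, ∀ d < lo, ∀ m ∈ ℳ d, m = 0) (hfin : ∀ d, Module.Finite k (pieceK 𝒜 ℳ d)) :
    ∃ s : Finset M, ∀ W : Submodule k M, (↑s : Set M) ⊆ W → (∀ i, ∀ m ∈ W, x i • m ∈ W) → W = ⊤ := by
  classical
  obtain ⟨d₀, hd₀⟩ := hg
  obtain ⟨lo, hlo⟩ := hbdd
  haveI := hfin
  have hfg : ∀ d, ∃ s : Finset M, Submodule.span k (s : Set M) = pieceK 𝒜 ℳ d := fun d =>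
    Module.Finite.iff_fg.1 inferInstance
  choose s hs using hfg
  refine ⟨(Finset.Icc lo d₀).biUnion s, fun W hsW hW => ?_⟩
  have key : ∀ (n : ℕ) (d : ℤ), (d - lo).toNat ≤ n → ∀ m ∈ ℳ d, m ∈ W := by
    intro n
    induction n using Nat.strong_induction_on with
    | _ n ih =>
      intro d hdn m hm
      by_cases hd1 : d < lo
      · rw [hlo d hd1 m hm]; exact zero_mem _
      by_cases hd2 : d ≤ d₀
      · have h1 : Submodule.span k (s d : Set M) ≤ W := Submodule.span_le.2 fun y hy =>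
          hsW (Finset.mem_biUnion.2 ⟨d, Finset.mem_Icc.2 ⟨not_lt.1 hd1, hd2⟩, hy⟩)
        exact h1 ((hs d).ge ((mem_pieceK ℳ).2 hm))
      obtain ⟨c, hc, rfl⟩ := hd₀ d (not_le.1 hd2) m hm
      refine Submodule.sum_mem _ fun i _ => hW i _ ?_
      have := hD i
      by_cases hci : d - D i < lo
      · rw [hlo _ hci _ (hc i)]; exact zero_mem _
      · exact ih (d - D i - lo).toNat (by omega) _ le_rfl _ (hc i)
  refine Submodule.eq_top_iff'.2 fun m => ?_
  induction m using induction_on_hom ℳ with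
  | h0 => exact zero_mem _
  | ha a b ha hb => exact add_mem ha hb
  | hh d m hm => exact key _ d le_rfl m hm

/-- the primes of the support below the irrelevant ideal -/
abbrev suppBelow (mR : Ideal R) (M : Type u) [AddCommGroup M] [Module R M] : Set (PrimeSpectrum R) :=
  {p | p ∈ Module.support R M ∧ p.asIdeal ≤ mR}

/-- high generation spans over the polynomial ring -/
theorem Gen.exists_span {ι : Type} [Fintype ι] {x : ι → R} {D : ι → ℤ} (hD : ∀ i, 0 < D i) (hg : Gen ℳ x D)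
    (hbdd : ∃ lo : ℤ, ∀ d < lo, ∀ m ∈ ℳ d, m = 0) (hfin : ∀ d, Module.Finite k (pieceK 𝒜 ℳ d)) :
    ∃ s : Finset M, ∀ m : M, ∃ c : M → MvPolynomial ι k, m = ∑ g ∈ s, MvPolynomial.aeval x (c g) • g := by
  classical
  obtain ⟨s, hs⟩ := hg.exists_finset hD hbdd hfin
  let W : Submodule k M :=
    { carrier := {m | ∃ c : M → MvPolynomial ι k, m = ∑ g ∈ s, MvPolynomial.aeval x (c g) • g}
      zero_mem' := ⟨0, by simp⟩
      add_mem' := by
        rintro a b ⟨ca, rfl⟩ ⟨cb, rfl⟩
        exact ⟨ca + cb, by simp [add_smul, Finset.sum_add_distrib]⟩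
      smul_mem' := by
        rintro r a ⟨ca, rfl⟩
        exact ⟨fun g => r • ca g, by simp [Finset.smul_sum, smul_assoc]⟩ }
  have hW := hs W (fun g hg => ⟨fun h => if h = g then 1 else 0, by
      rw [Finset.sum_eq_single g (fun h _ hh => by simp [hh]) (fun h => absurd hg h)]
      simp⟩)
    (fun i m ⟨c, hc⟩ => ⟨fun g => MvPolynomial.X i * c g, by simp [hc, Finset.smul_sum, mul_smul]⟩)
  exact ⟨s, fun m => show m ∈ W from hW ▸ Submodule.mem_top⟩

variable [Algebra.FiniteType k R] [Module.Finite R M]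

omit [Module k M] [IsScalarTower k R M] [Algebra.FiniteType k R] in
/-- pieces vanish in low degrees -/
theorem exists_low (hpos : ∀ n : ℤ, n < 0 → 𝒜 n = ⊥) : ∃ lo : ℤ, ∀ d < lo, ∀ m ∈ ℳ d, m = 0 :=
  exists_bddBelow (𝒜 := asub 𝒜) (asub ℳ) (M := M) fun n hn => (AddSubgroup.eq_bot_iff_forall _).2 fun r hr => by
    have hr' : r ∈ 𝒜 n := hr
    rwa [hpos n hn, Submodule.mem_bot] at hr'

omit [Module k M] [IsScalarTower k R M] [Module.Finite R M] in
/-- an integral map makes the dimension of the target that of the image -/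
theorem ringKrullDim_eq_of_isIntegral {A : Type u} [CommRing A] {B : Type u} [CommRing B]
    (f : A →+* B) (hf : f.IsIntegral) :
    ringKrullDim B = ringKrullDim (A ⧸ RingHom.ker f) := by
  have hg : (RingHom.kerLift f).IsIntegral := RingHom.IsIntegral.tower_top (Ideal.Quotient.mk (RingHom.ker f)) _
    (show (((RingHom.kerLift f).comp (Ideal.Quotient.mk (RingHom.ker f)))).IsIntegral from hf)
  letI := (RingHom.kerLift f).toAlgebra
  haveI : Algebra.IsIntegral (A ⧸ RingHom.ker f) B := algebraMap_isIntegral_iff.1 hg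
  exact (ringKrullDim_eq_of_integral (RingHom.kerLift_injective f)).symm

omit [Module k M] [IsScalarTower k R M] [Module.Finite R M] in
/-- the image of a ring over which a module is finite is integral in the endomorphisms -/
theorem isIntegral_quotient_annihilator {A : Type u} [CommRing A] [IsNoetherianRing A] {B : Type u} [CommRing B]
    {X : Type u} [AddCommGroup X] [Module B X] (φ : A →+* B) (s : Finset X)
    (hs : ∀ x : X, ∃ c : X → A, x = ∑ g ∈ s, φ (c g) • g) :
    ((Ideal.Quotient.mk (Module.annihilator B X)).comp φ).IsIntegral := by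
  classical
  letI := Module.compHom X φ
  haveI hX : Module.Finite A X := ⟨⟨s, eq_top_iff.2 fun x _ => by
    obtain ⟨c, rfl⟩ := hs x
    exact Submodule.sum_mem _ fun g hg => Submodule.smul_mem _ (c g) (Submodule.subset_span hg)⟩⟩
  let f := (Ideal.Quotient.mk (Module.annihilator B X)).comp φ
  letI := f.toAlgebra
  let L : B →ₗ[B] (s → X) := LinearMap.pi fun g => LinearMap.toSpanSingleton B X g.1
  have hL : LinearMap.ker L = Module.annihilator B X := by
    ext b
    rw [LinearMap.mem_ker, Module.mem_annihilator]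
    refine ⟨fun h x => ?_, fun h => funext fun g => h _⟩
    obtain ⟨c, rfl⟩ := hs x
    rw [Finset.smul_sum]
    refine Finset.sum_eq_zero fun g hg => ?_
    rw [smul_comm, show b • g = 0 from congrFun h ⟨g, hg⟩, smul_zero]
  let L' := Submodule.liftQ (Module.annihilator B X) L hL.ge
  let LA : (B ⧸ Module.annihilator B X) →ₗ[A] (s → X) :=
    { toFun := L'
      map_add' := map_add L'
      map_smul' := fun a x => by
        obtain ⟨b, rfl⟩ := Ideal.Quotient.mk_surjective x
        change L' (Submodule.Quotient.mk (φ a * b)) = a • L' (Submodule.Quotient.mk b)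
        funext g
        exact mul_smul (φ a) b g.1 }
  have hinj : Function.Injective L' := LinearMap.ker_eq_bot.1 (Submodule.ker_liftQ_eq_bot _ _ _ hL.le)
  haveI : Module.Finite A (B ⧸ Module.annihilator B X) := Module.Finite.of_injective LA fun a b h => hinj h
  exact algebraMap_isIntegral_iff.2 inferInstance

omit [Module k M] [IsScalarTower k R M] [Module.Finite R M] in
/-- a module finite over the image of a Noetherian ring has the dimension of that image -/
theorem ringKrullDim_quotient_annihilator_eq {A : Type u} [CommRing A] [IsNoetherianRing A] {B : Type u} [CommRing B]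
    {X : Type u} [AddCommGroup X] [Module B X] (φ : A →+* B) (s : Finset X)
    (hs : ∀ x : X, ∃ c : X → A, x = ∑ g ∈ s, φ (c g) • g) :
    ringKrullDim (B ⧸ Module.annihilator B X) =
      ringKrullDim (A ⧸ RingHom.ker ((Ideal.Quotient.mk (Module.annihilator B X)).comp φ)) :=
  ringKrullDim_eq_of_isIntegral _ (isIntegral_quotient_annihilator φ s hs)

omit [Module k M] [IsScalarTower k R M] [Module.Finite R M] in
/-- dimension after killing one element of the image -/
theorem ringKrullDim_quotient_annihilator_sup {A : Type u} [CommRing A] [IsNoetherianRing A] {B : Type u} [CommRing B]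
    {X : Type u} [AddCommGroup X] [Module B X] (φ : A →+* B) (s : Finset X)
    (hs : ∀ x : X, ∃ c : X → A, x = ∑ g ∈ s, φ (c g) • g) (f : A) :
    ringKrullDim (B ⧸ (Module.annihilator B X ⊔ Ideal.span {φ f})) ≤ ringKrullDim (A ⧸ Ideal.span {f}) := by
  let π := Ideal.Quotient.factor (le_sup_left : Module.annihilator B X ≤ Module.annihilator B X ⊔ Ideal.span {φ f})
  have h := RingHom.IsIntegral.trans _ π (isIntegral_quotient_annihilator φ s hs)
    (RingHom.isIntegral_of_surjective _ (Ideal.Quotient.factor_surjective _))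
  rw [ringKrullDim_eq_of_isIntegral _ h]
  refine ringKrullDim_le_of_surjective _ (Ideal.Quotient.factor_surjective ((Ideal.span_singleton_le_iff_mem _).2 ?_))
  rw [RingHom.mem_ker]
  exact Ideal.Quotient.eq_zero_iff_mem.2 (le_sup_right (a := Module.annihilator B X) (Ideal.mem_span_singleton_self (φ f)))

omit [Module k M] [IsScalarTower k R M] [Module.Finite R M] [Algebra.FiniteType k R] in
/-- up to the irrelevant ideal every element is a scalar -/
theorem exists_scalar (hpos : ∀ n : ℤ, n < 0 → 𝒜 n = ⊥) (h0 : 𝒜 0 = Submodule.span k {(1 : R)})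
    {I : Ideal R} (hI : I = Ideal.span (⋃ n ∈ Set.Ioi (0 : ℤ), (𝒜 n : Set R))) (x : R) :
    ∃ c : k, cp 𝒜 0 x = algebraMap k R c ∧ x - algebraMap k R c ∈ I := by
  classical
  obtain ⟨c, hc⟩ := Submodule.mem_span_singleton.1 (h0.le (cp_mem 𝒜 0 x))
  rw [← Algebra.algebraMap_eq_smul_one] at hc
  refine ⟨c, hc.symm, ?_⟩
  obtain ⟨s, hs, hs'⟩ := exists_sum_cp 𝒜 x
  have he : x - cp 𝒜 0 x = ∑ n ∈ s.erase 0, cp 𝒜 n x := by
    by_cases h : (0 : ℤ) ∈ s
    · exact sub_eq_iff_eq_add'.2 ((Finset.add_sum_erase _ _ h).trans hs).symm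
    · rw [Finset.erase_eq_of_notMem h, hs, show cp 𝒜 0 x = 0 from not_not.1 fun e => h (hs' 0 e), sub_zero]
  rw [hc, he]
  refine Ideal.sum_mem _ fun n hn => ?_
  rcases lt_or_gt_of_ne (Finset.ne_of_mem_erase hn) with h | h
  · have h1 := cp_mem 𝒜 n x
    rw [hpos n h, Submodule.mem_bot] at h1
    rw [h1]
    exact zero_mem _
  · exact hI ▸ Ideal.subset_span (Set.mem_iUnion₂.2 ⟨n, h, cp_mem 𝒜 n x⟩)

omit [Module k M] [IsScalarTower k R M] [Module.Finite R M] [Algebra.FiniteType k R] in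
/-- proper homogeneous ideals lie in the irrelevant ideal -/
theorem le_irrel (hpos : ∀ n : ℤ, n < 0 → 𝒜 n = ⊥) (h0 : 𝒜 0 = Submodule.span k {(1 : R)})
    {I : Ideal R} (hI : I = Ideal.span (⋃ n ∈ Set.Ioi (0 : ℤ), (𝒜 n : Set R))) {J : Ideal R}
    (hJ : J.IsHomogeneous 𝒜) (hne : J ≠ ⊤) : J ≤ I := fun x hx => by
  obtain ⟨c, hc, hcx⟩ := exists_scalar hpos h0 hI x
  have hcJ : algebraMap k R c ∈ J := hc ▸ (hJ 0 hx : cp 𝒜 0 x ∈ J)
  by_cases h : c = 0
  · simpa [h] using hcx
  · exact absurd (J.eq_top_of_isUnit_mem hcJ ((isUnit_iff_ne_zero.2 h).map _)) hne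

omit [Module k M] [IsScalarTower k R M] [Module.Finite R M] [Algebra.FiniteType k R] in
/-- the irrelevant ideal is maximal -/
theorem irrel_isMaximal [Nontrivial R] (hpos : ∀ n : ℤ, n < 0 → 𝒜 n = ⊥) (h0 : 𝒜 0 = Submodule.span k {(1 : R)})
    {I : Ideal R} (hI : I = Ideal.span (⋃ n ∈ Set.Ioi (0 : ℤ), (𝒜 n : Set R))) : I.IsMaximal := by
  have hz : ∀ x ∈ I, ∀ r : R, cp 𝒜 0 (r * x) = 0 := by
    intro x hx
    rw [hI] at hx
    induction hx using Submodule.span_induction with
    | mem x hx =>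
      obtain ⟨n, hn, hxn⟩ := Set.mem_iUnion₂.1 hx
      intro r
      have h := cp_smul_mem 𝒜 𝒜 r hxn 0
      have h1 := cp_mem 𝒜 (0 - n) r
      rw [hpos _ (by simpa using hn), Submodule.mem_bot] at h1
      rwa [h1, zero_smul] at h
    | zero => exact fun r => by rw [mul_zero, map_zero]
    | add a b _ _ ha hb => exact fun r => by rw [mul_add, map_add, ha, hb, add_zero]
    | smul c a _ ha => exact fun r => by rw [smul_eq_mul, ← mul_assoc, ha]
  have h1 : (1 : R) ∉ I := fun h => one_ne_zero (α := R) (by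
    have := hz 1 h 1
    rwa [mul_one, cp_same 𝒜 (SetLike.one_mem_graded 𝒜)] at this)
  refine Ideal.isMaximal_iff.2 ⟨h1, fun J x hIJ hx hxJ => ?_⟩
  obtain ⟨c, -, hcx⟩ := exists_scalar hpos h0 hI x
  have hc : c ≠ 0 := fun e => hx (by simpa [e] using hcx)
  have h2 : algebraMap k R c ∈ J := by simpa using J.sub_mem hxJ (hIJ hcx)
  exact (Ideal.eq_top_iff_one J).1 (J.eq_top_of_isUnit_mem h2 ((isUnit_iff_ne_zero.2 hc).map _))

omit [Module k M] [IsScalarTower k R M] in
/-- a module without torsion has a homogeneous parameter -/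
theorem exists_param_step (mR : HomogeneousIdeal 𝒜)
    (hmR : mR.toIdeal = Ideal.span (⋃ n ∈ Set.Ioi (0 : ℤ), (𝒜 n : Set R)))
    (hM : GrLC.gam mR.toIdeal M = ⊥) :
    ∃ (e : ℕ) (y : R), 0 < e ∧ y ∈ 𝒜 (e : ℤ) ∧ y ∈ mR.toIdeal ∧ IsSMulRegular M y ∧
      ∀ p ∈ Module.support R M, y ∈ p.asIdeal → ∃ q ∈ Module.support R M, q < p := by
  haveI : IsNoetherianRing R := Algebra.FiniteType.isNoetherianRing k R
  obtain ⟨e, y, he, hy, hreg⟩ := exists_homog_regular_pos (𝒜 := asub 𝒜) (Asub.hid mR) hmR hM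
  refine ⟨e, y, he, hy, hmR ▸ Ideal.subset_span (Set.mem_iUnion₂.2 ⟨_, Int.natCast_pos.2 he, hy⟩), hreg,
    fun p hp hyp => ?_⟩
  have hann : Module.annihilator R M ≤ p.asIdeal := (Module.mem_support_iff_of_finite.1 hp)
  obtain ⟨q, hq, hqp⟩ := Ideal.exists_minimalPrimes_le hann
  have hqA := Module.associatedPrimes.minimalPrimes_annihilator_subset_associatedPrimes R M hq
  haveI : q.IsPrime := hq.1.1
  refine ⟨⟨q, inferInstance⟩, Module.mem_support_iff_of_finite.2 hq.1.2, lt_of_le_of_ne hqp fun h => ?_⟩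
  have hyq : y ∈ q := by
    rw [show q = p.asIdeal from congrArg PrimeSpectrum.asIdeal h]
    exact hyp
  obtain ⟨-, z, hz⟩ := isAssociatedPrime_iff.1 hqA
  rw [hz, Submodule.mem_colon_singleton, Submodule.mem_bot] at hyq
  have hz0 : z = 0 := hreg (show y • z = y • (0 : M) by rw [hyq, smul_zero])
  refine ‹q.IsPrime›.ne_top ((Ideal.eq_top_iff_one q).2 ?_)
  rw [hz, Submodule.mem_colon_singleton, hz0, smul_zero]
  exact zero_mem _

omit [Module k M] [IsScalarTower k R M] [Module.Finite R M] in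
/-- existence of parameters -/
theorem exists_gen (hpos : ∀ n : ℤ, n < 0 → 𝒜 n = ⊥) (h0 : 𝒜 0 = Submodule.span k {(1 : R)})
    (mR : HomogeneousIdeal 𝒜) (hmR : mR.toIdeal = Ideal.span (⋃ n ∈ Set.Ioi (0 : ℤ), (𝒜 n : Set R))) :
    ∀ (n : ℕ) (M : Type u) [AddCommGroup M] [Module R M] [Module.Finite R M] (ℳ : ℤ → AddSubgroup M)
      [DirectSum.Decomposition ℳ] [SetLike.GradedSMul 𝒜 ℳ],
      Order.krullDim (suppBelow mR.toIdeal M) ≤ n →
      ∃ (x : Fin n → R) (D : Fin n → ℤ), (∀ i, x i ∈ 𝒜 (D i)) ∧ (∀ i, 0 < D i) ∧ Gen ℳ x D := by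
  haveI : IsNoetherianRing R := Algebra.FiniteType.isNoetherianRing k R
  intro n
  induction n with
  | zero =>
    intro M _ _ _ ℳ _ _ hn
    refine ⟨Fin.elim0, Fin.elim0, fun i => i.elim0, fun i => i.elim0, ?_⟩
    let Γ := GrLC.gam mR.toIdeal M
    let Q := quoG 𝒜 ℳ Γ (gam_isHomogeneous 𝒜 ℳ mR)
    haveI : Module.Finite R Q.carrier := inferInstanceAs (Module.Finite R (M ⧸ Γ))
    suffices hsub : Subsingleton Q.carrier by
      obtain ⟨hi, hhi⟩ := exists_bddAbove_gam (𝒜 := asub 𝒜) (Asub.hid mR) hmR (asub ℳ) (M := M)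
      refine ⟨hi, fun d hd m hm => ⟨fun i => i.elim0, fun i => i.elim0, ?_⟩⟩
      rw [Finset.sum_of_isEmpty]
      exact hhi d hd.le m ((Submodule.Quotient.mk_eq_zero Γ).1 (hsub.elim _ _)) hm
    by_contra hne
    rw [not_subsingleton_iff_nontrivial] at hne
    haveI : Nontrivial R := Module.nontrivial R Q.carrier
    obtain ⟨e, y, he, hy, hym, hreg, hdrop⟩ := exists_param_step (𝒜 := 𝒜) (M := M ⧸ Γ) mR hmR
      (gam_quo_eq_bot (IsNoetherian.noetherian mR.toIdeal) M)
    have hann : (Module.annihilator R Q.carrier).IsHomogeneous 𝒜 := Asub.isHomogeneous_down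
      (annihilator_isHomogeneous (𝒜 := asub 𝒜) (ℳ := asub Q.gr))
    have hle : Module.annihilator R Q.carrier ≤ mR.toIdeal := le_irrel hpos h0 hmR hann fun h =>
      not_subsingleton Q.carrier (Module.annihilator_eq_top_iff.1 h)
    have hprime : mR.toIdeal.IsPrime := (irrel_isMaximal hpos h0 hmR).isPrime
    have hmem : (⟨mR.toIdeal, hprime⟩ : PrimeSpectrum R) ∈ Module.support R Q.carrier :=
      Module.mem_support_iff_of_finite.2 hle
    obtain ⟨q, hq, hqm⟩ := hdrop _ hmem hym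
    have hsupp : Module.support R Q.carrier ⊆ Module.support R M :=
      Module.support_subset_of_surjective Γ.mkQ (Submodule.mkQ_surjective _)
    let a : suppBelow mR.toIdeal M := ⟨q, hsupp hq, hqm.le⟩
    let b : suppBelow mR.toIdeal M := ⟨⟨mR.toIdeal, hprime⟩, hsupp hmem, le_rfl⟩
    exact absurd (Order.krullDim_nonpos_iff_forall_isMax.1 hn a (show a ≤ b from hqm.le))
      (fun h => hqm.not_ge h)
  | succ n ih =>
    intro M _ _ _ ℳ _ _ hn
    let Γ := GrLC.gam mR.toIdeal M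
    let Q := quoG 𝒜 ℳ Γ (gam_isHomogeneous 𝒜 ℳ mR)
    haveI : Module.Finite R Q.carrier := inferInstanceAs (Module.Finite R (M ⧸ Γ))
    obtain ⟨e, y, he, hy, hym, hreg, hdrop⟩ := exists_param_step (𝒜 := 𝒜) (M := M ⧸ Γ) mR hmR
      (gam_quo_eq_bot (IsNoetherian.noetherian mR.toIdeal) M)
    let Y : Submodule R Q.carrier := LinearMap.range (LinearMap.lsmul R Q.carrier y)
    have hY : Y.IsHomogeneous Q.gr := by
      rintro d _ ⟨w, rfl⟩
      exact ⟨cp Q.gr (d - (e : ℤ)) w, (cp_smul_hom' 𝒜 Q.gr hy d w).symm⟩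
    let Q2 := quoG 𝒜 Q.gr Y hY
    haveI : Module.Finite R Q2.carrier := inferInstanceAs (Module.Finite R (Q.carrier ⧸ Y))
    have hkill : y ∈ Module.annihilator R Q2.carrier := Module.mem_annihilator.2 fun q => by
      obtain ⟨w, rfl⟩ := Submodule.mkQ_surjective Y q
      exact (Submodule.Quotient.mk_smul Y y w).symm.trans ((Submodule.Quotient.mk_eq_zero Y).2 ⟨w, rfl⟩)
    have hsupp1 : Module.support R Q.carrier ⊆ Module.support R M :=
      Module.support_subset_of_surjective Γ.mkQ (Submodule.mkQ_surjective _)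
    have hsupp2 : Module.support R Q2.carrier ⊆ Module.support R Q.carrier :=
      Module.support_subset_of_surjective Y.mkQ (Submodule.mkQ_surjective _)
    have hdim : Order.krullDim (suppBelow mR.toIdeal Q2.carrier) ≤ n := by
      refine iSup_le fun s => ?_
      obtain ⟨q, hq, hqp⟩ := hdrop s.head.1 (hsupp2 s.head.2.1)
        (Module.mem_support_iff_of_finite.1 s.head.2.1 hkill)
      let s' : LTSeries (suppBelow mR.toIdeal M) :=
        s.map (fun p => ⟨p.1, hsupp1 (hsupp2 p.2.1), p.2.2⟩) fun _ _ h => h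
      have h1 := (Order.LTSeries.length_le_krullDim (s'.cons ⟨q, hsupp1 hq, (show q.asIdeal ≤ s.head.1.asIdeal from hqp.le).trans s.head.2.2⟩ hqp)).trans hn
      rw [RelSeries.cons_length] at h1
      have h2 : s'.length + 1 ≤ n + 1 := by exact_mod_cast h1
      exact_mod_cast (Nat.le_of_succ_le_succ h2 : s.length ≤ n)
    obtain ⟨x, D, hx, hD, d₀, hg⟩ := ih Q2.carrier Q2.gr hdim
    obtain ⟨hi, hhi⟩ := exists_bddAbove_gam (𝒜 := asub 𝒜) (Asub.hid mR) hmR (asub ℳ) (M := M)
    refine ⟨Fin.cons y x, Fin.cons (e : ℤ) D, Fin.cases (by simpa using hy) (fun i => by simpa using hx i),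
      Fin.cases (by simpa using he) (fun i => by simpa using hD i), max d₀ hi, fun d hd m hm => ?_⟩
    obtain ⟨c, hc, hcm⟩ := hg d ((le_max_left _ _).trans_lt hd) (Y.mkQ (Γ.mkQ m)) ⟨_, ⟨m, hm, rfl⟩, rfl⟩
    have hc' : ∀ i, ∃ c', c' ∈ ℳ (d - D i) ∧ Y.mkQ (Γ.mkQ c') = c i := fun i => by
      obtain ⟨_, ⟨c', hc', rfl⟩, h⟩ := hc i
      exact ⟨c', hc', h⟩
    choose c' hc' hcc using hc'
    let r := m - ∑ i, x i • c' i
    have hr : r ∈ ℳ d := sub_mem hm (sum_mem fun i _ => by
      have h := smul_mem' 𝒜 ℳ (hx i) (hc' i)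
      rwa [add_sub_cancel] at h)
    let L : M →ₗ[R] Q2.carrier := Y.mkQ.comp (Γ.mkQ : M →ₗ[R] Q.carrier)
    have hL : L r = L m - ∑ i, x i • L (c' i) := by simp only [r, map_sub, map_sum, map_smul]
    have hrY : Γ.mkQ r ∈ Y := (Submodule.Quotient.mk_eq_zero Y).1 (show L r = 0 from
      hL.trans (sub_eq_zero.2 (hcm.trans (Finset.sum_congr rfl fun i _ => congrArg (x i • ·) (hcc i).symm))))
    obtain ⟨w, hw⟩ := hrY
    obtain ⟨w', hw', hww⟩ := cp_mem Q.gr (d - (e : ℤ)) w
    have hrw : Γ.mkQ (r - y • w') = 0 := by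
      have h1 := congrArg (cp Q.gr d) hw
      rw [cp_same Q.gr (⟨r, hr, rfl⟩ : Γ.mkQ r ∈ Q.gr d)] at h1
      rw [map_sub, map_smul, ← h1]
      exact sub_eq_zero.2 ((cp_smul_hom' 𝒜 Q.gr hy d w).trans (congrArg (y • ·) hww.symm))
    refine ⟨Fin.cons w' c', Fin.cases (by rw [Fin.cons_zero, Fin.cons_zero]; exact hw') (fun i => by
      rw [Fin.cons_succ, Fin.cons_succ]; exact hc' i), ?_⟩
    have h0 := hhi d ((le_max_right _ _).trans hd.le) _ ((Submodule.Quotient.mk_eq_zero Γ).1 hrw)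
      (show r - y • w' ∈ ℳ d from sub_mem hr (by
        have h := smul_mem' 𝒜 ℳ hy hw'
        rwa [add_sub_cancel] at h))
    rw [Fin.sum_univ_succ]
    simp only [Fin.cons_zero, Fin.cons_succ]
    rw [← sub_eq_iff_eq_add]
    exact sub_eq_zero.1 h0

/-- homogeneous systems of parameters of a common degree -/
theorem exists_param (hpos : ∀ n : ℤ, n < 0 → 𝒜 n = ⊥) (h0 : 𝒜 0 = Submodule.span k {(1 : R)})
    {n : ℕ} (hn : Module.supportDim R M = n) :
    ∃ D : ℤ, 0 < D ∧ ∀ q : ℕ, 0 < q → ∃ x : Fin n → R, (∀ i, x i ∈ 𝒜 (D * q)) ∧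
      Gen ℳ x (fun _ => D * q) ∧ ∀ f : MvPolynomial (Fin n) k, (∀ m : M, MvPolynomial.aeval x f • m = 0) → f = 0 := by
  classical
  haveI : IsNoetherianRing R := Algebra.FiniteType.isNoetherianRing k R
  let mR : HomogeneousIdeal 𝒜 := ⟨Ideal.span (⋃ n ∈ Set.Ioi (0 : ℤ), (𝒜 n : Set R)),
    Ideal.homogeneous_span 𝒜 _ fun x hx => by
      obtain ⟨n, -, hn⟩ := Set.mem_iUnion₂.1 hx
      exact ⟨n, hn⟩⟩
  haveI : SetLike.GradedSMul 𝒜 (asub ℳ) :=
    ⟨fun {_ _ _ _} hr hm => SetLike.GradedSMul.smul_mem (A := 𝒜) (B := ℳ) hr hm⟩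
  obtain ⟨x, E, hx, hE, hg⟩ := exists_gen hpos h0 mR rfl n M (asub ℳ)
    ((Order.krullDim_le_of_strictMono (fun p => (⟨p.1, p.2.1⟩ : Module.support R M)) fun _ _ h => h).trans hn.le)
  refine ⟨∏ i, E i, Finset.prod_pos fun i _ => hE i, fun q hq => ?_⟩
  have hdvd : ∀ i, ∃ a : ℕ, ((a + 1 : ℕ) : ℤ) * E i = (∏ j, E j) * q := fun i => by
    have h1 : 0 < (∏ j ∈ Finset.univ.erase i, E j) * q :=
      mul_pos (Finset.prod_pos fun j _ => hE j) (by exact_mod_cast hq)
    refine ⟨((∏ j ∈ Finset.univ.erase i, E j) * q).toNat - 1, ?_⟩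
    rw [show ((((∏ j ∈ Finset.univ.erase i, E j) * q).toNat - 1 + 1 : ℕ) : ℤ) = (∏ j ∈ Finset.univ.erase i, E j) * q
      from by omega, ← Finset.prod_erase_mul Finset.univ E (Finset.mem_univ i)]
    ring
  choose a ha using hdvd
  have hg' : Gen ℳ (fun i => x i ^ (a i + 1)) (fun i => (a i + 1 : ℕ) * E i) := Gen.pow (𝒜 := 𝒜) (ℳ := ℳ) hx hE hg a
  simp only [ha] at hg'
  refine ⟨fun i => x i ^ (a i + 1), fun i => ?_, hg', fun f hf => ?_⟩
  · have h1 := SetLike.pow_mem_graded (a i + 1) (hx i)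
    rwa [nsmul_eq_mul, ha] at h1
  by_contra hf0
  have hD : (0 : ℤ) < (∏ j, E j) * q := mul_pos (Finset.prod_pos fun i _ => hE i) (by exact_mod_cast hq)
  obtain ⟨s, hs⟩ := hg'.exists_span (fun _ => hD) (exists_low hpos) (fun d => finite_pieceK ℳ h0 d)
  have hK := ringKrullDim_quotient_annihilator_eq (X := M)
    (MvPolynomial.aeval (R := k) fun i => x i ^ (a i + 1)).toRingHom s (fun m => hs m)
  rw [← Module.supportDim_eq_ringKrullDim_quotient_annihilator, hn] at hK
  set K := RingHom.ker ((Ideal.Quotient.mk (Module.annihilator R M)).comp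
    (MvPolynomial.aeval (R := k) fun i => x i ^ (a i + 1)).toRingHom) with hKdef
  have hfK : Ideal.span {f} ≤ K := (Ideal.span_singleton_le_iff_mem K).2 (by
    rw [hKdef, RingHom.mem_ker]
    exact Ideal.Quotient.eq_zero_iff_mem.2 (Module.mem_annihilator.2 hf))
  have h1 : ringKrullDim (MvPolynomial (Fin n) k ⧸ K) ≤ ringKrullDim (MvPolynomial (Fin n) k ⧸ Ideal.span {f}) :=
    ringKrullDim_le_of_surjective _ (Ideal.Quotient.factor_surjective hfK)
  have h2 := ringKrullDim_quotient_succ_le_of_nonZeroDivisor (mem_nonZeroDivisors_of_ne_zero hf0)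
  rw [MvPolynomial.ringKrullDim_of_isNoetherianRing, ringKrullDim_eq_zero_of_field, zero_add, Nat.card_fin] at h2
  rw [← hK] at h1
  have h3 : ((n + 1 : ℕ) : WithBot ℕ∞) ≤ (n : WithBot ℕ∞) := by
    push_cast
    exact (add_le_add_left h1 1).trans h2
  exact absurd (Nat.cast_le.1 h3) (by omega)

end Groth.L12.GrSegLib
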