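import Groth.Agent.L12.GrSegPolyOne
import Groth.Agent.L12.GrLCPolyEnd

/-!
# Shifts of polynomial rings as Segre factors
-/

set_option autoImplicit false

universe u

open DirectSum MvPolynomial

attribute [local instance] MvPolynomial.weightedGradedAlgebra

namespace Groth.L12.GrSegLib

open Groth.L12.GrLCLib
open scoped KMod Groth.L12.GrLCLib.Asub

variable (k : Type u) [Field k] (N : ℕ)

/-- the standard grading of a polynomial ring -/
abbrev polyGr : ℤ → Submodule k (MvPolynomial (Fin N) k) := weightedHomogeneousSubmodule k fun _ : Fin N => (1 : ℤ)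

/-- a shift of a polynomial ring -/
noncomputable def polyShift (a : ℤ) : ℤ → AddSubgroup (MvPolynomial (Fin N) k) := fun g => asub (polyGr k N) (g + a)

noncomputable instance polyShiftDec (a : ℤ) : DirectSum.Decomposition (polyShift k N a) :=
  (shift_isInternal (polyGr k N) a).chooseDecomposition

instance polyShiftSMul (a : ℤ) : SetLike.GradedSMul (polyGr k N) (polyShift k N a) :=
  ⟨fun {i j _ _} hr hx => by
    have h := SetLike.GradedSMul.smul_mem (A := polyGr k N) (B := polyGr k N) hr hx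
    rw [vadd_eq_add] at h ⊢
    change _ ∈ polyGr k N (i + j + a)
    rwa [add_assoc]⟩

lemma mem_polyShift {a g : ℤ} {p : MvPolynomial (Fin N) k} : p ∈ polyShift k N a g ↔ p ∈ polyGr k N (g + a) := Iff.rfl

variable {k N}

lemma weight_one (d : Fin N →₀ ℕ) : 0 ≤ Finsupp.weight (fun _ : Fin N => (1 : ℤ)) d := by
  rw [Finsupp.weight_apply]
  exact Finset.sum_nonneg fun i _ => nsmul_nonneg zero_le_one _

theorem poly_pos : ∀ n : ℤ, n < 0 → polyGr k N n = ⊥ := fun n hn => (Submodule.eq_bot_iff _).2 fun p hp => by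
  ext d
  by_contra h
  have h1 : Finsupp.weight (fun _ : Fin N => (1 : ℤ)) d = n := hp (by simpa using h)
  have := weight_one d
  omega

theorem poly_zero : polyGr k N 0 = Submodule.span k {(1 : MvPolynomial (Fin N) k)} := by
  refine le_antisymm (fun p hp => Submodule.mem_span_singleton.2 ⟨coeff 0 p, ?_⟩)
    (Submodule.span_le.2 (Set.singleton_subset_iff.2 (SetLike.one_mem_graded (polyGr k N))))
  ext d
  rw [smul_eq_C_mul, mul_one, coeff_C]
  by_cases hd : 0 = d
  · subst hd; simp
  rw [if_neg hd]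
  by_contra h
  have h1 : Finsupp.weight (fun _ : Fin N => (1 : ℤ)) d = 0 := hp (Ne.symm h)
  rw [Finsupp.weight_apply, Finsupp.sum_fintype _ _ (by simp)] at h1
  refine hd (Finsupp.ext fun i => ?_).symm
  have h2 := (Finset.sum_eq_zero_iff_of_nonneg (fun i _ => nsmul_nonneg zero_le_one _)).1 h1 i (Finset.mem_univ i)
  simpa using h2

theorem poly_std : Ideal.span (⋃ n ∈ Set.Ioi (0 : ℤ), (polyGr k N n : Set (MvPolynomial (Fin N) k))) =
    Ideal.span ((polyGr k N 1 : Submodule k (MvPolynomial (Fin N) k)) : Set (MvPolynomial (Fin N) k)) := by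
  refine le_antisymm (Ideal.span_le.2 fun p hp => ?_) (Ideal.span_mono fun p hp => Set.mem_iUnion₂.2 ⟨1, Set.mem_Ioi.2 zero_lt_one, hp⟩)
  obtain ⟨g, hg, hpg⟩ := Set.mem_iUnion₂.1 hp
  refine Ideal.span_mono (s := Set.range (X : Fin N → MvPolynomial (Fin N) k)) ?_ ?_
  · rintro _ ⟨i, rfl⟩
    exact isWeightedHomogeneous_X k (fun _ : Fin N => (1 : ℤ)) i
  rw [← Set.image_univ, mem_ideal_span_X_image]
  intro d hd
  by_contra hcon
  push Not at hcon
  obtain rfl : d = 0 := Finsupp.ext fun i => hcon i trivial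
  have h2 : Finsupp.weight (fun _ : Fin N => (1 : ℤ)) (0 : Fin N →₀ ℕ) = g := hpg (mem_support_iff.1 hd)
  rw [map_zero] at h2
  exact absurd (show (0 : ℤ) < g from hg) (by omega)

theorem poly_dim : ringKrullDim (MvPolynomial (Fin N) k) = N := by
  rw [MvPolynomial.ringKrullDim_of_isNoetherianRing, ringKrullDim_eq_zero_of_field]; simp

theorem poly_supportDim : Module.supportDim (MvPolynomial (Fin N) k) (MvPolynomial (Fin N) k) = N := by
  rw [Module.supportDim_self_eq_ringKrullDim, poly_dim]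

theorem poly_cm : LocCoh.IsCohenMacaulayRing (MvPolynomial (Fin N) k) := by
  haveI : LocCoh.IsGorensteinRing (MvPolynomial (Fin N) k) := isGorensteinRing_mvPolynomial k (Fin N)
  exact
    { isCohenMacaulayLocalRing_localization := fun p _ => by
        haveI := LocCoh.IsGorensteinRing.isGorensteinLocalRing_localization (A := MvPolynomial (Fin N) k) p
        exact Groth.Agent.S0341.result _ }

/-- pieces of a shift -/
theorem poly_piece_iff (hN : 1 ≤ N) (a d : ℤ) : pieceK (polyGr k N) (polyShift k N a) d = ⊥ ↔ d + a < 0 := by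
  rw [pieceK_eq_bot_iff]
  refine ⟨fun h => ?_, fun h x hx => ?_⟩
  · by_contra hd
    have h1 : (X ⟨0, hN⟩ : MvPolynomial (Fin N) k) ^ (d + a).toNat ∈ polyShift k N a d := by
      rw [mem_polyShift]
      have h2 := SetLike.pow_mem_graded (d + a).toNat
        (show (X ⟨0, hN⟩ : MvPolynomial (Fin N) k) ∈ polyGr k N 1 from isWeightedHomogeneous_X k _ _)
      rwa [nsmul_eq_mul, mul_one, Int.toNat_of_nonneg (not_lt.1 hd)] at h2
    exact pow_ne_zero _ (X_ne_zero _) (h _ h1)
  · have hx' : x ∈ polyGr k N (d + a) := hx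
    rwa [poly_pos _ h, Submodule.mem_bot] at hx'

/-- top local cohomology of a shift -/
theorem poly_Hk_iff (hN : 1 ≤ N) (a : ℤ) (E : GrLC.StarInjRes (polyGr k N) (polyShift k N a)) (d : ℤ) :
    Hk E (irr (polyGr k N)) N d = ⊥ ↔ -(N : ℤ) < d + a := by
  rw [Hk_eq_bot_iff_Hgr, ← van_iff]
  refine (van_shift (𝒜 := polyGr k N) (ℳ := polyGr k N) (irr (polyGr k N)) a).trans ?_
  generalize d + a = g
  have hpos' : ∀ n : ℤ, n < 0 → asub (polyGr k N) n = ⊥ := fun n hn => (AddSubgroup.eq_bot_iff_forall _).2 fun p hp => by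
    have hp' : p ∈ polyGr k N n := hp
    rwa [poly_pos n hn, Submodule.mem_bot] at hp'
  have hf : IsField (GrLC.deg0 (asub (polyGr k N))) :=
    MulEquiv.isField (Field.toIsField k) (RingEquiv.ofBijective _
      (toDeg0_bijective (𝒜 := polyGr k N) poly_zero)).symm.toMulEquiv
  obtain ⟨I⟩ := nonempty_starInjRes (polyGr k N) (polyGr k N)
  have hend := endDeg_poly k N (fun _ => 1) (fun _ => one_pos) (posIdeal (asub (polyGr k N)))
    (posIdeal_isStarLocal hpos' hf) rfl (Asub.res I)
  rw [Finset.sum_const, Finset.card_univ, Fintype.card_fin, nsmul_eq_mul, mul_one] at hend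
  have hup : ∀ g, -(N : ℤ) < g → Van (irr (polyGr k N)) (polyGr k N) N g := fun g hg =>
    (van_iff _ I).2 ((endDeg_le_coe_iff _ _).1 hend.le g hg)
  have hne : ¬ Van (irr (polyGr k N)) (polyGr k N) N (-(N : ℤ)) := fun h => by
    have h1 : (Asub.res I).Hgr (posIdeal (asub (polyGr k N))) N (-(N : ℤ)) = ⊥ := h I
    have h2 : GrLC.endDeg ((Asub.res I).Hgr (posIdeal (asub (polyGr k N))) N) ≤
        (((-(N : ℤ) - 1 : ℤ) : WithTop ℤ) : WithBot (WithTop ℤ)) := (endDeg_le_coe_iff _ _).2 fun g hg => by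
      rcases eq_or_lt_of_le (show -(N : ℤ) ≤ g by omega) with rfl | h'
      · exact h1
      · exact (endDeg_le_coe_iff _ _).1 hend.le g h'
    rw [hend, WithBot.coe_le_coe, WithTop.coe_le_coe] at h2
    omega
  -- multiplication by a variable is surjective on the top local cohomology
  have hstep : ∀ g, Van (irr (polyGr k N)) (polyGr k N) N g → Van (irr (polyGr k N)) (polyGr k N) N (g + 1) := by
    intro g hg
    let x : MvPolynomial (Fin N) k := X ⟨0, hN⟩
    have hx : x ∈ polyGr k N 1 := isWeightedHomogeneous_X k _ _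
    have hY : (Ideal.span {x}).IsHomogeneous (polyGr k N) :=
      Ideal.homogeneous_span _ _ fun y hy => ⟨1, by rw [Set.mem_singleton_iff.1 hy]; exact hx⟩
    let Q := quoG (polyGr k N) (polyGr k N) (Ideal.span {x}) hY
    have hreg : ∀ y : MvPolynomial (Fin N) k, x * y = 0 → y = 0 := fun y hy =>
      (mul_eq_zero.1 hy).resolve_left (X_ne_zero _)
    have hdimQ : Module.supportDim (MvPolynomial (Fin N) k) Q.carrier < (N : WithBot ℕ∞) := by
      change Module.supportDim (MvPolynomial (Fin N) k) (MvPolynomial (Fin N) k ⧸ Ideal.span {x}) < _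
      rw [Module.supportDim_quotient_eq_ringKrullDim]
      have h1 := ringKrullDim_quotient_succ_le_of_nonZeroDivisor (mem_nonZeroDivisors_of_ne_zero (X_ne_zero (R := k) (⟨0, hN⟩ : Fin N)))
      rw [poly_dim] at h1
      generalize ringKrullDim (MvPolynomial (Fin N) k ⧸ Ideal.span {x}) = v at h1 ⊢
      induction v using WithBot.recBotCoe with
      | bot => exact WithBot.bot_lt_coe _
      | coe v =>
        induction v using ENat.recTopCoe with
        | top =>
          rw [← WithBot.coe_one, ← WithBot.coe_add, top_add, ← WithBot.coe_natCast, WithBot.coe_le_coe] at h1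
          exact absurd h1 (not_le.2 (ENat.natCast_lt_top N))
        | coe v =>
          have h2 : v + 1 ≤ N := by exact_mod_cast h1
          exact_mod_cast h2
    obtain ⟨EQ⟩ := nonempty_starInjRes (polyGr k N) Q.gr
    have hQ : Van (irr (polyGr k N)) Q.gr N (g + 1) := (van_iff _ EQ).2 ((subsingleton_H_iff EQ _ N).1
      (Groth.L04.LC.subsingleton_H_of_supportDim_lt _ Q.carrier N hdimQ) (g + 1))
    let π : MvPolynomial (Fin N) k →ₗ[MvPolynomial (Fin N) k] Q.carrier := (Ideal.span {x}).mkQ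
    refine van_mid (g := π) (irr (polyGr k N)) (ℳ₁ := polyShift k N (-1)) (ℳ₂ := polyGr k N) (ℳ₃ := Q.gr)
      (f := LinearMap.mulLeft (MvPolynomial (Fin N) k) x)
      (fun a b h => sub_eq_zero.1 (hreg _ (by rw [mul_sub]; exact sub_eq_zero.2 h)))
      (Submodule.mkQ_surjective _) ?_ (fun g y hy => ?_) (fun g y hy => show π y ∈ Q.gr g from ⟨y, hy, rfl⟩)
      ((van_shift (𝒜 := polyGr k N) (ℳ := polyGr k N) _ (-1)).2 (by rwa [add_neg_cancel_right])) hQ
    · refine le_antisymm ?_ fun y hy => ?_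
      · rintro _ ⟨y, rfl⟩
        exact (Submodule.Quotient.mk_eq_zero _).2 (Ideal.mem_span_singleton'.2 ⟨y, mul_comm y x⟩)
      · obtain ⟨z, hz⟩ := Ideal.mem_span_singleton'.1 ((Submodule.Quotient.mk_eq_zero _).1 (LinearMap.mem_ker.1 hy))
        exact ⟨z, by rw [LinearMap.mulLeft_apply, mul_comm, hz]⟩
    · have h := SetLike.mul_mem_graded (A := polyGr k N) hx (show y ∈ polyGr k N (g + -1) from hy)
      rwa [show (1 : ℤ) + (g + -1) = g by ring] at h
  refine ⟨fun h => not_le.1 fun hle => ?_, hup g⟩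
  suffices ∀ j : ℕ, Van (irr (polyGr k N)) (polyGr k N) N (g + j) by
    refine hne ?_
    have := this (-(N : ℤ) - g).toNat
    rwa [Int.toNat_of_nonneg (by omega), add_sub_cancel] at this
  intro j
  induction j with
  | zero => simpa using h
  | succ j ih => rw [Nat.cast_succ, ← add_assoc]; exact hstep _ ih

theorem poly_cmAll : CMAll (MvPolynomial (Fin N) k) (MvPolynomial (Fin N) k) := isCMRing_iff.1 poly_cm

end Groth.L12.GrSegLib

namespace Groth.L12.GrSegLib

open Groth.L12.GrLCLib
open scoped KMod Groth.L12.GrLCLib.Asub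

/-- depth is the first degree of nonvanishing local cohomology -/
theorem idealDepth_eq_of_Hk {k : Type u} [Field k] {R : Type u} [CommRing R] [Algebra k R] {𝒜 : ℤ → Submodule k R}
    [GradedAlgebra 𝒜] [IsNoetherianRing R] {M : Type u} [AddCommGroup M] [Module R M] [Module.Finite R M]
    {τ : Type u} [SetLike τ M] [AddSubgroupClass τ M] {ℳ : ℤ → τ} [DirectSum.Decomposition ℳ] [SetLike.GradedSMul 𝒜 ℳ]
    (E : GrLC.StarInjRes 𝒜 ℳ) (m : HomogeneousIdeal 𝒜) {n : ℕ} (hlow : ∀ i < n, ∀ d, Hk E m i d = ⊥) {d : ℤ}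
    (hne : Hk E m n d ≠ ⊥) : LocCoh.idealDepth m.toIdeal M = (n : ℕ∞) := by
  rw [Groth.L04.LC.idealDepth_eq_iff_H]
  refine ⟨fun i hi => (subsingleton_H_iff E m i).2 fun g => (Hk_eq_bot_iff_Hgr E i g).1 (hlow i hi g), ?_⟩
  rw [← not_subsingleton_iff_nontrivial, subsingleton_H_iff E m n]
  exact fun h => hne ((Hk_eq_bot_iff_Hgr E n d).2 (h d))

end Groth.L12.GrSegLib
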