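import Groth.Agent.L12.GrSegStd
import Groth.Agent.L12.GrLCPoly
import Groth.Agent.L12.GrLCVerGor

/-!
# Standard graded algebras of dimension one with negative a-invariant
-/

set_option autoImplicit false

universe u

open DirectSum

namespace Groth.L12.GrSegLib

open Groth.L12.GrLCLib
open scoped KMod Groth.L12.GrLCLib.Asub

variable {k : Type u} [Field k] {R : Type u} [CommRing R] [Algebra k R] {𝒜 : ℤ → Submodule k R} [GradedAlgebra 𝒜]
  [Algebra.FiniteType k R]

/-- the ring isomorphism to a univariate polynomial ring can be made linear over the ground field -/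
theorem nonempty_algEquiv_polynomial [Nontrivial R] (hpos : ∀ n : ℤ, n < 0 → 𝒜 n = ⊥)
    (h0 : 𝒜 0 = Submodule.span k {(1 : R)}) {F : Type u} [Field F] (e : R ≃+* Polynomial F) :
    Nonempty (R ≃ₐ[k] Polynomial k) := by
  have hmax := irrel_isMaximal hpos h0 (I := (irr 𝒜).toIdeal) rfl
  have hbij : Function.Bijective ((Ideal.Quotient.mk (irr 𝒜).toIdeal).comp (algebraMap k R)) := by
    haveI : Nontrivial (R ⧸ (irr 𝒜).toIdeal) := Ideal.Quotient.nontrivial_iff.2 hmax.ne_top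
    refine ⟨RingHom.injective _, fun y => ?_⟩
    obtain ⟨r, rfl⟩ := Ideal.Quotient.mk_surjective y
    obtain ⟨c, -, hc⟩ := exists_scalar hpos h0 (I := (irr 𝒜).toIdeal) rfl r
    exact ⟨c, (Ideal.Quotient.eq.2 hc).symm⟩
  let π : Polynomial F →+* k := ((RingEquiv.ofBijective _ hbij).symm.toRingHom.comp
    (Ideal.Quotient.mk (irr 𝒜).toIdeal)).comp e.symm.toRingHom
  have hπ : ∀ c : k, π (e (algebraMap k R c)) = c := fun c => by
    simp only [π, RingHom.comp_apply, RingEquiv.toRingHom_eq_coe, RingEquiv.coe_toRingHom, RingEquiv.symm_apply_apply]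
    exact (RingEquiv.ofBijective _ hbij).symm_apply_apply c
  let ι : F →+* k := π.comp Polynomial.C
  have hconst : ∀ c : k, ∃ a : F, Polynomial.C a = e (algebraMap k R c) := fun c => by
    rcases eq_or_ne c 0 with rfl | hc
    · exact ⟨0, by rw [map_zero, map_zero, map_zero]⟩
    · obtain ⟨a, -, ha⟩ := Polynomial.isUnit_iff.1 (((isUnit_iff_ne_zero.2 hc).map (algebraMap k R)).map e)
      exact ⟨a, ha⟩
  have hι : Function.Bijective ι := ⟨ι.injective, fun c => by
    obtain ⟨a, ha⟩ := hconst c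
    exact ⟨a, show π (Polynomial.C a) = c by rw [ha, hπ]⟩⟩
  refine ⟨AlgEquiv.ofRingEquiv (f := e.trans (Polynomial.mapEquiv (RingEquiv.ofBijective ι hι))) fun c => ?_⟩
  obtain ⟨a, ha⟩ := hconst c
  rw [RingEquiv.trans_apply, ← ha, Polynomial.mapEquiv_apply]
  simp only [RingEquiv.coe_toRingHom, Polynomial.map_C, Polynomial.algebraMap_apply, Algebra.algebraMap_self, RingHom.id_apply]
  congr 1
  change π (Polynomial.C a) = c
  rw [ha, hπ]

/-- dimension one: vanishing in nonnegative degrees characterises polynomial rings -/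
theorem polynomial_iff_top_vanish [LocCoh.IsCohenMacaulayRing R] (hpos : ∀ n : ℤ, n < 0 → 𝒜 n = ⊥)
    (h0 : 𝒜 0 = Submodule.span k {(1 : R)})
    (hstd : Ideal.span (⋃ n ∈ Set.Ioi (0 : ℤ), (𝒜 n : Set R)) = Ideal.span ((𝒜 1 : Submodule k R) : Set R))
    (hr : ringKrullDim R = 1) (I : GrLC.StarInjRes 𝒜 𝒜) :
    (∀ g : ℤ, 0 ≤ g → Hk I (irr 𝒜) 1 g = ⊥) ↔ Nonempty (R ≃ₐ[k] Polynomial k) := by
  haveI : Nontrivial R := by
    by_contra h
    rw [not_nontrivial_iff_subsingleton] at h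
    rw [ringKrullDim_eq_bot_of_subsingleton] at hr
    exact absurd hr.symm WithBot.coe_ne_bot
  haveI : IsNoetherianRing R := Algebra.FiniteType.isNoetherianRing k R
  have hpos' : ∀ n : ℤ, n < 0 → asub 𝒜 n = ⊥ := fun n hn => (AddSubgroup.eq_bot_iff_forall _).2 fun r hr => by
    have hr' : r ∈ 𝒜 n := hr
    rwa [hpos n hn, Submodule.mem_bot] at hr'
  have hf : IsField (GrLC.deg0 (asub 𝒜)) :=
    MulEquiv.isField (Field.toIsField k) (RingEquiv.ofBijective _
      (toDeg0_bijective (𝒜 := 𝒜) h0)).symm.toMulEquiv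
  haveI : IsArtinianRing (GrLC.deg0 (asub 𝒜)) :=
    letI := hf.toField
    inferInstance
  have hm := posIdeal_isStarLocal hpos' hf
  have hend : GrLC.endDeg ((Asub.res I).Hgr (posIdeal (asub 𝒜)) 1) =
      (((-((1 : ℕ) : ℤ) : ℤ) : WithTop ℤ) : WithBot (WithTop ℤ)) ↔ ∀ g : ℤ, 0 ≤ g → Hk I (irr 𝒜) 1 g = ⊥ := by
    simp only [Hk_eq_bot_iff_Hgr]
    refine ⟨fun h g hg => (endDeg_le_coe_iff _ _).1 h.le g (by omega), fun h => le_antisymm
      ((endDeg_le_coe_iff _ _).2 fun g hg => h g (by omega)) ?_⟩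
    obtain ⟨g, hg, hne⟩ := exists_top_ne_bot (𝒜 := asub 𝒜) hpos' hstd hm (d := 1) (by exact_mod_cast hr)
    have hne' : ¬ I.Hgr (irr 𝒜) 1 g = ⊥ := fun e => hne ((van_iff _ (Asub.res I)).2 e)
    have hg1 : g = -((1 : ℕ) : ℤ) := by
      rcases lt_or_ge g 0 with h1 | h1
      · omega
      · exact absurd (h g h1) hne'
    rw [hg1] at hne'
    exact le_iSup₂ (f := fun (n : ℤ) (_ : (Asub.res I).Hgr (posIdeal (asub 𝒜)) 1 n ≠ ⊥) =>
      ((n : WithTop ℤ) : WithBot (WithTop ℤ))) _ hne'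
  rw [← hend, endDeg_eq_neg_iff_polynomial hpos' hf hm hstd 1 (by exact_mod_cast hr) (Asub.res I)]
  letI := hf.toField
  constructor
  · rintro ⟨e⟩
    exact nonempty_algEquiv_polynomial hpos h0 (e.trans (MvPolynomial.uniqueAlgEquiv (GrLC.deg0 (asub 𝒜)) (Fin 1)).toRingEquiv)
  · rintro ⟨e⟩
    exact ⟨e.toRingEquiv.trans ((Polynomial.mapEquiv (RingEquiv.ofBijective _ (toDeg0_bijective (𝒜 := 𝒜) h0))).trans
      (MvPolynomial.uniqueAlgEquiv (GrLC.deg0 (asub 𝒜)) (Fin 1)).toRingEquiv.symm)⟩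

end Groth.L12.GrSegLib
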