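import Groth.Agent.L12.GrSegNoeth
import Groth.Agent.L12.GrLCBase
import Mathlib.RingTheory.Flat.Basic

/-!
# Segre products of graded modules: components, a canonical model, functoriality
-/

set_option autoImplicit false

universe u

open scoped TensorProduct
open DirectSum

namespace Groth.L12.GrSegLib

open Groth.L12.GrLCLib

/-- graded modules over a graded `k`-algebra are `k`-modules -/
@[reducible] noncomputable def kModule {k : Type u} [Field k] {R : Type u} [CommRing R] [Algebra k R]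
    {𝒜 : ℤ → Submodule k R} [GradedAlgebra 𝒜] (X : GrLC.GMod.{u} 𝒜) : Module k X.carrier :=
  Module.compHom _ (algebraMap k R)

namespace KMod

variable {k : Type u} [Field k] {R : Type u} [CommRing R] [Algebra k R] {𝒜 : ℤ → Submodule k R} [GradedAlgebra 𝒜]

noncomputable scoped instance instModule (X : GrLC.GMod.{u} 𝒜) : Module k X.carrier := kModule X

scoped instance instTower (X : GrLC.GMod.{u} 𝒜) : IsScalarTower k R X.carrier :=
  ⟨fun c r x => by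
    change (c • r) • x = algebraMap k R c • r • x
    rw [Algebra.smul_def, mul_smul]⟩

end KMod

open scoped KMod

variable {k : Type u} [Field k] {R : Type u} [CommRing R] [Algebra k R] (𝒜 : ℤ → Submodule k R) [GradedAlgebra 𝒜]
  {S : Type u} [CommRing S] [Algebra k S] (ℬ : ℤ → Submodule k S) [GradedAlgebra ℬ]
  {M : Type u} [AddCommGroup M] [Module R M] [Module k M] [IsScalarTower k R M]
  {τ : Type u} [SetLike τ M] [AddSubgroupClass τ M] (ℳ : ℤ → τ) [DirectSum.Decomposition ℳ] [SetLike.GradedSMul 𝒜 ℳ]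
  {N : Type u} [AddCommGroup N] [Module S N] [Module k N] [IsScalarTower k S N]
  {τ' : Type u} [SetLike τ' N] [AddSubgroupClass τ' N] (𝒩 : ℤ → τ') [DirectSum.Decomposition 𝒩] [SetLike.GradedSMul ℬ 𝒩]

section Proj

/-- projection onto the bidegree `(n, n)` part -/
noncomputable def bproj (n : ℤ) : M ⊗[k] N →ₗ[k] M ⊗[k] N :=
  TensorProduct.map (cpk 𝒜 ℳ n) (cpk ℬ 𝒩 n)

lemma bproj_tmul (n : ℤ) (x : M) (y : N) : bproj 𝒜 ℬ ℳ 𝒩 n (x ⊗ₜ[k] y) = cp ℳ n x ⊗ₜ[k] cp 𝒩 n y := rfl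

lemma bproj_mem (n : ℤ) (z : M ⊗[k] N) : bproj 𝒜 ℬ ℳ 𝒩 n z ∈ GrSeg.segrePiece k ℳ 𝒩 n := by
  induction z using TensorProduct.induction_on with
  | zero => rw [map_zero]; exact zero_mem _
  | tmul x y => exact Submodule.subset_span ⟨_, cp_mem ℳ n x, _, cp_mem 𝒩 n y, rfl⟩
  | add a b ha hb => rw [map_add]; exact add_mem ha hb

lemma bproj_of_mem {n : ℤ} {z : M ⊗[k] N} (hz : z ∈ GrSeg.segrePiece k ℳ 𝒩 n) : bproj 𝒜 ℬ ℳ 𝒩 n z = z := by
  induction hz using Submodule.span_induction with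
  | mem z hz =>
    obtain ⟨a, ha, b, hb, rfl⟩ := hz
    rw [bproj_tmul, cp_same ℳ ha, cp_same 𝒩 hb]
  | zero => rw [map_zero]
  | add a b _ _ ha hb => rw [map_add, ha, hb]
  | smul c a _ ha => rw [map_smul, ha]

lemma bproj_ne {n m : ℤ} (hnm : n ≠ m) {z : M ⊗[k] N} (hz : z ∈ GrSeg.segrePiece k ℳ 𝒩 n) :
    bproj 𝒜 ℬ ℳ 𝒩 m z = 0 := by
  induction hz using Submodule.span_induction with
  | mem z hz =>
    obtain ⟨a, ha, b, hb, rfl⟩ := hz
    rw [bproj_tmul, cp_ne ℳ ha hnm, TensorProduct.zero_tmul]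
  | zero => rw [map_zero]
  | add a b _ _ ha hb => rw [map_add, ha, hb, add_zero]
  | smul c a _ ha => rw [map_smul, ha, smul_zero]

lemma bproj_bproj (n : ℤ) (z : M ⊗[k] N) : bproj 𝒜 ℬ ℳ 𝒩 n (bproj 𝒜 ℬ ℳ 𝒩 n z) = bproj 𝒜 ℬ ℳ 𝒩 n z :=
  bproj_of_mem 𝒜 ℬ ℳ 𝒩 (bproj_mem 𝒜 ℬ ℳ 𝒩 n z)

lemma segrePiece_eq_range (n : ℤ) :
    GrSeg.segrePiece k ℳ 𝒩 n = LinearMap.range (bproj 𝒜 ℬ ℳ 𝒩 n) := by
  ext z
  exact ⟨fun hz => ⟨z, bproj_of_mem 𝒜 ℬ ℳ 𝒩 hz⟩, fun ⟨w, hw⟩ => hw ▸ bproj_mem 𝒜 ℬ ℳ 𝒩 n w⟩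

/-- the diagonal of the tensor product -/
def diagSub : Submodule k (M ⊗[k] N) := ⨆ n : ℤ, GrSeg.segrePiece k ℳ 𝒩 n

variable {T : Type u} [CommRing T] [Algebra k T] {𝒯 : ℤ → Submodule k T} [GradedAlgebra 𝒯] {ψ : T →ₐ[k] R ⊗[k] S}

omit [DirectSum.Decomposition ℳ] [DirectSum.Decomposition 𝒩] in
lemma act_mem {m n : ℤ} {ξ : R ⊗[k] S} (hξ : ξ ∈ GrSeg.segrePiece k 𝒜 ℬ m) {z : M ⊗[k] N}
    (hz : z ∈ GrSeg.segrePiece k ℳ 𝒩 n) : GrSeg.act k R S M N ξ z ∈ GrSeg.segrePiece k ℳ 𝒩 (m + n) := by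
  induction hξ using Submodule.span_induction with
  | mem ξ hξ =>
    obtain ⟨a, ha, b, hb, rfl⟩ := hξ
    induction hz using Submodule.span_induction with
    | mem z hz =>
      obtain ⟨x, hx, y, hy, rfl⟩ := hz
      rw [GrSeg.act_tmul]
      exact Submodule.subset_span ⟨_, smul_mem' 𝒜 ℳ ha hx, _, smul_mem' ℬ 𝒩 hb hy, rfl⟩
    | zero => rw [map_zero]; exact zero_mem _
    | add a b _ _ ha hb => rw [map_add]; exact add_mem ha hb
    | smul c a _ ha => rw [map_smul]; exact Submodule.smul_mem _ c ha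
  | zero => simp
  | add a b _ _ ha hb => rw [map_add, LinearMap.add_apply]; exact add_mem ha hb
  | smul c a _ ha => rw [map_smul, LinearMap.smul_apply]; exact Submodule.smul_mem _ c ha

lemma bproj_act {m : ℤ} {ξ : R ⊗[k] S} (hξ : ξ ∈ GrSeg.segrePiece k 𝒜 ℬ m) (n : ℤ) (z : M ⊗[k] N) :
    bproj 𝒜 ℬ ℳ 𝒩 (m + n) (GrSeg.act k R S M N ξ z) = GrSeg.act k R S M N ξ (bproj 𝒜 ℬ ℳ 𝒩 n z) := by
  induction hξ using Submodule.span_induction with
  | mem ξ hξ =>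
    obtain ⟨a, ha, b, hb, rfl⟩ := hξ
    induction z using TensorProduct.induction_on with
    | zero => simp
    | tmul x y => rw [GrSeg.act_tmul, bproj_tmul, bproj_tmul, GrSeg.act_tmul, cp_smul_hom 𝒜 ℳ ha, cp_smul_hom ℬ 𝒩 hb]
    | add a b ha hb => simp only [map_add, ha, hb]
  | zero => simp
  | add a b _ _ ha hb => simp only [map_add, LinearMap.add_apply, ha, hb]
  | smul c a _ ha => simp only [map_smul, LinearMap.smul_apply, ha]

omit [DirectSum.Decomposition ℳ] [DirectSum.Decomposition 𝒩] in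
lemma act_mem_diagSub (hT : GrSeg.IsSegreRing 𝒜 ℬ 𝒯 ψ) (t : T) {z : M ⊗[k] N} (hz : z ∈ diagSub ℳ 𝒩) :
    GrSeg.act k R S M N (ψ t) z ∈ diagSub ℳ 𝒩 := by
  induction t using induction_on_hom 𝒯 with
  | h0 => simp
  | ha a b ha hb => rw [map_add, map_add, LinearMap.add_apply]; exact add_mem ha hb
  | hh m t ht =>
    have hξ : ψ t ∈ GrSeg.segrePiece k 𝒜 ℬ m := (hT.2 m).le ⟨t, ht, rfl⟩
    induction hz using Submodule.iSup_induction' with
    | mem n z hz => exact Submodule.mem_iSup_of_mem (m + n) (act_mem 𝒜 ℬ ℳ 𝒩 hξ hz)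
    | zero => rw [map_zero]; exact zero_mem _
    | add a b _ _ ha hb => rw [map_add]; exact add_mem ha hb

section Presented

variable {P : Type u} [AddCommGroup P] [Module T P] [Module k P] [IsScalarTower k T P]
  {τQ : Type u} [SetLike τQ P] [AddSubgroupClass τQ P] {𝒬 : ℤ → τQ} [DirectSum.Decomposition 𝒬]
  {φ : P →ₗ[k] M ⊗[k] N} (hP : GrSeg.IsSegreMod ψ ℳ 𝒩 𝒬 φ)

include hP

omit [DirectSum.Decomposition ℳ] [DirectSum.Decomposition 𝒩] in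
lemma seg_mem_piece {n : ℤ} {p : P} (hp : p ∈ 𝒬 n) : φ p ∈ GrSeg.segrePiece k ℳ 𝒩 n :=
  (hP.image_piece n).subset ⟨p, hp, rfl⟩

omit [DirectSum.Decomposition ℳ] [DirectSum.Decomposition 𝒩] in
lemma seg_exists {n : ℤ} {z : M ⊗[k] N} (hz : z ∈ GrSeg.segrePiece k ℳ 𝒩 n) : ∃ p ∈ 𝒬 n, φ p = z :=
  (hP.image_piece n).superset hz

omit [DirectSum.Decomposition ℳ] [DirectSum.Decomposition 𝒩] in
lemma seg_mem_iff {n : ℤ} {p : P} : p ∈ 𝒬 n ↔ φ p ∈ GrSeg.segrePiece k ℳ 𝒩 n :=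
  ⟨seg_mem_piece ℳ 𝒩 hP, fun hp => by
    obtain ⟨q, hq, hqp⟩ := seg_exists ℳ 𝒩 hP hp
    exact hP.injective hqp ▸ hq⟩

lemma seg_bproj (n : ℤ) (p : P) : bproj 𝒜 ℬ ℳ 𝒩 n (φ p) = φ (cp 𝒬 n p) := by
  induction p using induction_on_hom 𝒬 with
  | h0 => simp
  | ha a b ha hb => rw [map_add, map_add, map_add, map_add, ha, hb]
  | hh m p hp =>
    by_cases hmn : m = n
    · subst hmn
      rw [cp_same 𝒬 hp, bproj_of_mem 𝒜 ℬ ℳ 𝒩 (seg_mem_piece ℳ 𝒩 hP hp)]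
    · rw [cp_ne 𝒬 hp hmn, bproj_ne 𝒜 ℬ ℳ 𝒩 hmn (seg_mem_piece ℳ 𝒩 hP hp), map_zero]

omit [DirectSum.Decomposition ℳ] [DirectSum.Decomposition 𝒩] in
lemma seg_range : LinearMap.range φ = diagSub ℳ 𝒩 := by
  refine le_antisymm ?_ (iSup_le fun n z hz => ?_)
  · rintro _ ⟨p, rfl⟩
    induction p using induction_on_hom 𝒬 with
    | h0 => simp
    | ha a b ha hb => rw [map_add]; exact add_mem ha hb
    | hh m p hp => exact Submodule.mem_iSup_of_mem m (seg_mem_piece ℳ 𝒩 hP hp)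
  · obtain ⟨p, -, hp⟩ := seg_exists ℳ 𝒩 hP hz
    exact ⟨p, hp⟩

omit [DirectSum.Decomposition ℳ] [DirectSum.Decomposition 𝒩] in
/-- a Segre product is a graded module -/
lemma seg_gradedSMul (hT : GrSeg.IsSegreRing 𝒜 ℬ 𝒯 ψ) : SetLike.GradedSMul 𝒯 𝒬 :=
  ⟨fun {i j t p} ht hp => (seg_mem_iff ℳ 𝒩 hP).2 (by
    rw [hP.map_smul]
    exact act_mem 𝒜 ℬ ℳ 𝒩 ((hT.2 i).le ⟨t, ht, rfl⟩) (seg_mem_piece ℳ 𝒩 hP hp))⟩

variable {M' : Type u} [AddCommGroup M'] [Module R M'] [Module k M'] [IsScalarTower k R M']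
  {σ : Type u} [SetLike σ M'] [AddSubgroupClass σ M'] {ℳ' : ℤ → σ}
  {N' : Type u} [AddCommGroup N'] [Module S N'] [Module k N'] [IsScalarTower k S N']
  {σ' : Type u} [SetLike σ' N'] [AddSubgroupClass σ' N'] {𝒩' : ℤ → σ'}
  {P' : Type u} [AddCommGroup P'] [Module T P'] [Module k P'] [IsScalarTower k T P']
  {σQ : Type u} [SetLike σQ P'] [AddSubgroupClass σQ P'] {𝒬' : ℤ → σQ} [DirectSum.Decomposition 𝒬']
  {φ' : P' →ₗ[k] M' ⊗[k] N'} (hP' : GrSeg.IsSegreMod ψ ℳ' 𝒩' 𝒬' φ')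

include hP'

omit [DirectSum.Decomposition ℳ] [DirectSum.Decomposition 𝒩] in
/-- equivariant maps of tensor products respecting bidegrees induce maps of Segre products -/
theorem exists_segMap (L : M ⊗[k] N →ₗ[k] M' ⊗[k] N')
    (hL : ∀ n, ∀ z ∈ GrSeg.segrePiece k ℳ 𝒩 n, L z ∈ GrSeg.segrePiece k ℳ' 𝒩' n)
    (hact : ∀ (t : T) (z : M ⊗[k] N), L (GrSeg.act k R S M N (ψ t) z) = GrSeg.act k R S M' N' (ψ t) (L z)) :
    ∃ f : P →ₗ[T] P', GrLC.IsGrHom 𝒬 𝒬' f ∧ ∀ p, φ' (f p) = L (φ p) := by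
  have hmem : ∀ p, L (φ p) ∈ LinearMap.range φ' := fun p => by
    induction p using induction_on_hom 𝒬 with
    | h0 => simp
    | ha a b ha hb => rw [map_add, map_add]; exact add_mem ha hb
    | hh m p hp =>
      obtain ⟨q, -, hq⟩ := seg_exists ℳ' 𝒩' hP' (hL m _ (seg_mem_piece ℳ 𝒩 hP hp))
      exact ⟨q, hq⟩
  choose F hF using hmem
  let f : P →ₗ[T] P' :=
    { toFun := F
      map_add' := fun a b => hP'.injective (by rw [map_add, hF, hF, hF, map_add, map_add])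
      map_smul' := fun t a => hP'.injective (by
        rw [RingHom.id_apply, hF, hP.map_smul, hact, hP'.map_smul, hF]) }
  refine ⟨f, fun n p hp => (seg_mem_iff ℳ' 𝒩' hP').2 ?_, hF⟩
  change φ' (F p) ∈ _
  rw [hF]
  exact hL n _ (seg_mem_piece ℳ 𝒩 hP hp)

omit [DirectSum.Decomposition ℳ] [DirectSum.Decomposition 𝒩] in
/-- the Segre product of two homogeneous maps -/
theorem exists_segMap_map (f : M →ₗ[R] M') (hf : GrLC.IsGrHom ℳ ℳ' f) (g : N →ₗ[S] N') (hg : GrLC.IsGrHom 𝒩 𝒩' g) :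
    ∃ F : P →ₗ[T] P', GrLC.IsGrHom 𝒬 𝒬' F ∧
      ∀ p, φ' (F p) = TensorProduct.map (f.restrictScalars k) (g.restrictScalars k) (φ p) := by
  refine exists_segMap ℳ 𝒩 hP hP' _ (fun n z hz => ?_) fun t z => ?_
  · induction hz using Submodule.span_induction with
    | mem z hz =>
      obtain ⟨a, ha, b, hb, rfl⟩ := hz
      exact Submodule.subset_span ⟨f a, hf n a ha, g b, hg n b hb, rfl⟩
    | zero => rw [map_zero]; exact zero_mem _
    | add a b _ _ ha hb => rw [map_add]; exact add_mem ha hb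
    | smul c a _ ha => rw [map_smul]; exact Submodule.smul_mem _ c ha
  · generalize ψ t = ξ
    induction ξ using TensorProduct.induction_on with
    | zero => simp
    | add a b ha hb => simp only [map_add, LinearMap.add_apply, ha, hb]
    | tmul a b =>
      induction z using TensorProduct.induction_on with
      | zero => simp
      | add v w hv hw => simp only [map_add, hv, hw]
      | tmul x y =>
        simp only [GrSeg.act_tmul, TensorProduct.map_tmul, LinearMap.coe_restrictScalars, map_smul]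

end Presented

end Proj

section Model

variable {T : Type u} [CommRing T] [Algebra k T] {𝒯 : ℤ → Submodule k T} [GradedAlgebra 𝒯] {ψ : T →ₐ[k] R ⊗[k] S}

/-- the action of `T` on a tensor product -/
noncomputable def actHom (ψ : T →ₐ[k] R ⊗[k] S) (M N : Type u) [AddCommGroup M] [Module R M] [Module k M]
    [IsScalarTower k R M] [AddCommGroup N] [Module S N] [Module k N] [IsScalarTower k S N] :
    T →+* Module.End k (M ⊗[k] N) where
  toFun t := GrSeg.act k R S M N (ψ t)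
  map_zero' := by rw [map_zero, map_zero]
  map_one' := LinearMap.ext fun z => by rw [map_one, act_one]; rfl
  map_add' a b := by rw [map_add, map_add]
  map_mul' a b := LinearMap.ext fun z => by rw [map_mul, act_mul]; rfl

/-- a tensor product, as a module over `T` -/
def SgAmb (_ψ : T →ₐ[k] R ⊗[k] S) (M N : Type u) [AddCommGroup M] [Module R M] [Module k M] [IsScalarTower k R M]
    [AddCommGroup N] [Module S N] [Module k N] [IsScalarTower k S N] : Type u := M ⊗[k] N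

noncomputable instance : AddCommGroup (SgAmb ψ M N) := inferInstanceAs (AddCommGroup (M ⊗[k] N))
noncomputable instance : Module k (SgAmb ψ M N) := inferInstanceAs (Module k (M ⊗[k] N))

noncomputable instance : Module T (SgAmb ψ M N) :=
  Module.compHom (M ⊗[k] N) (actHom ψ M N)

variable (hT : GrSeg.IsSegreRing 𝒜 ℬ 𝒯 ψ)

/-- the carrier of the canonical model -/
noncomputable def sgSub : Submodule T (SgAmb ψ M N) where
  carrier := (diagSub (k := k) ℳ 𝒩 : Set (M ⊗[k] N))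
  add_mem' ha hb := (diagSub (k := k) ℳ 𝒩).add_mem ha hb
  zero_mem' := (diagSub (k := k) ℳ 𝒩).zero_mem
  smul_mem' t _ hz := act_mem_diagSub 𝒜 ℬ ℳ 𝒩 hT t hz

/-- pieces of the canonical model -/
noncomputable def sgPiece (n : ℤ) : AddSubgroup (sgSub 𝒜 ℬ ℳ 𝒩 hT) where
  carrier := {z | (z.1 : M ⊗[k] N) ∈ GrSeg.segrePiece k ℳ 𝒩 n}
  add_mem' ha hb := (GrSeg.segrePiece k ℳ 𝒩 n).add_mem ha hb
  zero_mem' := (GrSeg.segrePiece k ℳ 𝒩 n).zero_mem
  neg_mem' ha := (GrSeg.segrePiece k ℳ 𝒩 n).neg_mem ha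

lemma sgPiece_isInternal : DirectSum.IsInternal (sgPiece 𝒜 ℬ ℳ 𝒩 hT) := by
  refine isInternal_of_pr _ (fun n => AddMonoidHom.mk'
    (fun z : sgSub 𝒜 ℬ ℳ 𝒩 hT => (⟨bproj 𝒜 ℬ ℳ 𝒩 n z.1,
      Submodule.mem_iSup_of_mem (p := fun i => GrSeg.segrePiece k ℳ 𝒩 i) n (bproj_mem 𝒜 ℬ ℳ 𝒩 n _)⟩ : sgSub 𝒜 ℬ ℳ 𝒩 hT))
    fun a b => Subtype.ext (map_add (bproj 𝒜 ℬ ℳ 𝒩 n) (a.1 : M ⊗[k] N) b.1))
    (fun n z hz => Subtype.ext (bproj_of_mem 𝒜 ℬ ℳ 𝒩 hz))
    (fun n m hnm z hz => Subtype.ext (bproj_ne 𝒜 ℬ ℳ 𝒩 hnm hz)) ?_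
  rintro ⟨z, hz⟩
  change z ∈ diagSub (k := k) ℳ 𝒩 at hz
  suffices H : ∃ w : sgSub 𝒜 ℬ ℳ 𝒩 hT, w ∈ ⨆ n, sgPiece 𝒜 ℬ ℳ 𝒩 hT n ∧ w.1 = z by
    obtain ⟨w, hw, hwz⟩ := H
    exact (Subtype.ext hwz : w = ⟨z, hz⟩) ▸ hw
  induction hz using Submodule.iSup_induction' with
  | mem n z hz =>
    exact ⟨⟨z, Submodule.mem_iSup_of_mem (p := fun i => GrSeg.segrePiece k ℳ 𝒩 i) n hz⟩, AddSubgroup.mem_iSup_of_mem n hz, rfl⟩
  | zero => exact ⟨0, zero_mem _, rfl⟩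
  | add a b _ _ ha hb =>
    obtain ⟨v, hv, hva⟩ := ha
    obtain ⟨w, hw, hwb⟩ := hb
    exact ⟨v + w, add_mem hv hw, by rw [← hva, ← hwb]; rfl⟩

/-- the canonical model of the Segre product -/
noncomputable def sgG : GrLC.GMod.{u} 𝒯 where
  carrier := sgSub 𝒜 ℬ ℳ 𝒩 hT
  gr := sgPiece 𝒜 ℬ ℳ 𝒩 hT
  dec := (sgPiece_isInternal 𝒜 ℬ ℳ 𝒩 hT).chooseDecomposition
  gsmul := ⟨fun {i _ t z} ht hz => act_mem 𝒜 ℬ ℳ 𝒩 ((hT.2 i).le ⟨t, ht, rfl⟩) hz⟩

/-- the presentation of the canonical model -/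
noncomputable def sgInc : (sgG 𝒜 ℬ ℳ 𝒩 hT).carrier →ₗ[k] M ⊗[k] N where
  toFun z := Subtype.val (p := fun y => y ∈ sgSub 𝒜 ℬ ℳ 𝒩 hT) z
  map_add' _ _ := rfl
  map_smul' c z := by
    change GrSeg.act k R S M N (ψ (algebraMap k T c)) (Subtype.val (p := fun y => y ∈ sgSub 𝒜 ℬ ℳ 𝒩 hT) z) = _
    rw [AlgHom.commutes, Algebra.algebraMap_eq_smul_one, map_smul, LinearMap.smul_apply, act_one]
    rfl

theorem sgG_isSegreMod : GrSeg.IsSegreMod ψ ℳ 𝒩 (sgG 𝒜 ℬ ℳ 𝒩 hT).gr (sgInc 𝒜 ℬ ℳ 𝒩 hT) where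
  injective := Subtype.val_injective
  image_piece n := by
    ext z
    exact ⟨fun ⟨w, hw, e⟩ => e ▸ hw, fun hz => ⟨⟨z, Submodule.mem_iSup_of_mem (p := fun i => GrSeg.segrePiece k ℳ 𝒩 i) n hz⟩, hz, rfl⟩⟩
  map_smul _ _ := rfl

end Model

end Groth.L12.GrSegLib
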