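import Groth.Agent.L12.GrSegRes

/-!
# The total Segre product modulo torsion
-/

set_option autoImplicit false

universe u

open scoped TensorProduct
open DirectSum

namespace Groth.L12.GrSegLib

open Groth.L12.GrLCLib
open scoped KMod

variable {k : Type u} [Field k]

/-- an element of a tensor product over a field killed by a jointly injective family on the right is zero -/
theorem eq_zero_of_lTensor {X Y : Type u} [AddCommGroup X] [Module k X] [AddCommGroup Y] [Module k Y] {κ : Type*}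
    (g : κ → Y →ₗ[k] Y) (hg : ∀ y, (∀ j, g j y = 0) → y = 0) (z : X ⊗[k] Y)
    (h : ∀ j, LinearMap.lTensor X (g j) z = 0) : z = 0 := by
  classical
  let b := Module.Basis.ofVectorSpace k X
  refine (TensorProduct.equivFinsuppOfBasisLeft (N := Y) b).injective ?_
  rw [map_zero]
  refine Finsupp.ext fun i => hg _ fun j => ?_
  have key : ∀ w : X ⊗[k] Y, g j (TensorProduct.equivFinsuppOfBasisLeft b w i) =
      TensorProduct.equivFinsuppOfBasisLeft b (LinearMap.lTensor X (g j) w) i := fun w => by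
    induction w using TensorProduct.induction_on with
    | zero => simp
    | add v w hv hw => simp [hv, hw]
    | tmul x y => simp
  rw [key, h j, map_zero, Finsupp.zero_apply]

theorem eq_zero_of_map {X Y : Type u} [AddCommGroup X] [Module k X] [AddCommGroup Y] [Module k Y] {κ κ' : Type*}
    (f : κ → X →ₗ[k] X) (g : κ' → Y →ₗ[k] Y) (hf : ∀ x, (∀ i, f i x = 0) → x = 0) (hg : ∀ y, (∀ j, g j y = 0) → y = 0)
    (z : X ⊗[k] Y) (h : ∀ i j, TensorProduct.map (f i) (g j) z = 0) : z = 0 := by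
  refine (TensorProduct.comm k X Y).injective ?_
  rw [map_zero]
  refine eq_zero_of_lTensor f hf _ fun i => ?_
  have e1 : LinearMap.lTensor Y (f i) (TensorProduct.comm k X Y z) =
      TensorProduct.comm k X Y (LinearMap.rTensor Y (f i) z) :=
    LinearMap.congr_fun (TensorProduct.ext' (g := LinearMap.lTensor Y (f i) ∘ₗ (TensorProduct.comm k X Y).toLinearMap)
      (h := (TensorProduct.comm k X Y).toLinearMap ∘ₗ LinearMap.rTensor Y (f i)) fun x y => by simp) z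
  rw [e1, eq_zero_of_lTensor g hg (LinearMap.rTensor Y (f i) z) (fun j => by
    rw [← LinearMap.comp_apply, LinearMap.lTensor_comp_rTensor]; exact h i j), map_zero]

variable {R : Type u} [CommRing R] [Algebra k R] {𝒜 : ℤ → Submodule k R} [GradedAlgebra 𝒜]
  {S : Type u} [CommRing S] [Algebra k S] {ℬ : ℤ → Submodule k S} [GradedAlgebra ℬ]
  {T : Type u} [CommRing T] [Algebra k T] {𝒯 : ℤ → Submodule k T} [GradedAlgebra 𝒯] {ψ : T →ₐ[k] R ⊗[k] S}

section TorFree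

variable [Algebra.FiniteType k R] [Algebra.FiniteType k S]
  (mR : HomogeneousIdeal 𝒜) (hmR : mR.toIdeal = Ideal.span (⋃ n ∈ Set.Ioi (0 : ℤ), (𝒜 n : Set R)))
  (mS : HomogeneousIdeal ℬ) (hmS : mS.toIdeal = Ideal.span (⋃ n ∈ Set.Ioi (0 : ℤ), (ℬ n : Set S)))
  {M : Type u} [AddCommGroup M] [Module R M] [Module k M] [IsScalarTower k R M]
  {N : Type u} [AddCommGroup N] [Module S N] [Module k N] [IsScalarTower k S N]

include hmR hmS

/-- torsion free times torsion free has nothing killed by high degrees -/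
theorem eq_zero_of_deg_kill (hM : GrLC.gam mR.toIdeal M = ⊥) (hN : GrLC.gam mS.toIdeal N = ⊥) (z : M ⊗[k] N) (B : ℤ)
    (hz : ∀ n, B ≤ n → ∀ ξ ∈ GrSeg.segrePiece k 𝒜 ℬ n, GrSeg.act k R S M N ξ z = 0) : z = 0 := by
  haveI : IsNoetherianRing R := Algebra.FiniteType.isNoetherianRing k R
  haveI : IsNoetherianRing S := Algebra.FiniteType.isNoetherianRing k S
  obtain ⟨l, hl, hlm⟩ := exists_gens mR hmR
  obtain ⟨l', hl', hlm'⟩ := exists_gens mS hmS
  let D : ℤ := (l.map Prod.fst).prod * (l'.map Prod.fst).prod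
  have hD : 0 < D := mul_pos (List.prod_pos (fun d hd => by
      obtain ⟨c, hc, rfl⟩ := List.mem_map.1 hd
      exact (hl c hc).1)) (List.prod_pos fun d hd => by
      obtain ⟨c, hc, rfl⟩ := List.mem_map.1 hd
      exact (hl' c hc).1)
  let G : ℤ := D * (max B 1)
  have hG : B ≤ G := (le_max_left B 1).trans (le_mul_of_one_le_left (le_trans zero_le_one (le_max_right B 1)) hD)
  have hG0 : 0 < G := mul_pos hD (lt_of_lt_of_le one_pos (le_max_right B 1))
  have hdiv : ∀ d : ℤ, d ∣ D → 0 < d → ((G / d).toNat : ℤ) * d = G := fun d hd hd0 => by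
    rw [Int.toNat_of_nonneg (Int.ediv_nonneg hG0.le hd0.le)]
    exact Int.ediv_mul_cancel (hd.mul_right _)
  let f : {c // c ∈ l} → M →ₗ[k] M := fun c => ((c.1.2 ^ (G / c.1.1).toNat) • (LinearMap.id : M →ₗ[R] M)).restrictScalars k
  let g : {c // c ∈ l'} → N →ₗ[k] N := fun c => ((c.1.2 ^ (G / c.1.1).toNat) • (LinearMap.id : N →ₗ[S] N)).restrictScalars k
  refine eq_zero_of_map f g (fun x hx => ?_) (fun y hy => ?_) z fun i j => ?_
  · exact (Submodule.mem_bot R).1 (hM.le (mem_gam_of_list hlm fun c hc => ⟨_, hx ⟨c, hc⟩⟩))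
  · exact (Submodule.mem_bot S).1 (hN.le (mem_gam_of_list hlm' fun c hc => ⟨_, hy ⟨c, hc⟩⟩))
  · have hi : i.1.2 ^ (G / i.1.1).toNat ∈ 𝒜 G := by
      have h1 := SetLike.pow_mem_graded (G / i.1.1).toNat (hl i.1 i.2).2
      rwa [nsmul_eq_mul, hdiv _ ((List.dvd_prod (List.mem_map.2 ⟨i.1, i.2, rfl⟩)).mul_right _) (hl i.1 i.2).1] at h1
    have hj : j.1.2 ^ (G / j.1.1).toNat ∈ ℬ G := by
      have h1 := SetLike.pow_mem_graded (G / j.1.1).toNat (hl' j.1 j.2).2
      rwa [nsmul_eq_mul, hdiv _ ((List.dvd_prod (List.mem_map.2 ⟨j.1, j.2, rfl⟩)).mul_left _) (hl' j.1 j.2).1] at h1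
    have h2 := hz G hG _ (Submodule.subset_span ⟨_, hi, _, hj, rfl⟩)
    rw [← h2]
    clear h2 hz
    induction z using TensorProduct.induction_on with
    | zero => simp
    | add v w hv hw => rw [map_add, map_add, hv, hw]
    | tmul x y => rw [TensorProduct.map_tmul, GrSeg.act_tmul]; rfl

variable {τ τ' : Type u} [SetLike τ M] [SetLike τ' N] {ℳ : ℤ → τ} {𝒩 : ℤ → τ'}
  {P : Type u} [AddCommGroup P] [Module T P] [Module k P] [IsScalarTower k T P]
  {τQ : Type u} [SetLike τQ P] [AddSubgroupClass τQ P] {𝒬 : ℤ → τQ} [DirectSum.Decomposition 𝒬]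
  {φ : P →ₗ[k] M ⊗[k] N}

/-- a Segre product of torsion free modules is torsion free -/
theorem seg_gam_eq_bot (hT : GrSeg.IsSegreRing 𝒜 ℬ 𝒯 ψ) (hP : GrSeg.IsSegreMod ψ ℳ 𝒩 𝒬 φ) (mT : HomogeneousIdeal 𝒯)
    (hmT : mT.toIdeal = Ideal.span (⋃ n ∈ Set.Ioi (0 : ℤ), (𝒯 n : Set T)))
    (hM : GrLC.gam mR.toIdeal M = ⊥) (hN : GrLC.gam mS.toIdeal N = ⊥) : GrLC.gam mT.toIdeal P = ⊥ := by
  haveI : IsNoetherianRing T := isNoetherian_segreMod 𝒜 ℬ 𝒜 ℬ 𝒯 𝒯 hT (isSegreMod_self 𝒜 ℬ 𝒯 hT)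
  refine eq_bot_iff.2 fun p hp => (Submodule.mem_bot _).2 ?_
  obtain ⟨B, hB⟩ := exists_deg_kill mT hmT hp
  refine hP.injective ?_
  rw [map_zero]
  refine eq_zero_of_deg_kill mR hmR mS hmS hM hN _ B fun n hn ξ hξ => ?_
  obtain ⟨t, ht, rfl⟩ := (hT.2 n).ge hξ
  change GrSeg.act k R S M N (ψ t) (φ p) = 0
  rw [← hP.map_smul, hB n hn t ht, map_zero]

end TorFree

section Quot

variable (Q : GrSeq 𝒜) (Q' : GrSeq ℬ) (mR : HomogeneousIdeal 𝒜) (mS : HomogeneousIdeal ℬ)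

/-- reduction modulo torsion on the tensor product -/
noncomputable def qk : Q.tot.carrier ⊗[k] Q'.tot.carrier →ₗ[k] (Q.tq mR).tot.carrier ⊗[k] (Q'.tq mS).tot.carrier :=
  TensorProduct.map ((Q.tmap mR).restrictScalars k) ((Q'.tmap mS).restrictScalars k)

theorem isSegOp_qk : IsSegOp 𝒜 ℬ Q.tot.gr Q'.tot.gr (Q.tq mR).tot.gr (Q'.tq mS).tot.gr (qk Q Q' mR mS) :=
  isSegOp_map (Q.tmap mR) (Q.tmap_grHom mR) (Q'.tmap mS) (Q'.tmap_grHom mS)

lemma qk_tmul (x : Q.tot.carrier) (y : Q'.tot.carrier) :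
    qk Q Q' mR mS (x ⊗ₜ[k] y) = Q.tmap mR x ⊗ₜ[k] Q'.tmap mS y := rfl

lemma qk_Dk (z : Q.tot.carrier ⊗[k] Q'.tot.carrier) :
    qk Q Q' mR mS (Dk Q Q' z) = Dk (Q.tq mR) (Q'.tq mS) (qk Q Q' mR mS z) := by
  induction z using TensorProduct.induction_on with
  | zero => simp
  | add v w hv hw => simp only [map_add, hv, hw]
  | tmul x y => simp only [Dk_tmul, map_add, qk_tmul, GrSeq.tmap_dT, GrSeq.tmap_sgn]

lemma qk_Lk (n : ℕ) (z : Q.tot.carrier ⊗[k] Q'.tot.carrier) :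
    qk Q Q' mR mS (Lk Q Q' n z) = Lk (Q.tq mR) (Q'.tq mS) n (qk Q Q' mR mS z) := by
  induction z using TensorProduct.induction_on with
  | zero => simp
  | add v w hv hw => simp only [map_add, hv, hw]
  | tmul x y => simp only [Lk_tmul, map_sum, qk_tmul, GrSeq.tmap_lev]

variable (hT : GrSeg.IsSegreRing 𝒜 ℬ 𝒯 ψ)

/-- reduction modulo torsion on the total Segre product -/
noncomputable def qZ : (totZ Q Q' hT).carrier →ₗ[T] (totZ (Q.tq mR) (Q'.tq mS) hT).carrier :=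
  segOp (totZ_isSegreMod Q Q' hT) (totZ_isSegreMod (Q.tq mR) (Q'.tq mS) hT) (isSegOp_qk Q Q' mR mS)

lemma qZ_spec (z : (totZ Q Q' hT).carrier) :
    totInc (Q.tq mR) (Q'.tq mS) hT (qZ Q Q' mR mS hT z) = qk Q Q' mR mS (totInc Q Q' hT z) := segOp_spec _ _ _ z

lemma qZ_grHom : GrLC.IsGrHom (totZ Q Q' hT).gr (totZ (Q.tq mR) (Q'.tq mS) hT).gr (qZ Q Q' mR mS hT) :=
  segOp_grHom _ _ _

lemma qZ_DZ (z : (totZ Q Q' hT).carrier) :
    qZ Q Q' mR mS hT (DZ Q Q' hT z) = DZ (Q.tq mR) (Q'.tq mS) hT (qZ Q Q' mR mS hT z) :=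
  (totZ_isSegreMod (Q.tq mR) (Q'.tq mS) hT).injective (by rw [qZ_spec, DZ_spec, DZ_spec, qZ_spec, qk_Dk])

lemma qZ_LZ (n : ℕ) (z : (totZ Q Q' hT).carrier) :
    qZ Q Q' mR mS hT (LZ Q Q' hT n z) = LZ (Q.tq mR) (Q'.tq mS) hT n (qZ Q Q' mR mS hT z) :=
  (totZ_isSegreMod (Q.tq mR) (Q'.tq mS) hT).injective (by rw [qZ_spec, LZ_spec, LZ_spec, qZ_spec, qk_Lk])

lemma qZ_surjective : Function.Surjective (qZ Q Q' mR mS hT) := fun p => by
  obtain ⟨z, hz⟩ := TensorProduct.map_surjective (g := (Q.tmap mR).restrictScalars k)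
    (g' := (Q'.tmap mS).restrictScalars k) (hg := Q.tmap_surjective mR) (hg' := Q'.tmap_surjective mS) (totInc _ _ hT p)
  exact exists_segOp_eq _ _ _ p hz

variable [Algebra.FiniteType k R] [Algebra.FiniteType k S] (hposR : ∀ n : ℤ, n < 0 → 𝒜 n = ⊥)
  (hmR : mR.toIdeal = Ideal.span (⋃ n ∈ Set.Ioi (0 : ℤ), (𝒜 n : Set R)))
  (hmS : mS.toIdeal = Ideal.span (⋃ n ∈ Set.Ioi (0 : ℤ), (ℬ n : Set S)))
  (mT : HomogeneousIdeal 𝒯) (hmT : mT.toIdeal = Ideal.span (⋃ n ∈ Set.Ioi (0 : ℤ), (𝒯 n : Set T)))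

include hposR hmR hmS hmT

theorem qZ_eq_zero {z : (totZ Q Q' hT).carrier} :
    qZ Q Q' mR mS hT z = 0 ↔ z ∈ GrLC.gam mT.toIdeal (totZ Q Q' hT).carrier := by
  haveI : IsNoetherianRing R := Algebra.FiniteType.isNoetherianRing k R
  haveI : IsNoetherianRing S := Algebra.FiniteType.isNoetherianRing k S
  refine ⟨fun h => ?_, fun h => ?_⟩
  · refine seg_mem_gam hT hposR (totZ_isSegreMod Q Q' hT) mR hmR mS hmS mT hmT z ?_
    have h1 : totInc Q Q' hT z ∈ LinearMap.ker (qk Q Q' mR mS) := by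
      rw [LinearMap.mem_ker, ← qZ_spec, h, map_zero]
    have e1 : Function.Exact (LinearMap.ker ((Q.tmap mR).restrictScalars k)).subtype ((Q.tmap mR).restrictScalars k) :=
      LinearMap.exact_subtype_ker_map _
    have e2 : Function.Exact (LinearMap.ker ((Q'.tmap mS).restrictScalars k)).subtype ((Q'.tmap mS).restrictScalars k) :=
      LinearMap.exact_subtype_ker_map _
    rw [qk, TensorProduct.map_ker e1 (Q.tmap_surjective mR) e2 (Q'.tmap_surjective mS)] at h1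
    obtain ⟨_, ⟨a, rfl⟩, _, ⟨b, rfl⟩, hab⟩ := Submodule.mem_sup.1 h1
    rw [← hab]
    clear hab
    refine add_mem ?_ ?_
    · induction a using TensorProduct.induction_on with
      | zero => rw [map_zero]; exact zero_mem _
      | add v w hv hw => rw [map_add]; exact add_mem hv hw
      | tmul x y => exact Submodule.subset_span ⟨x, _, rfl, Or.inr ((Q'.tmap_eq_zero mS).1 y.2)⟩
    · induction b using TensorProduct.induction_on with
      | zero => rw [map_zero]; exact zero_mem _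
      | add v w hv hw => rw [map_add]; exact add_mem hv hw
      | tmul x y => exact Submodule.subset_span ⟨_, y, rfl, Or.inl ((Q.tmap_eq_zero mR).1 x.2)⟩
  · have h1 := seg_gam_eq_bot mR hmR mS hmS hT (totZ_isSegreMod (Q.tq mR) (Q'.tq mS) hT) mT hmT
      (Q.gam_tq_tot mR (IsNoetherian.noetherian _)) (Q'.gam_tq_tot mS (IsNoetherian.noetherian _))
    exact (Submodule.mem_bot T).1 (h1.le (gam_mono (qZ Q Q' mR mS hT) h))

end Quot

end Groth.L12.GrSegLib
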