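import Groth.Agent.L12.GrSegCM
import Groth.Agent.L12.GrLCAinv

/-!
# Standard graded Segre factors
-/

set_option autoImplicit false

universe u

open DirectSum

namespace Groth.L12.GrSegLib

open Groth.L12.GrLCLib

/-- a negative end -/
theorem endDeg_lt_zero_iff {A : Type u} [AddCommGroup A] (P : ℤ → AddSubgroup A) :
    GrLC.endDeg P < 0 ↔ ∀ g, 0 ≤ g → P g = ⊥ := by
  constructor
  · intro h g hg
    by_contra hne
    have h1 : ((g : WithTop ℤ) : WithBot (WithTop ℤ)) ≤ GrLC.endDeg P :=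
      le_iSup₂ (f := fun (n : ℤ) (_ : P n ≠ ⊥) => ((n : WithTop ℤ) : WithBot (WithTop ℤ))) g hne
    exact absurd (h1.trans_lt h) (not_lt.2 (by exact_mod_cast hg))
  · intro h
    refine lt_of_le_of_lt ((endDeg_le_coe_iff P (-1)).2 fun g hg => h g (by omega)) ?_
    exact WithBot.coe_lt_coe.2 (WithTop.coe_lt_coe.2 (by omega : (-1 : ℤ) < 0))

variable {k : Type u} [Field k] {R : Type u} [CommRing R] [Algebra k R] {𝒜 : ℤ → Submodule k R} [GradedAlgebra 𝒜]

/-- a standard graded algebra of positive dimension is nonzero in all nonnegative degrees -/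
theorem piece_ne_bot [Algebra.FiniteType k R] (hpos : ∀ n : ℤ, n < 0 → 𝒜 n = ⊥)
    (h0 : 𝒜 0 = Submodule.span k {(1 : R)}) (hstd : Ideal.span (⋃ n ∈ Set.Ioi (0 : ℤ), (𝒜 n : Set R)) =
      Ideal.span ((𝒜 1 : Submodule k R) : Set R))
    {r : ℕ} (hr : ringKrullDim R = r) (h1r : 1 ≤ r) {d : ℤ} (hd : 0 ≤ d) : 𝒜 d ≠ ⊥ := by
  rw [← Module.supportDim_self_eq_ringKrullDim] at hr
  obtain ⟨D, hD, h⟩ := exists_param (ℳ := 𝒜) hpos h0 hr
  obtain ⟨x, hx, -, hfaith⟩ := h 1 one_pos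
  obtain ⟨m, hm, hmf⟩ := exists_tf_up (ℳ := 𝒜) (M := R) hstd h1r (D := D * 1) (by omega) hx (SetLike.one_mem_graded 𝒜)
    (fun f hf => hfaith f fun m => by rw [smul_eq_mul, mul_one] at hf; rw [hf, zero_smul]) d hd
  intro hbot
  rw [hbot, Submodule.mem_bot] at hm
  exact one_ne_zero (hmf 1 (by rw [hm, smul_zero]))

end Groth.L12.GrSegLib
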