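import Groth.Agent.L12.GrSegProd
import Groth.Agent.L12.GrSegKun
import Groth.Agent.L12.GrSegFilt
import Mathlib.Algebra.DirectSum.Module

/-!
# Sums of graded complexes as single graded modules with a differential
-/

set_option autoImplicit false

universe u

open DirectSum

namespace Groth.L12.GrSegLib

open Groth.L12.GrLCLib

section General

variable {R : Type u} [CommRing R] {σ : Type u} [SetLike σ R] [AddSubgroupClass σ R] (𝒜 : ℤ → σ) [GradedRing 𝒜]

/-- a sequence of graded modules with homogeneous maps squaring to zero -/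
structure GrSeq : Type (u + 1) where
  X : ℕ → GrLC.GMod.{u} 𝒜
  d : ∀ n, (X n).carrier →ₗ[R] (X (n + 1)).carrier
  d_grHom : ∀ n, GrLC.IsGrHom (X n).gr (X (n + 1)).gr (d n)
  d_d : ∀ n x, d (n + 1) (d n x) = 0

variable {𝒜} (Q : GrSeq 𝒜)

/-- pieces of the sum -/
def GrSeq.sumPiece (g : ℤ) : AddSubgroup (⨁ n : ℕ, (Q.X n).carrier) where
  carrier := {v | ∀ n, v n ∈ (Q.X n).gr g}
  add_mem' {a b} ha hb n := by rw [DirectSum.add_apply]; exact add_mem (ha n) (hb n)
  zero_mem' n := by rw [DirectSum.zero_apply]; exact zero_mem _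
  neg_mem' {a} ha n := by
    rw [show (-a) n = -(a n) from DFinsupp.neg_apply a n]
    exact neg_mem (ha n)

lemma GrSeq.lof_mem {g : ℤ} {n : ℕ} {x : (Q.X n).carrier} (hx : x ∈ (Q.X n).gr g) :
    DirectSum.lof R ℕ (fun n => (Q.X n).carrier) n x ∈ Q.sumPiece g := fun i => by
  by_cases h : i = n
  · subst h; rw [DirectSum.lof_eq_of, DirectSum.of_eq_same]; exact hx
  · rw [DirectSum.lof_eq_of, DirectSum.of_eq_of_ne _ _ _ h]; exact zero_mem _

lemma GrSeq.sumPiece_isInternal : DirectSum.IsInternal Q.sumPiece := by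
  classical
  let pr : ℤ → (⨁ n : ℕ, (Q.X n).carrier) →+ ⨁ n : ℕ, (Q.X n).carrier := fun g =>
    DirectSum.map fun n => cp (Q.X n).gr g
  refine isInternal_of_pr _ pr (fun g v hv => DFinsupp.ext fun n => ?_) (fun g h hgh v hv => DFinsupp.ext fun n => ?_)
    fun v => ?_
  · exact (DirectSum.map_apply _ _ _).trans (cp_same _ (hv n))
  · exact (DirectSum.map_apply _ _ _).trans (cp_ne _ (hv n) hgh)
  · induction v using DirectSum.induction_on with
    | zero => exact zero_mem _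
    | add a b ha hb => exact add_mem ha hb
    | of n x =>
      obtain ⟨s, hs, -⟩ := exists_sum_cp (Q.X n).gr x
      rw [← hs, map_sum]
      exact sum_mem fun g _ => AddSubgroup.mem_iSup_of_mem g (Q.lof_mem (cp_mem _ g x))

/-- the sum of the terms -/
noncomputable def GrSeq.tot : GrLC.GMod.{u} 𝒜 where
  carrier := ⨁ n : ℕ, (Q.X n).carrier
  gr := Q.sumPiece
  dec := Q.sumPiece_isInternal.chooseDecomposition
  gsmul := ⟨fun {_ _ r v} hr hv n => by
    change (r • v) n ∈ _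
    rw [DirectSum.smul_apply]
    exact SetLike.GradedSMul.smul_mem (A := 𝒜) (B := (Q.X n).gr) hr (hv n)⟩

/-- inclusion of a term -/
noncomputable def GrSeq.inc (n : ℕ) : (Q.X n).carrier →ₗ[R] Q.tot.carrier :=
  DirectSum.lof R ℕ (fun n => (Q.X n).carrier) n

/-- projection onto a term -/
noncomputable def GrSeq.prj (n : ℕ) : Q.tot.carrier →ₗ[R] (Q.X n).carrier :=
  DirectSum.component R ℕ (fun n => (Q.X n).carrier) n

lemma GrSeq.prj_inc (n : ℕ) (x : (Q.X n).carrier) : Q.prj n (Q.inc n x) = x := by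
  change (DirectSum.lof R ℕ (fun n => (Q.X n).carrier) n x) n = x
  rw [DirectSum.lof_eq_of, DirectSum.of_eq_same]

lemma GrSeq.prj_inc_ne {n i : ℕ} (h : i ≠ n) (x : (Q.X n).carrier) : Q.prj i (Q.inc n x) = 0 := by
  change (DirectSum.lof R ℕ (fun n => (Q.X n).carrier) n x) i = 0
  rw [DirectSum.lof_eq_of, DirectSum.of_eq_of_ne _ _ _ h]

lemma GrSeq.ext_prj {v w : Q.tot.carrier} (h : ∀ n, Q.prj n v = Q.prj n w) : v = w := DFinsupp.ext h

lemma GrSeq.induction {P : Q.tot.carrier → Prop} (v : Q.tot.carrier) (h0 : P 0)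
    (hi : ∀ n x, P (Q.inc n x)) (ha : ∀ a b, P a → P b → P (a + b)) : P v :=
  DirectSum.induction_on (β := fun n => (Q.X n).carrier) v h0 hi ha

lemma GrSeq.inc_grHom (n : ℕ) : GrLC.IsGrHom (Q.X n).gr Q.tot.gr (Q.inc n) := fun _ _ hx => Q.lof_mem hx

lemma GrSeq.prj_grHom (n : ℕ) : GrLC.IsGrHom Q.tot.gr (Q.X n).gr (Q.prj n) := fun _ _ hv => hv n

/-- the total differential -/
noncomputable def GrSeq.dT : Q.tot.carrier →ₗ[R] Q.tot.carrier :=
  DirectSum.toModule R ℕ _ fun n => Q.inc (n + 1) ∘ₗ Q.d n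

lemma GrSeq.dT_inc (n : ℕ) (x : (Q.X n).carrier) : Q.dT (Q.inc n x) = Q.inc (n + 1) (Q.d n x) :=
  DirectSum.toModule_lof (M := fun n => (Q.X n).carrier) R n x

lemma GrSeq.prj_dT_succ (n : ℕ) (v : Q.tot.carrier) : Q.prj (n + 1) (Q.dT v) = Q.d n (Q.prj n v) := by
  induction v using Q.induction with
  | h0 => simp
  | ha a b ha hb => simp only [map_add, ha, hb]
  | hi i x =>
    rw [Q.dT_inc]
    by_cases h : n = i
    · subst h; rw [Q.prj_inc, Q.prj_inc]
    · rw [Q.prj_inc_ne (by omega), Q.prj_inc_ne h, map_zero]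

lemma GrSeq.prj_dT_zero (v : Q.tot.carrier) : Q.prj 0 (Q.dT v) = 0 := by
  induction v using Q.induction with
  | h0 => simp
  | ha a b ha hb => rw [map_add, map_add, ha, hb, add_zero]
  | hi i x => rw [Q.dT_inc, Q.prj_inc_ne (by omega)]

lemma GrSeq.dT_dT (v : Q.tot.carrier) : Q.dT (Q.dT v) = 0 := by
  induction v using Q.induction with
  | h0 => simp
  | ha a b ha hb => rw [map_add, map_add, ha, hb, add_zero]
  | hi i x => rw [Q.dT_inc, Q.dT_inc, Q.d_d, map_zero]

lemma GrSeq.dT_grHom : GrLC.IsGrHom Q.tot.gr Q.tot.gr Q.dT := fun g v hv n => by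
  cases n with
  | zero =>
    change Q.prj 0 (Q.dT v) ∈ _
    rw [Q.prj_dT_zero]; exact zero_mem _
  | succ n =>
    change Q.prj (n + 1) (Q.dT v) ∈ _
    rw [Q.prj_dT_succ]
    exact Q.d_grHom n g _ (hv n)

/-- the sign -/
noncomputable def GrSeq.sgn : Q.tot.carrier →ₗ[R] Q.tot.carrier :=
  DirectSum.toModule R ℕ _ fun n => ((-1 : R) ^ n) • Q.inc n

lemma GrSeq.sgn_inc (n : ℕ) (x : (Q.X n).carrier) : Q.sgn (Q.inc n x) = ((-1 : R) ^ n) • Q.inc n x :=
  DirectSum.toModule_lof (M := fun n => (Q.X n).carrier) R n x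

lemma GrSeq.prj_sgn (n : ℕ) (v : Q.tot.carrier) : Q.prj n (Q.sgn v) = ((-1 : R) ^ n) • Q.prj n v := by
  induction v using Q.induction with
  | h0 => simp
  | ha a b ha hb => simp only [map_add, smul_add, ha, hb]
  | hi i x =>
    rw [Q.sgn_inc, map_smul]
    by_cases h : n = i
    · subst h; rfl
    · rw [Q.prj_inc_ne h, smul_zero, smul_zero]

lemma GrSeq.sgn_grHom : GrLC.IsGrHom Q.tot.gr Q.tot.gr Q.sgn := fun g v hv n => by
  change Q.prj n (Q.sgn v) ∈ _
  rw [Q.prj_sgn]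
  rcases neg_one_pow_eq_or R n with h | h <;> rw [h]
  · rw [one_smul]; exact hv n
  · rw [neg_one_smul]; exact neg_mem (hv n)

/-- projection onto the `n`-th summand -/
noncomputable def GrSeq.lev (n : ℕ) : Q.tot.carrier →ₗ[R] Q.tot.carrier := Q.inc n ∘ₗ Q.prj n

lemma GrSeq.lev_grHom (n : ℕ) : GrLC.IsGrHom Q.tot.gr Q.tot.gr (Q.lev n) := fun g _ hv =>
  Q.inc_grHom n g _ (Q.prj_grHom n g _ hv)

lemma GrSeq.lev_lev (n : ℕ) (v : Q.tot.carrier) : Q.lev n (Q.lev n v) = Q.lev n v :=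
  congrArg (Q.inc n) (Q.prj_inc n _)

lemma GrSeq.lev_lev_ne {m n : ℕ} (h : m ≠ n) (v : Q.tot.carrier) : Q.lev m (Q.lev n v) = 0 := by
  change Q.inc m (Q.prj m (Q.inc n (Q.prj n v))) = 0
  rw [Q.prj_inc_ne h, map_zero]

lemma GrSeq.lev_dT_succ (n : ℕ) (v : Q.tot.carrier) : Q.lev (n + 1) (Q.dT v) = Q.dT (Q.lev n v) := by
  change Q.inc (n + 1) (Q.prj (n + 1) (Q.dT v)) = Q.dT (Q.inc n (Q.prj n v))
  rw [Q.prj_dT_succ, Q.dT_inc]

lemma GrSeq.lev_dT_zero (v : Q.tot.carrier) : Q.lev 0 (Q.dT v) = 0 := by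
  change Q.inc 0 (Q.prj 0 (Q.dT v)) = 0
  rw [Q.prj_dT_zero, map_zero]

lemma GrSeq.lev_sgn (n : ℕ) (v : Q.tot.carrier) : Q.lev n (Q.sgn v) = Q.sgn (Q.lev n v) := by
  change Q.inc n (Q.prj n (Q.sgn v)) = Q.sgn (Q.inc n (Q.prj n v))
  rw [Q.prj_sgn, Q.sgn_inc, map_smul]

lemma GrSeq.exists_bound (v : Q.tot.carrier) : ∃ B : ℕ, ∀ n, B ≤ n → Q.prj n v = 0 := by
  induction v using Q.induction with
  | h0 => exact ⟨0, fun n _ => map_zero _⟩
  | ha a b ha hb =>
    obtain ⟨B, hB⟩ := ha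
    obtain ⟨B', hB'⟩ := hb
    exact ⟨max B B', fun n hn => by rw [map_add, hB n (le_of_max_le_left hn), hB' n (le_of_max_le_right hn), add_zero]⟩
  | hi i x => exact ⟨i + 1, fun n hn => Q.prj_inc_ne (by omega) x⟩

/-- the sum of divisible modules is divisible -/
theorem GrSeq.isDiv_tot (h : ∀ n, IsDiv 𝒜 (Q.X n).gr) : IsDiv 𝒜 Q.tot.gr := by
  classical
  intro J hJ e a ha g x hx hJx
  have hcomp : ∀ n, ∃ w : (Q.X n).carrier, (∀ c ∈ J, c • w = 0) ∧ ∃ i : ℕ, a ^ i • (a • w - Q.prj n x) = 0 := fun n =>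
    h n J hJ e a ha g _ (Q.prj_grHom n g x hx) fun c hc => by rw [← map_smul, hJx c hc, map_zero]
  choose w hw i hi using hcomp
  obtain ⟨B, hB⟩ := Q.exists_bound x
  let v : Q.tot.carrier := ∑ n ∈ Finset.range B, Q.inc n (w n)
  refine ⟨v, fun c hc => ?_, (Finset.range B).sum i, ?_⟩
  · rw [Finset.smul_sum]
    exact Finset.sum_eq_zero fun n _ => by rw [← map_smul, hw n c hc, map_zero]
  · refine Q.ext_prj fun m => ?_
    rw [map_smul, map_sub, map_smul, map_zero, map_sum]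
    by_cases hm : m < B
    · rw [Finset.sum_eq_single m (fun n _ hn => Q.prj_inc_ne (Ne.symm hn) _) (fun hn => absurd (Finset.mem_range.2 hm) hn),
        Q.prj_inc, ← Finset.sum_erase_add _ _ (Finset.mem_range.2 hm), pow_add, mul_smul, hi, smul_zero]
    · rw [Finset.sum_eq_zero fun n hn => Q.prj_inc_ne (by rw [Finset.mem_range] at hn; omega) _, smul_zero, hB m (not_lt.1 hm),
        sub_zero, smul_zero]

end General

section Field

open scoped KMod

variable {k : Type u} [Field k] {R : Type u} [CommRing R] [Algebra k R] {𝒜 : ℤ → Submodule k R} [GradedAlgebra 𝒜]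

/-- the sum of a complex satisfies the hypotheses of the Künneth formula -/
theorem GrSeq.isSign (Q : GrSeq 𝒜) {B : Type u} [AddCommGroup B] [Module k B] (d' : B →ₗ[k] B)
    (hd' : ∀ y, d' (d' y) = 0) :
    IsSign (Q.dT.restrictScalars k) d' (Q.sgn.restrictScalars k) := by
  classical
  have hsgn2 : ∀ v, Q.sgn (Q.sgn v) = v := fun v => Q.ext_prj fun n => by
    rw [Q.prj_sgn, Q.prj_sgn, smul_smul, ← mul_pow, neg_one_mul, neg_neg, one_pow, one_smul]
  have hanti : ∀ v, Q.sgn (Q.dT v) = -Q.dT (Q.sgn v) := fun v => Q.ext_prj fun n => by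
    cases n with
    | zero => rw [Q.prj_sgn, Q.prj_dT_zero, smul_zero, map_neg, Q.prj_dT_zero, neg_zero]
    | succ n =>
      rw [Q.prj_sgn, Q.prj_dT_succ, map_neg, Q.prj_dT_succ, Q.prj_sgn, map_smul, pow_succ, mul_smul, neg_one_smul, smul_neg]
  refine ⟨hsgn2, hanti, Q.dT_dT, hd', ?_⟩
  have hg : ∀ n, ∃ h : (Q.X (n + 1)).carrier →ₗ[k] (Q.X n).carrier, ∀ x, Q.d n (h (Q.d n x)) = Q.d n x := fun n =>
    exists_gen_inverse ((Q.d n).restrictScalars k)
  choose h hh using hg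
  let φ : ∀ n, (Q.X n).carrier →+ Q.tot.carrier := fun n => match n with
    | 0 => 0
    | n + 1 => (Q.inc n).toAddMonoidHom.comp (h n).toAddMonoidHom
  let H₀ : Q.tot.carrier →+ Q.tot.carrier := DirectSum.toAddMonoid φ
  have hH₀0 : ∀ x, H₀ (Q.inc 0 x) = 0 := fun x => by
    change DirectSum.toAddMonoid φ (DirectSum.of (fun n => (Q.X n).carrier) 0 x) = 0
    rw [DirectSum.toAddMonoid_of]
    rfl
  have hH₀ : ∀ n x, H₀ (Q.inc (n + 1) x) = Q.inc n (h n x) := fun n x => by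
    change DirectSum.toAddMonoid φ (DirectSum.of (fun n => (Q.X n).carrier) (n + 1) x) = _
    rw [DirectSum.toAddMonoid_of]
    rfl
  have hinck : ∀ (c : k) n (x : (Q.X n).carrier), c • Q.inc n x = Q.inc n (c • x) := fun c n x =>
    ((Q.inc n).restrictScalars k).map_smul c x |>.symm
  let H : Q.tot.carrier →ₗ[k] Q.tot.carrier :=
    { toFun := H₀
      map_add' := map_add H₀
      map_smul' := fun c v => by
        rw [RingHom.id_apply]
        induction v using Q.induction with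
        | h0 => rw [smul_zero, map_zero, smul_zero]
        | ha a b ha hb => rw [smul_add, map_add, map_add, ha, hb, smul_add]
        | hi n x =>
          rw [hinck]
          cases n with
          | zero => rw [hH₀0, hH₀0, smul_zero]
          | succ n => rw [hH₀, hH₀, (h n).map_smul, hinck] }
  refine ⟨H, fun v => ?_, fun v => ?_⟩
  · induction v using Q.induction with
    | h0 => simp
    | ha a b ha hb => simp only [map_add, ha, hb]
    | hi n x =>
      change Q.dT (H₀ (Q.dT (Q.inc n x))) = Q.dT (Q.inc n x)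
      rw [Q.dT_inc, hH₀, Q.dT_inc, hh]
  · change Q.sgn (H₀ v) = -H₀ (Q.sgn v)
    induction v using Q.induction with
    | h0 => simp
    | ha a b ha hb => rw [map_add, map_add, map_add, map_add, ha, hb, neg_add]
    | hi n x =>
      rw [Q.sgn_inc]
      cases n with
      | zero => rw [hH₀0, map_zero, pow_zero, one_smul, hH₀0, neg_zero]
      | succ n =>
        rcases neg_one_pow_eq_or R n with e | e <;>
          simp only [pow_succ, e, hH₀, Q.sgn_inc, one_mul, neg_mul_neg, one_smul, neg_one_smul, neg_neg, map_neg]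

end Field

end Groth.L12.GrSegLib
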