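import Groth.Agent.L12.GrSegDimT
import Groth.Agent.L12.GrLCExt
import Groth.Agent.L04.CMBasic
import Groth.Agent.L04.SupportLoc

/-!
# Elements without parameter torsion
-/

set_option autoImplicit false

universe u

open DirectSum

namespace Groth.L12.GrSegLib

open Groth.L12.GrLCLib
open scoped Groth.L12.GrLCLib.Asub

variable {k : Type u} [Field k] {R : Type u} [CommRing R] [Algebra k R] {𝒜 : ℤ → Submodule k R} [GradedAlgebra 𝒜]
  {M : Type u} [AddCommGroup M] [Module R M] [Module k M] [IsScalarTower k R M]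
  {τ : Type u} [SetLike τ M] [AddSubgroupClass τ M] {ℳ : ℤ → τ} [DirectSum.Decomposition ℳ] [SetLike.GradedSMul 𝒜 ℳ]
  [Algebra.FiniteType k R] [Module.Finite R M]

/-- the irrelevant ideal -/
noncomputable abbrev irr (𝒜 : ℤ → Submodule k R) [GradedAlgebra 𝒜] : HomogeneousIdeal 𝒜 :=
  ⟨Ideal.span (⋃ n ∈ Set.Ioi (0 : ℤ), (𝒜 n : Set R)), Ideal.homogeneous_span 𝒜 _ fun x hx => by
    obtain ⟨n, -, hn⟩ := Set.mem_iUnion₂.1 hx
    exact ⟨n, hn⟩⟩

/-- the dimension is attained below the irrelevant ideal -/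
theorem supportDim_le_of_below (hpos : ∀ n : ℤ, n < 0 → 𝒜 n = ⊥) (h0 : 𝒜 0 = Submodule.span k {(1 : R)}) {n : ℕ}
    (hn : Order.krullDim (suppBelow (irr 𝒜).toIdeal M) ≤ n) :
    (∃ x : Fin n → R, ∃ D : Fin n → ℤ, (∀ i, 0 < D i) ∧ Gen ℳ x D) ∧ Module.supportDim R M ≤ n := by
  haveI : SetLike.GradedSMul 𝒜 (asub ℳ) :=
    ⟨fun {_ _ _ _} hr hm => SetLike.GradedSMul.smul_mem (A := 𝒜) (B := ℳ) hr hm⟩
  obtain ⟨x, E, -, hE, hg⟩ := exists_gen hpos h0 (irr 𝒜) rfl n M (asub ℳ) hn
  have hg' : Gen ℳ x E := hg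
  refine ⟨⟨x, E, hE, hg'⟩, ?_⟩
  haveI : IsNoetherianRing R := Algebra.FiniteType.isNoetherianRing k R
  obtain ⟨s, hs⟩ := hg'.exists_span hE (exists_low hpos) (fun d => finite_pieceK ℳ h0 d)
  rw [Module.supportDim_eq_ringKrullDim_quotient_annihilator,
    ringKrullDim_quotient_annihilator_eq (X := M) (MvPolynomial.aeval (R := k) x).toRingHom s fun m => hs m]
  refine (ringKrullDim_quotient_le _).trans (le_of_eq ?_)
  rw [MvPolynomial.ringKrullDim_of_isNoetherianRing, ringKrullDim_eq_zero_of_field, zero_add, Nat.card_fin]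

include ℳ in
/-- a graded module of dimension zero is Artinian -/
theorem isArtinian_of_supportDim_zero (hpos : ∀ n : ℤ, n < 0 → 𝒜 n = ⊥) (h0 : 𝒜 0 = Submodule.span k {(1 : R)})
    (hd : Module.supportDim R M ≤ ((0 : ℕ) : WithBot ℕ∞)) : IsArtinian R M := by
  obtain ⟨x, D, hD, hg⟩ := (supportDim_le_of_below (ℳ := ℳ) hpos h0
    ((Order.krullDim_le_of_strictMono (fun p => (⟨p.1, p.2.1⟩ : Module.support R M)) fun _ _ h => h).trans hd)).1
  obtain ⟨s, hs⟩ := hg.exists_finset (k := k) (𝒜 := 𝒜) hD (exists_low hpos) (fun d => finite_pieceK ℳ h0 d)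
  haveI : Module.Finite k M := ⟨⟨s, hs _ Submodule.subset_span fun i => i.elim0⟩⟩
  exact isArtinian_of_tower k inferInstance

omit [GradedAlgebra 𝒜] [Algebra.FiniteType k R] [Module.Finite R M] in
omit [Module k M] [IsScalarTower k R M] in
/-- torsion with respect to algebraically independent parameters -/
theorem exists_paramTors {n : ℕ} (x : Fin n → R) : ∃ Z : Submodule R M,
    ∀ m, m ∈ Z ↔ ∃ f : MvPolynomial (Fin n) k, f ≠ 0 ∧ MvPolynomial.aeval x f • m = 0 := by
  refine ⟨{ carrier := {m | ∃ f : MvPolynomial (Fin n) k, f ≠ 0 ∧ MvPolynomial.aeval x f • m = 0}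
            zero_mem' := ⟨1, one_ne_zero, smul_zero _⟩
            add_mem' := ?_
            smul_mem' := ?_ }, fun m => Iff.rfl⟩
  · rintro a b ⟨f, hf, hfa⟩ ⟨g, hg, hgb⟩
    exact ⟨f * g, mul_ne_zero hf hg, by
      rw [map_mul, smul_add, mul_comm, mul_smul, hfa, smul_zero, zero_add, mul_comm, mul_smul, hgb, smul_zero]⟩
  · rintro c a ⟨f, hf, hfa⟩
    exact ⟨f, hf, by rw [smul_comm, hfa, smul_zero]⟩

omit [Algebra.FiniteType k R] [Module.Finite R M] [Module k M] [IsScalarTower k R M] [DirectSum.Decomposition ℳ] in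
/-- over a standard graded ring a torsion free element yields one in every higher degree -/
theorem exists_tf_up (hstd : Ideal.span (⋃ n ∈ Set.Ioi (0 : ℤ), (𝒜 n : Set R)) =
      Ideal.span ((𝒜 1 : Submodule k R) : Set R))
    {n : ℕ} (hn : 1 ≤ n) {D : ℤ} (hD : 0 < D) {x : Fin n → R} (hx : ∀ i, x i ∈ 𝒜 D) {e : ℤ} {g : M} (hg : g ∈ ℳ e)
    (hgf : ∀ f, MvPolynomial.aeval (R := k) x f • g = 0 → f = 0) :
    ∀ d, e ≤ d → ∃ m ∈ ℳ d, ∀ f, MvPolynomial.aeval (R := k) x f • m = 0 → f = 0 := by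
  classical
  obtain ⟨Z, hZ⟩ := exists_paramTors (k := k) (M := M) x
  have hiff : ∀ m, m ∉ Z ↔ ∀ f, MvPolynomial.aeval (R := k) x f • m = 0 → f = 0 := fun m => by
    rw [hZ]
    exact ⟨fun h f hf => by_contra fun hne => h ⟨f, hne, hf⟩, fun h ⟨f, hne, hf⟩ => hne (h f hf)⟩
  have hb : g ∉ Z := (hiff g).2 hgf
  intro d hd
  suffices ∃ m ∈ ℳ d, m ∉ Z by
    obtain ⟨m, hm, hmZ⟩ := this
    exact ⟨m, hm, (hiff m).1 hmZ⟩
  induction d, hd using Int.leInduction with
  | base => exact ⟨g, hg, hb⟩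
  | succ d _ ih =>
    obtain ⟨m, hm, hmZ⟩ := ih
    by_contra! hall
    have hsub : Ideal.span (⋃ n ∈ Set.Ioi (0 : ℤ), (𝒜 n : Set R)) ≤ Z.colon {m} := hstd.le.trans
      (Ideal.span_le.2 fun l hl => Submodule.mem_colon_singleton.2 (hall _ (by
        have := smul_mem' 𝒜 ℳ (show l ∈ 𝒜 1 from hl) hm
        rwa [add_comm] at this)))
    obtain ⟨f, hf, hfx⟩ := (hZ _).1 (Submodule.mem_colon_singleton.1
      (hsub (Ideal.subset_span (Set.mem_iUnion₂.2 ⟨D, hD, hx ⟨0, hn⟩⟩))))
    refine mul_ne_zero hf (MvPolynomial.X_ne_zero (R := k) (⟨0, hn⟩ : Fin n)) ((hiff m).1 hmZ _ ?_)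
    rw [map_mul, MvPolynomial.aeval_X, mul_smul, hfx]


omit [Algebra.FiniteType k R] in
/-- over a standard graded ring torsion free homogeneous elements occur in all high degrees -/
theorem exists_tf_standard (hstd : Ideal.span (⋃ n ∈ Set.Ioi (0 : ℤ), (𝒜 n : Set R)) =
      Ideal.span ((𝒜 1 : Submodule k R) : Set R))
    {n : ℕ} (hn : 1 ≤ n) {D : ℤ} (hD : 0 < D) {x : Fin n → R} (hx : ∀ i, x i ∈ 𝒜 D)
    (hfaith : ∀ f : MvPolynomial (Fin n) k, (∀ m : M, MvPolynomial.aeval x f • m = 0) → f = 0) :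
    ∃ e : ℤ, ∀ d, e ≤ d → ∃ m ∈ ℳ d, ∀ f, MvPolynomial.aeval (R := k) x f • m = 0 → f = 0 := by
  classical
  obtain ⟨Z, hZ⟩ := exists_paramTors (k := k) (M := M) x
  have hiff : ∀ m, m ∉ Z ↔ ∀ f, MvPolynomial.aeval (R := k) x f • m = 0 → f = 0 := fun m => by
    rw [hZ]
    exact ⟨fun h f hf => by_contra fun hne => h ⟨f, hne, hf⟩, fun h ⟨f, hne, hf⟩ => hne (h f hf)⟩
  obtain ⟨N, deg, g, hg, hspan⟩ := exists_homog_gens ℳ (P := (⊤ : Submodule R M)) (fun _ _ _ => trivial) Module.Finite.fg_top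
  obtain ⟨b, hb⟩ : ∃ b, g b ∉ Z := by
    by_contra! hall
    choose f hf hfg using fun b => (hZ _).1 (hall b)
    refine Finset.prod_ne_zero_iff.2 (fun b _ => hf b) (hfaith (∏ b, f b) fun m => ?_)
    obtain ⟨c, rfl⟩ := (Submodule.mem_span_range_iff_exists_fun R).1 (hspan ▸ Submodule.mem_top (x := m))
    rw [Finset.smul_sum]
    refine Finset.sum_eq_zero fun j _ => ?_
    rw [← Finset.mul_prod_erase Finset.univ f (Finset.mem_univ j), map_mul, mul_comm, mul_smul, smul_comm _ (c j),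
      hfg, smul_zero, smul_zero]
  exact ⟨deg b, exists_tf_up hstd hn hD hx (hg b) ((hiff _).1 hb)⟩

/-- in a graded Cohen–Macaulay module no nonzero homogeneous element has parameter torsion -/
theorem tf_of_cm (hpos : ∀ n : ℤ, n < 0 → 𝒜 n = ⊥) (h0 : 𝒜 0 = Submodule.span k {(1 : R)}) {r : ℕ}
    (hdim : Module.supportDim R M = r)
    (hcm : ∀ (q : Ideal R) [q.IsPrime], Subsingleton (LocalizedModule q.primeCompl M) ∨
      LocCoh.IsCohenMacaulayModule (Localization.AtPrime q) (LocalizedModule q.primeCompl M))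
    {D : ℤ} (hD : 0 < D) {x : Fin r → R} (hg : Gen ℳ x fun _ => D)
    {d : ℤ} {m : M} (hm : m ∈ ℳ d) (hm0 : m ≠ 0) (f : MvPolynomial (Fin r) k)
    (hf : MvPolynomial.aeval x f • m = 0) : f = 0 := by
  classical
  by_contra hf0
  haveI : IsNoetherianRing R := Algebra.FiniteType.isNoetherianRing k R
  haveI : Nontrivial M := nontrivial_of_ne _ _ hm0
  haveI : Nontrivial R := Module.nontrivial R M
  set q := (irr 𝒜).toIdeal with hq
  haveI : q.IsPrime := (irrel_isMaximal hpos h0 rfl).isPrime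
  have hcol : (⊥ : Submodule R M).colon {m} ≤ q := by
    refine le_irrel hpos h0 rfl (fun i a ha => ?_) fun h => hm0 ?_
    · rw [Submodule.mem_colon_singleton, Submodule.mem_bot] at ha ⊢
      have h1 := cp_smul_mem 𝒜 ℳ a hm (i + d)
      rw [ha, map_zero, add_sub_cancel_right] at h1
      exact h1.symm
    · have := h.ge (Submodule.mem_top (x := (1 : R)))
      rwa [Submodule.mem_colon_singleton, Submodule.mem_bot, one_smul] at this
  let Mq := LocalizedModule q.primeCompl M
  let Rq := Localization.AtPrime q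
  let ι := LocalizedModule.mkLinearMap q.primeCompl M
  have hne : ι m ≠ 0 := fun h => by
    obtain ⟨c, hc⟩ := (IsLocalizedModule.eq_zero_iff q.primeCompl ι).1 h
    exact c.2 (hcol (Submodule.mem_colon_singleton.2 ((Submodule.mem_bot R).2 hc)))
  haveI : Nontrivial Mq := nontrivial_of_ne _ _ hne
  haveI : IsNoetherianRing Rq := IsLocalization.isNoetherianRing q.primeCompl _ inferInstance
  haveI : Module.Finite Rq Mq := Module.Finite.of_isLocalizedModule q.primeCompl ι
  have hCM := (hcm q).resolve_left (not_subsingleton Mq)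
  obtain ⟨Q, hQ, hQc⟩ := exists_le_isAssociatedPrime_of_isNoetherianRing Rq (ι m) hne
  haveI : Q.IsPrime := hQ.isPrime
  have hfQ : algebraMap R Rq (MvPolynomial.aeval x f) ∈ Q := hQc (Submodule.mem_colon_singleton.2 ((Submodule.mem_bot Rq).2 (by
    rw [algebraMap_smul, ← map_smul, hf, map_zero])))
  have hAQ : ∀ a ∈ Module.annihilator R M, algebraMap R Rq a ∈ Q := fun a ha => hQc
    (Submodule.mem_colon_singleton.2 ((Submodule.mem_bot Rq).2 (by
      rw [algebraMap_smul, ← map_smul, Module.mem_annihilator.1 ha, map_zero])))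
  have hlow : (r : WithBot ℕ∞) ≤ Module.supportDim Rq Mq := by
    rcases r.eq_zero_or_pos with rfl | hr
    · rw [Nat.cast_zero, Module.supportDim]
      exact Order.krullDim_nonneg_iff.2 (Set.nonempty_coe_sort.2 Module.nonempty_support_of_nontrivial)
    by_contra hlt
    have hle : Order.krullDim (suppBelow q M) ≤ ((r - 1 : ℕ) : WithBot ℕ∞) := by
      refine le_trans ?_ (show Module.supportDim Rq Mq ≤ ((r - 1 : ℕ) : WithBot ℕ∞) from ?_)
      · let j : suppBelow q M → Module.support Rq Mq := fun p => by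
          haveI := IsLocalization.AtPrime.orderIsoOfPrime Rq q
          refine ⟨⟨((IsLocalization.AtPrime.orderIsoOfPrime Rq q).symm ⟨p.1.asIdeal, p.1.isPrime, p.2.2⟩).1,
            ((IsLocalization.AtPrime.orderIsoOfPrime Rq q).symm ⟨p.1.asIdeal, p.1.isPrime, p.2.2⟩).2⟩, ?_⟩
          refine (Groth.L04.support_localization q _).2 ?_
          convert p.2.1 using 1
          refine PrimeSpectrum.ext ?_
          exact congrArg Subtype.val ((IsLocalization.AtPrime.orderIsoOfPrime Rq q).apply_symm_apply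
            ⟨p.1.asIdeal, p.1.isPrime, p.2.2⟩)
        exact Order.krullDim_le_of_strictMono j fun a b hab =>
          (IsLocalization.AtPrime.orderIsoOfPrime Rq q).symm.strictMono
            (show (⟨a.1.asIdeal, _⟩ : {p : Ideal R // p.IsPrime ∧ p ≤ q}) < ⟨b.1.asIdeal, _⟩ from hab)
      · revert hlt
        generalize Module.supportDim Rq Mq = v
        intro hlt
        induction v using WithBot.recBotCoe with
        | bot => exact bot_le
        | coe v =>
          induction v using ENat.recTopCoe with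
          | top => exact absurd le_top hlt
          | coe v =>
            have : v < r := by
              by_contra h
              exact hlt (by exact_mod_cast not_lt.1 h)
            exact WithBot.coe_le_coe.2 (Nat.cast_le.2 (Nat.le_sub_one_of_lt this))
    have := (supportDim_le_of_below (ℳ := ℳ) hpos h0 hle).2
    rw [hdim] at this
    have h2 : r ≤ r - 1 := by exact_mod_cast this
    omega
  rw [← Groth.L04.ringKrullDim_quotient_eq_supportDim_of_isCM hCM hQ] at hlow
  obtain ⟨s, hs⟩ := hg.exists_span (fun _ => hD) (exists_low hpos) (fun e => finite_pieceK ℳ h0 e)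
  have h1 : ringKrullDim (Rq ⧸ Q) ≤ ringKrullDim (R ⧸ (Module.annihilator R M ⊔ Ideal.span {MvPolynomial.aeval x f})) := by
    rw [ringKrullDim_quotient, ringKrullDim_quotient]
    refine Order.krullDim_le_of_strictMono (fun p => ⟨PrimeSpectrum.comap (algebraMap R Rq) p.1, ?_⟩) fun a b hab => ?_
    · change (Module.annihilator R M ⊔ Ideal.span {MvPolynomial.aeval x f}) ≤
        (PrimeSpectrum.comap (algebraMap R Rq) p.1).asIdeal
      refine sup_le (fun a ha => show a ∈ (PrimeSpectrum.comap (algebraMap R Rq) p.1).asIdeal from p.2 (hAQ a ha)) ((Ideal.span_singleton_le_iff_mem _).2 (p.2 hfQ))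
    · exact (IsLocalization.AtPrime.orderIsoOfPrime Rq q).strictMono
        (show (⟨a.1.asIdeal, a.1.isPrime⟩ : {p : Ideal Rq // p.IsPrime}) < ⟨b.1.asIdeal, b.1.isPrime⟩ from hab)
  have h2 := ringKrullDim_quotient_annihilator_sup (X := M) (MvPolynomial.aeval (R := k) x).toRingHom s (fun m => hs m) f
  have h3 := ringKrullDim_quotient_succ_le_of_nonZeroDivisor (mem_nonZeroDivisors_of_ne_zero hf0)
  rw [MvPolynomial.ringKrullDim_of_isNoetherianRing, ringKrullDim_eq_zero_of_field, zero_add, Nat.card_fin] at h3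
  have h4 : ((r + 1 : ℕ) : WithBot ℕ∞) ≤ (r : WithBot ℕ∞) := by
    push_cast
    exact (add_le_add_left (hlow.trans (h1.trans h2)) 1).trans h3
  exact absurd (Nat.cast_le.1 h4) (by omega)

end Groth.L12.GrSegLib
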