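import Groth.Agent.L12.GrSegCM

/-!
# The top local cohomology of a Segre product as a module
-/

set_option autoImplicit false

universe u

open scoped TensorProduct
open DirectSum

namespace Groth.L12.GrSegLib

open Groth.L12.GrLCLib
open scoped KMod Groth.L12.GrLCLib.Asub

variable {k : Type u} [Field k]

section One

variable {R : Type u} [CommRing R] [Algebra k R] {𝒜 : ℤ → Submodule k R} [GradedAlgebra 𝒜]
  {M : Type u} [AddCommGroup M] [Module R M]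
  {τ : Type u} [SetLike τ M] [AddSubgroupClass τ M] {ℳ : ℤ → τ} [DirectSum.Decomposition ℳ] [SetLike.GradedSMul 𝒜 ℳ]
  (E : GrLC.StarInjRes 𝒜 ℳ) (a : HomogeneousIdeal 𝒜)

/-- the connecting class extended to the whole sum, linearly over the field -/
theorem exists_classK (n : ℕ) : ∃ ρ : ((resSeq E).tq a).tot.carrier →ₗ[k] E.H a (n + 2),
    (∀ v, ρ (((resSeq E).tq a).dT v) = 0) ∧
    (∀ (c : R) v, ((resSeq E).tq a).dT v = 0 → ρ (c • v) = c • ρ v) ∧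
    (∀ (g : ℤ) v, ((resSeq E).tq a).dT v = 0 → v ∈ ((resSeq E).tq a).tot.gr g → ρ v ∈ E.Hgr a (n + 2) g) ∧
    ∀ (g : ℤ), ∀ y ∈ E.Hgr a (n + 2) g, ∃ x ∈ (((resSeq E).tq a).X (n + 1)).gr g,
      ((resSeq E).tq a).d (n + 1) x = 0 ∧ ρ (((resSeq E).tq a).inc (n + 1) x) = y := by
  let Qb := (resSeq E).tq a
  obtain ⟨δ, hδs, hδk, hδg⟩ := exists_delta1 E a (n + 1)
  obtain ⟨δ', hδ'⟩ := (δ.restrictScalars k).exists_extend (p := (LinearMap.ker (Qb.d (n + 1))).restrictScalars k)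
  have hδ'' : ∀ x : LinearMap.ker (Qb.d (n + 1)), δ' x.1 = δ x := fun x => LinearMap.congr_fun hδ' x
  have hker : ∀ v, Qb.dT v = 0 → Qb.prj (n + 1) v ∈ LinearMap.ker (Qb.d (n + 1)) := fun v hv => by
    rw [LinearMap.mem_ker, ← Qb.prj_dT_succ, hv, map_zero]
  refine ⟨δ' ∘ₗ (Qb.prj (n + 1)).restrictScalars k, fun v => ?_, fun c v hv => ?_, fun g v hv hvg => ?_, fun g y hy => ?_⟩
  · change δ' (Qb.prj (n + 1) (Qb.dT v)) = 0
    rw [Qb.prj_dT_succ]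
    refine (hδ'' ⟨_, LinearMap.mem_ker.2 (Qb.d_d n _)⟩).trans ((hδk _).2 ?_)
    exact ⟨_, rfl⟩
  · change δ' (Qb.prj (n + 1) (c • v)) = c • δ' (Qb.prj (n + 1) v)
    rw [map_smul]
    refine (hδ'' ⟨_, Submodule.smul_mem _ c (hker v hv)⟩).trans ?_
    rw [show δ' (Qb.prj (n + 1) v) = δ ⟨_, hker v hv⟩ from hδ'' ⟨_, hker v hv⟩]
    exact δ.map_smul c ⟨_, hker v hv⟩
  · change δ' (Qb.prj (n + 1) v) ∈ _
    rw [show δ' (Qb.prj (n + 1) v) = δ ⟨_, hker v hv⟩ from hδ'' ⟨_, hker v hv⟩]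
    exact hδg g _ (hvg (n + 1))
  · obtain ⟨x, hx, hxy⟩ := exists_homog_preimage (Qb.X (n + 1)).gr (E.Hgr a (n + 2)) (Hgr_isInternal a E (n + 2))
      _ (ker_isHomogeneous (Qb.X (n + 1)).gr (Qb.X (n + 2)).gr (Qb.d_grHom (n + 1))) δ hδg hδs hy
    refine ⟨x.1, hx, x.2, ?_⟩
    change δ' (Qb.prj (n + 1) (Qb.inc (n + 1) x.1)) = y
    rw [Qb.prj_inc, hδ'', hxy]

end One

section Two

variable {R : Type u} [CommRing R] [Algebra k R] {𝒜 : ℤ → Submodule k R} [GradedAlgebra 𝒜]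
  {S : Type u} [CommRing S] [Algebra k S] {ℬ : ℤ → Submodule k S} [GradedAlgebra ℬ]
  {T : Type u} [CommRing T] [Algebra k T] {𝒯 : ℤ → Submodule k T} [GradedAlgebra 𝒯] {ψ : T →ₐ[k] R ⊗[k] S}
  {M : Type u} [AddCommGroup M] [Module R M] [Module k M] [IsScalarTower k R M]
  {τ : Type u} [SetLike τ M] [AddSubgroupClass τ M] {ℳ : ℤ → τ} [DirectSum.Decomposition ℳ] [SetLike.GradedSMul 𝒜 ℳ]
  {N : Type u} [AddCommGroup N] [Module S N] [Module k N] [IsScalarTower k S N]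
  {τ' : Type u} [SetLike τ' N] [AddSubgroupClass τ' N] {𝒩 : ℤ → τ'} [DirectSum.Decomposition 𝒩] [SetLike.GradedSMul ℬ 𝒩]
  {P : Type u} [AddCommGroup P] [Module T P] [Module k P] [IsScalarTower k T P]
  {τQ : Type u} [SetLike τQ P] [AddSubgroupClass τQ P] {𝒬 : ℤ → τQ} [DirectSum.Decomposition 𝒬]
  [SetLike.GradedSMul 𝒯 𝒬] {φ : P →ₗ[k] M ⊗[k] N}
  [Algebra.FiniteType k R] [Algebra.FiniteType k S] [Module.Finite R M] [Module.Finite S N] [IsNoetherian T P]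
  [Algebra.FiniteType k T]
  (hP : GrSeg.IsSegreMod ψ ℳ 𝒩 𝒬 φ) (hT : GrSeg.IsSegreRing 𝒜 ℬ 𝒯 ψ)
  (hposR : ∀ n : ℤ, n < 0 → 𝒜 n = ⊥) (hposS : ∀ n : ℤ, n < 0 → ℬ n = ⊥)
  (h0R : 𝒜 0 = Submodule.span k {(1 : R)}) (h0S : ℬ 0 = Submodule.span k {(1 : S)})
  {mR : HomogeneousIdeal 𝒜} (hmR : mR.toIdeal = Ideal.span (⋃ n ∈ Set.Ioi (0 : ℤ), (𝒜 n : Set R)))
  {mS : HomogeneousIdeal ℬ} (hmS : mS.toIdeal = Ideal.span (⋃ n ∈ Set.Ioi (0 : ℤ), (ℬ n : Set S)))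
  {mT : HomogeneousIdeal 𝒯} (hmT : mT.toIdeal = Ideal.span (⋃ n ∈ Set.Ioi (0 : ℤ), (𝒯 n : Set T)))
  (EM : GrLC.StarInjRes 𝒜 ℳ) (EN : GrLC.StarInjRes ℬ 𝒩) (EP : GrLC.StarInjRes 𝒯 𝒬)

include hP hT hposR hposS h0R h0S hmR hmS hmT

/-- above the dimensions the Segre product sees only the product of the two top cohomologies -/
theorem exists_segre_top (i j : ℕ) (hR : ∀ p, i + 2 < p → ∀ d, Hk EM mR p d = ⊥)
    (hS : ∀ q, j + 2 < q → ∀ d, Hk EN mS q d = ⊥) :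
    ∃ Φ : EP.H mT (i + j + 3) →ₗ[k] EM.H mR (i + 2) ⊗[k] EN.H mS (j + 2),
      letI := (Hgr_isInternal mT EP (i + j + 3)).chooseDecomposition
      GrSeg.IsSegreMod ψ (EM.Hgr mR (i + 2)) (EN.Hgr mS (j + 2)) (EP.Hgr mT (i + j + 3)) Φ := by
  classical
  haveI : IsNoetherianRing T := Algebra.FiniteType.isNoetherianRing k T
  letI := (Hgr_isInternal mR EM (i + 2)).chooseDecomposition
  letI := (Hgr_isInternal mS EN (j + 2)).chooseDecomposition
  letI := (Hgr_isInternal mT EP (i + j + 3)).chooseDecomposition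
  haveI : SetLike.GradedSMul 𝒜 (EM.Hgr mR (i + 2)) := ⟨fun {_ _ _ _} hr hx => smul_mem_Hgr EM mR _ hr hx⟩
  haveI : SetLike.GradedSMul ℬ (EN.Hgr mS (j + 2)) := ⟨fun {_ _ _ _} hr hx => smul_mem_Hgr EN mS _ hr hx⟩
  haveI : SetLike.GradedSMul 𝒯 (EP.Hgr mT (i + j + 3)) := ⟨fun {_ _ _ _} hr hx => smul_mem_Hgr EP mT _ hr hx⟩
  let Qb := (resSeq EM).tq mR
  let Qb' := (resSeq EN).tq mS
  let Zb := zq EM EN mR mS hT
  obtain ⟨ρ, hρd, hρs, hρg, hρsur⟩ := exists_classK (k := k) EM mR i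
  obtain ⟨ρ', hρ'd, hρ's, hρ'g, hρ'sur⟩ := exists_classK (k := k) EN mS j
  let K := TensorProduct.map ρ ρ'
  have hKD : ∀ w, K (Dk Qb Qb' w) = 0 := fun w => by
    induction w using TensorProduct.induction_on with
    | zero => simp
    | add a b ha hb => rw [map_add, map_add, ha, hb, add_zero]
    | tmul x y =>
      rw [Dk_tmul, map_add]
      change ρ (Qb.dT x) ⊗ₜ[k] ρ' y + ρ (Qb.sgn x) ⊗ₜ[k] ρ' (Qb'.dT y) = 0
      rw [hρd, hρ'd, TensorProduct.zero_tmul, TensorProduct.tmul_zero, add_zero]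
  have hKact : ∀ (ξ : R ⊗[k] S) z, Dk Qb Qb' z = 0 →
      K (GrSeg.act k R S _ _ ξ z) = GrSeg.act k R S _ _ ξ (K z) := fun ξ z hz => by
    obtain ⟨w, v, rfl⟩ := (isSign_tot Qb Qb').exists_cycT hz
    change K (GrSeg.act k R S _ _ ξ (Dk Qb Qb' w + cycT _ _ v)) = GrSeg.act k R S _ _ ξ (K (Dk Qb Qb' w + cycT _ _ v))
    rw [map_add, map_add, map_add K, hKD, zero_add, ← (isSegOp_Dk Qb Qb').act, hKD, zero_add]
    clear hz
    induction v using TensorProduct.induction_on with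
    | zero => erw [map_zero]; simp only [map_zero]
    | add a b ha hb => simp only [map_add, ha, hb]
    | tmul x y =>
      induction ξ using TensorProduct.induction_on with
      | zero => simp
      | add a b ha hb => simp only [map_add, LinearMap.add_apply, ha, hb]
      | tmul a b =>
        change K (GrSeg.act k R S _ _ (a ⊗ₜ[k] b) (x.1 ⊗ₜ[k] y.1)) = GrSeg.act k R S _ _ (a ⊗ₜ[k] b) (ρ x.1 ⊗ₜ[k] ρ' y.1)
        rw [GrSeg.act_tmul, GrSeg.act_tmul]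
        change ρ (a • x.1) ⊗ₜ[k] ρ' (b • y.1) = _
        rw [hρs a _ x.2, hρ's b _ y.2]
  have hKgr : ∀ (g : ℤ) z, Dk Qb Qb' z = 0 → z ∈ GrSeg.segrePiece k Qb.tot.gr Qb'.tot.gr g →
      K z ∈ GrSeg.segrePiece k (EM.Hgr mR (i + 2)) (EN.Hgr mS (j + 2)) g := fun g z hz hzg => by
    rw [← bproj_of_mem 𝒜 ℬ Qb.tot.gr Qb'.tot.gr hzg]
    obtain ⟨w, v, rfl⟩ := (isSign_tot Qb Qb').exists_cycT hz
    change K (bproj 𝒜 ℬ _ _ g (Dk Qb Qb' w + cycT _ _ v)) ∈ _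
    rw [map_add, map_add, (isSegOp_Dk Qb Qb').proj, hKD, zero_add]
    clear hz hzg
    induction v using TensorProduct.induction_on with
    | zero => erw [map_zero]; simp
    | add a b ha hb => rw [map_add, map_add, map_add]; exact add_mem ha hb
    | tmul x y =>
      change ρ (cp Qb.tot.gr g x.1) ⊗ₜ[k] ρ' (cp Qb'.tot.gr g y.1) ∈ _
      refine Submodule.subset_span ⟨_, hρg g _ ?_ (cp_mem _ _ _), _, hρ'g g _ ?_ (cp_mem _ _ _), rfl⟩
      · exact LinearMap.mem_ker.1 (ker_isHomogeneous Qb.tot.gr Qb.tot.gr Qb.dT_grHom g (LinearMap.mem_ker.2 x.2))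
      · exact LinearMap.mem_ker.1 (ker_isHomogeneous Qb'.tot.gr Qb'.tot.gr Qb'.dT_grHom g (LinearMap.mem_ker.2 y.2))
  obtain ⟨δ, hδs, hδk, hδg⟩ := exists_delta EM EN mR mS hT hP hposR hposS h0R h0S hmR hmS mT hmT EP (i + j + 2)
  have hcy : ∀ x : cyc EM EN mR mS hT (i + j + 2), Dk Qb Qb' (totInc Qb Qb' hT x.1) = 0 := fun x => by
    rw [← DZ_spec, ((mem_cyc EM EN mR mS hT).1 x.2).2, map_zero]
  let Φ₀ : cyc EM EN mR mS hT (i + j + 2) →ₗ[k] EM.H mR (i + 2) ⊗[k] EN.H mS (j + 2) :=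
    K ∘ₗ totInc Qb Qb' hT ∘ₗ ((cyc EM EN mR mS hT (i + j + 2)).restrictScalars k).subtype
  have hker : LinearMap.ker (δ.restrictScalars k) ≤ LinearMap.ker Φ₀ := fun x hx => by
    obtain ⟨u, hu⟩ := (hδk x).1 hx
    change K (totInc Qb Qb' hT x.1) = 0
    rw [← hu]
    change K (totInc Qb Qb' hT (DZ _ _ hT (LZ _ _ hT (i + j + 1) u))) = 0
    rw [DZ_spec, hKD]
  let e := (δ.restrictScalars k).quotKerEquivOfSurjective hδs
  let Φ : EP.H mT (i + j + 3) →ₗ[k] EM.H mR (i + 2) ⊗[k] EN.H mS (j + 2) :=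
    Submodule.liftQ _ Φ₀ hker ∘ₗ e.symm.toLinearMap
  have hΦ : ∀ x, Φ (δ x) = K (totInc Qb Qb' hT x.1) := fun x => by
    change Submodule.liftQ _ Φ₀ hker (e.symm (δ x)) = _
    rw [show e.symm (δ x) = Submodule.Quotient.mk x from e.symm_apply_eq.2 rfl]
    rfl
  have hcychom : (cyc EM EN mR mS hT (i + j + 2)).IsHomogeneous Zb.gr := fun g x hx =>
    ⟨ker_isHomogeneous Zb.gr Zb.gr (f := LZ Qb Qb' hT (i + j + 2) - LinearMap.id)
      (fun g y hy => sub_mem (LZ_grHom Qb Qb' hT (i + j + 2) g y hy) hy) g hx.1,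
     ker_isHomogeneous Zb.gr Zb.gr (DZ_grHom Qb Qb' hT) g hx.2⟩
  have hlift : ∀ g, ∀ p ∈ EP.Hgr mT (i + j + 3) g, ∃ x : cyc EM EN mR mS hT (i + j + 2), x.1 ∈ Zb.gr g ∧ δ x = p :=
    fun g p hp => exists_homog_preimage Zb.gr (EP.Hgr mT (i + j + 3)) (Hgr_isInternal mT EP (i + j + 3)) _ hcychom δ hδg hδs hp
  have hgr : ∀ g, ∀ p ∈ EP.Hgr mT (i + j + 3) g,
      Φ p ∈ GrSeg.segrePiece k (EM.Hgr mR (i + 2)) (EN.Hgr mS (j + 2)) g := fun g p hp => by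
    obtain ⟨x, hx, rfl⟩ := hlift g p hp
    rw [hΦ]
    exact hKgr g _ (hcy x) (seg_mem_piece _ _ (totZ_isSegreMod Qb Qb' hT) hx)
  have hsur : ∀ g, ∀ z ∈ GrSeg.segrePiece k (EM.Hgr mR (i + 2)) (EN.Hgr mS (j + 2)) g,
      ∃ p ∈ EP.Hgr mT (i + j + 3) g, Φ p = z := fun g z hz => by
    induction hz using Submodule.span_induction with
    | mem z hz =>
      obtain ⟨α, hα, β, hβ, rfl⟩ := hz
      obtain ⟨x, hx, hxd, rfl⟩ := hρsur g α hα
      obtain ⟨y, hy, hyd, rfl⟩ := hρ'sur g β hβ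
      have hzm : Qb.inc (i + 1) x ⊗ₜ[k] Qb'.inc (j + 1) y ∈ GrSeg.segrePiece k Qb.tot.gr Qb'.tot.gr g :=
        Submodule.subset_span ⟨_, Qb.inc_grHom _ g x hx, _, Qb'.inc_grHom _ g y hy, rfl⟩
      obtain ⟨p, hp, hpz⟩ := seg_exists Qb.tot.gr Qb'.tot.gr (totZ_isSegreMod Qb Qb' hT) hzm
      have hpc : p ∈ cyc EM EN mR mS hT (i + j + 2) := by
        refine (mem_cyc EM EN mR mS hT).2 ⟨(totZ_isSegreMod Qb Qb' hT).injective ?_, (totZ_isSegreMod Qb Qb' hT).injective ?_⟩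
        · rw [LZ_spec]
          refine (congrArg _ hpz).trans (Eq.trans ?_ hpz.symm)
          rw [Lk_tmul, Finset.sum_eq_single (i + 1, j + 1)]
          · change Qb.inc _ (Qb.prj _ (Qb.inc _ x)) ⊗ₜ[k] Qb'.inc _ (Qb'.prj _ (Qb'.inc _ y)) = _
            rw [GrSeq.prj_inc, GrSeq.prj_inc]
          · intro q hq hne
            rw [Finset.mem_antidiagonal] at hq
            have h1 : q.1 ≠ i + 1 := fun h1 => hne (Prod.ext h1 (show q.2 = j + 1 by omega))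
            change Qb.inc _ (Qb.prj _ (Qb.inc _ x)) ⊗ₜ[k] _ = 0
            rw [GrSeq.prj_inc_ne _ h1, map_zero, TensorProduct.zero_tmul]
          · intro h
            exact absurd (Finset.mem_antidiagonal.2 (show (i + 1, j + 1).1 + (i + 1, j + 1).2 = i + j + 2 by simp only; omega)) h
        · rw [DZ_spec, map_zero]
          refine (congrArg _ hpz).trans ?_
          rw [Dk_tmul, GrSeq.dT_inc, GrSeq.dT_inc, hxd, hyd, map_zero, map_zero, TensorProduct.zero_tmul,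
            TensorProduct.tmul_zero, add_zero]
      refine ⟨δ ⟨p, hpc⟩, hδg g ⟨p, hpc⟩ hp, ?_⟩
      rw [hΦ]
      exact congrArg K hpz
    | zero => exact ⟨0, zero_mem _, map_zero _⟩
    | add a b _ _ ha hb =>
      obtain ⟨p, hp, rfl⟩ := ha
      obtain ⟨q, hq, rfl⟩ := hb
      exact ⟨p + q, add_mem hp hq, map_add _ _ _⟩
    | smul c a _ ha =>
      obtain ⟨p, hp, rfl⟩ := ha
      exact ⟨c • p, (Hk EP mT (i + j + 3) g).smul_mem c hp, map_smul _ _ _⟩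
  -- dimensions
  haveI : ∀ d, Module.Finite k (Hk EM mR (i + 2) d) := fun d => finite_Hk EM mR h0R hmR _ d
  haveI : ∀ d, Module.Finite k (Hk EN mS (j + 2) d) := fun d => finite_Hk EN mS h0S hmS _ d
  haveI : ∀ d, Module.Finite k (Hk EP mT (i + j + 3) d) := fun d => finite_Hk EP mT (seg_deg0 hT h0R h0S) hmT _ d
  have hdim : ∀ d, Module.finrank k (Hk EP mT (i + j + 3) d) =
      Module.finrank k (Hk EM mR (i + 2) d) * Module.finrank k (Hk EN mS (j + 2) d) := fun d => by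
    have h1 := finrank_Hk_succ_succ hP hT hposR hposS h0R h0S hmR hmS (mT := mT) hmT EM EN EP (i + j + 1) d
    rw [show i + j + 1 + 2 = i + j + 3 by omega] at h1
    rw [h1, Finset.sum_eq_single (i + 1, j + 1)]
    · simp only
      rw [(nonempty_G1_succ EM mR i d).some.finrank_eq, (nonempty_G1_succ EN mS j d).some.finrank_eq]
    · rintro ⟨a, b⟩ hab hne
      rw [Finset.mem_antidiagonal] at hab
      simp only at hab ⊢
      rcases lt_trichotomy a (i + 1) with h | h | h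
      · obtain ⟨b, rfl⟩ : ∃ c, b = c + 1 := ⟨b - 1, by omega⟩
        rw [(nonempty_G1_succ EN mS b d).some.finrank_eq, finrank_Hk_zero_of_bot EN (hS _ (by omega) d), mul_zero]
      · exact absurd (Prod.ext h (show b = j + 1 by omega)) hne
      · obtain ⟨a, rfl⟩ : ∃ c, a = c + 1 := ⟨a - 1, by omega⟩
        rw [(nonempty_G1_succ EM mR a d).some.finrank_eq, finrank_Hk_zero_of_bot EM (hR _ (by omega) d), zero_mul]
    · intro h
      exact absurd (Finset.mem_antidiagonal.2 (show (i + 1, j + 1).1 + (i + 1, j + 1).2 = i + j + 1 + 1 by simp only; omega)) h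
  have hinj : ∀ g, ∀ p ∈ EP.Hgr mT (i + j + 3) g, Φ p = 0 → p = 0 := fun g p hp h0 => by
    let B := bproj 𝒜 ℬ (EM.Hgr mR (i + 2)) (EN.Hgr mS (j + 2)) g
    let L₀ : Hk EP mT (i + j + 3) g →ₗ[k] EM.H mR (i + 2) ⊗[k] EN.H mS (j + 2) :=
      Φ ∘ₗ (Hk EP mT (i + j + 3) g).subtype
    have hr : LinearMap.range L₀ = LinearMap.range B := le_antisymm
      (fun z ⟨p, hp⟩ => hp ▸ ⟨Φ p.1, bproj_of_mem _ _ _ _ (hgr g p.1 p.2)⟩)
      (fun z ⟨w, hw⟩ => by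
        obtain ⟨q, hq, hqz⟩ := hsur g z (hw ▸ bproj_mem _ _ _ _ g w)
        exact ⟨⟨q, hq⟩, hqz⟩)
    have e1 : pieceK 𝒜 (EM.Hgr mR (i + 2)) g = Hk EM mR (i + 2) g := Submodule.ext fun x => mem_pieceK _
    have e2 : pieceK ℬ (EN.Hgr mS (j + 2)) g = Hk EN mS (j + 2) g := Submodule.ext fun x => mem_pieceK _
    have hB : Module.finrank k (LinearMap.range B) =
        Module.finrank k (Hk EM mR (i + 2) g) * Module.finrank k (Hk EN mS (j + 2) g) := by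
      rw [← e1, ← e2]
      exact finrank_range_map _ _
    have h1 := LinearMap.finrank_range_add_finrank_ker L₀
    rw [hr] at h1
    have h2 : Module.finrank k (LinearMap.ker L₀) = 0 := by
      have h3 := hdim g
      omega
    rw [Submodule.finrank_eq_zero] at h2
    have h4 : (⟨p, hp⟩ : Hk EP mT (i + j + 3) g) ∈ LinearMap.ker L₀ := LinearMap.mem_ker.2 h0
    rw [h2, Submodule.mem_bot] at h4
    exact congrArg Subtype.val h4
  refine ⟨Φ, ⟨(injective_iff_map_eq_zero Φ).2 fun p hp => eq_zero_of_cp (EP.Hgr mT (i + j + 3)) fun g =>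
    hinj g _ (cp_mem _ g p) ?_, fun g => Set.Subset.antisymm ?_ ?_, fun t p => ?_⟩⟩
  · have key : ∀ q, bproj 𝒜 ℬ (EM.Hgr mR (i + 2)) (EN.Hgr mS (j + 2)) g (Φ q) = Φ (cp (EP.Hgr mT (i + j + 3)) g q) := by
      intro q
      induction q using induction_on_hom (EP.Hgr mT (i + j + 3)) with
      | h0 => simp
      | ha a b ha hb => simp only [map_add, ha, hb]
      | hh g' y hy =>
        by_cases h : g' = g
        · subst h
          rw [cp_same _ hy, bproj_of_mem _ _ _ _ (hgr g' y hy)]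
        · rw [cp_ne _ hy h, map_zero, bproj_ne _ _ _ _ h (hgr g' y hy)]
    rw [← key, hp, map_zero]
  · rintro _ ⟨p, hp, rfl⟩
    exact hgr g p hp
  · intro z hz
    obtain ⟨p, hp, rfl⟩ := hsur g z hz
    exact ⟨p, hp, rfl⟩
  · obtain ⟨x, rfl⟩ := hδs p
    rw [← map_smul, hΦ, hΦ]
    change K (totInc Qb Qb' hT (t • x.1)) = _
    rw [(totZ_isSegreMod Qb Qb' hT).map_smul, hKact _ _ (hcy x)]

end Two

end Groth.L12.GrSegLib
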