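import Groth.Agent.L12.GrSegGorTop
import Groth.Agent.L12.GrSegGorOne

/-!
# The top cohomology of a standard Cohen–Macaulay algebra is generated downwards by linear forms
-/

set_option autoImplicit false

universe u

open scoped TensorProduct
open DirectSum

namespace Groth.L12.GrSegLib

open Groth.L12.GrLCLib
open scoped KMod Groth.L12.GrLCLib.Asub

variable {k : Type u} [Field k] {R : Type u} [CommRing R] [Algebra k R] {𝒜 : ℤ → Submodule k R} [GradedAlgebra 𝒜]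
  [Algebra.FiniteType k R] [Nontrivial R] [LocCoh.IsCohenMacaulayRing R]
  (hpos : ∀ n : ℤ, n < 0 → 𝒜 n = ⊥) (h0 : 𝒜 0 = Submodule.span k {(1 : R)})
  {r : ℕ} (hr : ringKrullDim R = r) (h1r : 1 ≤ r) (I : GrLC.StarInjRes 𝒜 𝒜)

include hpos h0 hr h1r

/-- multiplication by some homogeneous element is onto on top cohomology -/
theorem exists_surj_top : ∃ (D : ℕ) (y : R), 0 < D ∧ y ∈ 𝒜 (D : ℤ) ∧
    ∀ (g : ℤ), ∀ z ∈ I.Hgr (irr 𝒜) r g, ∃ w ∈ I.Hgr (irr 𝒜) r (g - D), y • w = z := by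
  haveI : IsNoetherianRing R := Algebra.FiniteType.isNoetherianRing k R
  have hdim : Module.supportDim R R = r := by rw [Module.supportDim_self_eq_ringKrullDim, hr]
  obtain ⟨D, hD, hpar⟩ := exists_param (ℳ := 𝒜) hpos h0 hdim
  obtain ⟨x, hx, hgen, -⟩ := hpar 1 one_pos
  rw [Nat.cast_one, mul_one] at hx hgen
  obtain ⟨D, rfl⟩ : ∃ d : ℕ, D = (d : ℤ) := ⟨D.toNat, by omega⟩
  set y := x ⟨0, h1r⟩ with hy'
  have hy : y ∈ 𝒜 (D : ℤ) := hx _
  have hreg : IsSMulRegular R y := isSMulRegular_iff_right_eq_zero_of_smul.2 fun v hv => eq_zero_of_cp 𝒜 fun d => by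
    by_contra hne
    refine MvPolynomial.X_ne_zero (R := k) (⟨0, h1r⟩ : Fin r)
      (tf_of_cm (ℳ := 𝒜) hpos h0 hdim (isCMRing_iff.1 ‹_›) hD hgen (cp_mem 𝒜 d v) hne _ ?_)
    rw [MvPolynomial.aeval_X, ← cp_smul_hom 𝒜 𝒜 (hx _) d v]
    exact (congrArg _ hv).trans (map_zero _)
  refine ⟨D, y, by omega, hy, fun g z hz => ?_⟩
  let J : Ideal R := Ideal.span {y}
  let Q := quoG (asub 𝒜) (asub 𝒜) J (Ideal.homogeneous_span (asub 𝒜) _ fun v hv =>
    ⟨(D : ℤ), (Set.mem_singleton_iff.1 hv).symm ▸ hy⟩)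
  obtain ⟨F⟩ := nonempty_starInjRes (asub 𝒜) Q.gr
  let E := Asub.res I
  let a := Asub.hid (irr 𝒜)
  let π : R →ₗ[R] Q.carrier := Submodule.mkQ J
  have hπ : GrLC.IsGrHom (asub 𝒜) Q.gr π := fun d v hv => ⟨v, hv, rfl⟩
  let f : (shG (asub 𝒜) (asub 𝒜) (-(D : ℤ))).carrier →ₗ[R] R := (y • LinearMap.id : R →ₗ[R] R)
  have hfgr : GrLC.IsGrHom (shG (asub 𝒜) (asub 𝒜) (-(D : ℤ))).gr (asub 𝒜) f := fun d v hv => by
    change y * (show R from v) ∈ 𝒜 d
    have h := SetLike.mul_mem_graded (A := 𝒜) hy (show (show R from v) ∈ 𝒜 (d + -(D : ℤ)) from hv)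
    rwa [show (D : ℤ) + (d + -(D : ℤ)) = d by ring] at h
  have hker : LinearMap.range (y • LinearMap.id : R →ₗ[R] R) = LinearMap.ker (Submodule.mkQ J) := by
    rw [Submodule.ker_mkQ]
    ext v
    rw [Ideal.mem_span_singleton']
    exact ⟨fun ⟨w, hw⟩ => ⟨w, by rw [← hw]; exact mul_comm w y⟩, fun ⟨w, hw⟩ => ⟨w, by rw [← hw]; exact mul_comm y w⟩⟩
  obtain ⟨ψ, hψ⟩ := exists_map E F π hπ
  have hφ := isMap_smul' E (y := y) (d := (D : ℤ)) hy
  obtain ⟨δ, -, hx1, -, -, -⟩ := exists_les (shiftRes E (-(D : ℤ))) E F a (f := f) hreg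
    (Submodule.mkQ_surjective J) hker hfgr hπ hφ hψ
  haveI hsub : Subsingleton (F.H a r) := by
    obtain ⟨e⟩ := nonempty_H_equiv F a r
    haveI : Subsingleton (LocCoh.H a.toIdeal r Q.carrier) := by
      refine Groth.L04.LC.subsingleton_H_of_supportDim_lt a.toIdeal Q.carrier r ?_
      change Module.supportDim R (R ⧸ J) < _
      rw [Module.supportDim_quotient_eq_ringKrullDim]
      have h1 := ringKrullDim_quotient_succ_le_of_nonZeroDivisor (R := R) (r := y)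
        (mem_nonZeroDivisors_iff_right.2 fun v hv => hreg (by simpa [mul_comm] using hv))
      rw [hr] at h1
      generalize ringKrullDim (R ⧸ J) = c at h1 ⊢
      cases c with
      | bot => exact WithBot.bot_lt_coe _
      | coe c =>
        have h2 : c + 1 ≤ (r : ℕ∞) := WithBot.coe_le_coe.1 h1
        exact WithBot.coe_lt_coe.2 ((ENat.add_one_le_iff (fun h => by simp [h] at h2)).1 h2)
    exact e.toEquiv.subsingleton
  obtain ⟨z', hz', hzy⟩ := exists_preimage a _ (hφ.Hmap_grHom a r) hz ((hx1 r z).1 (Subsingleton.elim _ _))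
  refine ⟨unshift E (-(D : ℤ)) a r z', (unshift_grHom E _ a r g z').1 hz', ?_⟩
  exact (Hmap_smul' E a hy r z').symm.trans hzy


omit hr h1r [LocCoh.IsCohenMacaulayRing R] in
/-- at least two linear forms in dimension at least two -/
theorem two_le_finrank_one (hstd : Ideal.span (⋃ n ∈ Set.Ioi (0 : ℤ), (𝒜 n : Set R)) =
      Ideal.span ((𝒜 1 : Submodule k R) : Set R)) (hr : ringKrullDim R = r) (h2r : 2 ≤ r) :
    2 ≤ Module.finrank k (𝒜 1) := by
  classical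
  haveI := finite_piece (𝒜 := 𝒜) h0 1
  obtain ⟨D, hD, hpar⟩ := exists_param (ℳ := 𝒜) hpos h0 (n := r) (by rw [Module.supportDim_self_eq_ringKrullDim, hr])
  obtain ⟨x, hx, -, hfaith⟩ := hpar 1 one_pos
  rw [Nat.cast_one, mul_one] at hx
  obtain ⟨D, rfl⟩ : ∃ d : ℕ, D = (d : ℤ) := ⟨D.toNat, by omega⟩
  by_contra hlt
  obtain ⟨l, hl⟩ : ∃ l : R, 𝒜 1 ≤ Submodule.span k {l} := by
    obtain ⟨v, hv⟩ := finrank_le_one_iff.1 (show Module.finrank k (𝒜 1) ≤ 1 by omega)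
    exact ⟨v.1, fun w hw => by
      obtain ⟨c, hc⟩ := hv ⟨w, hw⟩
      exact Submodule.mem_span_singleton.2 ⟨c, congrArg Subtype.val hc⟩⟩
  have hspan : 𝒜 (D : ℤ) ≤ Submodule.span k {l ^ D} := by
    have h1 := pow_le_pow_left' hl D
    rwa [← piece_eq_pow hpos h0 hstd, Submodule.span_pow, Set.singleton_pow] at h1
  let i : Fin r := ⟨0, by omega⟩
  let i' : Fin r := ⟨1, by omega⟩
  obtain ⟨c, hc⟩ := Submodule.mem_span_singleton.1 (hspan (hx i))
  obtain ⟨c', hc'⟩ := Submodule.mem_span_singleton.1 (hspan (hx i'))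
  have hne : i ≠ i' := fun h => by simp [i, i', Fin.ext_iff] at h
  have h1 := hfaith (MvPolynomial.C c' * MvPolynomial.X i - MvPolynomial.C c * MvPolynomial.X i') fun m => by
    rw [map_sub, map_mul, map_mul, MvPolynomial.aeval_C, MvPolynomial.aeval_C, MvPolynomial.aeval_X,
      MvPolynomial.aeval_X, ← Algebra.smul_def, ← Algebra.smul_def, ← hc, ← hc', smul_smul, smul_smul, mul_comm,
      sub_self, zero_smul]
  have hcne : c = 0 := by
    have h2 := congrArg (MvPolynomial.coeff (Finsupp.single i' 1)) h1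
    simp [MvPolynomial.coeff_X', Finsupp.single_eq_single_iff, hne] at h2
    exact h2
  refine MvPolynomial.X_ne_zero (R := k) i (hfaith _ fun m => ?_)
  rw [MvPolynomial.aeval_X, ← hc, hcne, zero_smul, zero_smul]

variable (hstd : Ideal.span (⋃ n ∈ Set.Ioi (0 : ℤ), (𝒜 n : Set R)) = Ideal.span ((𝒜 1 : Submodule k R) : Set R))

include hstd

/-- top cohomology in one degree is spanned by linear forms times the degree below -/
theorem top_gen (g : ℤ) {z : I.H (irr 𝒜) r} (hz : z ∈ I.Hgr (irr 𝒜) r g) :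
    z ∈ Submodule.span k {v | ∃ l ∈ 𝒜 1, ∃ u ∈ I.Hgr (irr 𝒜) r (g - 1), l • u = v} := by
  obtain ⟨D, y, hD, hy, hsur⟩ := exists_surj_top hpos h0 hr h1r I
  obtain ⟨w, hw, rfl⟩ := hsur g z hz
  obtain ⟨E, rfl⟩ : ∃ e, D = e + 1 := ⟨D - 1, by omega⟩
  rw [piece_eq_pow hpos h0 hstd, pow_succ, ← piece_eq_pow hpos h0 hstd] at hy
  refine Submodule.mul_induction_on (C := fun t => t • w ∈ Submodule.span k
    {v | ∃ l ∈ 𝒜 1, ∃ u ∈ I.Hgr (irr 𝒜) r (g - 1), l • u = v}) hy (fun b hb l hl => ?_) (fun a b ha hb => ?_)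
  · refine Submodule.subset_span ⟨l, hl, b • w, ?_, by rw [smul_smul, mul_comm]⟩
    have h := smul_mem_Hgr I (irr 𝒜) r hb hw
    rwa [show (E : ℤ) + (g - ((E + 1 : ℕ) : ℤ)) = g - 1 by push_cast; ring] at h
  · rw [add_smul]; exact add_mem ha hb

/-- top cohomology is nonzero below any nonzero degree -/
theorem top_ne_bot_down {g g' : ℤ} (hg : g' ≤ g) (h : Hk I (irr 𝒜) r g ≠ ⊥) : Hk I (irr 𝒜) r g' ≠ ⊥ := by
  induction g', hg using Int.leInductionDown with
  | base => exact h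
  | pred j _ ih =>
    intro hbot
    refine ih ((Submodule.eq_bot_iff _).2 fun z hz => ?_)
    have h1 := top_gen hpos h0 hr h1r I hstd j hz
    have h2 : Submodule.span k {v | ∃ l ∈ 𝒜 1, ∃ u ∈ I.Hgr (irr 𝒜) r (j - 1), l • u = v} ≤ ⊥ := Submodule.span_le.2 (by
      rintro _ ⟨l, -, u, hu, rfl⟩
      rw [(Submodule.eq_bot_iff _).1 hbot u hu, smul_zero]
      exact zero_mem _)
    exact (Submodule.mem_bot k).1 (h2 h1)

omit hr h1r hstd [Nontrivial R] [LocCoh.IsCohenMacaulayRing R] hpos in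
/-- a nondegenerate pairing bounds the dimension -/
theorem pairing_le {a g : ℤ} (hone : Module.finrank k (Hk I (irr 𝒜) r a) = 1)
    (huniq : ∀ x ∈ I.Hgr (irr 𝒜) r g, (∀ c ∈ 𝒜 (a - g), c • x = 0) → x = 0) :
    ∃ Ψ : Hk I (irr 𝒜) r g →ₗ[k] (𝒜 (a - g) →ₗ[k] Hk I (irr 𝒜) r a),
      Function.Injective Ψ ∧ (∀ x c, ((Ψ x c : Hk I (irr 𝒜) r a) : I.H (irr 𝒜) r) = (c : R) • x.1) ∧
      Module.finrank k (Hk I (irr 𝒜) r g) ≤ Module.finrank k (𝒜 (a - g)) := by
  haveI : ∀ d, Module.Finite k (Hk I (irr 𝒜) r d) := fun d => finite_Hk I _ h0 rfl r d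
  haveI := finite_piece (𝒜 := 𝒜) h0 (a - g)
  have hdeg : ∀ x ∈ I.Hgr (irr 𝒜) r g, ∀ c ∈ 𝒜 (a - g), c • x ∈ I.Hgr (irr 𝒜) r a := fun x hx c hc => by
    have h1 := smul_mem_Hgr I (irr 𝒜) r hc hx
    rwa [sub_add_cancel] at h1
  let Ψ : Hk I (irr 𝒜) r g →ₗ[k] (𝒜 (a - g) →ₗ[k] Hk I (irr 𝒜) r a) :=
    { toFun := fun x =>
        { toFun := fun c => ⟨(c : R) • x.1, hdeg x.1 x.2 c c.2⟩
          map_add' := fun c c' => Subtype.ext (add_smul _ _ _)
          map_smul' := fun r c => Subtype.ext (smul_assoc r (c : R) x.1) }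
      map_add' := fun x y => LinearMap.ext fun c => Subtype.ext (smul_add _ _ _)
      map_smul' := fun r x => LinearMap.ext fun c => Subtype.ext (smul_comm (c : R) r x.1) }
  have hΨi : Function.Injective Ψ := (injective_iff_map_eq_zero _).2 fun x hx =>
    Subtype.ext (huniq x.1 x.2 fun c hc => congrArg Subtype.val (LinearMap.congr_fun hx ⟨c, hc⟩))
  refine ⟨Ψ, hΨi, fun x c => rfl, (LinearMap.finrank_le_finrank_of_injective hΨi).trans ?_⟩
  rw [Module.finrank_linearMap, hone, mul_one]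

/-- duality below a degree forces the Gorenstein property -/
theorem gorenstein_of_below (h2r : 2 ≤ r) (a : ℤ) (hone : Module.finrank k (Hk I (irr 𝒜) r a) = 1)
    (hb : ∀ g ≤ a, (∀ x ∈ I.Hgr (irr 𝒜) r g, (∀ c ∈ 𝒜 (a - g), c • x = 0) → x = 0) ∧
      Module.finrank k (Hk I (irr 𝒜) r g) = Module.finrank k (𝒜 (a - g))) :
    LocCoh.IsGorensteinRing R ∧ GrLC.endDeg (I.Hgr (irr 𝒜) r) = ((a : WithTop ℤ) : WithBot (WithTop ℤ)) := by
  classical
  haveI : ∀ d, Module.Finite k (Hk I (irr 𝒜) r d) := fun d => finite_Hk I _ h0 rfl r d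
  haveI : ∀ d, Module.Finite k (𝒜 d) := fun d => finite_piece (𝒜 := 𝒜) h0 d
  obtain ⟨u, hu0, hu⟩ := finrank_eq_one_iff'.1 hone
  have hone_ne : Hk I (irr 𝒜) r a ≠ ⊥ := fun h => by rw [h, finrank_bot] at hone; exact zero_ne_one hone
  have hkill : ∀ l ∈ 𝒜 1, l • u.1 = 0 := fun l hl => by
    rcases eq_or_ne l 0 with rfl | hl0
    · exact zero_smul R _
    obtain ⟨h1u, h1d⟩ := hb (a - 1) (by omega)
    obtain ⟨Ψ, hΨi, hΨv, -⟩ := pairing_le h0 I hone h1u
    have hΨ : Function.Surjective Ψ := pairing_surjective Ψ hΨi h1d hone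
    have hl' : l ∈ 𝒜 (a - (a - 1)) := by rwa [sub_sub_cancel]
    obtain ⟨v, hv⟩ : ∃ v : 𝒜 (a - (a - 1)), v ∉ Submodule.span k {(⟨l, hl'⟩ : 𝒜 (a - (a - 1)))} := by
      by_contra! hall
      have h2 := two_le_finrank_one hpos h0 hstd hr h2r
      have h3 : Module.finrank k (𝒜 1) ≤ 1 := by
        rw [show (1 : ℤ) = a - (a - 1) by ring]
        refine (finrank_le_one_iff).2 ⟨⟨l, hl'⟩, fun w => Submodule.mem_span_singleton.1 (hall w)⟩
      omega
    obtain ⟨μ, hμv, hμl⟩ := Submodule.exists_le_ker_of_notMem hv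
    have hμl' : μ ⟨l, hl'⟩ = 0 := LinearMap.mem_ker.1 (hμl (Submodule.mem_span_singleton_self _))
    obtain ⟨w, hw⟩ := hΨ (μ.smulRight u)
    have e1 : l • w.1 = 0 := by
      have h := congrArg Subtype.val (LinearMap.congr_fun hw ⟨l, hl'⟩)
      rw [hΨv, LinearMap.smulRight_apply, hμl', zero_smul] at h
      exact h
    have e2 : (v : R) • w.1 = μ v • u.1 := by
      have h := congrArg Subtype.val (LinearMap.congr_fun hw v)
      rw [hΨv, LinearMap.smulRight_apply] at h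
      exact h
    have e3 : l • ((v : R) • w.1) = (v : R) • (l • w.1) := smul_comm _ _ _
    rw [e1, smul_zero, e2, smul_comm, smul_eq_zero] at e3
    exact e3.resolve_left hμv
  have hnext : Hk I (irr 𝒜) r (a + 1) = ⊥ := (Submodule.eq_bot_iff _).2 fun z hz => by
    have h1 := top_gen hpos h0 hr h1r I hstd (a + 1) hz
    have h2 : Submodule.span k {v | ∃ l ∈ 𝒜 1, ∃ u ∈ I.Hgr (irr 𝒜) r (a + 1 - 1), l • u = v} ≤ ⊥ := Submodule.span_le.2 (by
      rintro _ ⟨l, hl, w, hw, rfl⟩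
      rw [add_sub_cancel_right] at hw
      obtain ⟨c, hc⟩ := hu ⟨w, hw⟩
      rw [show w = c • u.1 from (congrArg Subtype.val hc).symm, smul_comm, hkill l hl, smul_zero]
      exact zero_mem _)
    exact (Submodule.mem_bot k).1 (h2 h1)
  have habove : ∀ g, a < g → Hk I (irr 𝒜) r g = ⊥ := fun g hg => by
    by_contra hne
    exact top_ne_bot_down hpos h0 hr h1r I hstd (show a + 1 ≤ g by omega) hne hnext
  refine ⟨gorenstein_of_pairing hpos h0 hr I a (fun g => ?_) (fun g x hx hk => ?_), ?_⟩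
  · rcases le_or_gt g a with hg | hg
    · exact (hb g hg).2
    · rw [habove g hg, hpos (a - g) (by omega)]
      simp
  · rcases le_or_gt g a with hg | hg
    · exact (hb g hg).1 x hx hk
    · exact (Submodule.eq_bot_iff _).1 (habove g hg) x hx
  · refine le_antisymm ((endDeg_le_coe_iff _ _).2 fun g hg => (Hk_eq_bot_iff_Hgr I r g).1 (habove g hg))
      (le_iSup₂ (f := fun (m : ℤ) (_ : I.Hgr (irr 𝒜) r m ≠ ⊥) => ((m : WithTop ℤ) : WithBot (WithTop ℤ))) a fun h => ?_)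
    exact hone_ne ((Hk_eq_bot_iff_Hgr I r a).2 h)

end Groth.L12.GrSegLib
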