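import Groth.Agent.L12.GrSegSum
import Groth.Agent.L12.GrSegAc

/-!
# The total complex of two graded complexes inside their Segre product
-/

set_option autoImplicit false

universe u

open scoped TensorProduct
open DirectSum

namespace Groth.L12.GrSegLib

open Groth.L12.GrLCLib
open scoped KMod

variable {k : Type u} [Field k] {R : Type u} [CommRing R] [Algebra k R] {𝒜 : ℤ → Submodule k R} [GradedAlgebra 𝒜]
  {S : Type u} [CommRing S] [Algebra k S] {ℬ : ℤ → Submodule k S} [GradedAlgebra ℬ]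
  {T : Type u} [CommRing T] [Algebra k T] {𝒯 : ℤ → Submodule k T} [GradedAlgebra 𝒯] {ψ : T →ₐ[k] R ⊗[k] S}

section Op

variable {M : Type u} [AddCommGroup M] [Module R M] [Module k M] [IsScalarTower k R M]
  {τ : Type u} [SetLike τ M] [AddSubgroupClass τ M] {ℳ : ℤ → τ} [DirectSum.Decomposition ℳ] [SetLike.GradedSMul 𝒜 ℳ]
  {N : Type u} [AddCommGroup N] [Module S N] [Module k N] [IsScalarTower k S N]
  {τN : Type u} [SetLike τN N] [AddSubgroupClass τN N] {𝒩 : ℤ → τN} [DirectSum.Decomposition 𝒩] [SetLike.GradedSMul ℬ 𝒩]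
  {M' : Type u} [AddCommGroup M'] [Module R M'] [Module k M'] [IsScalarTower k R M']
  {τ' : Type u} [SetLike τ' M'] [AddSubgroupClass τ' M'] {ℳ' : ℤ → τ'} [DirectSum.Decomposition ℳ'] [SetLike.GradedSMul 𝒜 ℳ']
  {N' : Type u} [AddCommGroup N'] [Module S N'] [Module k N'] [IsScalarTower k S N']
  {τN' : Type u} [SetLike τN' N'] [AddSubgroupClass τN' N'] {𝒩' : ℤ → τN'} [DirectSum.Decomposition 𝒩'] [SetLike.GradedSMul ℬ 𝒩']

variable (𝒜 ℬ ℳ 𝒩 ℳ' 𝒩') in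
/-- maps of tensor products commuting with the bidegree projections and both actions -/
structure IsSegOp (L : M ⊗[k] N →ₗ[k] M' ⊗[k] N') : Prop where
  proj : ∀ n z, bproj 𝒜 ℬ ℳ' 𝒩' n (L z) = L (bproj 𝒜 ℬ ℳ 𝒩 n z)
  act : ∀ (ξ : R ⊗[k] S) z, L (GrSeg.act k R S M N ξ z) = GrSeg.act k R S M' N' ξ (L z)

theorem isSegOp_map (f : M →ₗ[R] M') (hf : GrLC.IsGrHom ℳ ℳ' f) (g : N →ₗ[S] N') (hg : GrLC.IsGrHom 𝒩 𝒩' g) :
    IsSegOp 𝒜 ℬ ℳ 𝒩 ℳ' 𝒩' (TensorProduct.map (f.restrictScalars k) (g.restrictScalars k)) where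
  proj := bproj_map f hf g hg
  act ξ z := by
    induction ξ using TensorProduct.induction_on with
    | zero => simp
    | add a b ha hb => simp only [map_add, LinearMap.add_apply, ha, hb]
    | tmul a b =>
      induction z using TensorProduct.induction_on with
      | zero => simp
      | add v w hv hw => simp only [map_add, hv, hw]
      | tmul x y => simp only [GrSeg.act_tmul, TensorProduct.map_tmul, LinearMap.coe_restrictScalars, map_smul]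

theorem IsSegOp.add {L L' : M ⊗[k] N →ₗ[k] M' ⊗[k] N'} (h : IsSegOp 𝒜 ℬ ℳ 𝒩 ℳ' 𝒩' L)
    (h' : IsSegOp 𝒜 ℬ ℳ 𝒩 ℳ' 𝒩' L') : IsSegOp 𝒜 ℬ ℳ 𝒩 ℳ' 𝒩' (L + L') where
  proj n z := by rw [LinearMap.add_apply, map_add, h.proj, h'.proj, LinearMap.add_apply]
  act ξ z := by rw [LinearMap.add_apply, h.act, h'.act, LinearMap.add_apply, map_add]

theorem IsSegOp.sum {κ : Type*} (s : Finset κ) {L : κ → M ⊗[k] N →ₗ[k] M' ⊗[k] N'}
    (h : ∀ i ∈ s, IsSegOp 𝒜 ℬ ℳ 𝒩 ℳ' 𝒩' (L i)) : IsSegOp 𝒜 ℬ ℳ 𝒩 ℳ' 𝒩' (∑ i ∈ s, L i) where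
  proj n z := by
    rw [LinearMap.sum_apply, map_sum, LinearMap.sum_apply]
    exact Finset.sum_congr rfl fun i hi => (h i hi).proj n z
  act ξ z := by
    rw [LinearMap.sum_apply, LinearMap.sum_apply, map_sum]
    exact Finset.sum_congr rfl fun i hi => (h i hi).act ξ z

theorem IsSegOp.comp {M₂ : Type u} [AddCommGroup M₂] [Module R M₂] [Module k M₂] [IsScalarTower k R M₂]
    {τ₂ : Type u} [SetLike τ₂ M₂] [AddSubgroupClass τ₂ M₂] {ℳ₂ : ℤ → τ₂} [DirectSum.Decomposition ℳ₂]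
    [SetLike.GradedSMul 𝒜 ℳ₂]
    {N₂ : Type u} [AddCommGroup N₂] [Module S N₂] [Module k N₂] [IsScalarTower k S N₂]
    {τN₂ : Type u} [SetLike τN₂ N₂] [AddSubgroupClass τN₂ N₂] {𝒩₂ : ℤ → τN₂} [DirectSum.Decomposition 𝒩₂]
    [SetLike.GradedSMul ℬ 𝒩₂] {L : M ⊗[k] N →ₗ[k] M' ⊗[k] N'} {L' : M' ⊗[k] N' →ₗ[k] M₂ ⊗[k] N₂}
    (h : IsSegOp 𝒜 ℬ ℳ 𝒩 ℳ' 𝒩' L) (h' : IsSegOp 𝒜 ℬ ℳ' 𝒩' ℳ₂ 𝒩₂ L') :
    IsSegOp 𝒜 ℬ ℳ 𝒩 ℳ₂ 𝒩₂ (L' ∘ₗ L) where
  proj n z := by rw [LinearMap.comp_apply, h'.proj, h.proj, LinearMap.comp_apply]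
  act ξ z := by rw [LinearMap.comp_apply, h.act, h'.act, LinearMap.comp_apply]

theorem IsSegOp.mem_piece {L : M ⊗[k] N →ₗ[k] M' ⊗[k] N'} (h : IsSegOp 𝒜 ℬ ℳ 𝒩 ℳ' 𝒩' L) {n : ℤ} {z : M ⊗[k] N}
    (hz : z ∈ GrSeg.segrePiece k ℳ 𝒩 n) : L z ∈ GrSeg.segrePiece k ℳ' 𝒩' n := by
  rw [← bproj_of_mem 𝒜 ℬ ℳ 𝒩 hz, ← h.proj]
  exact bproj_mem 𝒜 ℬ ℳ' 𝒩' n _

variable {P : Type u} [AddCommGroup P] [Module T P] [Module k P] [IsScalarTower k T P]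
  {τQ : Type u} [SetLike τQ P] [AddSubgroupClass τQ P] {𝒬 : ℤ → τQ} [DirectSum.Decomposition 𝒬] {φ : P →ₗ[k] M ⊗[k] N} (hP : GrSeg.IsSegreMod ψ ℳ 𝒩 𝒬 φ)
  {P' : Type u} [AddCommGroup P'] [Module T P'] [Module k P'] [IsScalarTower k T P']
  {τQ' : Type u} [SetLike τQ' P'] [AddSubgroupClass τQ' P'] {𝒬' : ℤ → τQ'} [DirectSum.Decomposition 𝒬'] {φ' : P' →ₗ[k] M' ⊗[k] N'}
  (hP' : GrSeg.IsSegreMod ψ ℳ' 𝒩' 𝒬' φ')
  {L : M ⊗[k] N →ₗ[k] M' ⊗[k] N'} (hL : IsSegOp 𝒜 ℬ ℳ 𝒩 ℳ' 𝒩' L)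

/-- the induced map of Segre products -/
noncomputable def segOp : P →ₗ[T] P' :=
  (exists_segMap ℳ 𝒩 hP hP' L (fun _ _ hz => hL.mem_piece hz) fun t z => hL.act (ψ t) z).choose

lemma segOp_grHom : GrLC.IsGrHom 𝒬 𝒬' (segOp hP hP' hL) :=
  (exists_segMap ℳ 𝒩 hP hP' L (fun _ _ hz => hL.mem_piece hz) fun t z => hL.act (ψ t) z).choose_spec.1

lemma segOp_spec (p : P) : φ' (segOp hP hP' hL p) = L (φ p) :=
  (exists_segMap ℳ 𝒩 hP hP' L (fun _ _ hz => hL.mem_piece hz) fun t z => hL.act (ψ t) z).choose_spec.2 p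

include hL hP in
/-- a homogeneous element in the image comes from the Segre product -/
lemma exists_preimage_of_eq {n : ℤ} {z' : M' ⊗[k] N'} (hz' : z' ∈ GrSeg.segrePiece k ℳ' 𝒩' n) {z : M ⊗[k] N}
    (hz : L z = z') : ∃ p ∈ 𝒬 n, L (φ p) = z' := by
  obtain ⟨p, hp, hpz⟩ := seg_exists ℳ 𝒩 hP (bproj_mem 𝒜 ℬ ℳ 𝒩 n z)
  exact ⟨p, hp, by rw [hpz, ← hL.proj, hz, bproj_of_mem 𝒜 ℬ ℳ' 𝒩' hz']⟩

/-- a preimage in the tensor product gives one in the Segre product -/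
lemma exists_segOp_eq (p' : P') {z : M ⊗[k] N} (hz : L z = φ' p') : ∃ p, segOp hP hP' hL p = p' := by
  have hcomp : ∀ n, ∃ p, segOp hP hP' hL p = cp 𝒬' n p' := fun n => by
    obtain ⟨p, -, hp⟩ := exists_preimage_of_eq hP hL (bproj_mem 𝒜 ℬ ℳ' 𝒩' n (φ' p')) (z := bproj 𝒜 ℬ ℳ 𝒩 n z)
      (by rw [← hL.proj, hz])
    exact ⟨p, hP'.injective (by rw [segOp_spec, hp, seg_bproj 𝒜 ℬ ℳ' 𝒩' hP'])⟩
  choose p hp using hcomp
  obtain ⟨s, hs, -⟩ := exists_sum_cp 𝒬' p'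
  exact ⟨∑ n ∈ s, p n, by rw [map_sum, Finset.sum_congr rfl fun n _ => hp n, hs]⟩

end Op

section Total

variable (Q : GrSeq 𝒜) (Q' : GrSeq ℬ)

/-- the total differential on the tensor product -/
noncomputable def Dk : Q.tot.carrier ⊗[k] Q'.tot.carrier →ₗ[k] Q.tot.carrier ⊗[k] Q'.tot.carrier :=
  totD (Q.dT.restrictScalars k) (Q'.dT.restrictScalars k) (Q.sgn.restrictScalars k)

/-- projection onto total degree `n` -/
noncomputable def Lk (n : ℕ) : Q.tot.carrier ⊗[k] Q'.tot.carrier →ₗ[k] Q.tot.carrier ⊗[k] Q'.tot.carrier :=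
  ∑ p ∈ Finset.HasAntidiagonal.antidiagonal n,
    TensorProduct.map ((Q.lev p.1).restrictScalars k) ((Q'.lev p.2).restrictScalars k)

lemma Lk_tmul (n : ℕ) (x : Q.tot.carrier) (y : Q'.tot.carrier) :
    Lk Q Q' n (x ⊗ₜ[k] y) = ∑ p ∈ Finset.HasAntidiagonal.antidiagonal n, Q.lev p.1 x ⊗ₜ[k] Q'.lev p.2 y := by
  rw [Lk, LinearMap.sum_apply]
  rfl

theorem isSegOp_Dk : IsSegOp 𝒜 ℬ Q.tot.gr Q'.tot.gr Q.tot.gr Q'.tot.gr (Dk Q Q') :=
  (isSegOp_map Q.dT Q.dT_grHom LinearMap.id (fun _ _ h => h)).add (isSegOp_map Q.sgn Q.sgn_grHom Q'.dT Q'.dT_grHom)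

theorem isSegOp_Lk (n : ℕ) : IsSegOp 𝒜 ℬ Q.tot.gr Q'.tot.gr Q.tot.gr Q'.tot.gr (Lk Q Q' n) :=
  IsSegOp.sum _ fun p _ => isSegOp_map (Q.lev p.1) (Q.lev_grHom _) (Q'.lev p.2) (Q'.lev_grHom _)

lemma Dk_tmul (x : Q.tot.carrier) (y : Q'.tot.carrier) :
    Dk Q Q' (x ⊗ₜ[k] y) = Q.dT x ⊗ₜ[k] y + Q.sgn x ⊗ₜ[k] Q'.dT y := rfl

lemma isSign_tot : IsSign (Q.dT.restrictScalars k) (Q'.dT.restrictScalars k) (Q.sgn.restrictScalars k) :=
  Q.isSign _ fun y => Q'.dT_dT y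

lemma Dk_Dk (z : Q.tot.carrier ⊗[k] Q'.tot.carrier) : Dk Q Q' (Dk Q Q' z) = 0 := (isSign_tot Q Q').totD_totD z

lemma Lk_succ_Dk (n : ℕ) (z : Q.tot.carrier ⊗[k] Q'.tot.carrier) : Lk Q Q' (n + 1) (Dk Q Q' z) = Dk Q Q' (Lk Q Q' n z) := by
  induction z using TensorProduct.induction_on with
  | zero => simp
  | add a b ha hb => simp only [map_add, ha, hb]
  | tmul x y =>
    rw [Dk_tmul, map_add, Lk_tmul, Lk_tmul, Lk_tmul, Finset.Nat.sum_antidiagonal_succ, Finset.Nat.sum_antidiagonal_succ',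
      Q.lev_dT_zero, Q'.lev_dT_zero, TensorProduct.zero_tmul, TensorProduct.tmul_zero, zero_add, zero_add, map_sum,
      ← Finset.sum_add_distrib]
    refine Finset.sum_congr rfl fun p _ => ?_
    rw [Q.lev_dT_succ, Q'.lev_dT_succ, Q.lev_sgn, Dk_tmul]

lemma Lk_zero_Dk (z : Q.tot.carrier ⊗[k] Q'.tot.carrier) : Lk Q Q' 0 (Dk Q Q' z) = 0 := by
  induction z using TensorProduct.induction_on with
  | zero => simp
  | add a b ha hb => simp only [map_add, ha, hb, add_zero]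
  | tmul x y =>
    rw [Dk_tmul, map_add, Lk_tmul, Lk_tmul, Finset.Nat.antidiagonal_zero, Finset.sum_singleton, Finset.sum_singleton,
      Q.lev_dT_zero, Q'.lev_dT_zero, TensorProduct.zero_tmul, TensorProduct.tmul_zero, add_zero]

lemma Lk_Lk (m n : ℕ) (z : Q.tot.carrier ⊗[k] Q'.tot.carrier) :
    Lk Q Q' m (Lk Q Q' n z) = if m = n then Lk Q Q' n z else 0 := by
  classical
  induction z using TensorProduct.induction_on with
  | zero => simp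
  | add a b ha hb => simp only [map_add, ha, hb]; split_ifs <;> simp
  | tmul x y =>
    rw [Lk_tmul Q Q' n, map_sum]
    simp only [Lk_tmul]
    split_ifs with h
    · subst h
      refine Finset.sum_congr rfl fun p hp => ?_
      rw [Finset.sum_eq_single p (fun q hq hne => ?_) (fun hn => absurd hp hn), Q.lev_lev, Q'.lev_lev]
      rw [Finset.mem_antidiagonal] at hp hq
      by_cases h1 : q.1 = p.1
      · exact absurd (Prod.ext h1 (by omega)) hne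
      · rw [Q.lev_lev_ne h1, TensorProduct.zero_tmul]
    · refine Finset.sum_eq_zero fun p hp => Finset.sum_eq_zero fun q hq => ?_
      rw [Finset.mem_antidiagonal] at hp hq
      by_cases h1 : q.1 = p.1
      · rw [Q'.lev_lev_ne (by omega), TensorProduct.tmul_zero]
      · rw [Q.lev_lev_ne h1, TensorProduct.zero_tmul]

variable (hT : GrSeg.IsSegreRing 𝒜 ℬ 𝒯 ψ)

/-- the total Segre product -/
noncomputable def totZ : GrLC.GMod.{u} 𝒯 := sgG 𝒜 ℬ Q.tot.gr Q'.tot.gr hT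

/-- its presentation -/
noncomputable def totInc : (totZ Q Q' hT).carrier →ₗ[k] Q.tot.carrier ⊗[k] Q'.tot.carrier :=
  sgInc 𝒜 ℬ Q.tot.gr Q'.tot.gr hT

theorem totZ_isSegreMod : GrSeg.IsSegreMod ψ Q.tot.gr Q'.tot.gr (totZ Q Q' hT).gr (totInc Q Q' hT) :=
  sgG_isSegreMod 𝒜 ℬ Q.tot.gr Q'.tot.gr hT

/-- the differential on the total Segre product -/
noncomputable def DZ : (totZ Q Q' hT).carrier →ₗ[T] (totZ Q Q' hT).carrier :=
  segOp (totZ_isSegreMod Q Q' hT) (totZ_isSegreMod Q Q' hT) (isSegOp_Dk Q Q')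

lemma DZ_spec (z : (totZ Q Q' hT).carrier) : totInc Q Q' hT (DZ Q Q' hT z) = Dk Q Q' (totInc Q Q' hT z) :=
  segOp_spec _ _ _ z

lemma DZ_grHom : GrLC.IsGrHom (totZ Q Q' hT).gr (totZ Q Q' hT).gr (DZ Q Q' hT) := segOp_grHom _ _ _

/-- projection onto total degree `n` on the total Segre product -/
noncomputable def LZ (n : ℕ) : (totZ Q Q' hT).carrier →ₗ[T] (totZ Q Q' hT).carrier :=
  segOp (totZ_isSegreMod Q Q' hT) (totZ_isSegreMod Q Q' hT) (isSegOp_Lk Q Q' n)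

lemma LZ_spec (n : ℕ) (z : (totZ Q Q' hT).carrier) : totInc Q Q' hT (LZ Q Q' hT n z) = Lk Q Q' n (totInc Q Q' hT z) :=
  segOp_spec _ _ _ z

lemma LZ_grHom (n : ℕ) : GrLC.IsGrHom (totZ Q Q' hT).gr (totZ Q Q' hT).gr (LZ Q Q' hT n) := segOp_grHom _ _ _

lemma LZ_succ_DZ (n : ℕ) (z : (totZ Q Q' hT).carrier) :
    LZ Q Q' hT (n + 1) (DZ Q Q' hT z) = DZ Q Q' hT (LZ Q Q' hT n z) :=
  (totZ_isSegreMod Q Q' hT).injective (by rw [LZ_spec, DZ_spec, DZ_spec, LZ_spec, Lk_succ_Dk])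

lemma LZ_zero_DZ (z : (totZ Q Q' hT).carrier) : LZ Q Q' hT 0 (DZ Q Q' hT z) = 0 :=
  (totZ_isSegreMod Q Q' hT).injective (by rw [LZ_spec, DZ_spec, Lk_zero_Dk, map_zero])

lemma DZ_DZ (z : (totZ Q Q' hT).carrier) : DZ Q Q' hT (DZ Q Q' hT z) = 0 :=
  (totZ_isSegreMod Q Q' hT).injective (by rw [DZ_spec, DZ_spec, Dk_Dk, map_zero])

lemma LZ_LZ (m n : ℕ) (z : (totZ Q Q' hT).carrier) :
    LZ Q Q' hT m (LZ Q Q' hT n z) = if m = n then LZ Q Q' hT n z else 0 :=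
  (totZ_isSegreMod Q Q' hT).injective (by rw [LZ_spec, LZ_spec, Lk_Lk]; split_ifs <;> simp [LZ_spec])

end Total

end Groth.L12.GrSegLib
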