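import Groth.Agent.L12.GrRes
import Groth.Agent.L01.PdRes
import Groth.Agent.L04.RegularPd
import Groth.Agent.S14413
import Mathlib.CategoryTheory.Monoidal.Tor
import Mathlib.Algebra.Category.ModuleCat.Monoidal.Basic
import Mathlib.RingTheory.RegularLocalRing.Polynomial

/-!
# Tor against the residue field and projective dimension via minimal graded resolutions
-/

set_option autoImplicit false

universe u

open CategoryTheory CategoryTheory.Limits TensorProduct

namespace Groth.L12.GrSyzLib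

variable {k : Type u} [Field k] {σ : Type}
variable {M : Type u} [AddCommGroup M] [Module (MvPolynomial σ k) M] [Module k M]
  {ℳ : ℤ → Submodule k M} [DirectSum.Decomposition ℳ] [SetLike.GradedSMul (GrSyz.stdGr k σ) ℳ]
  (F : GrSyz.FreeRes (GrSyz.stdGr k σ) ℳ)

lemma dLin_comp (i : ℕ) (v : Fin (F.rk (i + 2)) → MvPolynomial σ k) : F.dLin i (F.dLin (i + 1) v) = 0 := by
  rw [← LinearMap.mem_ker, GrSyz.FreeRes.dLin, F.exact_succ i]
  exact ⟨v, rfl⟩

/-- the complex of the resolution -/
noncomputable def resCx : ChainComplex (ModuleCat.{u} (MvPolynomial σ k)) ℕ :=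
  ChainComplex.of (fun i => ModuleCat.of (MvPolynomial σ k) (Fin (F.rk i) → MvPolynomial σ k))
    (fun i => ModuleCat.ofHom (F.dLin i))
    (fun i => by
      refine ModuleCat.hom_ext (LinearMap.ext fun v => ?_)
      exact dLin_comp F i v)

lemma resCx_d (i : ℕ) : (resCx F).d (i + 1) i = ModuleCat.ofHom (F.dLin i) := by
  simp [resCx]

theorem exists_projRes : ∃ P : ProjectiveResolution (ModuleCat.of (MvPolynomial σ k) M), P.complex = resCx F := by
  refine Groth.L01.PdRes.exists_projRes_of_isRes (resCx F)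
    (ModuleCat.ofHom (F.augLin : (Fin (F.rk 0) → MvPolynomial σ k) →ₗ[MvPolynomial σ k] M)) ⟨?_, ?_, ?_, ?_⟩ ?_
  · exact F.aug_surjective
  · rw [resCx_d]
    exact LinearMap.exact_iff.2 F.exact_zero
  · intro n
    rw [resCx_d, resCx_d]
    exact LinearMap.exact_iff.2 (F.exact_succ n)
  · intro n
    exact inferInstanceAs (Module.Flat (MvPolynomial σ k) (Fin (F.rk n) → MvPolynomial σ k))
  · intro n
    exact (IsProjective.iff_projective _).1
      (inferInstanceAs (Module.Projective (MvPolynomial σ k) (Fin (F.rk n) → MvPolynomial σ k)))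

lemma mm_isMaximal : (mm k σ).IsMaximal := by
  have h : mm k σ = RingHom.ker (MvPolynomial.constantCoeff : MvPolynomial σ k →+* k) := by
    ext p; exact mem_mm_iff
  rw [h]
  exact RingHom.ker_isMaximal_of_surjective _ fun c => ⟨MvPolynomial.C c, MvPolynomial.constantCoeff_C _ c⟩

lemma lTensor_eq_zero {Q : Type u} [AddCommGroup Q] [Module (MvPolynomial σ k) Q]
    (hQ : ∀ r ∈ mm k σ, ∀ q : Q, r • q = 0) {m n : ℕ}
    (f : (Fin m → MvPolynomial σ k) →ₗ[MvPolynomial σ k] (Fin n → MvPolynomial σ k))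
    (hf : ∀ v a, f v a ∈ mm k σ) : LinearMap.lTensor Q f = 0 := by
  classical
  refine TensorProduct.ext' fun q v => ?_
  rw [LinearMap.lTensor_tmul, LinearMap.zero_apply, pi_eq_sum_univ (f v), TensorProduct.tmul_sum]
  refine Finset.sum_eq_zero fun a _ => ?_
  rw [TensorProduct.tmul_smul, TensorProduct.smul_tmul', hQ _ (hf v a), TensorProduct.zero_tmul]

theorem length_tor (hF : F.IsMinimal (mm k σ)) (i : ℕ) :
    Module.length (MvPolynomial σ k)
        (((CategoryTheory.Tor (ModuleCat.{u} (MvPolynomial σ k)) i).obj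
            (ModuleCat.of (MvPolynomial σ k) ((MvPolynomial σ k) ⧸ mm k σ))).obj
          (ModuleCat.of (MvPolynomial σ k) M)) = (F.rk i : ℕ∞) := by
  classical
  obtain ⟨P, hP⟩ := exists_projRes F
  let Q := ModuleCat.of (MvPolynomial σ k) ((MvPolynomial σ k) ⧸ mm k σ)
  let G := (MonoidalCategory.tensoringLeft (ModuleCat.{u} (MvPolynomial σ k))).obj Q
  let e1 : ((CategoryTheory.Tor (ModuleCat.{u} (MvPolynomial σ k)) i).obj Q).obj (ModuleCat.of (MvPolynomial σ k) M) ≅
      ((G.mapHomologicalComplex _).obj P.complex).homology i := P.isoLeftDerivedObj G i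
  rw [hP] at e1
  set C := (G.mapHomologicalComplex (ComplexShape.down ℕ)).obj (resCx F)
  have hd : ∀ a b, C.d a b = 0 := by
    intro a b
    by_cases hab : (ComplexShape.down ℕ).Rel a b
    · obtain rfl : b + 1 = a := hab
      change G.map ((resCx F).d (b + 1) b) = 0
      rw [resCx_d]
      refine ModuleCat.hom_ext ?_
      exact lTensor_eq_zero (Q := (MvPolynomial σ k) ⧸ mm k σ) (fun r hr q => by
        obtain ⟨q, rfl⟩ := Ideal.Quotient.mk_surjective q
        exact Ideal.Quotient.eq_zero_iff_mem.2 (Ideal.mul_mem_right _ _ hr))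
        (F.dLin b) (fun v c => mem_range_dLin F hF b _ ⟨v, rfl⟩ c)
    · exact C.shape _ _ hab
  let e2 : C.homology i ≅ C.X i :=
    ((C.sc i).asIsoHomologyπ (hd _ _)).symm ≪≫ (C.sc i).cyclesIsoX₂ (hd _ _)
  let e3 : ((MvPolynomial σ k) ⧸ mm k σ) ⊗[MvPolynomial σ k] (Fin (F.rk i) → MvPolynomial σ k) ≃ₗ[MvPolynomial σ k]
      (Fin (F.rk i) → (MvPolynomial σ k) ⧸ mm k σ) :=
    TensorProduct.piScalarRight (MvPolynomial σ k) (MvPolynomial σ k) _ _
  rw [(e1 ≪≫ e2).toLinearEquiv.length_eq]
  change Module.length (MvPolynomial σ k)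
    (((MvPolynomial σ k) ⧸ mm k σ) ⊗[MvPolynomial σ k] (Fin (F.rk i) → MvPolynomial σ k)) = _
  rw [e3.length_eq, Module.length_pi_of_fintype]
  haveI : IsSimpleModule (MvPolynomial σ k) ((MvPolynomial σ k) ⧸ mm k σ) :=
    isSimpleModule_iff_isCoatom.2 mm_isMaximal.out
  simp [Module.length_eq_one]

theorem hasLengthLE_iff (hF : F.IsMinimal (mm k σ)) (n : ℕ) :
    F.HasLengthLE n ↔ HasProjectiveDimensionLE (ModuleCat.of (MvPolynomial σ k) M) n := by
  refine ⟨fun h => ?_, fun h i hi => ?_⟩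
  · obtain ⟨P, hP⟩ := exists_projRes F
    refine (Groth.Agent.S14413.result _ _ n).2 ⟨P, fun i hi => ?_⟩
    rw [hP]
    haveI : IsEmpty (Fin (F.rk i)) := by rw [h i hi]; infer_instance
    exact ModuleCat.isZero_of_subsingleton
      (ModuleCat.of (MvPolynomial σ k) (Fin (F.rk i) → MvPolynomial σ k))
  · have hz := Groth.L01.PdRes.tor_isZero_of_pdLT (R := MvPolynomial σ k) n
      (ModuleCat.of (MvPolynomial σ k) ((MvPolynomial σ k) ⧸ mm k σ)) M h i hi
    have := length_tor F hF i
    rw [Module.length_eq_zero_iff.2 (ModuleCat.subsingleton_of_isZero hz)] at this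
    exact_mod_cast this.symm

omit F in
theorem hasProjectiveDimensionLE_card [Finite σ] (N : ModuleCat.{u} (MvPolynomial σ k)) [Module.Finite (MvPolynomial σ k) N] :
    HasProjectiveDimensionLE N (Nat.card σ) := by
  rw [ModuleCat.hasProjectiveDimensionLE_iff_forall_maximalSpectrum]
  intro p
  haveI := p.isMaximal
  haveI : IsRegularLocalRing (Localization.AtPrime p.1) := inferInstance
  obtain ⟨d, hd⟩ := Groth.L01.exists_dim_eq_nat (R := Localization.AtPrime p.1)
  have hle : (d : WithBot ℕ∞) ≤ (Nat.card σ : ℕ) := by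
    rw [← hd, IsLocalization.AtPrime.ringKrullDim_eq_height p.1 (Localization.AtPrime p.1)]
    refine (Ideal.height_le_ringKrullDim_of_ne_top p.isMaximal.ne_top).trans ?_
    rw [MvPolynomial.ringKrullDim_of_isNoetherianRing]
    simp
  haveI := Groth.L04.hasProjectiveDimensionLE_of_regularLocal hd (N.localizedModule p.1.primeCompl)
  have hdn : d ≤ Nat.card σ := by exact_mod_cast hle
  exact hasProjectiveDimensionLT_of_ge _ (d + 1) _ (by omega)

theorem exists_res_hasLengthLE [Finite σ] [IsScalarTower k (MvPolynomial σ k) M] [Module.Finite (MvPolynomial σ k) M] :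
    ∃ G : GrSyz.FreeRes (GrSyz.stdGr k σ) ℳ, G.IsMinimal (mm k σ) ∧ G.HasLengthLE (Nat.card σ) := by
  obtain ⟨G, hG⟩ := exists_minimal_res (σ := σ) ℳ
  exact ⟨G, hG, (hasLengthLE_iff G hG _).2 (hasProjectiveDimensionLE_card _)⟩

end Groth.L12.GrSyzLib
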