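import Groth.Agent.L12.GrCone
import Groth.Agent.L12.GrHilb
import Groth.Agent.L12.GrTor
import Mathlib.RingTheory.MvPolynomial.Ideal
import Mathlib.RingTheory.Length
import Mathlib.RingTheory.Artinian.Module

/-!
# Graded submodules and quotients; regularity of modules of finite length
-/

set_option autoImplicit false

universe u

open DirectSum

namespace Groth.L12.GrSyzLib

variable {k : Type u} [Field k] {σ : Type}

lemma decomposition_exists {k X : Type u} [CommRing k] [AddCommGroup X] [Module k X] (P : ℤ → Submodule k X)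
    (pr : ℤ → (X →ₗ[k] X)) (h1 : ∀ d, ∀ x ∈ P d, pr d x = x) (h2 : ∀ d e, d ≠ e → ∀ x ∈ P d, pr e x = 0)
    (h3 : ∀ x, x ∈ ⨆ d, P d) : DirectSum.IsInternal P := by
  classical
  refine ⟨fun x y hxy => DFinsupp.ext fun d => Subtype.ext ?_, fun v => ?_⟩
  · have h : pr d ∘ₗ DirectSum.coeLinearMap P = (P d).subtype ∘ₗ DirectSum.component k ℤ (fun i => P i) d := by
      refine DirectSum.linearMap_ext k fun e => LinearMap.ext fun z => ?_
      simp only [LinearMap.comp_apply, DirectSum.coeLinearMap_lof, Submodule.subtype_apply]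
      rcases eq_or_ne e d with rfl | he
      · rw [DirectSum.component.lof_self, h1 _ _ z.2]
      · rw [DirectSum.component.of, dif_neg he, h2 _ _ he _ z.2]
        rfl
    have h4 := LinearMap.congr_fun h x
    rw [LinearMap.comp_apply, show DirectSum.coeLinearMap P x = DirectSum.coeLinearMap P y from hxy,
      ← LinearMap.comp_apply, h] at h4
    exact h4.symm
  · exact (LinearMap.mem_range).1 (DirectSum.range_coeLinearMap (A := P) ▸ h3 v)

section SubQuot

variable {X : Type u} [AddCommGroup X] [Module (MvPolynomial σ k) X] [Module k X]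
  [IsScalarTower k (MvPolynomial σ k) X] (𝒳 : ℤ → Submodule k X) [DirectSum.Decomposition 𝒳]
  (N : Submodule (MvPolynomial σ k) X)

/-- pieces of a submodule -/
noncomputable def subGr (d : ℤ) : Submodule k N := (𝒳 d).comap (N.subtype.restrictScalars k)

/-- pieces of a quotient -/
noncomputable def quotGrM (d : ℤ) : Submodule k (X ⧸ N) := (𝒳 d).map (N.mkQ.restrictScalars k)

omit [DirectSum.Decomposition 𝒳] in
lemma mem_subGr {d : ℤ} {x : N} : x ∈ subGr 𝒳 N d ↔ (x : X) ∈ 𝒳 d := Iff.rfl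

variable {N}

lemma subGr_isInternal (hN : IsHom 𝒳 N) : DirectSum.IsInternal (subGr 𝒳 N) := by
  refine decomposition_exists (subGr 𝒳 N)
    (fun d => LinearMap.codRestrict (N.restrictScalars k) (prj 𝒳 d ∘ₗ N.subtype.restrictScalars k) fun x => hN d _ x.2)
    (fun d x hx => Subtype.ext (prj_same 𝒳 hx)) (fun d e h x hx => Subtype.ext (prj_ne 𝒳 hx h)) fun x => ?_
  obtain ⟨s, hs⟩ := exists_sum_prj 𝒳 (x : X)
  have : x = ∑ d ∈ s, (⟨prj 𝒳 d x, hN d _ x.2⟩ : N) := Subtype.ext (by simp [hs])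
  rw [this]
  exact Submodule.sum_mem _ fun d _ => Submodule.mem_iSup_of_mem d (prj_mem 𝒳 d (x : X))

lemma quotGrM_isInternal (hN : IsHom 𝒳 N) : DirectSum.IsInternal (quotGrM 𝒳 N) := by
  refine decomposition_exists (quotGrM 𝒳 N)
    (fun d => Submodule.liftQ (N.restrictScalars k) (N.mkQ.restrictScalars k ∘ₗ prj 𝒳 d) fun x hx =>
      (Submodule.Quotient.mk_eq_zero N).2 (hN d x hx)) ?_ ?_ fun x => ?_
  · rintro d _ ⟨x, hx, rfl⟩
    exact congrArg (Submodule.Quotient.mk (p := N)) (prj_same 𝒳 hx)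
  · rintro d e h _ ⟨x, hx, rfl⟩
    exact (congrArg (Submodule.Quotient.mk (p := N)) (prj_ne 𝒳 hx h)).trans rfl
  · obtain ⟨x, rfl⟩ := Submodule.Quotient.mk_surjective N x
    obtain ⟨s, hs⟩ := exists_sum_prj 𝒳 x
    rw [← hs, ← Submodule.mkQ_apply, map_sum]
    exact Submodule.sum_mem _ fun d _ => Submodule.mem_iSup_of_mem d ⟨_, prj_mem 𝒳 d x, rfl⟩

/-- decomposition of a homogeneous submodule -/
@[instance_reducible]
noncomputable def subDec (hN : IsHom 𝒳 N) : DirectSum.Decomposition (subGr 𝒳 N) :=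
  (subGr_isInternal 𝒳 hN).chooseDecomposition

/-- decomposition of a quotient by a homogeneous submodule -/
@[instance_reducible]
noncomputable def quotDec (hN : IsHom 𝒳 N) : DirectSum.Decomposition (quotGrM 𝒳 N) :=
  (quotGrM_isInternal 𝒳 hN).chooseDecomposition

variable [SetLike.GradedSMul (GrSyz.stdGr k σ) 𝒳]

instance subGr_smul : SetLike.GradedSMul (GrSyz.stdGr k σ) (subGr 𝒳 N) :=
  ⟨fun {_ _ _} _ hr hm => SetLike.GradedSMul.smul_mem (A := GrSyz.stdGr k σ) (B := 𝒳) hr hm⟩

instance quotGrM_smul : SetLike.GradedSMul (GrSyz.stdGr k σ) (quotGrM 𝒳 N) :=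
  ⟨fun {i j r} x hr hm => by
    obtain ⟨y, hy, rfl⟩ := hm
    exact ⟨r • y, SetLike.GradedSMul.smul_mem (A := GrSyz.stdGr k σ) (B := 𝒳) hr hy, map_smul N.mkQ r y⟩⟩

lemma span_isHom {s : Set X} (hs : ∀ x ∈ s, ∃ d, x ∈ 𝒳 d) : IsHom 𝒳 (Submodule.span (MvPolynomial σ k) s) := by
  intro d x hx
  induction hx using Submodule.span_induction generalizing d with
  | mem y hy =>
    obtain ⟨e, he⟩ := hs y hy
    rcases eq_or_ne e d with rfl | h
    · rw [prj_same 𝒳 he]; exact Submodule.subset_span hy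
    · rw [prj_ne 𝒳 he h]; exact zero_mem _
  | zero => rw [map_zero]; exact zero_mem _
  | add a b _ _ ha hb => rw [map_add]; exact add_mem (ha d) (hb d)
  | smul c y _ hy =>
    obtain ⟨t, ht⟩ := exists_sum_prj (GrSyz.stdGr k σ) c
    rw [← ht, Finset.sum_smul, map_sum]
    refine Submodule.sum_mem _ fun e _ => ?_
    rw [prj_smul' 𝒳 (GrSyz.stdGr k σ) (prj_mem _ e c)]
    exact Submodule.smul_mem _ _ (hy _)

end SubQuot

section Basic

variable {M : Type u} [AddCommGroup M] [Module (MvPolynomial σ k) M] [Module k M]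
  [IsScalarTower k (MvPolynomial σ k) M]
  (ℳ : ℤ → Submodule k M) [DirectSum.Decomposition ℳ] [SetLike.GradedSMul (GrSyz.stdGr k σ) ℳ]

omit [IsScalarTower k (MvPolynomial σ k) M] in
lemma isRegLE_of_subsingleton [Subsingleton M] (r : ℤ) : GrSyz.IsRegLE (GrSyz.stdGr k σ) ℳ (mm k σ) r := by
  refine ⟨ofMaps ℳ (fun _ => 0) (fun _ => Fin.elim0) (fun _ => 0) 0 (fun _ _ _ _ => zero_mem _)
    (fun _ _ _ => zero_mem _) (fun x => ⟨0, Subsingleton.elim _ _⟩) (Subsingleton.elim _ _) (fun _ => Subsingleton.elim _ _),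
    fun i a => Fin.elim0 a, fun i b => Fin.elim0 b⟩

omit [IsScalarTower k (MvPolynomial σ k) M] in
lemma isRegLE_mono {r r' : ℤ} (h : r ≤ r') (hr : GrSyz.IsRegLE (GrSyz.stdGr k σ) ℳ (mm k σ) r) :
    GrSyz.IsRegLE (GrSyz.stdGr k σ) ℳ (mm k σ) r' := by
  obtain ⟨F, hF, hFr⟩ := hr
  exact ⟨F, hF, fun i b => (hFr i b).trans (by omega)⟩

omit [IsScalarTower k (MvPolynomial σ k) M] in
lemma isRegLE_transfer {M' : Type u} [AddCommGroup M'] [Module (MvPolynomial σ k) M'] [Module k M']
    (ℳ' : ℤ → Submodule k M') [DirectSum.Decomposition ℳ'] [SetLike.GradedSMul (GrSyz.stdGr k σ) ℳ']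
    (ψ : M →ₗ[MvPolynomial σ k] M') (hψ : Function.Bijective ψ) (e : ℤ) (hdeg : ∀ d, ∀ x ∈ ℳ d, ψ x ∈ ℳ' (d + e))
    {r : ℤ} (hr : GrSyz.IsRegLE (GrSyz.stdGr k σ) ℳ (mm k σ) r) :
    GrSyz.IsRegLE (GrSyz.stdGr k σ) ℳ' (mm k σ) (r + e) := by
  obtain ⟨F, hF, hFr⟩ := hr
  have hl : Fintype.linearCombination (MvPolynomial σ k) (fun b => ψ (F.aug b)) = ψ ∘ₗ F.augLin := by
    refine LinearMap.ext fun v => ?_
    simp [Fintype.linearCombination_apply]
  exact ⟨{
    rk := F.rk
    deg := fun i b => F.deg i b + e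
    d := F.d
    aug := fun b => ψ (F.aug b)
    d_mem := fun i a b => by rw [add_sub_add_right_eq_sub]; exact F.d_mem i a b
    aug_mem := fun b => hdeg _ _ (F.aug_mem b)
    aug_surjective := by rw [hl]; exact hψ.2.comp F.aug_surjective
    exact_zero := by rw [hl, LinearMap.ker_comp_of_ker_eq_bot _ (LinearMap.ker_eq_bot.2 hψ.1)]; exact F.exact_zero
    exact_succ := F.exact_succ }, hF, fun i b => by have := hFr i b; change F.deg i b + e ≤ _; omega⟩

end Basic

/-- the rank function of the trivial resolution of the ring -/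
def oneRk : ℕ → ℕ
  | 0 => 1
  | _ + 1 => 0

/-- the degrees of the trivial resolution of the ring -/
def oneDeg : (i : ℕ) → Fin (oneRk i) → ℤ
  | 0 => fun _ => 0
  | _ + 1 => Fin.elim0

variable (k σ) in
lemma isRegLE_ring : GrSyz.IsRegLE (GrSyz.stdGr k σ) (GrSyz.stdGr k σ) (mm k σ) 0 := by
  refine ⟨ofMaps (GrSyz.stdGr k σ) oneRk oneDeg (fun _ => 0) (LinearMap.proj (0 : Fin 1)) (fun _ _ _ _ => zero_mem _)
    (fun d v hv => by
      have := mem_fr.1 hv (0 : Fin 1)
      change v (0 : Fin 1) ∈ GrSyz.stdGr k σ d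
      rwa [show d - oneDeg 0 (0 : Fin 1) = d from sub_zero d] at this) (fun x => ⟨fun _ => x, rfl⟩) ?_
    (fun i => ?_), fun i a b => Fin.elim0 b, fun i b => ?_⟩
  · rw [LinearMap.range_zero]
    refine LinearMap.ker_eq_bot.2 fun v w h => funext fun x => ?_
    obtain rfl : x = (0 : Fin 1) := Fin.eq_zero x
    exact h
  · haveI : Subsingleton (Fin (oneRk (i + 1)) → MvPolynomial σ k) :=
      inferInstanceAs (Subsingleton (Fin 0 → MvPolynomial σ k))
    exact Subsingleton.elim _ _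
  · cases i with
    | zero => exact le_rfl
    | succ i => exact Fin.elim0 b

section Residue

variable (k σ) [Finite σ]

lemma span_X_isHom (s : Set σ) :
    IsHom (GrSyz.stdGr k σ) (Ideal.span (MvPolynomial.X '' s) : Ideal (MvPolynomial σ k)) :=
  span_isHom (GrSyz.stdGr k σ) (by
    rintro _ ⟨i, -, rfl⟩
    exact ⟨1, MvPolynomial.isWeightedHomogeneous_X k _ i⟩)

theorem isRegLE_quot_X (s : Set σ) :
    letI := quotDec (GrSyz.stdGr k σ) (span_X_isHom k σ s)
    GrSyz.IsRegLE (GrSyz.stdGr k σ) (quotGrM (GrSyz.stdGr k σ) (Ideal.span (MvPolynomial.X '' s) : Ideal (MvPolynomial σ k)))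
      (mm k σ) 0 := by
  classical
  induction s, Set.toFinite s using Set.Finite.induction_on with
  | empty =>
    letI := quotDec (GrSyz.stdGr k σ) (span_X_isHom k σ ∅)
    have h := isRegLE_transfer (GrSyz.stdGr k σ)
      (quotGrM (GrSyz.stdGr k σ) (Ideal.span (MvPolynomial.X '' ∅) : Ideal (MvPolynomial σ k)))
      (Submodule.mkQ _) ⟨LinearMap.ker_eq_bot.1 (by rw [Submodule.ker_mkQ, Set.image_empty, Ideal.span_empty]),
        Submodule.mkQ_surjective _⟩ 0 (fun d x hx => ⟨x, by rwa [add_zero], rfl⟩) (isRegLE_ring k σ)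
    simpa using h
  | @insert a t hat _ ih =>
    set I : Ideal (MvPolynomial σ k) := Ideal.span (MvPolynomial.X '' t) with hI
    set J : Ideal (MvPolynomial σ k) := Ideal.span (MvPolynomial.X '' insert a t) with hJ
    letI := quotDec (GrSyz.stdGr k σ) (span_X_isHom k σ t)
    letI := quotDec (GrSyz.stdGr k σ) (span_X_isHom k σ (insert a t))
    have hIJ : I ≤ J := Ideal.span_mono (Set.image_mono (Set.subset_insert a t))
    have haJ : MvPolynomial.X a ∈ J := Ideal.subset_span ⟨a, Set.mem_insert a t, rfl⟩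
    let f : (MvPolynomial σ k ⧸ I) →ₗ[MvPolynomial σ k] (MvPolynomial σ k ⧸ I) :=
      (MvPolynomial.X a : MvPolynomial σ k) • LinearMap.id
    let g : (MvPolynomial σ k ⧸ I) →ₗ[MvPolynomial σ k] (MvPolynomial σ k ⧸ J) :=
      Submodule.mapQ I J LinearMap.id hIJ
    have hf : Function.Injective f := by
      refine (injective_iff_map_eq_zero f).2 fun x hx => ?_
      obtain ⟨p, rfl⟩ := Submodule.Quotient.mk_surjective I x
      have h1 : MvPolynomial.X a * p ∈ I := (Submodule.Quotient.mk_eq_zero I).1 hx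
      rw [Submodule.Quotient.mk_eq_zero, hI, MvPolynomial.mem_ideal_span_X_image]
      rw [hI, MvPolynomial.mem_ideal_span_X_image] at h1
      intro m hm
      obtain ⟨i, hi, hne⟩ := h1 (Finsupp.single a 1 + m) (by
        rw [MvPolynomial.mem_support_iff, MvPolynomial.coeff_X_mul]
        exact MvPolynomial.mem_support_iff.1 hm)
      refine ⟨i, hi, ?_⟩
      rw [Finsupp.add_apply, Finsupp.single_eq_of_ne (show i ≠ a from fun h => hat (h ▸ hi)), zero_add] at hne
      exact hne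
    let 𝒴 : ℤ → Submodule k (MvPolynomial σ k ⧸ I) := fun d => quotGrM (GrSyz.stdGr k σ) I (d - 1)
    haveI hY : SetLike.GradedSMul (GrSyz.stdGr k σ) 𝒴 := ⟨fun {i j r} x hr hx => by
      have := SetLike.GradedSMul.smul_mem (A := GrSyz.stdGr k σ) (B := quotGrM (GrSyz.stdGr k σ) I) hr hx
      rw [vadd_eq_add] at this ⊢
      change r • x ∈ quotGrM (GrSyz.stdGr k σ) I (i + j - 1)
      rwa [add_sub_assoc]⟩
    letI : DirectSum.Decomposition 𝒴 :=
      (decomposition_exists 𝒴 (fun d => prj (quotGrM (GrSyz.stdGr k σ) I) (d - 1))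
        (fun d x hx => prj_same _ hx) (fun d e h x hx => prj_ne _ hx (by omega)) (fun x => by
          obtain ⟨s, hs⟩ := exists_sum_prj (quotGrM (GrSyz.stdGr k σ) I) x
          rw [← hs]
          exact Submodule.sum_mem _ fun d _ => Submodule.mem_iSup_of_mem (d + 1)
            (show prj (quotGrM (GrSyz.stdGr k σ) I) d x ∈ quotGrM (GrSyz.stdGr k σ) I (d + 1 - 1) by
              rw [add_sub_cancel_right]; exact prj_mem _ _ _))).chooseDecomposition
    have hfg : LinearMap.range f = LinearMap.ker g := by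
      refine le_antisymm ?_ fun x hx => ?_
      · rintro _ ⟨x, rfl⟩
        obtain ⟨p, rfl⟩ := Submodule.Quotient.mk_surjective I x
        exact (Submodule.Quotient.mk_eq_zero J).2 (Ideal.mul_mem_right p J haJ)
      · obtain ⟨p, rfl⟩ := Submodule.Quotient.mk_surjective I x
        have hp : p ∈ J := (Submodule.Quotient.mk_eq_zero J).1 hx
        rw [hJ, Set.image_insert_eq, Ideal.mem_span_insert] at hp
        obtain ⟨c, z, hz, rfl⟩ := hp
        refine ⟨Submodule.Quotient.mk c, (Submodule.Quotient.eq I).2 ?_⟩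
        change MvPolynomial.X a * c - (c * MvPolynomial.X a + z) ∈ I
        rw [sub_add_eq_sub_sub, mul_comm c, sub_self, zero_sub]
        exact neg_mem hz
    have h1 : GrSyz.IsRegLE (GrSyz.stdGr k σ) 𝒴 (mm k σ) (0 + 1) :=
      isRegLE_transfer (quotGrM (GrSyz.stdGr k σ) I) 𝒴 LinearMap.id Function.bijective_id 1
        (fun d x hx => show x ∈ quotGrM (GrSyz.stdGr k σ) I (d + 1 - 1) by rwa [add_sub_cancel_right]) ih
    refine isRegLE_right (ℳ₁ := 𝒴) (ℳ₂ := quotGrM (GrSyz.stdGr k σ) I) f g hf (fun y => ?_) hfg ?_ ?_ h1 ih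
    · obtain ⟨p, rfl⟩ := Submodule.Quotient.mk_surjective J y
      exact ⟨Submodule.Quotient.mk p, rfl⟩
    · rintro d _ ⟨p, hp, rfl⟩
      refine ⟨MvPolynomial.X a * p, ?_, rfl⟩
      have := SetLike.mul_mem_graded (A := GrSyz.stdGr k σ) (MvPolynomial.isWeightedHomogeneous_X k (fun _ : σ => (1 : ℤ)) a) hp
      rwa [add_sub_cancel] at this
    · rintro d _ ⟨p, hp, rfl⟩
      exact ⟨p, hp, rfl⟩

lemma mm_eq_span : mm k σ = Ideal.span (MvPolynomial.X '' Set.univ) := by
  ext p
  rw [mem_mm_iff, MvPolynomial.mem_ideal_span_X_image]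
  constructor
  · intro hp m hm
    by_contra h
    push Not at h
    have hm0 : m = 0 := Finsupp.ext fun i => h i (Set.mem_univ i)
    exact MvPolynomial.mem_support_iff.1 hm (hm0 ▸ hp)
  · intro h
    by_contra hne
    obtain ⟨i, -, hi⟩ := h 0 (MvPolynomial.mem_support_iff.2 hne)
    exact hi rfl

end Residue

section FiniteLength

variable [Finite σ]

theorem isRegLE_of_length : ∀ (ℓ : ℕ) (M : Type u) [AddCommGroup M] [Module (MvPolynomial σ k) M] [Module k M]
    [IsScalarTower k (MvPolynomial σ k) M] [Module.Finite (MvPolynomial σ k) M]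
    (ℳ : ℤ → Submodule k M) [DirectSum.Decomposition ℳ] [SetLike.GradedSMul (GrSyz.stdGr k σ) ℳ],
    Module.length (MvPolynomial σ k) M = (ℓ : ℕ∞) → ∀ e : ℤ, (∀ d, e < d → ℳ d = ⊥) →
      GrSyz.IsRegLE (GrSyz.stdGr k σ) ℳ (mm k σ) e := by
  intro ℓ
  induction ℓ with
  | zero =>
    intro M _ _ _ _ _ ℳ _ _ hl e _
    haveI := Module.length_eq_zero_iff.1 hl
    exact isRegLE_of_subsingleton ℳ e
  | succ ℓ ih =>
    intro M _ _ _ _ _ ℳ _ _ hl e he
    haveI : Nontrivial M := Module.length_pos_iff.1 (by rw [hl]; exact_mod_cast ℓ.succ_pos)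
    obtain ⟨d1, hd1⟩ : ∃ d, ℳ d ≠ ⊥ := by
      by_contra h
      push Not at h
      obtain ⟨x, hx⟩ := exists_ne (0 : M)
      exact hx (eq_zero_of_prj ℳ x fun d => (Submodule.mem_bot k).1 (h d ▸ prj_mem ℳ d x))
    obtain ⟨d0, hd0, hmax⟩ := Int.exists_greatest_of_bdd (P := fun d => ℳ d ≠ ⊥)
      ⟨e, fun z hz => not_lt.1 fun h => hz (he z h)⟩ ⟨d1, hd1⟩
    obtain ⟨v, hv, hv0⟩ := (Submodule.ne_bot_iff _).1 hd0
    have hmv : ∀ r ∈ mm k σ, r • v = 0 := by
      intro r hr
      refine Submodule.span_induction ?_ (zero_smul _ v) (fun a b _ _ ha hb => by rw [add_smul, ha, hb, add_zero])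
        (fun a b _ hb => by rw [smul_eq_mul, mul_smul, hb, smul_zero]) hr
      rintro w ⟨n, hn, hw⟩
      have h := smul_mem_add ℳ (GrSyz.stdGr k σ) hw hv
      have h0 : ℳ (n + d0) = ⊥ := by
        by_contra h0
        have := hmax _ h0
        omega
      rwa [h0, Submodule.mem_bot] at h
    set N : Submodule (MvPolynomial σ k) M := Submodule.span (MvPolynomial σ k) {v} with hNdef
    have hN : IsHom ℳ N := span_isHom ℳ fun x hx => ⟨d0, by rwa [Set.mem_singleton_iff.1 hx]⟩
    letI := subDec ℳ hN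
    letI := quotDec ℳ hN
    set J : Ideal (MvPolynomial σ k) := Ideal.span (MvPolynomial.X '' (Set.univ : Set σ))
    have hJ : mm k σ = J := mm_eq_span k σ
    letI := quotDec (GrSyz.stdGr k σ) (span_X_isHom k σ Set.univ)
    let φ0 : MvPolynomial σ k →ₗ[MvPolynomial σ k] N :=
      LinearMap.toSpanSingleton _ N ⟨v, Submodule.mem_span_singleton_self v⟩
    have hJle : J ≤ LinearMap.ker φ0 := fun p hp => LinearMap.mem_ker.2 (Subtype.ext (hmv p (hJ ▸ hp)))
    have hker : LinearMap.ker φ0 = J := by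
      refine le_antisymm (fun p hp => ?_) hJle
      by_contra hpJ
      have hmax : J.IsMaximal := hJ ▸ mm_isMaximal
      obtain ⟨q, z, hz, hqz⟩ := hmax.exists_inv hpJ
      have : (v : M) = (q * p + z) • v := by rw [hqz, one_smul]
      have hpv : p • v = 0 := congrArg Subtype.val (LinearMap.mem_ker.1 hp)
      rw [add_smul, mul_smul, hpv, smul_zero, zero_add, hmv z (hJ ▸ hz)] at this
      exact hv0 this
    let φ : (MvPolynomial σ k ⧸ J) →ₗ[MvPolynomial σ k] N := Submodule.liftQ J φ0 hJle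
    have hφb : Function.Bijective φ := by
      refine ⟨LinearMap.ker_eq_bot.1 (Submodule.ker_liftQ_eq_bot _ _ _ hker.le), fun ⟨x, hx⟩ => ?_⟩
      obtain ⟨c, rfl⟩ := Submodule.mem_span_singleton.1 hx
      exact ⟨Submodule.Quotient.mk c, rfl⟩
    have hN1 : GrSyz.IsRegLE (GrSyz.stdGr k σ) (subGr ℳ N) (mm k σ) e := by
      refine isRegLE_mono _ (show 0 + d0 ≤ e from by have := not_lt.1 fun h => hd0 (he d0 h); omega) ?_
      refine isRegLE_transfer (quotGrM (GrSyz.stdGr k σ) J) (subGr ℳ N) φ hφb d0 ?_ (isRegLE_quot_X k σ Set.univ)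
      rintro d _ ⟨p, hp, rfl⟩
      exact smul_mem_add ℳ (GrSyz.stdGr k σ) hp hv
    have hlN : Module.length (MvPolynomial σ k) N = 1 := by
      rw [← (LinearEquiv.ofBijective φ hφb).length_eq]
      haveI : IsSimpleModule (MvPolynomial σ k) (MvPolynomial σ k ⧸ J) :=
        isSimpleModule_iff_isCoatom.2 (hJ ▸ mm_isMaximal).out
      exact Module.length_eq_one _ _
    have hlQ : Module.length (MvPolynomial σ k) (M ⧸ N) = (ℓ : ℕ∞) := by
      have := Module.length_eq_add_of_exact N.subtype N.mkQ N.subtype_injective (Submodule.mkQ_surjective N)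
        (LinearMap.exact_subtype_mkQ N)
      rw [hl, hlN, Nat.cast_add, Nat.cast_one, add_comm] at this
      exact ((ENat.add_left_injective_of_ne_top (n := 1) (by simp)) (by simpa [add_comm] using this)).symm
    refine isRegLE_mid (ℳ₁ := subGr ℳ N) (ℳ₃ := quotGrM ℳ N) N.subtype N.mkQ N.subtype_injective
      (Submodule.mkQ_surjective N) ?_ (fun d x hx => hx) (fun d x hx => ⟨x, hx, rfl⟩) hN1
      (ih (M ⧸ N) (quotGrM ℳ N) hlQ e fun d hd => ?_)
    · rw [Submodule.range_subtype, Submodule.ker_mkQ]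
    · rw [quotGrM, he d hd, Submodule.map_bot]

variable {M : Type u} [AddCommGroup M] [Module (MvPolynomial σ k) M] [Module k M]
  [IsScalarTower k (MvPolynomial σ k) M] [Module.Finite (MvPolynomial σ k) M]
  (ℳ : ℤ → Submodule k M) [DirectSum.Decomposition ℳ] [SetLike.GradedSMul (GrSyz.stdGr k σ) ℳ]

omit [Finite σ] [Module.Finite (MvPolynomial σ k) M] in
lemma bddAbove_of_isArtinian [IsArtinian (MvPolynomial σ k) M] : ∃ b : ℤ, ∀ d, b < d → ℳ d = ⊥ := by
  let W : ℤ → Submodule (MvPolynomial σ k) M := fun c => Submodule.span _ {x | ∃ d, c ≤ d ∧ x ∈ ℳ d}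
  have hlow : ∀ c, ∀ x ∈ W c, ∀ d, d < c → prj ℳ d x = 0 := by
    intro c x hx
    induction hx using Submodule.span_induction with
    | mem y hy =>
      obtain ⟨e, he, hye⟩ := hy
      exact fun d hd => prj_ne ℳ hye (by omega)
    | zero => simp
    | add a b _ _ ha hb => exact fun d hd => by rw [map_add, ha d hd, hb d hd, add_zero]
    | smul r y _ hy =>
      intro d hd
      obtain ⟨t, ht⟩ := exists_sum_prj (GrSyz.stdGr k σ) r
      rw [← ht, Finset.sum_smul, map_sum]
      refine Finset.sum_eq_zero fun n _ => ?_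
      by_cases hn : n < 0
      · have h := prj_mem (GrSyz.stdGr k σ) n r
        rw [stdGr_neg hn, Submodule.mem_bot] at h
        rw [h, zero_smul, map_zero]
      · rw [prj_smul' ℳ (GrSyz.stdGr k σ) (prj_mem _ n r), hy _ (by omega), smul_zero]
  obtain ⟨n, hn⟩ := IsArtinian.monotone_stabilizes (R := MvPolynomial σ k) (M := M)
    ⟨fun m : ℕ => OrderDual.toDual (W (m : ℤ)), fun a b hab =>
      OrderDual.toDual_le_toDual.2 (Submodule.span_mono fun x ⟨d, hd, hx⟩ => ⟨d, le_trans (by exact_mod_cast hab) hd, hx⟩)⟩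
  refine ⟨n, fun d hd => eq_bot_iff.2 fun x hx => ?_⟩
  obtain ⟨m, hm⟩ := Int.eq_ofNat_of_zero_le (show 0 ≤ d by omega)
  have h1 : x ∈ W n := Submodule.subset_span ⟨d, hd.le, hx⟩
  have h2 : W n = W (m + 1 : ℕ) := hn (m + 1) (by omega)
  rw [h2] at h1
  have := hlow _ x h1 d (by omega)
  rwa [prj_same ℳ hx] at this

theorem finite_piece {r : ℕ} {M : Type u} [AddCommGroup M] [Module (MvPolynomial (Fin (r + 1)) k) M] [Module k M]
    [IsScalarTower k (MvPolynomial (Fin (r + 1)) k) M]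
    {ℳ : ℤ → Submodule k M} [DirectSum.Decomposition ℳ] [SetLike.GradedSMul (GrSyz.stdGr k (Fin (r + 1))) ℳ]
    (F : GrSyz.FreeRes (GrSyz.stdGr k (Fin (r + 1))) ℳ) (d : ℤ) : Module.Finite k ↥(ℳ d) := by
  refine Module.Finite.of_surjective (LinearMap.codRestrict (ℳ d)
    (F.augLin.restrictScalars k ∘ₗ (fr (k := k) (F.deg 0) d).subtype) fun v => lc_mem ℳ F.aug_mem v.2) fun x => ?_
  obtain ⟨v, hv, hvx⟩ := exists_preimage_mem ℳ (deg := F.deg 0) F.aug_mem x.2 (F.aug_surjective x.1)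
  exact ⟨⟨v, hv⟩, Subtype.ext hvx⟩

theorem reg_eq_endDeg {r : ℕ} {M : Type u} [AddCommGroup M] [Module (MvPolynomial (Fin (r + 1)) k) M] [Module k M]
    [IsScalarTower k (MvPolynomial (Fin (r + 1)) k) M] [Module.Finite (MvPolynomial (Fin (r + 1)) k) M]
    (ℳ : ℤ → Submodule k M) [DirectSum.Decomposition ℳ] [SetLike.GradedSMul (GrSyz.stdGr k (Fin (r + 1))) ℳ]
    (hM : IsFiniteLength (MvPolynomial (Fin (r + 1)) k) M) :
    GrSyz.reg (GrSyz.stdGr k (Fin (r + 1))) ℳ (mm k (Fin (r + 1))) = GrLC.endDeg (fun n => (ℳ n).toAddSubgroup) := by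
  obtain ⟨hnoe, hart⟩ := isFiniteLength_iff_isNoetherian_isArtinian.1 hM
  obtain ⟨b, hb⟩ := bddAbove_of_isArtinian (σ := Fin (r + 1)) ℳ
  obtain ⟨ℓ, hℓ⟩ := ENat.ne_top_iff_exists.1 (Module.length_ne_top_iff.2 hM)
  have hbot : ∀ d, (ℳ d).toAddSubgroup = ⊥ ↔ ℳ d = ⊥ := fun d => by rw [eq_bot_iff, eq_bot_iff]; rfl
  refine le_antisymm ?_ (iSup₂_le fun d hd => le_iInf₂ fun e he => ?_)
  · by_cases hex : ∃ d, ℳ d ≠ ⊥
    · obtain ⟨e, he, hmax⟩ := Int.exists_greatest_of_bdd (P := fun d => ℳ d ≠ ⊥)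
        ⟨b, fun z hz => not_lt.1 fun h => hz (hb z h)⟩ hex
      refine le_trans (iInf₂_le e (isRegLE_of_length ℓ M ℳ hℓ.symm e fun d hd => ?_))
        (le_iSup₂_of_le e (fun h => he ((hbot e).1 h)) le_rfl)
      by_contra h
      exact absurd (hmax d h) (by omega)
    · push Not at hex
      haveI : Subsingleton M :=
        subsingleton_of_forall_eq 0 fun x => eq_zero_of_prj ℳ x fun d => (Submodule.mem_bot k).1 (hex d ▸ prj_mem ℳ d x)
      have h : GrSyz.reg (GrSyz.stdGr k (Fin (r + 1))) ℳ (mm k (Fin (r + 1))) = ⊥ := by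
        have hall : ∀ z : ℤ, GrSyz.reg (GrSyz.stdGr k (Fin (r + 1))) ℳ (mm k (Fin (r + 1))) ≤
            ((z : WithTop ℤ) : WithBot (WithTop ℤ)) := fun z => iInf₂_le z (isRegLE_of_subsingleton ℳ z)
        revert hall
        cases GrSyz.reg (GrSyz.stdGr k (Fin (r + 1))) ℳ (mm k (Fin (r + 1))) with
        | bot => intro; rfl
        | coe x =>
          intro hall
          exfalso
          cases x with
          | top =>
            have := hall 0
            rw [WithBot.coe_le_coe, top_le_iff] at this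
            exact WithTop.coe_ne_top this
          | coe z =>
            have := hall (z - 1)
            rw [WithBot.coe_le_coe, WithTop.coe_le_coe] at this
            omega
      rw [h]
      exact bot_le
  · rw [WithBot.coe_le_coe, WithTop.coe_le_coe]
    by_contra hlt
    push Not at hlt
    obtain ⟨G, hG, hlen⟩ := exists_res_hasLengthLE (ℳ := ℳ) (k := k) (σ := Fin (r + 1))
    have hgen := isGenLE_of_isRegLE G hG he
    obtain ⟨P, hP⟩ := exists_hilbert_polynomial G _ hlen
    have hbound : ∀ z, e < z → ∀ i (c : Fin (G.rk i)), G.deg i c - (r : ℤ) ≤ z := fun z hz i c => by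
      have h1 := hgen i c
      have h2 : i ≤ r + 1 := by
        by_contra h
        have := hlen i (by simpa using not_le.1 h)
        exact absurd c.2 (by omega)
      omega
    have hP0 : P = 0 := by
      refine Polynomial.eq_zero_of_infinite_isRoot P (Set.Infinite.mono (s := (fun n : ℕ => ((max b e + 1 + n : ℤ) : ℚ)) '' Set.univ) ?_ ?_)
      · rintro _ ⟨n, -, rfl⟩
        have h := hP (max b e + 1 + n) (hbound _ (by omega))
        rw [hb _ (by omega), finrank_bot, Nat.cast_zero, Int.cast_zero] at h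
        exact h.symm
      · exact (Set.infinite_univ).image fun a _ c _ hac => by
          have : (max b e + 1 + (a : ℤ)) = max b e + 1 + (c : ℤ) := Int.cast_injective hac
          omega
    have h := hP d (hbound d hlt)
    rw [hP0, Polynomial.eval_zero, Int.cast_eq_zero, Int.natCast_eq_zero] at h
    haveI := finite_piece G d
    exact hd ((hbot d).2 (Submodule.finrank_eq_zero.1 h))

end FiniteLength

end Groth.L12.GrSyzLib
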