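import Groth.Agent.L12.GrRegSeq

/-!
# Vanishing of Tor from generation of iterated linear syzygy modules
-/

set_option autoImplicit false

universe u

open DirectSum Pointwise

namespace Groth.L12.GrSyzLib

variable {k : Type u} [Field k]

section ChainZero

variable {σ : Type}
variable {M : Type u} [AddCommGroup M] [Module (MvPolynomial σ k) M] [Module k M]
  [IsScalarTower k (MvPolynomial σ k) M]
  {ℳ : ℤ → Submodule k M} [DirectSum.Decomposition ℳ] [SetLike.GradedSMul (GrSyz.stdGr k σ) ℳ]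
  {M' : Type u} [AddCommGroup M'] [Module (MvPolynomial σ k) M'] [Module k M']
  [IsScalarTower k (MvPolynomial σ k) M']
  {ℳ' : ℤ → Submodule k M'} [DirectSum.Decomposition ℳ'] [SetLike.GradedSMul (GrSyz.stdGr k σ) ℳ']

lemma cm_add {n n' : ℕ} (f g : (Fin n → MvPolynomial σ k) →ₗ[MvPolynomial σ k] (Fin n' → MvPolynomial σ k)) :
    cm (f + g) = cm f + cm g := by ext a b; simp [cm]

omit [IsScalarTower k (MvPolynomial σ k) M] in
/-- A chain map over zero between minimal resolutions has zero constant part. -/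
lemma cm_eq_zero_of_zero (G : GrSyz.FreeRes (GrSyz.stdGr k σ) ℳ') (F : GrSyz.FreeRes (GrSyz.stdGr k σ) ℳ)
    (hG : G.IsMinimal (mm k σ)) (hF : F.IsMinimal (mm k σ))
    (φ : (i : ℕ) → (Fin (G.rk i) → MvPolynomial σ k) →ₗ[MvPolynomial σ k] (Fin (F.rk i) → MvPolynomial σ k))
    (hφ : ∀ i, IsGr (G.deg i) (fr (F.deg i)) (φ i)) (h0 : F.augLin.comp (φ 0) = 0)
    (hc : ∀ i, (F.dLin i).comp (φ (i + 1)) = (φ i).comp (G.dLin i)) (i : ℕ) : cm (φ i) = 0 := by
  have hdd : ∀ i v, F.dLin i (F.dLin (i + 1) v) = 0 := fun i v =>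
    LinearMap.mem_ker.1 ((F.exact_succ i).symm ▸ LinearMap.mem_range_self _ v)
  suffices H : ∀ i, ∃ h : (Fin (G.rk i) → MvPolynomial σ k) →ₗ[MvPolynomial σ k] (Fin (F.rk (i + 1)) → MvPolynomial σ k),
      IsGr (G.deg i) (fr (F.deg (i + 1))) h ∧ cm (φ i) = 0 ∧
      ∀ v, φ i (G.dLin i v) = F.dLin i (h (G.dLin i v)) from (H i).choose_spec.2.1
  intro i
  induction i with
  | zero =>
    obtain ⟨h, hh, hc'⟩ := exists_lift_map (fr (F.deg 0)) (φ 0) (hφ 0) (F.dLin 0) (isGr_dLin F 0) (fun v => by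
      rw [GrSyz.FreeRes.dLin, ← F.exact_zero, LinearMap.mem_ker, ← LinearMap.comp_apply, h0, LinearMap.zero_apply])
    refine ⟨h, hh, ?_, fun v => by rw [← hc', LinearMap.comp_apply]⟩
    rw [← hc', cm_comp, show cm (F.dLin 0) = cd F 0 from rfl, cd_eq_zero F hF, Matrix.zero_mul]
  | succ i ih =>
    obtain ⟨h, hh, -, hz⟩ := ih
    obtain ⟨h', hh', hc'⟩ := exists_lift_map (fr (F.deg (i + 1))) (φ (i + 1) - h.comp (G.dLin i))
      (fun d v hv => sub_mem (hφ _ d v hv) (hh d _ (isGr_dLin G i d v hv))) (F.dLin (i + 1)) (isGr_dLin F (i + 1))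
      (fun v => by
        rw [GrSyz.FreeRes.dLin, ← F.exact_succ i, LinearMap.mem_ker]
        change F.dLin i (φ (i + 1) v - h (G.dLin i v)) = 0
        rw [map_sub, ← LinearMap.comp_apply (F.dLin i), hc, LinearMap.comp_apply, hz, sub_self])
    refine ⟨h', hh', ?_, fun v => ?_⟩
    · have : φ (i + 1) = (F.dLin (i + 1)).comp h' + h.comp (G.dLin i) := by rw [hc', sub_add_cancel]
      rw [this, cm_add, cm_comp, cm_comp, show cm (F.dLin (i + 1)) = cd F (i + 1) from rfl,
        show cm (G.dLin i) = cd G i from rfl, cd_eq_zero F hF, cd_eq_zero G hG, Matrix.zero_mul, Matrix.mul_zero, add_zero]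
    · rw [← LinearMap.comp_apply (F.dLin (i + 1)), hc', LinearMap.sub_apply, LinearMap.comp_apply,
        show G.dLin i (G.dLin (i + 1) v) = 0 from
          LinearMap.mem_ker.1 ((G.exact_succ i).symm ▸ LinearMap.mem_range_self _ v), map_zero, sub_zero]

omit [IsScalarTower k (MvPolynomial σ k) M] in
/-- Chain maps over the same map between minimal resolutions have the same constant part. -/
lemma cm_eq_of_same (G : GrSyz.FreeRes (GrSyz.stdGr k σ) ℳ') (F : GrSyz.FreeRes (GrSyz.stdGr k σ) ℳ)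
    (hG : G.IsMinimal (mm k σ)) (hF : F.IsMinimal (mm k σ))
    (φ ψ : (i : ℕ) → (Fin (G.rk i) → MvPolynomial σ k) →ₗ[MvPolynomial σ k] (Fin (F.rk i) → MvPolynomial σ k))
    (hφ : ∀ i, IsGr (G.deg i) (fr (F.deg i)) (φ i)) (hψ : ∀ i, IsGr (G.deg i) (fr (F.deg i)) (ψ i))
    (h0 : F.augLin.comp (φ 0) = F.augLin.comp (ψ 0))
    (hφc : ∀ i, (F.dLin i).comp (φ (i + 1)) = (φ i).comp (G.dLin i))
    (hψc : ∀ i, (F.dLin i).comp (ψ (i + 1)) = (ψ i).comp (G.dLin i)) (i : ℕ) : cm (φ i) = cm (ψ i) := by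
  have := cm_eq_zero_of_zero G F hG hF (fun i => φ i - ψ i) (fun i d v hv => sub_mem (hφ i d v hv) (hψ i d v hv))
    (by rw [LinearMap.comp_sub, h0, sub_self]) (fun i => by rw [LinearMap.comp_sub, hφc, hψc, LinearMap.sub_comp]) i
  rwa [cm_sub, sub_eq_zero] at this

end ChainZero

variable {r : ℕ}
variable {R : Type u} [AddCommGroup R] [Module (MvPolynomial (Fin (r + 1)) k) R] [Module k R]
  [IsScalarTower k (MvPolynomial (Fin (r + 1)) k) R] (ℛ : ℤ → Submodule k R) [DirectSum.Decomposition ℛ]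
  [SetLike.GradedSMul (GrSyz.stdGr k (Fin (r + 1))) ℛ]

/-- pieces of `R(-1)^(r+1)` -/
noncomputable def vecGr (d : ℤ) : Submodule k (Fin (r + 1) → R) := Submodule.pi Set.univ fun _ => shiftGr ℛ d

omit [IsScalarTower k (MvPolynomial (Fin (r + 1)) k) R] [DirectSum.Decomposition ℛ]
  [SetLike.GradedSMul (GrSyz.stdGr k (Fin (r + 1))) ℛ] in
lemma mem_vecGr {d : ℤ} {w : Fin (r + 1) → R} : w ∈ vecGr ℛ d ↔ ∀ v, w v ∈ ℛ (d - 1) :=
  ⟨fun h v => h v (Set.mem_univ v), fun h v _ => h v⟩

lemma vecGr_isInternal : DirectSum.IsInternal (vecGr (r := r) ℛ) := by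
  refine decomposition_exists (vecGr ℛ) (fun d => LinearMap.pi fun v => prj ℛ (d - 1) ∘ₗ LinearMap.proj v)
    (fun d w hw => funext fun v => prj_same ℛ (mem_vecGr ℛ |>.1 hw v))
    (fun d e h w hw => funext fun v => prj_ne ℛ (mem_vecGr ℛ |>.1 hw v) (by omega)) fun w => ?_
  classical
  rw [← Finset.univ_sum_single w]
  refine Submodule.sum_mem _ fun v _ => ?_
  obtain ⟨T, hT⟩ := exists_sum_prj ℛ (w v)
  rw [← hT, show Pi.single v (∑ d ∈ T, prj ℛ d (w v)) = ∑ d ∈ T, (Pi.single v (prj ℛ d (w v)) : Fin (r + 1) → R) from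
    map_sum (AddMonoidHom.single (fun _ : Fin (r + 1) => R) v) _ _]
  refine Submodule.sum_mem _ fun d _ => Submodule.mem_iSup_of_mem (d + 1) ((mem_vecGr ℛ).2 fun v' => ?_)
  rw [add_sub_cancel_right, Pi.single_apply]
  split_ifs with h
  · exact prj_mem ℛ d _
  · exact zero_mem _

/-- decomposition of `R(-1)^(r+1)` -/
@[instance_reducible]
noncomputable def vecDec : DirectSum.Decomposition (vecGr (r := r) ℛ) :=
  (vecGr_isInternal ℛ).chooseDecomposition

omit [IsScalarTower k (MvPolynomial (Fin (r + 1)) k) R] [DirectSum.Decomposition ℛ] in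
lemma vecGr_smul : SetLike.GradedSMul (GrSyz.stdGr k (Fin (r + 1))) (vecGr (r := r) ℛ) :=
  ⟨fun {i j c} w hc hw => (mem_vecGr ℛ).2 fun v => by
    have h := SetLike.GradedSMul.smul_mem (A := GrSyz.stdGr k (Fin (r + 1))) (B := ℛ) hc ((mem_vecGr ℛ).1 hw v)
    rw [vadd_eq_add] at h ⊢
    rwa [show i + j - 1 = i + (j - 1) by ring]⟩

variable (k r R) in
/-- the map `w ↦ ∑ x_v w_v` -/
noncomputable def linMap : (Fin (r + 1) → R) →ₗ[MvPolynomial (Fin (r + 1)) k] R :=
  ∑ v, (MvPolynomial.X v : MvPolynomial (Fin (r + 1)) k) • LinearMap.proj v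

omit [IsScalarTower k (MvPolynomial (Fin (r + 1)) k) R] [Module k R] in
lemma linMap_apply (w : Fin (r + 1) → R) :
    linMap k r R w = ∑ v, (MvPolynomial.X v : MvPolynomial (Fin (r + 1)) k) • w v := by
  simp [linMap, LinearMap.sum_apply]

omit [IsScalarTower k (MvPolynomial (Fin (r + 1)) k) R] in
lemma linMap_mem {d : ℤ} {w : Fin (r + 1) → R} (hw : w ∈ vecGr ℛ d) : linMap k r R w ∈ ℛ d := by
  rw [linMap_apply]
  refine Submodule.sum_mem _ fun v _ => ?_
  have := smul_mem_add ℛ (GrSyz.stdGr k (Fin (r + 1)))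
    (MvPolynomial.isWeightedHomogeneous_X k (fun _ => (1 : ℤ)) v) ((mem_vecGr ℛ).1 hw v)
  rwa [add_sub_cancel] at this

lemma range_linMap_isHom : IsHom ℛ (LinearMap.range (linMap k r R)) := by
  letI := vecDec (r := r) ℛ
  rintro d _ ⟨w, rfl⟩
  exact ⟨prj (vecGr ℛ) d w, (prj_map (vecGr ℛ) ℛ (linMap k r R).toAddMonoidHom (fun _ _ h => linMap_mem ℛ h) d w).symm⟩

lemma ker_linMap_isHom :
    letI := vecDec (r := r) ℛ
    IsHom (vecGr ℛ) (LinearMap.ker (linMap k r R)) := by
  letI := vecDec (r := r) ℛ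
  intro d w hw
  have h := prj_map (vecGr ℛ) ℛ (linMap k r R).toAddMonoidHom (fun _ _ h => linMap_mem ℛ h) d w
  simp only [LinearMap.toAddMonoidHom_coe] at h
  rw [LinearMap.mem_ker, ← h, LinearMap.mem_ker.1 hw, map_zero]

omit [IsScalarTower k (MvPolynomial (Fin (r + 1)) k) R] [Module k R] in
lemma mm_smul_mem_range {c : MvPolynomial (Fin (r + 1)) k} (hc : c ∈ mm k (Fin (r + 1))) (x : R) :
    c • x ∈ LinearMap.range (linMap k r R) := by
  classical
  rw [mm_eq_span] at hc
  induction hc using Submodule.span_induction with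
  | mem y hy =>
    obtain ⟨v, -, rfl⟩ := hy
    refine ⟨Pi.single v x, ?_⟩
    rw [linMap_apply, Finset.sum_eq_single v (fun b _ hb => by rw [Pi.single_eq_of_ne hb, smul_zero])
      (fun h => absurd (Finset.mem_univ v) h), Pi.single_eq_same]
  | zero => rw [zero_smul]; exact zero_mem _
  | add a b _ _ ha hb => rw [add_smul]; exact add_mem ha hb
  | smul a b _ hb => rw [smul_eq_mul, mul_smul]; exact Submodule.smul_mem _ a hb

variable [Module.Finite (MvPolynomial (Fin (r + 1)) k) R]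

/-- the key step -/
theorem betti_eq_zero_step (p : ℕ) (j : ℤ)
    (hQ : ∀ d, j - p - 1 < d → ∀ x ∈ ℛ d, x ∈ LinearMap.range (linMap k r R))
    (hT : letI := vecDec (r := r) ℛ
      haveI := vecGr_smul (r := r) ℛ
      letI := subDec (vecGr ℛ) (ker_linMap_isHom (r := r) ℛ)
      ∃ T : GrSyz.FreeRes (GrSyz.stdGr k (Fin (r + 1))) (subGr (vecGr ℛ) (LinearMap.ker (linMap k r R))),
        ∀ t : Fin (lo T p), sdeg T p t ≠ j)
    (F : GrSyz.FreeRes (GrSyz.stdGr k (Fin (r + 1))) ℛ) (hF : F.IsMinimal (mm k (Fin (r + 1)))) :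
    F.betti p j = 0 := by
  classical
  letI := vecDec (r := r) ℛ
  haveI := vecGr_smul (r := r) ℛ
  letI := shiftDec ℛ
  haveI := shiftGr_smul ℛ (r := r)
  set K := LinearMap.ker (linMap k r R) with hK
  set I := LinearMap.range (linMap k r R) with hI
  letI := subDec (vecGr ℛ) (ker_linMap_isHom (r := r) ℛ)
  letI := subDec ℛ (range_linMap_isHom (r := r) ℛ)
  letI := quotDec ℛ (range_linMap_isHom (r := r) ℛ)
  obtain ⟨T, hT⟩ := hT
  obtain ⟨G, hG⟩ := exists_minimal_res (σ := Fin (r + 1)) (vecGr (r := r) ℛ)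
  -- the quotient is generated in low degree
  obtain ⟨GQ, -, hGQ⟩ : GrSyz.IsRegLE (GrSyz.stdGr k (Fin (r + 1))) (quotGrM ℛ I) (mm k (Fin (r + 1))) (j - p - 1) := by
    haveI : Module.Finite k (R ⧸ I) := by
      obtain ⟨s, hs⟩ := (Module.Finite.fg_top : (⊤ : Submodule (MvPolynomial (Fin (r + 1)) k) (R ⧸ I)).FG)
      refine ⟨⟨s, eq_top_iff.2 fun x _ => ?_⟩⟩
      have hx : x ∈ Submodule.span (MvPolynomial (Fin (r + 1)) k) (s : Set (R ⧸ I)) := hs ▸ trivial
      induction hx using Submodule.span_induction with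
      | mem y hy => exact Submodule.subset_span hy
      | zero => exact zero_mem _
      | add a b _ _ ha hb => exact add_mem (ha trivial) (hb trivial)
      | smul c y _ hy =>
        obtain ⟨z, rfl⟩ := Submodule.Quotient.mk_surjective I y
        have h1 : c • (Submodule.Quotient.mk z : R ⧸ I) = MvPolynomial.constantCoeff c • (Submodule.Quotient.mk z : R ⧸ I) := by
          rw [← sub_eq_zero, ← IsScalarTower.algebraMap_smul (MvPolynomial (Fin (r + 1)) k) (MvPolynomial.constantCoeff c)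
            (Submodule.Quotient.mk z : R ⧸ I), ← sub_smul, ← Submodule.Quotient.mk_smul, Submodule.Quotient.mk_eq_zero]
          exact mm_smul_mem_range (mem_mm_iff.2 (by simp [MvPolynomial.algebraMap_eq])) z
        rw [h1]
        exact Submodule.smul_mem _ _ (hy trivial)
    haveI : IsArtinian (MvPolynomial (Fin (r + 1)) k) (R ⧸ I) := isArtinian_of_tower k inferInstance
    obtain ⟨l, hl⟩ := ENat.ne_top_iff_exists.1 (Module.length_ne_top_iff.2
      (isFiniteLength_iff_isNoetherian_isArtinian.2 ⟨(inferInstance : IsNoetherian (MvPolynomial (Fin (r + 1)) k) (R ⧸ I)), inferInstance⟩))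
    refine isRegLE_of_length l (R ⧸ I) (quotGrM ℛ I) hl.symm _ fun d hd => eq_bot_iff.2 ?_
    rintro _ ⟨x, hx, rfl⟩
    exact (Submodule.mem_bot k).2 ((Submodule.Quotient.mk_eq_zero I).2 (hQ d hd x hx))
  have hQb : GQ.betti p j = 0 := by
    refine Finset.card_eq_zero.2 (Finset.filter_eq_empty_iff.2 fun b _ hb => ?_)
    have := hGQ p b
    omega
  -- the cone resolving the image
  obtain ⟨φ, hφ, hφ0, hφc⟩ := exists_chainMap T G K.subtype (fun _ _ h => h)
  have hgr : GrLC.IsGrHom (vecGr (r := r) ℛ) (subGr ℛ I) (linMap k r R).rangeRestrict := fun d w hw => linMap_mem ℛ hw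
  obtain ⟨C, hrC, hdegC, -, ι, hι, hι0, hιc, hcmι⟩ := exists_cone_incl (ℳ₁ := subGr (vecGr ℛ) K) (ℳ₂ := vecGr (r := r) ℛ)
    (ℳ₃ := subGr ℛ I) T G φ K.subtype (linMap k r R).rangeRestrict K.subtype_injective
    (linMap k r R).surjective_rangeRestrict (by rw [Submodule.range_subtype, LinearMap.ker_rangeRestrict]) hgr hφ hφ0 hφc
  obtain ⟨ψ, hψ, hψ0, hψc⟩ := exists_chainMap C F I.subtype (fun _ _ h => h)
  obtain ⟨D, hrD, hdegD, hcdD⟩ := exists_cone (ℳ₁ := subGr ℛ I) (ℳ₂ := ℛ) (ℳ₃ := quotGrM ℛ I) C F ψ I.subtype I.mkQ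
    I.subtype_injective (Submodule.mkQ_surjective I) (by rw [Submodule.range_subtype, Submodule.ker_mkQ])
    (fun d x hx => ⟨x, hx, rfl⟩) hψ hψ0 hψc
  -- the composite to `F` has no constant part
  let F' : GrSyz.FreeRes (GrSyz.stdGr k (Fin (r + 1))) (shiftGr ℛ) :=
    { rk := F.rk
      deg := fun i b => F.deg i b + 1
      d := F.d
      aug := F.aug
      d_mem := fun i a b => by rw [add_sub_add_right_eq_sub]; exact F.d_mem i a b
      aug_mem := fun b => show F.aug b ∈ ℛ (F.deg 0 b + 1 - 1) by rw [add_sub_cancel_right]; exact F.aug_mem b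
      aug_surjective := F.aug_surjective
      exact_zero := F.exact_zero
      exact_succ := F.exact_succ }
  choose θ hθ hθ0 hθc using fun v : Fin (r + 1) =>
    exists_chainMap G F' (LinearMap.proj v : (Fin (r + 1) → R) →ₗ[MvPolynomial (Fin (r + 1)) k] R)
      (fun d w hw => (mem_vecGr ℛ).1 hw v)
  let χ : (i : ℕ) → (Fin (G.rk i) → MvPolynomial (Fin (r + 1)) k) →ₗ[MvPolynomial (Fin (r + 1)) k]
      (Fin (F.rk i) → MvPolynomial (Fin (r + 1)) k) :=
    fun i => ∑ v, (MvPolynomial.X v : MvPolynomial (Fin (r + 1)) k) • θ v i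
  have hχ : ∀ i, IsGr (G.deg i) (fr (F.deg i)) (χ i) := fun i d w hw => by
    simp only [χ, LinearMap.sum_apply, LinearMap.smul_apply]
    refine Submodule.sum_mem _ fun v _ => mem_fr.2 fun a => ?_
    have h1 : MvPolynomial.X v * θ v i w a ∈ GrSyz.stdGr k (Fin (r + 1)) (1 + (d - (F.deg i a + 1))) :=
      SetLike.mul_mem_graded (MvPolynomial.isWeightedHomogeneous_X k (fun _ => (1 : ℤ)) v) (mem_fr.1 (hθ v i d w hw) a)
    rwa [show 1 + (d - (F.deg i a + 1)) = d - F.deg i a by ring] at h1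
  have hχ0 : F.augLin.comp (χ 0) = (linMap k r R).comp G.augLin := by
    refine LinearMap.ext fun w => ?_
    simp only [χ, LinearMap.comp_apply, LinearMap.sum_apply, LinearMap.smul_apply, map_sum, map_smul, linMap_apply]
    exact Finset.sum_congr rfl fun v _ => congrArg _ (LinearMap.congr_fun (hθ0 v) w)
  have hχc : ∀ i, (F.dLin i).comp (χ (i + 1)) = (χ i).comp (G.dLin i) := fun i => by
    refine LinearMap.ext fun w => ?_
    simp only [χ, LinearMap.comp_apply, LinearMap.sum_apply, LinearMap.smul_apply, map_sum, map_smul]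
    exact Finset.sum_congr rfl fun v _ => congrArg _ (LinearMap.congr_fun (hθc v i) w)
  have hzero : cm ((ψ p).comp (ι p)) = 0 := by
    rw [cm_eq_of_same G F hG hF (fun i => (ψ i).comp (ι i)) χ (fun i d w hw => hψ i d _ (hι i d w hw)) hχ
      (by rw [← LinearMap.comp_assoc, hψ0, LinearMap.comp_assoc, hι0, hχ0, ← LinearMap.comp_assoc, LinearMap.subtype_comp_codRestrict])
      (fun i => by rw [← LinearMap.comp_assoc, hψc, LinearMap.comp_assoc, hιc, ← LinearMap.comp_assoc]) hχc p]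
    ext a b
    simp [χ, cm, LinearMap.sum_apply, map_sum, mem_mm_iff.1 (show (MvPolynomial.X _ : MvPolynomial (Fin (r + 1)) k) ∈ mm k _ from mem_mm_iff.2 (MvPolynomial.constantCoeff_X (R := k) _))]
  -- conclude
  refine Finset.card_eq_zero.2 (Finset.filter_eq_empty_iff.2 fun b _ hb => ?_)
  set y : Fin (D.rk p) := Fin.cast (congrFun hrD p).symm (Fin.castAdd _ b) with hy
  have hyd : D.deg p y = j := by
    rw [hdegD, hy, Fin.cast_cast, Fin.cast_eq_self, Fin.append_left, hb]
  have hcyc : IsCycle D p (D.deg p y) (Pi.single y 1) := by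
    refine isCycle_single D p y ?_
    rintro l rfl a
    rw [hcdD]
    have hb' : Fin.cast (congrFun hrD (l + 1)) (Fin.cast rfl y) = Fin.castAdd _ b := by rw [hy]; rfl
    rw [hb']
    refine Fin.addCases (fun a => ?_) (fun a => ?_) (Fin.cast (congrFun hrD l) a)
    · rw [cm_cone_ll, cd_eq_zero F hF]; rfl
    · exact cm_cone_rl C F ψ l a b
  rw [hyd] at hcyc
  obtain ⟨w, hw⟩ := boundary_of_betti_eq_zero D GQ p j hQb _ hcyc
  have h1 : (1 : k) = 0 := by
    refine Eq.trans ?_ ((congrFun hw y).symm.trans ((show (cd D p).mulVec w y = ∑ z, cd D p y z * w z from rfl).trans (Finset.sum_eq_zero fun z _ => ?_)))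
    · simp
    · have hyc : Fin.cast (congrFun hrD p) y = Fin.castAdd _ b := by rw [hy]; rfl
      refine mul_eq_zero_of_left ?_ _
      rw [hcdD, hyc]
      refine Fin.addCases (fun g => ?_) (fun c => ?_) (Fin.cast (congrFun hrD (p + 1)) z)
      · rw [cm_cone_ll, cd_eq_zero F hF]; rfl
      · refine (cm_cone_lr C F ψ p b c).trans ?_
        by_contra hne
        have hcj : C.deg p c = j := (deg_eq_of_cm (hψ p) hne).symm.trans hb
        rw [hdegC] at hcj
        revert hcj
        refine Fin.addCases (motive := fun x => Fin.cast (congrFun hrC p) c = x → Fin.append (G.deg p) (sdeg T p) x = j → False)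
          (fun g hg _ => ?_) (fun t _ hcj => ?_) (Fin.cast (congrFun hrC p) c) rfl
        · have := congrFun (congrFun hzero b) g
          rw [cm_comp, Matrix.mul_apply] at this
          refine hne (Eq.trans ?_ this)
          refine ((Finset.sum_eq_single c (fun x _ hx => ?_) (fun h => absurd (Finset.mem_univ c) h)).trans ?_).symm
          · exact mul_eq_zero_of_right _ ((hcmι p x g).trans (if_neg fun h => hx (Fin.cast_injective _ (h.trans hg.symm))))
          · exact (congrArg (_ * ·) ((hcmι p c g).trans (if_pos hg))).trans (mul_one _)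
        · rw [Fin.append_right] at hcj
          exact hT t hcj
  exact one_ne_zero h1

omit ℛ [DirectSum.Decomposition ℛ] [SetLike.GradedSMul (GrSyz.stdGr k (Fin (r + 1))) ℛ] in
theorem betti_eq_zero_of_gen : ∀ (p : ℕ) (R : Type u) [AddCommGroup R] [Module (MvPolynomial (Fin (r + 1)) k) R]
    [Module k R] [IsScalarTower k (MvPolynomial (Fin (r + 1)) k) R] [Module.Finite (MvPolynomial (Fin (r + 1)) k) R]
    (ℛ : ℤ → Submodule k R) [DirectSum.Decomposition ℛ] [SetLike.GradedSMul (GrSyz.stdGr k (Fin (r + 1))) ℛ] (j : ℤ),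
    (∀ i : ℕ, i ≤ p → ∀ m : (Fin i → Fin (r + 1)) → R,
      (∀ (s : Fin i) (c : Fin i → Fin (r + 1)),
        ∑ v : Fin (r + 1), (MvPolynomial.X v : MvPolynomial (Fin (r + 1)) k) • m (Function.update c s v) = 0) →
      m ∈ Submodule.span (MvPolynomial (Fin (r + 1)) k) {m' : (Fin i → Fin (r + 1)) → R |
        (∀ (s : Fin i) (c : Fin i → Fin (r + 1)),
          ∑ v : Fin (r + 1), (MvPolynomial.X v : MvPolynomial (Fin (r + 1)) k) • m' (Function.update c s v) = 0) ∧
        ∃ e : ℤ, e ≤ j - (p : ℤ) + (i : ℤ) - 1 ∧ ∀ c : Fin i → Fin (r + 1), m' c ∈ ℛ (e - (i : ℤ))}) →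
    ∀ F : GrSyz.FreeRes (GrSyz.stdGr k (Fin (r + 1))) ℛ, F.IsMinimal (mm k (Fin (r + 1))) → F.betti p j = 0 := by
  have hQ : ∀ (p : ℕ) (R : Type u) [AddCommGroup R] [Module (MvPolynomial (Fin (r + 1)) k) R]
      [Module k R] [IsScalarTower k (MvPolynomial (Fin (r + 1)) k) R]
      (ℛ : ℤ → Submodule k R) [DirectSum.Decomposition ℛ] [SetLike.GradedSMul (GrSyz.stdGr k (Fin (r + 1))) ℛ] (j : ℤ),
      (∀ m : (Fin 0 → Fin (r + 1)) → R,
        (∀ (s : Fin 0) (c : Fin 0 → Fin (r + 1)),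
          ∑ v : Fin (r + 1), (MvPolynomial.X v : MvPolynomial (Fin (r + 1)) k) • m (Function.update c s v) = 0) →
        m ∈ Submodule.span (MvPolynomial (Fin (r + 1)) k) {m' : (Fin 0 → Fin (r + 1)) → R |
          (∀ (s : Fin 0) (c : Fin 0 → Fin (r + 1)),
            ∑ v : Fin (r + 1), (MvPolynomial.X v : MvPolynomial (Fin (r + 1)) k) • m' (Function.update c s v) = 0) ∧
          ∃ e : ℤ, e ≤ j - (p : ℤ) + ((0 : ℕ) : ℤ) - 1 ∧ ∀ c : Fin 0 → Fin (r + 1), m' c ∈ ℛ (e - ((0 : ℕ) : ℤ))}) →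
      ∀ d, j - p - 1 < d → ∀ x ∈ ℛ d, x ∈ LinearMap.range (linMap k r R) := by
    intro p R _ _ _ _ ℛ _ _ j hgen d hd x hx
    have key : ∀ m ∈ Submodule.span (MvPolynomial (Fin (r + 1)) k) {m' : (Fin 0 → Fin (r + 1)) → R |
          (∀ (s : Fin 0) (c : Fin 0 → Fin (r + 1)),
            ∑ v : Fin (r + 1), (MvPolynomial.X v : MvPolynomial (Fin (r + 1)) k) • m' (Function.update c s v) = 0) ∧
          ∃ e : ℤ, e ≤ j - (p : ℤ) + ((0 : ℕ) : ℤ) - 1 ∧ ∀ c : Fin 0 → Fin (r + 1), m' c ∈ ℛ (e - ((0 : ℕ) : ℤ))},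
        prj ℛ d (m Fin.elim0) ∈ LinearMap.range (linMap k r R) := by
      intro m hm
      induction hm using Submodule.span_induction with
      | mem y hy =>
        obtain ⟨-, e, he, hy⟩ := hy
        rw [prj_ne ℛ (hy Fin.elim0) (by omega)]
        exact zero_mem _
      | zero => rw [Pi.zero_apply, map_zero]; exact zero_mem _
      | add a b _ _ ha hb => rw [Pi.add_apply, map_add]; exact add_mem ha hb
      | smul c y _ hy =>
        have hsplit : c • y Fin.elim0 = (c - algebraMap k (MvPolynomial (Fin (r + 1)) k) (MvPolynomial.constantCoeff c)) • y Fin.elim0 +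
            MvPolynomial.constantCoeff c • y Fin.elim0 := by
          rw [sub_smul, IsScalarTower.algebraMap_smul, sub_add_cancel]
        rw [Pi.smul_apply, hsplit, map_add]
        refine add_mem (range_linMap_isHom (r := r) ℛ d _ (mm_smul_mem_range (mem_mm_iff.2 (by simp [MvPolynomial.algebraMap_eq])) _)) ?_
        rw [map_smul]
        exact Submodule.smul_of_tower_mem _ _ hy
    have := key (fun _ => x) (hgen _ fun s => s.elim0)
    rwa [prj_same ℛ hx] at this
  intro p
  induction p with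
  | zero =>
    intro R _ _ _ _ _ ℛ _ _ j hgen F hF
    letI := vecDec (r := r) ℛ
    haveI := vecGr_smul (r := r) ℛ
    letI := subDec (vecGr ℛ) (ker_linMap_isHom (r := r) ℛ)
    obtain ⟨T, -⟩ := exists_minimal_res (σ := Fin (r + 1)) (subGr (vecGr ℛ) (LinearMap.ker (linMap k r R)))
    exact betti_eq_zero_step ℛ 0 j (hQ 0 R ℛ j (hgen 0 le_rfl)) ⟨T, fun t => t.elim0⟩ F hF
  | succ p ih =>
    intro R _ _ _ _ _ ℛ _ _ j hgen F hF
    letI := vecDec (r := r) ℛ
    haveI := vecGr_smul (r := r) ℛ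
    letI := subDec (vecGr ℛ) (ker_linMap_isHom (r := r) ℛ)
    obtain ⟨T, hT⟩ := exists_minimal_res (σ := Fin (r + 1)) (subGr (vecGr ℛ) (LinearMap.ker (linMap k r R)))
    refine betti_eq_zero_step ℛ (p + 1) j (hQ (p + 1) R ℛ j (hgen 0 (Nat.zero_le _))) ⟨T, fun t ht => ?_⟩ F hF
    have hb := ih _ (subGr (vecGr ℛ) (LinearMap.ker (linMap k r R))) j (fun i hi m hm => ?_) T hT
    · exact Finset.filter_eq_empty_iff.1 (Finset.card_eq_zero.1 hb) (Finset.mem_univ t) ht
    -- the generation hypothesis for the syzygy module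
    let J : ((Fin i → Fin (r + 1)) → ↥(LinearMap.ker (linMap k r R))) →ₗ[MvPolynomial (Fin (r + 1)) k]
        ((Fin i → Fin (r + 1)) → Fin (r + 1) → R) := LinearMap.compLeft (LinearMap.ker (linMap k r R)).subtype _
    have hJ : Function.Injective J := fun a b hab => funext fun c => Subtype.ext (congrFun hab c)
    let L : ((Fin (i + 1) → Fin (r + 1)) → R) →ₗ[MvPolynomial (Fin (r + 1)) k]
        ((Fin i → Fin (r + 1)) → Fin (r + 1) → R) :=
      LinearMap.pi fun c => LinearMap.pi fun v => LinearMap.proj (Fin.cons v c : Fin (i + 1) → Fin (r + 1))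
    let m' : (Fin (i + 1) → Fin (r + 1)) → R := fun c => (m (Fin.tail c)).1 (c 0)
    have hJm : J m = L m' := funext fun c => funext fun v => by simp [J, L, m', LinearMap.compLeft]
    have hm' := hgen (i + 1) (by omega) m' (fun s => by
      refine Fin.cases (fun c => ?_) (fun s c => ?_) s
      · have := (m (Fin.tail c)).2
        rw [LinearMap.mem_ker, linMap_apply] at this
        simpa [m', Fin.tail_update_zero] using this
      · have := congrArg (fun z : ↥(LinearMap.ker (linMap k r R)) => z.1 (c 0)) (hm s (Fin.tail c))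
        simpa [m', Fin.tail_update_succ, Function.update_of_ne (Fin.succ_ne_zero s).symm, Submodule.coe_sum] using this)
    refine (Submodule.apply_mem_span_image_iff_mem_span hJ).1 ?_
    rw [hJm]
    refine Submodule.span_le.2 ?_ ((Submodule.apply_mem_span_image_of_mem_span L hm'))
    rintro _ ⟨y, ⟨hy1, e, he, hy2⟩, rfl⟩
    refine Submodule.subset_span ⟨fun c => ⟨L y c, ?_⟩, ⟨fun s c => ?_, e, by push_cast at he; omega, fun c => ?_⟩, rfl⟩
    · rw [LinearMap.mem_ker, linMap_apply]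
      have := hy1 0 (Fin.cons (0 : Fin (r + 1)) c)
      simpa [L, Fin.update_cons_zero] using this
    · refine Subtype.ext (funext fun v => ?_)
      have := hy1 s.succ (Fin.cons v c)
      simpa [L, Fin.cons_update, Submodule.coe_sum] using this
    · rw [mem_subGr, mem_vecGr]
      intro v
      have := hy2 (Fin.cons v c)
      push_cast at this
      rw [show e - (i : ℤ) - 1 = e - (↑i + 1) by ring]
      simpa [L] using this

end Groth.L12.GrSyzLib
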