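import Groth.Prelude.Def_GrLC
import Groth.Agent.L01.Regular
import Groth.Agent.L06.RegularRing
import Groth.Agent.L06.FormSmoothField2
import Mathlib.RingTheory.RegularLocalRing.Polynomial
import Mathlib.RingTheory.AdjoinRoot
import Mathlib.Algebra.Polynomial.Laurent
import Mathlib.RingTheory.DualNumber
import Mathlib.Tactic

/-! Graded rings with a unit of positive degree: dehomogenisation and Laurent extensions. -/

set_option autoImplicit false
set_option backward.isDefEq.respectTransparency false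
set_option backward.isDefEq.respectTransparency.types false

universe u v

open IsLocalRing DirectSum

noncomputable section

namespace Groth.L12.GrTwist

variable {R : Type u} [CommRing R] (𝒜 : ℤ → AddSubgroup R) [GradedRing 𝒜]

/-- A ring map out of a graded ring given on the pieces. -/
def homMk {T : Type v} [CommRing T] (f : ∀ i, 𝒜 i →+ T) (h1 : f 0 ⟨1, SetLike.one_mem_graded 𝒜⟩ = 1)
    (hmul : ∀ {i j : ℤ} (a : 𝒜 i) (b : 𝒜 j),
      f (i + j) ⟨a * b, SetLike.mul_mem_graded a.2 b.2⟩ = f i a * f j b) : R →+* T :=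
  (DirectSum.toSemiring f h1 (fun a b => hmul a b)).comp (decomposeRingEquiv 𝒜).toRingHom

theorem homMk_apply {T : Type v} [CommRing T] (f : ∀ i, 𝒜 i →+ T) (h1) (hmul) {i : ℤ} (a : R) (ha : a ∈ 𝒜 i) :
    homMk 𝒜 f h1 hmul a = f i ⟨a, ha⟩ := by
  show DirectSum.toSemiring f h1 (fun a b => hmul a b) (decompose 𝒜 a) = _
  rw [decompose_of_mem 𝒜 ha, DirectSum.toSemiring_of]

theorem ringHom_ext {T : Type v} [CommRing T] {F G : R →+* T} (h : ∀ (i : ℤ), ∀ a ∈ 𝒜 i, F a = G a) : F = G := by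
  refine RingHom.ext fun r => ?_
  induction r using DirectSum.Decomposition.inductionOn 𝒜 with
  | zero => rw [map_zero, map_zero]
  | homogeneous m => exact h _ _ m.2
  | add a b ha hb => rw [map_add, map_add, ha, hb]

variable {N : ℕ} {t : R} (ht : t ∈ 𝒜 (N : ℤ)) (htu : IsUnit t)
include ht htu

theorem zpow_mem (q : ℤ) : ((htu.unit ^ q : Rˣ) : R) ∈ 𝒜 ((N : ℤ) * q) := by
  have hpos : ∀ n : ℕ, t ^ n ∈ 𝒜 ((N : ℤ) * n) := fun n => by
    have := SetLike.pow_mem_graded n ht
    rwa [nsmul_eq_mul, mul_comm] at this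
  have hinv : ((htu.unit⁻¹ : Rˣ) : R) ∈ 𝒜 (-(N : ℤ)) := by
    have h := coe_decompose_mul_add_of_left_mem 𝒜 (b := ((htu.unit⁻¹ : Rˣ) : R)) (j := -(N : ℤ)) ht
    rw [IsUnit.mul_val_inv, add_neg_cancel] at h
    have h1 : (decompose 𝒜 (1 : R) 0 : R) = 1 := DirectSum.decompose_of_mem_same 𝒜 (SetLike.one_mem_graded 𝒜)
    rw [h1] at h
    have h2 : ((htu.unit⁻¹ : Rˣ) : R) = (decompose 𝒜 ((htu.unit⁻¹ : Rˣ) : R) (-(N : ℤ)) : R) := by
      conv_lhs => rw [← mul_one ((htu.unit⁻¹ : Rˣ) : R), h]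
      rw [← mul_assoc, IsUnit.val_inv_mul, one_mul]
    rw [h2]
    exact SetLike.coe_mem _
  rcases q with n | n
  · rw [Int.ofNat_eq_natCast, zpow_natCast, Units.val_pow_eq_pow_val]
    exact hpos n
  · rw [zpow_negSucc, ← inv_pow, Units.val_pow_eq_pow_val]
    have := SetLike.pow_mem_graded (n + 1) hinv
    rw [nsmul_eq_mul] at this
    convert this using 2
    rw [Int.negSucc_eq]
    push_cast
    ring

variable [IsLocalRing (GrLC.deg0 𝒜)]

/-- Degree zero element attached to an element of degree divisible by `N`. -/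
def toZero {i : ℤ} (hi : (N : ℤ) ∣ i) (a : 𝒜 i) : GrLC.deg0 𝒜 :=
  ⟨(a : R) * ((htu.unit ^ (-(i / (N : ℤ))) : Rˣ) : R), by
    have h := SetLike.mul_mem_graded a.2 (zpow_mem 𝒜 ht htu (-(i / (N : ℤ))))
    rwa [mul_neg, Int.mul_ediv_cancel' hi, add_neg_cancel] at h⟩

/-- Residue class of a homogeneous element. -/
def res (i : ℤ) : 𝒜 i →+ ResidueField (GrLC.deg0 𝒜) :=
  if hi : (N : ℤ) ∣ i then
    { toFun := fun a => residue _ (toZero 𝒜 ht htu hi a)
      map_zero' := by
        rw [show toZero 𝒜 ht htu hi (0 : 𝒜 i) = 0 from Subtype.ext (zero_mul _), map_zero]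
      map_add' := fun a b => by
        rw [← map_add]; congr 1; exact Subtype.ext (add_mul _ _ _) }
  else 0

theorem res_of_dvd {i : ℤ} (hi : (N : ℤ) ∣ i) (a : 𝒜 i) :
    res 𝒜 ht htu i a = residue _ (toZero 𝒜 ht htu hi a) := by
  rw [res, dif_pos hi]; rfl

theorem res_of_not_dvd {i : ℤ} (hi : ¬ (N : ℤ) ∣ i) (a : 𝒜 i) : res 𝒜 ht htu i a = 0 := by
  rw [res, dif_neg hi]; rfl

variable (hN : 0 < N)
  (hm : ∀ (i j : ℤ), 0 < i → 0 < j → i + j = (N : ℤ) → ∀ a ∈ 𝒜 i, ∀ b ∈ 𝒜 j,
      ∃ c : GrLC.deg0 𝒜, c ∈ IsLocalRing.maximalIdeal (GrLC.deg0 𝒜) ∧ a * b = (c : R) * t)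
include hN hm

theorem res_mul {i j : ℤ} (a : 𝒜 i) (b : 𝒜 j) :
    res 𝒜 ht htu (i + j) ⟨a * b, SetLike.mul_mem_graded a.2 b.2⟩ = res 𝒜 ht htu i a * res 𝒜 ht htu j b := by
  by_cases hi : (N : ℤ) ∣ i
  · by_cases hj : (N : ℤ) ∣ j
    · rw [res_of_dvd 𝒜 ht htu (dvd_add hi hj), res_of_dvd 𝒜 ht htu hi, res_of_dvd 𝒜 ht htu hj, ← map_mul]
      congr 1
      refine Subtype.ext ?_
      show (a : R) * b * _ = ((a : R) * _) * ((b : R) * _)
      rw [Int.add_ediv_of_dvd_left hi, neg_add, zpow_add, Units.val_mul]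
      ring
    · rw [res_of_not_dvd 𝒜 ht htu (fun h => hj ((dvd_add_right hi).mp h)), res_of_not_dvd 𝒜 ht htu hj, mul_zero]
  · rw [res_of_not_dvd 𝒜 ht htu hi, zero_mul]
    by_cases hij : (N : ℤ) ∣ i + j
    · have hNne : (N : ℤ) ≠ 0 := by exact_mod_cast hN.ne'
      have hpos : 0 < i % (N : ℤ) :=
        lt_of_le_of_ne (Int.emod_nonneg i hNne) fun h => hi (Int.dvd_of_emod_eq_zero h.symm)
      have hlt : i % (N : ℤ) < N := Int.emod_lt_of_pos i (by exact_mod_cast hN)
      have ei : i + (N : ℤ) * (-(i / (N : ℤ))) = i % (N : ℤ) := by rw [Int.emod_def]; ring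
      obtain ⟨Q, hQ⟩ := hij
      have ha' := SetLike.mul_mem_graded a.2 (zpow_mem 𝒜 ht htu (-(i / (N : ℤ))))
      rw [ei] at ha'
      have hb' := SetLike.mul_mem_graded b.2 (zpow_mem 𝒜 ht htu (-(Q - 1 - i / (N : ℤ))))
      obtain ⟨c, hc, he⟩ := hm _ (j + (N : ℤ) * -(Q - 1 - i / (N : ℤ))) hpos (by rw [Int.emod_def] at hlt; linarith)
        (by rw [Int.emod_def]; linarith) _ ha' _ hb'
      rw [res_of_dvd 𝒜 ht htu (Dvd.intro Q hQ.symm), residue_eq_zero_iff]
      suffices h : toZero 𝒜 ht htu (Dvd.intro Q hQ.symm) ⟨a * b, SetLike.mul_mem_graded a.2 b.2⟩ = c by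
        rw [h]; exact hc
      refine Subtype.ext ?_
      show (a : R) * b * _ = (c : R)
      have hQ' : (i + j) / (N : ℤ) = Q := by rw [hQ, Int.mul_ediv_cancel_left Q hNne]
      rw [hQ']
      have h2 := congrArg (· * ((htu.unit⁻¹ : Rˣ) : R)) he
      simp only [mul_assoc] at h2
      rw [IsUnit.mul_val_inv, mul_one] at h2
      rw [← h2]
      have e : (htu.unit ^ (-Q) : Rˣ) = htu.unit ^ (-(i / (N : ℤ))) * (htu.unit ^ (-(Q - 1 - i / (N : ℤ))) * htu.unit⁻¹) := by
        rw [← zpow_neg_one, ← zpow_add, ← zpow_add]; congr 1; ring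
      rw [e, Units.val_mul, Units.val_mul]
      ring
    · rw [res_of_not_dvd 𝒜 ht htu hij]

/-- First order expansion along the unit, on one piece. -/
def expandAt (i : ℤ) : 𝒜 i →+ DualNumber (ResidueField (GrLC.deg0 𝒜)) :=
  AddMonoidHom.mk' (fun a => TrivSqZeroExt.inl (res 𝒜 ht htu i a) +
      TrivSqZeroExt.inr (((i / (N : ℤ) : ℤ) : ResidueField (GrLC.deg0 𝒜)) * res 𝒜 ht htu i a))
    (fun a b => by ext <;> simp [mul_add])

omit hN hm in
theorem expandAt_apply (i : ℤ) (a : 𝒜 i) : expandAt 𝒜 ht htu i a = TrivSqZeroExt.inl (res 𝒜 ht htu i a) +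
      TrivSqZeroExt.inr (((i / (N : ℤ) : ℤ) : ResidueField (GrLC.deg0 𝒜)) * res 𝒜 ht htu i a) := rfl

/-- First order expansion along the unit. -/
def expand : R →+* DualNumber (ResidueField (GrLC.deg0 𝒜)) :=
  homMk 𝒜 (expandAt 𝒜 ht htu)
    (by
      rw [expandAt_apply]
      have : toZero 𝒜 ht htu (dvd_zero _) ⟨1, SetLike.one_mem_graded 𝒜⟩ = 1 := Subtype.ext (by
        show (1 : R) * _ = 1
        simp)
      rw [res_of_dvd 𝒜 ht htu (dvd_zero _), this, map_one]
      ext <;> simp)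
    (fun {i j} a b => by
      rw [expandAt_apply, expandAt_apply, expandAt_apply, res_mul 𝒜 ht htu hN hm a b]
      refine TrivSqZeroExt.ext (by simp) ?_
      simp only [TrivSqZeroExt.snd_add, TrivSqZeroExt.snd_inl, TrivSqZeroExt.snd_inr, zero_add,
        TrivSqZeroExt.snd_mul, TrivSqZeroExt.fst_add, TrivSqZeroExt.fst_inl, TrivSqZeroExt.fst_inr, add_zero,
        smul_eq_mul, MulOpposite.smul_eq_mul_unop, MulOpposite.unop_op]
      by_cases hi : (N : ℤ) ∣ i
      · rw [Int.add_ediv_of_dvd_left hi, Int.cast_add]; ring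
      · rw [res_of_not_dvd 𝒜 ht htu hi]; ring)

theorem expand_coe (c : GrLC.deg0 𝒜) :
    expand 𝒜 ht htu hN hm (c : R) = TrivSqZeroExt.inl (residue _ c) := by
  rw [expand, homMk_apply 𝒜 _ _ _ (i := 0) _ c.2]
  rw [expandAt_apply]
  have : toZero 𝒜 ht htu (dvd_zero _) ⟨(c : R), c.2⟩ = c := Subtype.ext (by
    show (c : R) * _ = c
    simp)
  rw [res_of_dvd 𝒜 ht htu (dvd_zero _), this]
  ext <;> simp

theorem expand_t : expand 𝒜 ht htu hN hm t = 1 + DualNumber.eps := by
  rw [expand, homMk_apply 𝒜 _ _ _ (i := (N : ℤ)) _ ht]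
  rw [expandAt_apply]
  have hNne : (N : ℤ) ≠ 0 := by exact_mod_cast hN.ne'
  have : toZero 𝒜 ht htu (dvd_refl _) ⟨t, ht⟩ = 1 := Subtype.ext (by
    show t * _ = 1
    rw [Int.ediv_self hNne, zpow_neg_one]
    exact htu.mul_val_inv)
  rw [res_of_dvd 𝒜 ht htu (dvd_refl _), this, map_one, Int.ediv_self hNne]
  ext <;> simp

/-- The maximal ideal over `m` on the hypersurface `t = 1`. -/
def special : Ideal R := RingHom.ker ((TrivSqZeroExt.fstHom (ResidueField (GrLC.deg0 𝒜))
  (ResidueField (GrLC.deg0 𝒜)) (ResidueField (GrLC.deg0 𝒜))).toRingHom.comp (expand 𝒜 ht htu hN hm))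

theorem mem_special {r : R} : r ∈ special 𝒜 ht htu hN hm ↔ TrivSqZeroExt.fst (expand 𝒜 ht htu hN hm r) = 0 :=
  Iff.rfl

theorem special_isMaximal : (special 𝒜 ht htu hN hm).IsMaximal := by
  refine RingHom.ker_isMaximal_of_surjective _ fun z => ?_
  obtain ⟨c, rfl⟩ := residue_surjective z
  refine ⟨(c : R), ?_⟩
  show TrivSqZeroExt.fst (expand 𝒜 ht htu hN hm (c : R)) = _
  rw [expand_coe, TrivSqZeroExt.fst_inl]

theorem t_sub_one_mem_special : t - 1 ∈ special 𝒜 ht htu hN hm := by
  rw [mem_special, map_sub, map_one, expand_t]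
  simp

theorem eq_special {P : Ideal R} (hP : P.IsMaximal) (h1 : t - 1 ∈ P) : P = special 𝒜 ht htu hN hm := by
  have hu : ∀ (q : ℤ), Ideal.Quotient.mk P ((htu.unit ^ q : Rˣ) : R) = 1 := by
    have e : Units.map (Ideal.Quotient.mk P).toMonoidHom htu.unit = 1 := Units.ext (by
      show Ideal.Quotient.mk P t = 1
      rw [← map_one (Ideal.Quotient.mk P), Ideal.Quotient.eq]; exact h1)
    intro q
    have := congrArg Units.val (map_zpow (Units.map (Ideal.Quotient.mk P).toMonoidHom) htu.unit q)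
    rw [e, one_zpow] at this
    exact this
  let ι0 : GrLC.deg0 𝒜 →+* R ⧸ P := (Ideal.Quotient.mk P).comp (GrLC.deg0 𝒜).subtype
  have hmap : ∀ (i : ℤ), ∀ a ∈ 𝒜 i, ∃ c : GrLC.deg0 𝒜, Ideal.Quotient.mk P a ^ N = ι0 c := by
    intro i a ha
    have hmem := SetLike.mul_mem_graded (SetLike.pow_mem_graded N ha) (zpow_mem 𝒜 ht htu (-i))
    rw [nsmul_eq_mul, mul_neg, add_neg_cancel] at hmem
    refine ⟨⟨_, hmem⟩, ?_⟩
    show _ = Ideal.Quotient.mk P (a ^ N * _)
    rw [map_mul, hu, mul_one, map_pow]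
  have hint : ι0.IsIntegral := by
    intro z
    obtain ⟨r, rfl⟩ := Ideal.Quotient.mk_surjective z
    induction r using DirectSum.Decomposition.inductionOn 𝒜 with
    | zero => rw [map_zero]; exact ι0.isIntegralElem_zero
    | @homogeneous i a =>
      obtain ⟨c, hc⟩ := hmap i a a.2
      refine ⟨Polynomial.X ^ N - Polynomial.C c, Polynomial.monic_X_pow_sub_C c hN.ne', ?_⟩
      simp [hc]
    | add a b ha hb => rw [map_add]; exact RingHom.IsIntegralElem.add ι0 ha hb
  haveI := hP
  have hker : RingHom.ker ι0 = maximalIdeal _ := by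
    letI := ι0.toAlgebra
    haveI : Algebra.IsIntegral (GrLC.deg0 𝒜) (R ⧸ P) := ⟨hint⟩
    letI := Ideal.Quotient.field P
    exact IsLocalRing.eq_maximalIdeal (Ideal.isMaximal_comap_of_isIntegral_of_isMaximal (R := GrLC.deg0 𝒜) (⊥ : Ideal (R ⧸ P)))
  have hmP : ∀ c ∈ maximalIdeal (GrLC.deg0 𝒜), (c : R) ∈ P := fun c hc => by
    rw [← hker] at hc
    exact Ideal.Quotient.eq_zero_iff_mem.mp hc
  have key : ∀ r : R, ∃ c : GrLC.deg0 𝒜, r - (c : R) ∈ P ∧
      TrivSqZeroExt.fst (expand 𝒜 ht htu hN hm r) = residue _ c := by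
    intro r
    induction r using DirectSum.Decomposition.inductionOn 𝒜 with
    | zero => exact ⟨0, by simp, by simp⟩
    | add a b ha hb =>
      obtain ⟨c, hc, hc'⟩ := ha
      obtain ⟨d, hd, hd'⟩ := hb
      refine ⟨c + d, ?_, by rw [map_add, map_add, TrivSqZeroExt.fst_add, hc', hd']⟩
      push_cast
      rw [add_sub_add_comm]
      exact add_mem hc hd
    | @homogeneous i a =>
      have hfst : TrivSqZeroExt.fst (expand 𝒜 ht htu hN hm (a : R)) = res 𝒜 ht htu i a := by
        rw [expand, homMk_apply 𝒜 _ _ _ (i := i) _ a.2]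
        rw [expandAt_apply]
        simp
      by_cases hi : (N : ℤ) ∣ i
      · refine ⟨toZero 𝒜 ht htu hi a, ?_, by rw [hfst, res_of_dvd 𝒜 ht htu hi]⟩
        rw [← Ideal.Quotient.eq_zero_iff_mem, map_sub]
        show _ - Ideal.Quotient.mk P ((a : R) * _) = 0
        rw [map_mul, hu, mul_one, sub_self]
      · refine ⟨0, ?_, by rw [hfst, res_of_not_dvd 𝒜 ht htu hi, map_zero]⟩
        rw [ZeroMemClass.coe_zero, sub_zero]
        have hNne : (N : ℤ) ≠ 0 := by exact_mod_cast hN.ne'
        have hpos : 0 < i % (N : ℤ) :=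
          lt_of_le_of_ne (Int.emod_nonneg i hNne) fun h => hi (Int.dvd_of_emod_eq_zero h.symm)
        have hlt : i % (N : ℤ) < N := Int.emod_lt_of_pos i (by exact_mod_cast hN)
        have ha' := SetLike.mul_mem_graded a.2 (zpow_mem 𝒜 ht htu (-(i / (N : ℤ))))
        rw [show i + (N : ℤ) * (-(i / (N : ℤ))) = i % (N : ℤ) by rw [Int.emod_def]; ring] at ha'
        have hb' := SetLike.mul_mem_graded (SetLike.pow_mem_graded (N - 1) ha')
          (zpow_mem 𝒜 ht htu (-(i % (N : ℤ) - 1)))
        rw [nsmul_eq_mul] at hb'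
        obtain ⟨c, hc, he⟩ := hm _ _ hpos (show 0 < (N : ℤ) - i % (N : ℤ) by omega) (by ring) _ ha' _
          (by
            convert hb' using 2
            rw [Nat.cast_sub hN]
            push_cast
            ring)
        have h3 : Ideal.Quotient.mk P (((a : R) * ((htu.unit ^ (-(i / (N : ℤ))) : Rˣ) : R)) ^ N) = 0 := by
          have h4 := congrArg (Ideal.Quotient.mk P) he
          rw [map_mul, map_mul, map_mul, hu (-(i % (N : ℤ) - 1)), mul_one, map_mul,
            Ideal.Quotient.eq_zero_iff_mem.mpr (hmP c hc), zero_mul] at h4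
          rw [← mul_pow_sub_one hN.ne', map_mul, map_mul]
          exact h4
        rw [map_pow, map_mul, hu, mul_one] at h3
        exact Ideal.Quotient.eq_zero_iff_mem.mp (IsNilpotent.eq_zero ⟨N, h3⟩)
  refine (hP.eq_of_le (special_isMaximal 𝒜 ht htu hN hm).ne_top fun r hr => ?_)
  obtain ⟨c, hc, hc'⟩ := key r
  rw [mem_special, hc']
  have : (c : R) ∈ P := by
    have := sub_mem hr hc
    rwa [sub_sub_cancel] at this
  rw [residue_eq_zero_iff, ← hker]
  exact Ideal.Quotient.eq_zero_iff_mem.mpr this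

/-- The hypersurface `t = 1` is a regular local ring. -/
theorem isRegularLocalRing_quot [IsNoetherianRing R]
    (hreg : ∀ (p : Ideal R) [p.IsPrime], IsRegularLocalRing (Localization.AtPrime p)) :
    IsRegularLocalRing (R ⧸ Ideal.span {t - 1}) := by
  let n := special 𝒜 ht htu hN hm
  haveI hnmax : n.IsMaximal := special_isMaximal 𝒜 ht htu hN hm
  let L := Localization.AtPrime n
  haveI := hreg n
  have hmem : algebraMap R L (t - 1) ∈ maximalIdeal L :=
    (IsLocalization.AtPrime.to_map_mem_maximal_iff L n (t - 1)).mpr (t_sub_one_mem_special 𝒜 ht htu hN hm)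
  have hunit : ∀ y : n.primeCompl, IsUnit (expand 𝒜 ht htu hN hm y) := fun y => by
    rw [TrivSqZeroExt.isUnit_iff_isUnit_fst]
    exact isUnit_iff_ne_zero.mpr fun h => y.2 ((mem_special 𝒜 ht htu hN hm).mpr h)
  let E : L →+* DualNumber (ResidueField (GrLC.deg0 𝒜)) := IsLocalization.lift hunit
  have hsq : algebraMap R L (t - 1) ∉ maximalIdeal L ^ 2 := fun h => by
    have hle : maximalIdeal L ≤ (Ideal.span {(DualNumber.eps : DualNumber (ResidueField (GrLC.deg0 𝒜)))}).comap E := by
      rw [← Localization.AtPrime.map_eq_maximalIdeal, Ideal.map_le_iff_le_comap]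
      intro r hr
      rw [Ideal.mem_comap, Ideal.mem_comap, IsLocalization.lift_eq, Ideal.mem_span_singleton']
      refine ⟨TrivSqZeroExt.inl (TrivSqZeroExt.snd (expand 𝒜 ht htu hN hm r)), ?_⟩
      refine TrivSqZeroExt.ext ?_ ?_
      · rw [(mem_special 𝒜 ht htu hN hm).mp hr]; simp
      · simp
    have h2 := (Ideal.pow_right_mono hle 2).trans (Ideal.le_comap_pow E 2) h
    rw [Ideal.span_singleton_pow, pow_two, DualNumber.eps_mul_eps, Ideal.span_singleton_eq_bot.mpr rfl,
      Ideal.mem_comap, Ideal.mem_bot, IsLocalization.lift_eq, map_sub, map_one, expand_t, add_sub_cancel_left] at h2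
    have := congrArg TrivSqZeroExt.snd h2
    simp at this
  haveI hL := (Groth.L01.regular_quotient_of_notMem_sq hmem hsq).1
  let C := R ⧸ Ideal.span {t - 1}
  have hu2 : ∀ y : n.primeCompl, IsUnit (Ideal.Quotient.mk (Ideal.span {t - 1}) (y : R)) := fun y => by
    by_contra hnu
    obtain ⟨M, hM, hyM⟩ := exists_max_ideal_of_mem_nonunits hnu
    have hP : M.comap (Ideal.Quotient.mk (Ideal.span {t - 1})) = n := by
      haveI := hM
      refine eq_special 𝒜 ht htu hN hm (Ideal.comap_isMaximal_of_surjective _ Ideal.Quotient.mk_surjective) ?_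
      rw [Ideal.mem_comap, Ideal.Quotient.eq_zero_iff_mem.mpr (Ideal.mem_span_singleton_self _)]
      exact M.zero_mem
    exact y.2 (hP.le hyM)
  let g : L →+* C := IsLocalization.lift hu2
  have hgs : Function.Surjective g := fun z => by
    obtain ⟨r, rfl⟩ := Ideal.Quotient.mk_surjective z
    exact ⟨algebraMap R L r, IsLocalization.lift_eq _ _⟩
  have hker : RingHom.ker g = Ideal.span {algebraMap R L (t - 1)} := by
    refine le_antisymm (fun x hx => ?_) ?_
    · obtain ⟨⟨r, s⟩, hrs⟩ := IsLocalization.surj n.primeCompl x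
      have hr : r ∈ Ideal.span {t - 1} := by
        have h := congrArg g hrs
        rw [map_mul, RingHom.mem_ker.mp hx, zero_mul, IsLocalization.lift_eq] at h
        exact Ideal.Quotient.eq_zero_iff_mem.mp h.symm
      have h2 := Ideal.mem_map_of_mem (algebraMap R L) hr
      rw [Ideal.map_span, Set.image_singleton, ← hrs] at h2
      exact (Ideal.mul_unit_mem_iff_mem _ (IsLocalization.map_units L s)).mp h2
    · rw [Ideal.span_le, Set.singleton_subset_iff]
      show g _ = 0
      rw [IsLocalization.lift_eq]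
      exact Ideal.Quotient.eq_zero_iff_mem.mpr (Ideal.mem_span_singleton_self _)
  exact IsRegularLocalRing.of_ringEquiv
    ((Ideal.quotEquivOfEq hker.symm).trans (RingHom.quotientKerEquivOfSurjective hgs))

omit [IsLocalRing (GrLC.deg0 𝒜)] hm in
theorem root_isUnit : IsUnit (AdjoinRoot.root (Polynomial.X ^ N - Polynomial.C t)) := by
  have h := AdjoinRoot.eval₂_root (Polynomial.X ^ N - Polynomial.C t)
  simp only [Polynomial.eval₂_sub, Polynomial.eval₂_pow, Polynomial.eval₂_X, Polynomial.eval₂_C, sub_eq_zero] at h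
  exact (isUnit_pow_iff hN.ne').mp (h ▸ htu.map _)

omit [IsLocalRing (GrLC.deg0 𝒜)] hm in
/-- The `N`-th root extension is Laurent over the hypersurface `t = 1`. -/
theorem nonempty_laurentEquiv :
    Nonempty (LaurentPolynomial (R ⧸ Ideal.span {t - 1}) ≃+* AdjoinRoot (Polynomial.X ^ N - Polynomial.C t)) := by
  let C := R ⧸ Ideal.span {t - 1}
  let S := AdjoinRoot (Polynomial.X ^ N - Polynomial.C t)
  let mk : R →+* C := Ideal.Quotient.mk _
  have hroot : (AdjoinRoot.root (Polynomial.X ^ N - Polynomial.C t)) ^ N = AdjoinRoot.of _ t := by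
    have h := AdjoinRoot.eval₂_root (Polynomial.X ^ N - Polynomial.C t)
    simpa only [Polynomial.eval₂_sub, Polynomial.eval₂_pow, Polynomial.eval₂_X, Polynomial.eval₂_C, sub_eq_zero] using h
  let U : Sˣ := (root_isUnit 𝒜 ht htu hN).unit
  have hUv : (U : S) = AdjoinRoot.root _ := IsUnit.unit_spec _
  have hU : ((U ^ (N : ℤ) : Sˣ) : S) = AdjoinRoot.of _ t := by rw [zpow_natCast, Units.val_pow_eq_pow_val, hUv, hroot]
  let δ : R →+* S := homMk 𝒜 (fun i =>
      { toFun := fun a => (AdjoinRoot.of (Polynomial.X ^ N - Polynomial.C t) (a : R) : S) * ((U ^ (-i) : Sˣ) : S)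
        map_zero' := by simp
        map_add' := fun a b => by simp [add_mul] })
    (by simp)
    (fun {i j} a b => by
      simp only [AddMonoidHom.coe_mk, ZeroHom.coe_mk]
      rw [map_mul, neg_add, zpow_add, Units.val_mul]; ring)
  have hδ : ∀ (i : ℤ) (a : R), a ∈ 𝒜 i → δ a = (AdjoinRoot.of (Polynomial.X ^ N - Polynomial.C t) a : S) * ((U ^ (-i) : Sˣ) : S) :=
    fun i a ha => homMk_apply 𝒜 _ _ _ a ha
  have hδt : ∀ x ∈ Ideal.span {t - 1}, δ x = 0 := by
    intro x hx
    obtain ⟨y, rfl⟩ := Ideal.mem_span_singleton'.mp hx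
    rw [map_mul, map_sub, map_one, hδ _ t ht, ← hU, ← Units.val_mul, ← zpow_add, add_neg_cancel, zpow_zero,
      Units.val_one, sub_self, mul_zero]
  let ψ : LaurentPolynomial C →+* S := AddMonoidAlgebra.liftNCRingHom (Ideal.Quotient.lift _ δ hδt)
    ((Units.coeHom S).comp (zpowersHom Sˣ U)) (fun _ _ => Commute.all _ _)
  have hψ : ∀ (n : ℤ) (c : C), ψ (LaurentPolynomial.C c * LaurentPolynomial.T n) =
      Ideal.Quotient.lift _ δ hδt c * ((U ^ n : Sˣ) : S) := fun n c => by
    rw [← LaurentPolynomial.single_eq_C_mul_T]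
    exact AddMonoidAlgebra.liftNC_single _ _ _ _
  let γ : R →+* LaurentPolynomial C := homMk 𝒜 (fun i =>
      { toFun := fun a => LaurentPolynomial.C (mk (a : R)) * LaurentPolynomial.T i
        map_zero' := by simp
        map_add' := fun a b => by simp [add_mul] })
    (by simp)
    (fun {i j} a b => by
      show LaurentPolynomial.C (mk ((a : R) * b)) * _ = _
      rw [map_mul, map_mul, LaurentPolynomial.T_add]
      show _ = (LaurentPolynomial.C (mk (a : R)) * _) * (LaurentPolynomial.C (mk (b : R)) * _)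
      ring)
  have hγ : ∀ (i : ℤ) (a : R), a ∈ 𝒜 i → γ a = LaurentPolynomial.C (mk a) * LaurentPolynomial.T i :=
    fun i a ha => homMk_apply 𝒜 _ _ _ a ha
  have hroot2 : (Polynomial.X ^ N - Polynomial.C t).eval₂ γ (LaurentPolynomial.T 1) = 0 := by
    rw [Polynomial.eval₂_sub, Polynomial.eval₂_pow, Polynomial.eval₂_X, Polynomial.eval₂_C, hγ _ t ht,
      show mk t = 1 from by rw [← map_one mk]; exact Ideal.Quotient.eq.mpr (Ideal.mem_span_singleton_self _),
      map_one, one_mul, LaurentPolynomial.T_pow, mul_one, sub_self]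
  let φ : S →+* LaurentPolynomial C := AdjoinRoot.lift γ (LaurentPolynomial.T 1) hroot2
  have hφU : ∀ n : ℤ, φ ((U ^ n : Sˣ) : S) = LaurentPolynomial.T n := by
    intro n
    induction n using Int.induction_on with
    | zero => simp
    | succ n ih =>
      rw [zpow_add, Units.val_mul, map_mul, ih, zpow_one, hUv, LaurentPolynomial.T_add]
      congr 1
      exact AdjoinRoot.lift_root _
    | pred n ih =>
      have h1 : φ (((U ^ (-(n : ℤ) - 1) : Sˣ) : S)) * LaurentPolynomial.T 1 = LaurentPolynomial.T (-(n : ℤ)) := by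
        rw [← ih]
        have : φ (U : S) = LaurentPolynomial.T 1 := by rw [hUv]; exact AdjoinRoot.lift_root _
        rw [← this, ← map_mul, ← Units.val_mul]
        conv_lhs => arg 2; arg 1; arg 2; rw [← zpow_one U]
        rw [← zpow_add, sub_add_cancel]
      rw [LaurentPolynomial.T_sub, ← h1, mul_assoc, ← LaurentPolynomial.T_add, add_neg_cancel,
        LaurentPolynomial.T_zero, mul_one]
  have h1 : ψ.comp φ = RingHom.id S := by
    have h0 : (ψ.comp φ).comp (AdjoinRoot.of _) = AdjoinRoot.of _ := by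
      refine ringHom_ext 𝒜 fun i a ha => ?_
      show ψ (φ (AdjoinRoot.of _ a)) = _
      rw [AdjoinRoot.lift_of, hγ i a ha, hψ, Ideal.Quotient.lift_mk, hδ i a ha, mul_assoc, ← Units.val_mul,
        ← zpow_add, neg_add_cancel, zpow_zero, Units.val_one, mul_one]
    have hr : ψ (φ (AdjoinRoot.root _)) = AdjoinRoot.root _ := by
      have := hψ 1 1
      rw [map_one, map_one, one_mul, one_mul, zpow_one, hUv] at this
      show ψ (φ (AdjoinRoot.root _)) = _
      rw [AdjoinRoot.lift_root]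
      exact this
    refine RingHom.ext fun x => ?_
    induction x using AdjoinRoot.induction_on with
    | ih p =>
      induction p using Polynomial.induction_on with
      | C a => rw [AdjoinRoot.mk_C]; exact RingHom.congr_fun h0 a
      | add p q hp hq => rw [map_add, map_add, hp, hq, map_add]
      | monomial k a _ =>
        rw [map_mul, map_pow, AdjoinRoot.mk_X, AdjoinRoot.mk_C, map_mul, map_pow]
        simp only [RingHom.comp_apply, RingHom.id_apply] at *
        rw [hr, show ψ (φ (AdjoinRoot.of _ a)) = AdjoinRoot.of _ a from RingHom.congr_fun h0 a]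
  have h2 : φ.comp ψ = RingHom.id (LaurentPolynomial C) := by
    have key : ∀ (r : R) (n : ℤ), φ (ψ (LaurentPolynomial.C (mk r) * LaurentPolynomial.T n)) =
        LaurentPolynomial.C (mk r) * LaurentPolynomial.T n := by
      intro r n
      induction r using DirectSum.Decomposition.inductionOn 𝒜 with
      | zero => simp
      | add a b ha hb => simp only [map_add, add_mul, ha, hb]
      | @homogeneous i a =>
        rw [hψ, Ideal.Quotient.lift_mk, hδ i _ a.2, map_mul, map_mul, AdjoinRoot.lift_of, hγ i _ a.2, hφU, hφU,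
          mul_assoc, mul_assoc, ← LaurentPolynomial.T_add, ← LaurentPolynomial.T_add]
        congr 2
        ring
    refine RingHom.ext fun x => ?_
    induction x using LaurentPolynomial.induction_on' with
    | add p q hp hq => rw [map_add, map_add, hp, hq]
    | C_mul_T n c =>
      obtain ⟨r, rfl⟩ := Ideal.Quotient.mk_surjective c
      exact key r n
  exact ⟨RingEquiv.ofRingHom ψ φ h1 h2⟩

/-- The `N`-th root extension of a regular graded ring is regular. -/
theorem isRegularRing_adjoinRoot [IsNoetherianRing R]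
    (hreg : ∀ (p : Ideal R) [p.IsPrime], IsRegularLocalRing (Localization.AtPrime p)) :
    IsRegularRing (AdjoinRoot (Polynomial.X ^ N - Polynomial.C t)) := by
  haveI := isRegularLocalRing_quot 𝒜 ht htu hN hm hreg
  haveI : IsRegularRing (R ⧸ Ideal.span {t - 1}) := isRegularRing_iff.mpr fun p _ =>
    Groth.Agent.S0564.result _ p
  haveI : IsRegularRing (LaurentPolynomial (R ⧸ Ideal.span {t - 1})) :=
    Groth.L06.FormSmooth.isRegularRing_of_isLocalization (R := Polynomial (R ⧸ Ideal.span {t - 1}))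
      (Submonoid.powers Polynomial.X) _
  obtain ⟨e⟩ := nonempty_laurentEquiv 𝒜 ht htu hN
  exact IsRegularRing.of_ringEquiv e

end Groth.L12.GrTwist
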