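import Mathlib.RingTheory.Etale.StandardEtale
import Mathlib.RingTheory.Etale.Kaehler
import Mathlib.RingTheory.Etale.Field
import Mathlib.RingTheory.Flat.Basic
import Mathlib.RingTheory.AdjoinRoot
import Mathlib.FieldTheory.PrimitiveElement
import Mathlib.RingTheory.Flat.Stability
import Mathlib.RingTheory.Smooth.Basic
import Mathlib.RingTheory.Extension.Cotangent.Basic

/-!
# The cotangent `H₁` of a finite separable residue extension
-/

set_option autoImplicit false
set_option linter.style.haveILetI false

universe u

open Polynomial TensorProduct Algebra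

noncomputable section

namespace Groth.L12.H1Sep

variable {R S T : Type u} [CommRing R] [Field S] [Field T] [Algebra R S] [Algebra R T] [Algebra S T]
  [IsScalarTower R S T]

theorem exists_rep {R : Type u} [CommRing R] (P : StandardEtalePair R) (y : P.Ring) :
    ∃ (n : ℕ) (p : R[X]), y * aeval P.X P.g ^ n = aeval P.X p := by
  obtain ⟨z, rfl⟩ : ∃ z, Ideal.Quotient.mk (Ideal.span {C P.f, X * C P.g - 1}) z = y :=
    Ideal.Quotient.mk_surjective y
  have haev : ∀ p : R[X], aeval P.X p =
      (Ideal.Quotient.mk (Ideal.span {C P.f, X * C P.g - 1}) (C p) : P.Ring) := fun p => by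
    have : aeval (R := R) P.X = (Ideal.Quotient.mkₐ R (Ideal.span {C P.f, X * C P.g - 1})).comp Polynomial.CAlgHom :=
      Polynomial.algHom_ext (by simp [StandardEtalePair.X]; rfl)
    rw [this]
    rfl
  induction z using Polynomial.induction_on' with
  | add a b ha hb =>
    obtain ⟨n, p, hp⟩ := ha
    obtain ⟨m, q, hq⟩ := hb
    refine ⟨n + m, p * P.g ^ m + q * P.g ^ n, ?_⟩
    rw [map_add, map_add, map_mul, map_mul, map_pow, map_pow, ← hp, ← hq]
    change ((_ : P.Ring) + _) * _ = _
    ring
  | monomial i a =>
    refine ⟨i, a, ?_⟩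
    rw [haev, haev]
    rw [← C_mul_X_pow_eq_monomial, map_mul, map_pow]
    change (_ : P.Ring) * _ * _ = _
    rw [mul_assoc]
    have : (Ideal.Quotient.mk (Ideal.span {C P.f, X * C P.g - 1}) X : P.Ring) ^ i *
        (Ideal.Quotient.mk (Ideal.span {C P.f, X * C P.g - 1}) (C P.g) : P.Ring) ^ i = 1 := by
      have hz : Ideal.Quotient.mk (Ideal.span {C P.f, X * C P.g - 1}) (X * C P.g) = 1 := by
        rw [← map_one (Ideal.Quotient.mk (Ideal.span {C P.f, X * C P.g - 1})), Ideal.Quotient.eq]
        exact Ideal.subset_span (Set.mem_insert_of_mem _ rfl)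
      have e : ∀ u v : P.Ring, u * v = 1 → u ^ i * v ^ i = 1 := fun u v h => by rw [← mul_pow, h, one_pow]
      exact e _ _ ((map_mul (Ideal.Quotient.mk (Ideal.span {C P.f, X * C P.g - 1})) _ _).symm.trans hz)
    exact (congrArg (_ * ·) this).trans (mul_one _)

instance flat_standardEtale {R : Type u} [CommRing R] (P : StandardEtalePair R) : Module.Flat R P.Ring := by
  haveI : Module.Free R (AdjoinRoot P.f) := P.monic_f.free_adjoinRoot
  haveI : Module.Flat (AdjoinRoot P.f) (Localization.Away (AdjoinRoot.mk P.f P.g)) :=
    IsLocalization.flat _ (Submonoid.powers (AdjoinRoot.mk P.f P.g))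
  haveI : Module.Flat R (Localization.Away (AdjoinRoot.mk P.f P.g)) :=
    Module.Flat.trans R (AdjoinRoot P.f) _
  exact Module.Flat.of_linearEquiv P.equivAwayAdjoinRoot.toLinearEquiv

theorem bijective_of_monogenic (hsurj : Function.Surjective (algebraMap R S))
    [Module.Finite S T] [Algebra.IsSeparable S T] :
    Function.Bijective ((H1Cotangent.map R R S T).liftBaseChange T) := by
  classical
  obtain ⟨θ, hθ⟩ := Field.exists_primitive_element S T
  have hint : IsIntegral S θ := IsIntegral.of_finite S θ
  set g := minpoly S θ with hg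
  obtain ⟨G, hGmap, hGdeg, hGmon⟩ : ∃ G : R[X], G.map (algebraMap R S) = g ∧ G.degree = g.degree ∧ G.Monic :=
    Polynomial.lifts_and_degree_eq_and_monic (Polynomial.map_surjective _ hsurj g) (minpoly.monic hint)
  let E : StandardEtalePair R := ⟨G, hGmon, derivative G, ⟨1, 0, 1, by simp⟩⟩
  have haev : ∀ p : R[X], aeval θ p = aeval θ (p.map (algebraMap R S)) := fun p =>
    (Polynomial.aeval_map_algebraMap S θ p).symm
  have hmap : E.HasMap θ := by
    refine ⟨by rw [haev, hGmap]; exact minpoly.aeval S θ, isUnit_iff_ne_zero.2 ?_⟩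
    rw [haev, ← derivative_map, hGmap]
    exact (Algebra.IsSeparable.isSeparable S θ).aeval_derivative_ne_zero (minpoly.aeval S θ)
  let φ : E.Ring →ₐ[R] T := E.lift θ hmap
  have hφX : ∀ p : R[X], φ (aeval E.X p) = aeval θ p := fun p => by
    rw [← aeval_algHom_apply, StandardEtalePair.lift_X]
  have hgen : ∀ t : T, ∃ p : S[X], aeval θ p = t := fun t => by
    have : t ∈ Algebra.adjoin S {θ} := by
      rw [← IntermediateField.adjoin_simple_toSubalgebra_of_isAlgebraic hint.isAlgebraic, hθ]
      trivial
    rw [Algebra.adjoin_singleton_eq_range_aeval] at this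
    exact this
  have hφ : Function.Surjective φ := fun t => by
    obtain ⟨p, hp⟩ := hgen t
    obtain ⟨p', rfl⟩ := Polynomial.map_surjective _ hsurj p
    exact ⟨aeval E.X p', by rw [hφX, haev, hp]⟩
  let P1 : Extension.{u} R S := Extension.ofSurjective (Algebra.ofId R S) hsurj
  let Q1 : Extension.{u} R T := Extension.ofSurjective φ hφ
  let f : P1.Hom Q1 :=
    { toRingHom := (algebraMap R E.Ring : R →+* E.Ring)
      toRingHom_algebraMap := fun x => rfl
      algebraMap_toRingHom := fun x => (φ.commutes x).trans (IsScalarTower.algebraMap_apply R S T x) }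
  let alg : Algebra P1.Ring Q1.Ring := (E.instAlgebraRing : Algebra R E.Ring)
  haveI hflat : Module.Flat P1.Ring Q1.Ring := (flat_standardEtale E : Module.Flat R E.Ring)
  haveI hs1 : FormallySmooth R P1.Ring := (inferInstance : FormallySmooth R R)
  haveI hs2 : FormallySmooth R Q1.Ring := (inferInstance : FormallySmooth R E.Ring)
  have halg : algebraMap P1.Ring Q1.Ring = f.toRingHom := rfl
  have hker : ∀ y : E.Ring, φ y = 0 → y ∈ (RingHom.ker (algebraMap R S)).map (algebraMap R E.Ring) := by
    intro y hy
    obtain ⟨n, p, hp⟩ := exists_rep E y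
    have h0 : aeval θ p = 0 := by
      rw [← hφX, ← hp, map_mul, hy, zero_mul]
    rw [haev] at h0
    obtain ⟨q, hq⟩ := minpoly.dvd S θ h0
    obtain ⟨q', hq'⟩ := Polynomial.map_surjective _ hsurj q
    have hmem : p - G * q' ∈ (RingHom.ker (algebraMap R S)).map (C : R →+* R[X]) := by
      rw [Ideal.mem_map_C_iff]
      intro i
      rw [RingHom.mem_ker, ← Polynomial.coeff_map, Polynomial.map_sub, Polynomial.map_mul, hGmap, hq, hq', sub_self,
        Polynomial.coeff_zero]
    have h1 : aeval E.X (p - G * q') ∈ (RingHom.ker (algebraMap R S)).map (algebraMap R E.Ring) := by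
      have h2 := Ideal.mem_map_of_mem (aeval (R := R) E.X).toRingHom hmem
      rw [Ideal.map_map] at h2
      rwa [show (aeval (R := R) E.X).toRingHom.comp (C : R →+* R[X]) = algebraMap R E.Ring from
        RingHom.ext fun r => aeval_C E.X r] at h2
    rw [map_sub, map_mul, show aeval E.X G = 0 from StandardEtalePair.hasMap_X.1, zero_mul, sub_zero, ← hp] at h1
    exact (Ideal.mul_unit_mem_iff_mem _ (StandardEtalePair.hasMap_X.2.pow n)).1 h1
  have H₂ : Function.Bijective ((f.mapKer halg).liftBaseChange Q1.Ring) := by
    constructor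
    · have hcomp : (Submodule.subtype Q1.ker).restrictScalars P1.Ring ∘ₗ
          ((f.mapKer halg).liftBaseChange Q1.Ring).restrictScalars P1.Ring =
          (TensorProduct.rid P1.Ring Q1.Ring).toLinearMap ∘ₗ
            LinearMap.lTensor Q1.Ring (Submodule.subtype P1.ker) := by
        refine TensorProduct.ext' fun a b => ?_
        show a * algebraMap P1.Ring Q1.Ring (b : P1.Ring) = (b : P1.Ring) • a
        rw [Algebra.smul_def, mul_comm]
      have hinj : Function.Injective ((TensorProduct.rid P1.Ring Q1.Ring).toLinearMap ∘ₗ
          LinearMap.lTensor Q1.Ring (Submodule.subtype P1.ker)) :=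
        (TensorProduct.rid P1.Ring Q1.Ring).injective.comp
          (Module.Flat.lTensor_preserves_injective_linearMap _ Subtype.val_injective)
      intro a b hab
      refine hinj ?_
      rw [← hcomp]
      exact congrArg (fun z => ((z : Q1.ker) : Q1.Ring)) hab
    · rintro ⟨y, hy⟩
      have hy' := hker y hy
      suffices H : ∀ z ∈ (RingHom.ker (algebraMap R S)).map (algebraMap R E.Ring), ∀ hz : z ∈ Q1.ker,
          (⟨z, hz⟩ : Q1.ker) ∈ LinearMap.range ((f.mapKer halg).liftBaseChange Q1.Ring) by
        exact H y hy' hy
      intro z hz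
      induction hz using Submodule.span_induction with
      | mem z hz =>
        obtain ⟨r, hr, rfl⟩ := hz
        intro h
        refine ⟨(1 : Q1.Ring) ⊗ₜ[P1.Ring] (⟨r, hr⟩ : P1.ker), Subtype.ext ?_⟩
        rw [LinearMap.liftBaseChange_tmul, one_smul]
        rfl
      | zero => intro h; exact zero_mem _
      | add a b ha hb iha ihb =>
        intro h
        have hsub : (RingHom.ker (algebraMap R S)).map (algebraMap R E.Ring) ≤ Q1.ker := by
          rw [Ideal.map_le_iff_le_comap]
          intro r hr
          show φ (algebraMap R E.Ring r) = 0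
          rw [φ.commutes, IsScalarTower.algebraMap_apply R S T, RingHom.mem_ker.1 hr, map_zero]
        exact add_mem (iha (hsub ha)) (ihb (hsub hb))
      | smul a b hb ih =>
        intro h
        have hb' : b ∈ Q1.ker := by
          have hsub : (RingHom.ker (algebraMap R S)).map (algebraMap R E.Ring) ≤ Q1.ker := by
            rw [Ideal.map_le_iff_le_comap]
            intro r hr
            show φ (algebraMap R E.Ring r) = 0
            rw [φ.commutes, IsScalarTower.algebraMap_apply R S T, RingHom.mem_ker.1 hr, map_zero]
          exact hsub hb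
        exact Submodule.smul_mem _ (a : Q1.Ring) (ih hb')
  have H₁ : f.toRingHom.FormallyEtale :=
    (RingHom.formallyEtale_algebraMap.mpr (inferInstance : FormallyEtale R E.Ring) :
      (algebraMap R E.Ring).FormallyEtale)
  have hbij : Function.Bijective ((Extension.H1Cotangent.map f).liftBaseChange T) :=
    (Extension.tensorH1CotangentOfFormallyEtale f halg H₁ H₂).bijective
  -- compare with the standard extensions
  let P0 := (Generators.self R S).toExtension
  let Q0 := (Generators.self R T).toExtension
  haveI : FormallySmooth R P0.Ring := (inferInstance : FormallySmooth R (MvPolynomial _ R))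
  haveI : FormallySmooth R Q0.Ring := (inferInstance : FormallySmooth R (MvPolynomial _ R))
  let cP : P0.Hom P1 :=
    { toRingHom := (MvPolynomial.aeval (R := R) fun x : S => P1.σ x).toRingHom
      toRingHom_algebraMap := fun x => (MvPolynomial.aeval (R := R) fun x : S => P1.σ x).commutes x
      algebraMap_toRingHom := fun x => by
        have h1 : (IsScalarTower.toAlgHom R P1.Ring S).comp (MvPolynomial.aeval (R := R) fun x : S => P1.σ x) =
            MvPolynomial.aeval (R := R) (id : S → S) := MvPolynomial.algHom_ext fun i => by simp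
        exact AlgHom.congr_fun h1 x }
  let cQ : Q0.Hom Q1 :=
    { toRingHom := (MvPolynomial.aeval (R := R) fun x : T => Q1.σ x).toRingHom
      toRingHom_algebraMap := fun x => (MvPolynomial.aeval (R := R) fun x : T => Q1.σ x).commutes x
      algebraMap_toRingHom := fun x => by
        have h1 : (IsScalarTower.toAlgHom R Q1.Ring T).comp (MvPolynomial.aeval (R := R) fun x : T => Q1.σ x) =
            MvPolynomial.aeval (R := R) (id : T → T) := MvPolynomial.algHom_ext fun i => by simp
        exact AlgHom.congr_fun h1 x }
  let h : P0.Hom Q0 := (Generators.defaultHom (Generators.self R S) (Generators.self R T)).toExtensionHom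
  have hPb : Function.Bijective (Extension.H1Cotangent.map cP) := by
    rw [← Algebra.Extension.H1Cotangent.equivOfFormallySmooth_toLinearMap cP]
    exact LinearEquiv.bijective _
  have hQb : Function.Bijective (Extension.H1Cotangent.map cQ) := by
    rw [← Algebra.Extension.H1Cotangent.equivOfFormallySmooth_toLinearMap cQ]
    exact LinearEquiv.bijective _
  have hsq : (Extension.H1Cotangent.map cQ) ∘ₗ ((Extension.H1Cotangent.map h).liftBaseChange T) =
      ((Extension.H1Cotangent.map f).liftBaseChange T) ∘ₗ ((Extension.H1Cotangent.map cP).baseChange T) := by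
    refine TensorProduct.AlgebraTensorModule.ext fun t x => ?_
    simp only [LinearMap.comp_apply, LinearMap.liftBaseChange_tmul, LinearMap.baseChange_tmul, map_smul]
    congr 1
    rw [← Extension.H1Cotangent.map_comp_apply, ← Extension.H1Cotangent.map_comp_apply,
      Extension.H1Cotangent.map_eq]
  have hb2 : Function.Bijective ((Extension.H1Cotangent.map cP).baseChange T) := by
    let e := (LinearEquiv.ofBijective (Extension.H1Cotangent.map cP) hPb).baseChange S T
    exact e.bijective
  have hall : Function.Bijective
      ((Extension.H1Cotangent.map cQ) ∘ₗ ((Extension.H1Cotangent.map h).liftBaseChange T)) := by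
    rw [hsq]
    exact hbij.comp hb2
  exact (Function.Bijective.of_comp_iff' hQb _).1 hall

end Groth.L12.H1Sep
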