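import Groth.Agent.L12.Versal
import Mathlib.LinearAlgebra.Dual.Lemmas

/-!
# Hulls, universal families
-/

universe u v w

open CategoryTheory ArtFun ArtFun.Art IsLocalRing

namespace Groth.L12

variable {Λ : Type u} {k : Type u} [CommRing Λ] [Field k] [Algebra Λ k]

section TangentHom

variable {R : Type u} [CommRing R] [Algebra Λ R] {resR : R →ₐ[Λ] k}

/-- the `ε`-coefficient of a tangent vector at an element -/
def tv (ψ : HomSet R resR (dual Λ k)) (r : R) : k := TrivSqZeroExt.snd (ψ.1 r)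

lemma tv_ext {ψ ψ' : HomSet R resR (dual Λ k)} (h : ∀ r, tv ψ r = tv ψ' r) : ψ = ψ' :=
  Subtype.ext (AlgHom.ext fun r => dual_ext
    ((DFunLike.congr_fun ψ.2 r).trans (DFunLike.congr_fun ψ'.2 r).symm) (h r))

lemma exists_tv_add (ψ ψ' : HomSet R resR (dual Λ k)) :
    ∃ χ : HomSet R resR (dual Λ k), ∀ r, tv χ r = tv ψ r + tv ψ' r := by
  obtain ⟨(z : HomSet R resR (dual2 Λ k)), (h₁ : HomSet.map pr₁ z = ψ), (h₂ : HomSet.map pr₂ z = ψ')⟩ :=
    exists_pair (h0_hR resR) (rs_hR resR).heps ψ ψ'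
  subst h₁ h₂
  exact ⟨HomSet.map plus z, fun r => rfl⟩

lemma exists_tv_smul (c : k) (ψ : HomSet R resR (dual Λ k)) :
    ∃ χ : HomSet R resR (dual Λ k), ∀ r, tv χ r = c * tv ψ r :=
  ⟨HomSet.map (scale c) ψ, fun r => rfl⟩

lemma exists_tv_zero : ∃ χ : HomSet R resR (dual Λ k), ∀ r, tv χ r = 0 :=
  ⟨HomSet.map baseToDual (basePt R resR), fun r => rfl⟩

end TangentHom

lemma IsFreeCR.exists_tv {P : CRing Λ k} {ι : Type u} {x : ι → P.carrier} (h : IsFreeCR P x) (t : ι → k) :
    ∃ ψ : HomSet P.carrier P.res (dual Λ k), ∀ i, tv ψ (x i) = t i := by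
  obtain ⟨ψ, hψ⟩ := h.lift (dual Λ k) (fun i => ((P.res (x i), t i) : k × k)) (fun i => rfl)
  exact ⟨ψ, fun i => by change TrivSqZeroExt.snd (ψ.1 (x i)) = _; rw [hψ]; rfl⟩

/-- a smooth quotient of a free coefficient ring with tangent space cut out by a given quotient -/
theorem exists_smooth_quot {P : CRing Λ k} {ι : Type u} [Finite ι] {x : ι → P.carrier} (h : IsFreeCR P x)
    (K : Ideal P.carrier) (hK : K ≤ maximalIdeal P.carrier) :
    ∃ (Q : CRing Λ k) (q : P.carrier →ₐ[Λ] Q.carrier), Q.res.comp q = P.res ∧ Function.Surjective q ∧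
      RingHom.ker q ≤ K ∧ IsSmoothFunctor (hR Q.carrier Q.res) ∧
      ∀ φ : HomSet Q.carrier Q.res (dual Λ k), ∀ r ∈ K, tv φ (q r) = 0 := by
  choose ψ hψ using h.exists_tv
  have huniq : ∀ (t : ι → k) (χ : HomSet P.carrier P.res (dual Λ k)), (∀ i, tv χ (x i) = t i) → χ = ψ t :=
    fun t χ hχ => h.ext _ _ _ fun i => dual_ext
      ((DFunLike.congr_fun χ.2 (x i)).trans (DFunLike.congr_fun (ψ t).2 (x i)).symm) ((hχ i).trans (hψ t i).symm)
  let ev : P.carrier → Module.Dual k (ι → k) := fun f =>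
    { toFun := fun t => tv (ψ t) f
      map_add' := fun s t => by
        obtain ⟨χ, hχ⟩ := exists_tv_add (ψ s) (ψ t)
        rw [← huniq (s + t) χ (fun i => by rw [hχ, hψ, hψ]; rfl), hχ]
      map_smul' := fun c t => by
        obtain ⟨χ, hχ⟩ := exists_tv_smul c (ψ t)
        rw [← huniq (c • t) χ (fun i => by rw [hχ, hψ]; rfl), hχ]
        rfl }
  haveI := Fintype.ofFinite ι
  obtain ⟨s, hs, -, hspan, hind⟩ := exists_linearIndepOn_extension (v := ev) (linearIndepOn_empty k ev)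
    (Set.empty_subset (K : Set P.carrier))
  classical
  haveI : Finite s := hind.linearIndependent.finite
  haveI := Fintype.ofFinite s
  have hsurj : ∀ c : s → k, ∃ t : ι → k, ∀ f : s, tv (ψ t) f = c f := by
    let L : (ι → k) →ₗ[k] (s → k) := LinearMap.pi fun f => ev f
    have hL : Function.Surjective L := by
      rw [← LinearMap.dualMap_injective_iff, injective_iff_map_eq_zero]
      intro a ha
      have h0 : ∑ f : s, a (Pi.single f 1) • ev f = 0 := by
        apply LinearMap.ext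
        intro t
        have := DFunLike.congr_fun ha t
        rw [LinearMap.dualMap_apply, pi_eq_sum_univ' (L t), map_sum] at this
        simp only [map_smul, smul_eq_mul] at this
        rw [LinearMap.sum_apply]
        simpa [L, mul_comm] using this
      have hz := Fintype.linearIndependent_iff.1 hind.linearIndependent _ h0
      refine LinearMap.ext fun v => ?_
      rw [pi_eq_sum_univ' v, map_sum]
      simp [hz]
    intro c
    obtain ⟨t, ht⟩ := hL c
    exact ⟨t, fun f => congrFun ht f⟩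
  obtain ⟨Q, q, hq, hqs, hqker⟩ := exists_cring_quot P (Ideal.span s) (Ideal.span_le.2 (hs.trans hK))
  have hfac : ∀ {A : Art Λ k} (χ : HomSet P.carrier P.res A), (∀ f ∈ s, χ.1 f = 0) →
      ∃ φ : HomSet Q.carrier Q.res A, ∀ r, φ.1 (q r) = χ.1 r := by
    intro A χ hχ
    let φ : Q.carrier →ₐ[Λ] A := AlgHom.liftOfSurjective q hqs χ.1 (by
      rw [show RingHom.ker q.toRingHom = Ideal.span s from hqker, Ideal.span_le]
      exact fun f hf => RingHom.mem_ker.2 (hχ f hf))
    have hφ : ∀ a, φ (q a) = χ.1 a := fun a => AlgHom.liftOfSurjective_apply _ hqs _ _ a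
    refine ⟨⟨φ, AlgHom.ext fun r => ?_⟩, hφ⟩
    obtain ⟨a, rfl⟩ := hqs r
    rw [AlgHom.comp_apply, hφ, ← AlgHom.comp_apply, ← AlgHom.comp_apply, hq, χ.2]
  refine ⟨Q, q, hq, hqs, hqker ▸ Ideal.span_le.2 hs, isSmoothFunctor_of_small fun B A μ hμ => ?_, fun φ r hr => ?_⟩
  · intro (φ : HomSet Q.carrier Q.res A)
    obtain ⟨χ, (hχ : HomSet.map μ χ = (⟨φ.1.comp q, by rw [← AlgHom.comp_assoc, φ.2, hq]⟩ : HomSet _ _ A))⟩ :=
      h.smooth μ hμ.1 (⟨φ.1.comp q, by rw [← AlgHom.comp_assoc, φ.2, hq]⟩ : HomSet _ _ A)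
    obtain ⟨S⟩ := nonempty_smallSquare hμ
    have hval : ∀ f : s, ∃ c : k, χ.1 f = liftRes B c * S.t := fun f => by
      have h0 : μ (χ.1 f) = μ (0 : B) := by
        rw [map_zero]
        refine (DFunLike.congr_fun (congrArg Subtype.val hχ) f.1).trans ?_
        change φ.1 (q f.1) = 0
        rw [RingHom.mem_ker.1 (hqker.symm ▸ Ideal.subset_span f.2 : (f : P.carrier) ∈ RingHom.ker q), map_zero]
      obtain ⟨z, hz₁, hz₂⟩ := S.hP.surj (0 : B) (χ.1 f) h0.symm
      exact ⟨_, by rw [← hz₂, S.hg, hz₁, zero_add]⟩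
    choose c hc using hval
    obtain ⟨t, ht⟩ := hsurj fun f => - c f
    obtain ⟨(w : HomSet P.carrier P.res S.P), (hw₁ : HomSet.map S.p₁ w = χ), (hw₂ : HomSet.map S.g w = ψ t)⟩ :=
      S.exists_act (h0_hR P.res) (rs_hR P.res).heps χ (ψ t)
    obtain ⟨φ', hφ'⟩ := hfac (HomSet.map S.p₂ w) fun f hf => by
      change S.p₂ (w.1 f) = 0
      rw [S.hg, show S.p₁ (w.1 f) = χ.1 f from DFunLike.congr_fun (congrArg Subtype.val hw₁) f,
        show TrivSqZeroExt.snd (S.g (w.1 f)) = - c ⟨f, hf⟩ from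
          (congrArg TrivSqZeroExt.snd (DFunLike.congr_fun (congrArg Subtype.val hw₂) f)).trans (ht ⟨f, hf⟩),
        hc ⟨f, hf⟩, ← add_mul]
      exact (mul_eq_of_res_eq (b' := 0) (by rw [map_add, res_liftRes, res_liftRes, map_zero, add_neg_cancel]) S.t_max).trans
        (zero_mul _)
    refine ⟨φ', Subtype.ext (AlgHom.ext fun r => ?_)⟩
    obtain ⟨a, rfl⟩ := hqs r
    refine (congrArg μ.toAlgHom (hφ' a)).trans ?_
    change μ (S.p₂ (w.1 a)) = _
    rw [← S.hP.w_apply, show S.p₁ (w.1 a) = χ.1 a from DFunLike.congr_fun (congrArg Subtype.val hw₁) a]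
    exact DFunLike.congr_fun (congrArg Subtype.val hχ) a
  · let χ : HomSet P.carrier P.res (dual Λ k) := ⟨φ.1.comp q, by rw [← AlgHom.comp_assoc, φ.2, hq]⟩
    have hχ : χ = ψ (fun i => tv χ (x i)) := huniq _ χ fun i => rfl
    change tv χ r = 0
    rw [hχ]
    suffices hrs : ∀ m ∈ Submodule.span k (ev '' s), m (fun i => tv χ (x i)) = 0 from
      hrs _ (hspan ⟨r, hr, rfl⟩)
    intro m hm
    induction hm using Submodule.span_induction with
    | mem m hm =>
      obtain ⟨f, hf, rfl⟩ := hm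
      change tv (ψ _) f = 0
      rw [← hχ]
      change TrivSqZeroExt.snd (φ.1 (q f)) = 0
      rw [RingHom.mem_ker.1 (hqker.symm ▸ Ideal.subset_span hf : f ∈ RingHom.ker q), map_zero]
      rfl
    | zero => rfl
    | add a b _ _ ha hb => rw [LinearMap.add_apply, ha, hb, add_zero]
    | smul c a _ ha => rw [LinearMap.smul_apply, ha, smul_zero]

section Join

variable {F : Art Λ k ⥤ Type v}

/-- an object carrying finitely many given tangent vectors -/
lemma exists_join (h0 : H0 F) (h2 : Heps F) {d : ℕ} (θ : Fin d → F.obj (dual Λ k)) :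
    ∃ (E : Art Λ k) (σ : Art.base Λ k ⟶ E) (pr : Fin d → (E ⟶ dual Λ k)) (e : Fin d → E) (η : F.obj E),
      (∀ i, F.map (pr i) η = θ i) ∧ (∀ i, E.res (e i) = 0) ∧
      (∀ i j, TrivSqZeroExt.snd (pr i (e j)) = if i = j then 1 else 0) ∧
      (∀ i c, TrivSqZeroExt.snd (pr i (σ c)) = 0) ∧
      ∀ a b : E, E.res a = E.res b → (∀ i, TrivSqZeroExt.snd (pr i a) = TrivSqZeroExt.snd (pr i b)) → a = b := by
  induction d with
  | zero =>
    obtain ⟨pt⟩ := h0.1
    exact ⟨Art.base Λ k, 𝟙 _, Fin.elim0, Fin.elim0, pt, fun i => i.elim0, fun i => i.elim0, fun i => i.elim0,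
      fun i => i.elim0, fun a b h _ => h⟩
  | succ d ih =>
    obtain ⟨E, σ, pr, e, η, hη, he, hpe, hσ, hsep⟩ := ih (fun i => θ i.succ)
    obtain ⟨B, q, g, hB⟩ := exists_isFibreProd_of_surjective (toBase E) (toBase (dual Λ k)) (toBase_surjective _)
    obtain ⟨ζ, hζ₁, hζ₂⟩ := (cmp_surj_iff F hB).1 (h2 q g hB).2 η (θ 0) (@Subsingleton.elim _ h0.2 _ _)
    obtain ⟨σ', hσ'₁, hσ'₂⟩ := IsFP.exists_lift hB σ baseToDual ((eq_toBase _).trans (eq_toBase _).symm)
    obtain ⟨e₀, he₀, he₀'⟩ := hB.surj 0 ((0, 1) : k × k) (by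
      change E.res 0 = TrivSqZeroExt.fst (((0, 1) : k × k) : DualNumber k)
      rw [map_zero]; rfl)
    choose e' he' he'' using fun i => hB.surj (e i) (0 : dual Λ k) ((he i).trans (map_zero (dual Λ k).res).symm)
    refine ⟨B, σ', Fin.cons g (fun i => q ≫ pr i), Fin.cons e₀ e', ζ, ?_, ?_, ?_, ?_, ?_⟩
    · refine Fin.cases ?_ fun i => ?_
      · exact hζ₂
      · rw [Fin.cons_succ, ← map_map, hζ₁, hη]
    · refine Fin.cases ?_ fun i => ?_
      · rw [Fin.cons_zero, ← Art.res_app q, he₀, map_zero]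
      · rw [Fin.cons_succ, ← Art.res_app q, he', he]
    · refine Fin.cases ?_ fun i => ?_
      · refine Fin.cases ?_ fun j => ?_
        · rw [Fin.cons_zero, Fin.cons_zero, if_pos rfl, he₀']
          rfl
        · rw [Fin.cons_zero, Fin.cons_succ, if_neg (Fin.succ_ne_zero j).symm, he'']
          rfl
      · refine Fin.cases ?_ fun j => ?_
        · rw [Fin.cons_zero, Fin.cons_succ, if_neg (Fin.succ_ne_zero i)]
          change TrivSqZeroExt.snd (pr i (q e₀)) = 0
          rw [he₀, map_zero]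
          rfl
        · rw [Fin.cons_succ, Fin.cons_succ]
          change TrivSqZeroExt.snd (pr i (q (e' j))) = _
          rw [he', hpe]
          simp [Fin.succ_inj]
    · refine Fin.cases (fun c => ?_) fun i c => ?_
      · rw [Fin.cons_zero, show g (σ' c) = baseToDual c from congrArg (fun f : Art.base Λ k ⟶ dual Λ k => f c) hσ'₂]
        rfl
      · rw [Fin.cons_succ]
        change TrivSqZeroExt.snd (pr i (q (σ' c))) = 0
        rw [show q (σ' c) = σ c from congrArg (fun f : Art.base Λ k ⟶ E => f c) hσ'₁, hσ]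
    · intro a b hr hs
      refine hB.inj a b (hsep _ _ (by rw [Art.res_app, Art.res_app, hr]) fun i => ?_) (dual_ext ?_ ?_)
      · have := hs i.succ
        rw [Fin.cons_succ] at this
        exact this
      · exact (Art.res_app g a).trans (hr.trans (Art.res_app g b).symm)
      · have := hs 0
        rwa [Fin.cons_zero] at this

end Join

variable {F : Art Λ k ⥤ Type v}

/-- the tangent vectors coming from derivations of `k` -/
noncomputable def derMap (x₀ : F.obj (Art.base Λ k)) (σ : Art.base Λ k ⟶ dual Λ k) : F.obj (dual Λ k) :=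
  F.map σ x₀

/-- master existence theorem -/
theorem exists_versal [IsNoetherianRing Λ] [Module.Finite Λ k] [TangentStr F] (h0 : H0 F) (h1 : S1 F)
    (h2 : Heps F) (hfin : Hfin F) :
    ∃ (R : CRing Λ k) (ξ : Family R.carrier R.res F), IsVersal ξ ∧
      ((∀ x₀ : F.obj (Art.base Λ k), Function.Injective fun σ : Art.base Λ k ⟶ dual Λ k => F.map σ x₀) →
        Function.Injective (ξ.app (dual Λ k))) := by
  haveI : Module.Finite k (TangentSpace F) := hfin
  obtain ⟨x₀⟩ := h0.1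
  let W : Submodule k (TangentSpace F) :=
    { carrier := Set.range fun σ : Art.base Λ k ⟶ dual Λ k => TangentSpace.mk (F.map σ x₀)
      add_mem' := by
        rintro - - ⟨σ, rfl⟩ ⟨τ, rfl⟩
        exact ⟨sumHom σ τ, (add_map σ τ x₀).symm⟩
      zero_mem' := ⟨zeroHom _, zero_map x₀⟩
      smul_mem' := by
        rintro c - ⟨σ, rfl⟩
        exact ⟨σ ≫ scale c, (smul_map c σ x₀).symm⟩ }
  obtain ⟨C, hC⟩ := Submodule.exists_isCompl W
  obtain ⟨d, ⟨θ⟩⟩ : ∃ d, Nonempty (Module.Basis (Fin d) k C) := ⟨_, ⟨Module.finBasis k C⟩⟩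
  obtain ⟨E, σ, pr, e, η, hη, he, hpe, hσ, hsep⟩ := exists_join h0 h2 (fun i => ((θ i : C) : TangentSpace F))
  obtain ⟨n, c, hc⟩ := exists_generators (Λ := Λ) (k := k)
  have hc' : Function.Surjective (MvPolynomial.aeval (Sum.elim c (fun _ : ULift.{u} (Fin d) => (0 : k))) :
      MvPolynomial (ULift.{u} (Fin n) ⊕ ULift.{u} (Fin d)) Λ →ₐ[Λ] k) := fun t => by
    obtain ⟨p, rfl⟩ := hc t
    exact ⟨MvPolynomial.rename Sum.inl p, by rw [MvPolynomial.aeval_rename, Sum.elim_comp_inl]⟩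
  obtain ⟨P, x, hx, hfree⟩ := exists_free_cring _ hc'
  obtain ⟨π₀, hπ₀⟩ := hfree.lift E (Sum.elim (fun i => σ (c i)) fun j => e j.down) (by
    rintro (i | j)
    · rw [hx]; exact Art.res_app σ (c i)
    · rw [hx]; exact he j.down)
  have hres : ∀ t : k, ∃ r, π₀.1 r = σ t := fun t => by
    obtain ⟨p, rfl⟩ := hc t
    refine ⟨MvPolynomial.aeval (fun i => x (Sum.inl i)) p, ?_⟩
    rw [← AlgHom.comp_apply π₀.1, MvPolynomial.comp_aeval]
    refine Eq.trans ?_ (DFunLike.congr_fun (MvPolynomial.comp_aeval (fun i => c i) σ.toAlgHom) p).symm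
    exact congrArg (fun g => MvPolynomial.aeval g p) (funext fun i => hπ₀ (Sum.inl i))
  have hsnd : ∀ (i : Fin d) (a b : E), E.res b = 0 →
      TrivSqZeroExt.snd (pr i (a * b)) = E.res a * TrivSqZeroExt.snd (pr i b) := by
    intro i a b hb
    rw [map_mul]
    change TrivSqZeroExt.fst (pr i a) • TrivSqZeroExt.snd (pr i b) +
      MulOpposite.op (TrivSqZeroExt.fst (pr i b)) • TrivSqZeroExt.snd (pr i a) = _
    rw [show TrivSqZeroExt.fst (pr i a) = E.res a from Art.res_app (pr i) a,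
      show TrivSqZeroExt.fst (pr i b) = E.res b from Art.res_app (pr i) b, hb]
    simp
  have hsurj : Function.Surjective π₀.1 := fun z => by
    obtain ⟨r, hr⟩ := hres (E.res z)
    choose a ha using fun j : Fin d => hres (TrivSqZeroExt.snd (pr j z))
    refine ⟨r + ∑ j, a j * x (Sum.inr ⟨j⟩), hsep _ _ ?_ fun i => ?_⟩
    · rw [map_add, map_add, map_sum, map_sum, hr, show E.res (σ (E.res z)) = E.res z from Art.res_app σ _]
      rw [Finset.sum_eq_zero fun j _ => ?_, add_zero]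
      · rw [map_mul, hπ₀]
        exact (map_mul E.res _ _).trans (by rw [Sum.elim_inr, he, mul_zero])
    · rw [map_add, map_sum, map_add, map_sum]
      refine ((TrivSqZeroExt.snd_add (R := k) (M := k) _ _).trans
        (congrArg _ (TrivSqZeroExt.snd_sum _ _))).trans ?_
      rw [hr]
      refine (congrArg₂ (· + ·) (hσ i (E.res z)) (Finset.sum_eq_single i ?_ ?_)).trans ?_
      rotate_left 2
      · rw [zero_add, map_mul π₀.1, hπ₀, Sum.elim_inr, hsnd _ _ _ (he i), hpe, if_pos rfl, mul_one, ha i]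
        exact Art.res_app σ _
      · intro j _ hj
        rw [map_mul π₀.1, hπ₀, Sum.elim_inr, hsnd _ _ _ (he j), hpe, if_neg (Ne.symm hj), mul_zero]
      · exact fun h => absurd (Finset.mem_univ i) h
  obtain ⟨Q, q, hq, hqs, hqker, hQsm, hQtan⟩ := exists_smooth_quot hfree (RingHom.ker π₀.1)
    ((ker_le_ker_res π₀).trans_eq (cring_ker_eq P))
  let πQ : Q.carrier →ₐ[Λ] E := AlgHom.liftOfSurjective q hqs π₀.1 hqker
  have hπQ : ∀ a, πQ (q a) = π₀.1 a := fun a => AlgHom.liftOfSurjective_apply _ hqs _ _ a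
  let πQ' : HomSet Q.carrier Q.res E := ⟨πQ, AlgHom.ext fun r => by
    obtain ⟨a, rfl⟩ := hqs r
    rw [AlgHom.comp_apply, hπQ, ← AlgHom.comp_apply, ← AlgHom.comp_apply, hq, π₀.2]⟩
  let S₀ : Stage Q.carrier Q.res F := ⟨E, πQ', fun z => by
    obtain ⟨a, rfl⟩ := hsurj z
    exact ⟨q a, hπQ a⟩, η⟩
  let Ms : Submodule k (TangentSpace F) :=
    { carrier := Set.range fun g : E ⟶ dual Λ k => TangentSpace.mk (F.map g η)
      add_mem' := by
        rintro - - ⟨g, rfl⟩ ⟨g', rfl⟩
        exact ⟨sumHom g g', (add_map g g' η).symm⟩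
      zero_mem' := ⟨zeroHom _, zero_map η⟩
      smul_mem' := by
        rintro a - ⟨g, rfl⟩
        exact ⟨g ≫ scale a, (smul_map a g η).symm⟩ }
  have hMs : Ms = ⊤ := by
    rw [← top_le_iff, ← hC.sup_eq_top]
    refine sup_le ?_ ?_
    · rintro - ⟨τ, rfl⟩
      refine ⟨toBase E ≫ τ, ?_⟩
      change F.map (toBase E ≫ τ) η = F.map τ x₀
      rw [← map_map, @Subsingleton.elim _ h0.2 (F.map (toBase E) η) x₀]
    · intro z hz
      have : (⟨z, hz⟩ : C) ∈ Ms.comap C.subtype := by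
        have htop : (⊤ : Submodule k C) ≤ Ms.comap C.subtype := by
          rw [← θ.span_eq, Submodule.span_le]
          rintro - ⟨i, rfl⟩
          exact ⟨pr i, hη i⟩
        exact htop Submodule.mem_top
      exact this
  obtain ⟨R, r, hr, ξ, πR, hrs, hπR, hξ₀, hver⟩ := exists_versal_quot h0 h1 h2 Q hQsm S₀ fun θ' => by
    obtain ⟨g, hg⟩ : TangentSpace.mk θ' ∈ Ms := hMs ▸ Submodule.mem_top
    exact ⟨g, hg⟩
  refine ⟨R, ξ, hver, fun hinj => ?_⟩
  have hfac : ∀ φ : HomSet R.carrier R.res (dual Λ k), ∃ g : E ⟶ dual Λ k, HomSet.map g πR = φ := by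
    intro φ
    let φQ : HomSet Q.carrier Q.res (dual Λ k) := ⟨φ.1.comp r, by rw [← AlgHom.comp_assoc, φ.2, hr]⟩
    let φP : HomSet P.carrier P.res (dual Λ k) := ⟨φQ.1.comp q, by rw [← AlgHom.comp_assoc, φQ.2, hq]⟩
    obtain ⟨g, hg⟩ := exists_desc_homSet π₀ hsurj φP fun a ha => by
      refine RingHom.mem_ker.2 (dual_ext ?_ ?_)
      · refine ((DFunLike.congr_fun φP.2 a).trans ?_).trans (TrivSqZeroExt.fst_zero (R := k) (M := k)).symm
        rw [← π₀.2, AlgHom.comp_apply, RingHom.mem_ker.1 ha, map_zero]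
      · exact (hQtan φQ a ha).trans (TrivSqZeroExt.snd_zero (R := k) (M := k)).symm
    refine ⟨g, Subtype.ext (AlgHom.ext fun z => ?_)⟩
    obtain ⟨b, rfl⟩ := hrs z
    obtain ⟨a, rfl⟩ := hqs b
    refine (congrArg g.toAlgHom ((DFunLike.congr_fun hπR (q a)).trans (hπQ a))).trans ?_
    exact DFunLike.congr_fun (congrArg Subtype.val hg) a
  intro φ φ' hφφ'
  obtain ⟨g, rfl⟩ := hfac φ
  obtain ⟨g', rfl⟩ := hfac φ'
  rw [ξ.natural, ξ.natural, hξ₀] at hφφ'
  suffices hker : ∀ g : E ⟶ dual Λ k, TangentSpace.mk (F.map g η) = (0 : TangentSpace F) → g = zeroHom E by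
    have h2' : sumHom g (g' ≫ scale (-1)) = zeroHom E := hker _ (by
      rw [← add_map g (g' ≫ scale (-1)) η, ← smul_map, neg_one_smul]
      exact add_neg_eq_zero.2 hφφ')
    have : g = g' := dualHom_ext fun a => by
      have h3 := congrArg (fun f : E ⟶ dual Λ k => TrivSqZeroExt.snd (f a)) h2'
      rw [snd_sumHom, snd_zeroHom] at h3
      change TrivSqZeroExt.snd (g a) + TrivSqZeroExt.snd (scale (-1) (g' a)) = 0 at h3
      rw [snd_scale, neg_one_mul] at h3
      exact add_neg_eq_zero.1 h3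
    rw [this]
  intro g hg
  let a : Fin d → k := fun i => TrivSqZeroExt.snd (g (e i))
  have key : ∀ s : Finset (Fin d), ∃ h : E ⟶ dual Λ k,
      (∀ z, TrivSqZeroExt.snd (h z) = ∑ i ∈ s, a i * TrivSqZeroExt.snd (pr i z)) ∧
      TangentSpace.mk (F.map h η) = ∑ i ∈ s, a i • ((θ i : C) : TangentSpace F) := by
    classical
    intro s
    induction s using Finset.induction_on with
    | empty => exact ⟨zeroHom E, fun z => by simp, by simpa using zero_map η⟩
    | insert i s hi ih =>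
      obtain ⟨h, hh₁, hh₂⟩ := ih
      refine ⟨sumHom (pr i ≫ scale (a i)) h, fun z => ?_, ?_⟩
      · rw [snd_sumHom, hh₁, Finset.sum_insert hi]
        rfl
      · rw [← add_map, ← smul_map, hh₂, Finset.sum_insert hi, hη]
        rfl
  obtain ⟨h, hh₁, hh₂⟩ := key Finset.univ
  have hdec : g = sumHom (toBase E ≫ (σ ≫ g)) h := by
    refine dualHom_ext fun z => ?_
    obtain ⟨p, rfl⟩ := hsurj z
    rw [snd_sumHom, hh₁]
    let L : HomSet P.carrier P.res (dual Λ k) := HomSet.map g π₀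
    let Rh : HomSet P.carrier P.res (dual Λ k) := HomSet.map (sumHom (toBase E ≫ (σ ≫ g)) h) π₀
    have hLR : L = Rh := hfree.ext _ _ _ fun i => dual_ext
        ((Art.res_app g (π₀.1 (x i))).trans (Art.res_app (sumHom (toBase E ≫ (σ ≫ g)) h) (π₀.1 (x i))).symm) (by
          change TrivSqZeroExt.snd (g (π₀.1 (x i))) = TrivSqZeroExt.snd (sumHom (toBase E ≫ (σ ≫ g)) h (π₀.1 (x i)))
          rw [snd_sumHom, hh₁, hπ₀]
          rcases i with i | j
          · rw [Sum.elim_inl]
            refine Eq.trans ?_ (congrArg₂ (· + ·) rfl (Finset.sum_eq_zero fun j _ => mul_eq_zero_of_right _ (hσ j (c i)))).symm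
            rw [add_zero]
            exact congrArg (fun t : Art.base Λ k => TrivSqZeroExt.snd (g (σ t))) (Art.res_app σ (c i)).symm
          · rw [Sum.elim_inr, Finset.sum_eq_single j.down (fun i _ hi => by rw [hpe, if_neg hi, mul_zero])
              (fun h => absurd (Finset.mem_univ _) h), hpe, if_pos rfl, mul_one]
            refine Eq.trans ?_ (congrArg₂ (· + ·) (?_ : TrivSqZeroExt.snd ((toBase E ≫ (σ ≫ g)) (e j.down)) = 0) rfl).symm
            · rw [zero_add]
            · exact (congrArg (fun t : Art.base Λ k => TrivSqZeroExt.snd (g (σ t))) (he j.down)).trans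
                ((congrArg TrivSqZeroExt.snd ((congrArg g.toAlgHom (map_zero σ.toAlgHom)).trans
                  (map_zero g.toAlgHom))).trans (TrivSqZeroExt.snd_zero (R := k) (M := k))))
    have := congrArg (fun χ : HomSet P.carrier P.res (dual Λ k) => TrivSqZeroExt.snd (χ.1 p)) hLR
    refine this.trans ?_
    change TrivSqZeroExt.snd (sumHom (toBase E ≫ (σ ≫ g)) h (π₀.1 p)) = _
    rw [snd_sumHom, hh₁]
  rw [hdec, ← add_map, hh₂] at hg
  have hW : TangentSpace.mk (F.map (toBase E ≫ (σ ≫ g)) η) ∈ W :=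
    ⟨σ ≫ g, by change F.map (σ ≫ g) x₀ = F.map _ η; rw [← map_map F (toBase E), @Subsingleton.elim _ h0.2 (F.map (toBase E) η) x₀]⟩
  have hCm : (∑ i, a i • ((θ i : C) : TangentSpace F)) = ((∑ i, a i • θ i : C) : TangentSpace F) := by
    rw [Submodule.coe_sum]; rfl
  have h0sum : (∑ i, a i • θ i : C) = 0 := by
    apply Subtype.ext
    refine Submodule.disjoint_def.1 hC.disjoint _ ?_ (Subtype.mem _)
    rw [← hCm, show (∑ i, a i • ((θ i : C) : TangentSpace F)) = - TangentSpace.mk (F.map (toBase E ≫ (σ ≫ g)) η) from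
      eq_neg_of_add_eq_zero_right hg]
    exact neg_mem hW
  rw [hCm, h0sum, Submodule.coe_zero, add_zero] at hg
  have hσg : σ ≫ g = zeroHom _ := hinj x₀ (by
    change F.map (σ ≫ g) x₀ = F.map (zeroHom _) x₀
    rw [← @Subsingleton.elim _ h0.2 (F.map (toBase E) η) x₀, map_map]
    refine hg.trans ?_
    rw [map_map, show toBase E ≫ zeroHom (Art.base Λ k) = zeroHom E from dualHom_ext fun _ => rfl]
    exact (zero_map η).symm)
  have ha0 : ∀ i, a i = 0 := fun i => Fintype.linearIndependent_iff.1 θ.linearIndependent a h0sum i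
  rw [hdec]
  refine dualHom_ext fun z => ?_
  rw [snd_sumHom, hh₁, snd_zeroHom, hσg]
  simp [ha0]

end Groth.L12
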