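import Mathlib.Algebra.Category.Ring.FilteredColimits
import Mathlib.CategoryTheory.Limits.Constructions.Over.Connected
import Mathlib.RingTheory.FinitePresentation
import Mathlib.RingTheory.IntegralClosure.IsIntegral.Basic
import Mathlib.RingTheory.IntegralClosure.IsIntegralClosure.Basic
import Mathlib.RingTheory.Nilpotent.Lemmas
import Mathlib.RingTheory.Noetherian.Nilpotent
import Mathlib.Algebra.Category.Ring.Colimits
import Mathlib.RingTheory.Ideal.Operations

/-!
A homomorphism of integral `A`-algebras as a filtered colimit of pairs of finite finitely presented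
`A`-algebras: index category, diagrams and cocones.
-/

set_option autoImplicit false

universe u

open CategoryTheory CategoryTheory.Limits MvPolynomial

namespace Groth.L12.IntPairs

variable (A B C : Type u) [CommRing A] [CommRing B] [CommRing C] [Algebra A B] [Algebra A C]
  [Algebra B C] [IsScalarTower A B C]

variable {A B C}

/-- Evaluation of the free algebra on a finite subset. -/
noncomputable def ev {R : Type u} [CommRing R] [Algebra A R] (E : Finset R) :
    MvPolynomial E A →ₐ[A] R := aeval (fun e : E => (e : R))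

/-- Renaming along an inclusion. -/
noncomputable def inc {R : Type u} {E E' : Finset R} (h : E ⊆ E') :
    MvPolynomial E A →ₐ[A] MvPolynomial E' A := rename (fun e => ⟨e.1, h e.2⟩)

lemma inc_refl {R : Type u} {E : Finset R} (h : E ⊆ E) (p : MvPolynomial E A) : inc h p = p := by
  have : (fun e : E => (⟨e.1, h e.2⟩ : E)) = id := rfl
  simp [inc, this]

lemma inc_inc {R : Type u} {E E' E'' : Finset R} (h : E ⊆ E') (h' : E' ⊆ E'')
    (p : MvPolynomial E A) : inc h' (inc h p) = inc (h.trans h') p := by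
  simp only [inc, rename_rename]; rfl

lemma ev_inc {R : Type u} [CommRing R] [Algebra A R] {E E' : Finset R} (h : E ⊆ E')
    (p : MvPolynomial E A) : ev E' (inc h p) = ev E p := by
  simp only [ev, inc, aeval_rename]; rfl

/-- The map on free algebras induced by `B → C`. -/
noncomputable def mapEF {E : Finset B} {F : Finset C} (h : ∀ b ∈ E, algebraMap B C b ∈ F) :
    MvPolynomial E A →ₐ[A] MvPolynomial F A :=
  rename (fun e => ⟨algebraMap B C e.1, h e.1 e.2⟩)

lemma ev_mapEF {E : Finset B} {F : Finset C} (h : ∀ b ∈ E, algebraMap B C b ∈ F)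
    (p : MvPolynomial E A) : ev F (mapEF h p) = algebraMap B C (ev E p) := by
  have key : (ev F).comp (mapEF (A := A) h) = (IsScalarTower.toAlgHom A B C).comp (ev E) :=
    algHom_ext fun e => by simp [ev, mapEF]
  exact DFunLike.congr_fun key p

lemma inc_mapEF {E E' : Finset B} {F F' : Finset C} (h : ∀ b ∈ E, algebraMap B C b ∈ F)
    (h' : ∀ b ∈ E', algebraMap B C b ∈ F') (hE : E ⊆ E') (hF : F ⊆ F') (p : MvPolynomial E A) :
    inc hF (mapEF h p) = mapEF h' (inc hE p) := by
  simp only [inc, mapEF, rename_rename]; rfl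

variable (A B C) in
/-- Index of a finite finitely presented approximation of `B → C`. -/
structure Idx where
  E : Finset B
  F : Finset C
  hEF : ∀ b ∈ E, algebraMap B C b ∈ F
  I : Ideal (MvPolynomial E A)
  J : Ideal (MvPolynomial F A)
  hI : I.FG
  hJ : J.FG
  hIev : I ≤ RingHom.ker (ev E)
  hJev : J ≤ RingHom.ker (ev F)
  hIJ : I ≤ J.comap (mapEF hEF)
  hintB : ∀ e : E, ∃ p : Polynomial A, p.Monic ∧ Polynomial.aeval (X e : MvPolynomial E A) p ∈ I
  hintC : ∀ e : F, ∃ p : Polynomial A, p.Monic ∧ Polynomial.aeval (X e : MvPolynomial F A) p ∈ J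
  hsB : Function.Surjective (algebraMap A B) → ∀ e : E, ∃ a : A, (X e - MvPolynomial.C a) ∈ I
  hsC : Function.Surjective (algebraMap A C) → ∀ e : F, ∃ a : A, (X e - MvPolynomial.C a) ∈ J
  hsBC : Function.Surjective (algebraMap B C) → ∀ c ∈ F, ∃ b ∈ E, algebraMap B C b = c
  hnBC : Function.Surjective (algebraMap B C) → IsNilpotent (RingHom.ker (algebraMap B C)) →
    J.comap (mapEF hEF) ≤ I.radical

namespace Idx

instance : Preorder (Idx A B C) where
  le i j := ∃ (hE : i.E ⊆ j.E) (hF : i.F ⊆ j.F), i.I ≤ j.I.comap (inc hE) ∧ i.J ≤ j.J.comap (inc hF)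
  le_refl i := ⟨subset_refl _, subset_refl _,
    fun p hp => by rw [Ideal.mem_comap, inc_refl]; exact hp,
    fun p hp => by rw [Ideal.mem_comap, inc_refl]; exact hp⟩
  le_trans i j k := fun ⟨hE, hF, h1, h2⟩ ⟨hE', hF', h1', h2'⟩ =>
    ⟨hE.trans hE', hF.trans hF',
      fun p hp => by rw [Ideal.mem_comap, ← inc_inc hE hE']; exact h1' (h1 hp),
      fun p hp => by rw [Ideal.mem_comap, ← inc_inc hF hF']; exact h2' (h2 hp)⟩

/-- The approximating `A`-algebra of `B`. -/
abbrev RB (i : Idx A B C) : Type u := MvPolynomial i.E A ⧸ i.I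

/-- The approximating `A`-algebra of `C`. -/
abbrev RC (i : Idx A B C) : Type u := MvPolynomial i.F A ⧸ i.J

end Idx

variable [Algebra.IsIntegral A B] [Algebra.IsIntegral A C]

/-- For a finite set of generators, a finite set of relations making everything integral, and
hitting the scalars when possible. -/
lemma exists_rels {R : Type u} [CommRing R] [Algebra A R] [Algebra.IsIntegral A R] (E : Finset R) :
    ∃ S : Set (MvPolynomial E A), S.Finite ∧ (∀ x ∈ S, ev E x = 0) ∧
      (∀ e : E, ∃ p : Polynomial A, p.Monic ∧ Polynomial.aeval (X e : MvPolynomial E A) p ∈ S) ∧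
      (Function.Surjective (algebraMap A R) → ∀ e : E, ∃ a : A, (X e - MvPolynomial.C a) ∈ S) := by
  classical
  choose p hp hp0 using fun e : E => Algebra.IsIntegral.isIntegral (R := A) (e : R)
  let r : E → MvPolynomial E A := fun e =>
    if h : ∃ a, algebraMap A R a = e then X e - MvPolynomial.C h.choose else 0
  refine ⟨Set.range (fun e => Polynomial.aeval (X e : MvPolynomial E A) (p e)) ∪ Set.range r,
    (Set.finite_range _).union (Set.finite_range _), ?_, fun e => ⟨p e, hp e, Or.inl ⟨e, rfl⟩⟩, ?_⟩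
  · rintro x (⟨e, rfl⟩ | ⟨e, rfl⟩)
    · change ev E (Polynomial.aeval (X e : MvPolynomial E A) (p e)) = 0
      rw [← Polynomial.aeval_algHom_apply]
      simp only [ev, aeval_X]
      exact hp0 e
    · simp only [r]
      split_ifs with h
      · simp [ev, h.choose_spec]
      · simp
  · intro hs e
    obtain ⟨a, ha⟩ := hs (e : R)
    refine ⟨(⟨a, ha⟩ : ∃ a, algebraMap A R a = e).choose, Or.inr ⟨e, ?_⟩⟩
    simp only [r]
    rw [dif_pos ⟨a, ha⟩]

/-- Every finite amount of data is contained in an index. -/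
lemma exists_idx (E₀ : Finset B) (F₀ : Finset C) (S : Set (MvPolynomial E₀ A))
    (T : Set (MvPolynomial F₀ A)) (hS : S.Finite) (hT : T.Finite)
    (hSev : ∀ x ∈ S, ev E₀ x = 0) (hTev : ∀ x ∈ T, ev F₀ x = 0) :
    ∃ (i : Idx A B C) (hE : E₀ ⊆ i.E) (hF : F₀ ⊆ i.F),
      (∀ x ∈ S, inc hE x ∈ i.I) ∧ ∀ x ∈ T, inc hF x ∈ i.J := by
  classical
  let g : C → B := fun c => if h : ∃ b, algebraMap B C b = c then h.choose else 0
  let E : Finset B := E₀ ∪ F₀.image g
  let F : Finset C := F₀ ∪ E.image (algebraMap B C)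
  have hE : E₀ ⊆ E := Finset.subset_union_left
  have hF : F₀ ⊆ F := Finset.subset_union_left
  have hEF : ∀ b ∈ E, algebraMap B C b ∈ F := fun b hb =>
    Finset.mem_union_right _ (Finset.mem_image_of_mem _ hb)
  obtain ⟨SB, hSB, hSBev, hSBint, hSBs⟩ := exists_rels (A := A) E
  obtain ⟨SC, hSC, hSCev, hSCint, hSCs⟩ := exists_rels (A := A) F
  let S1 : Set (MvPolynomial E A) := inc hE '' S ∪ SB
  let J : Ideal (MvPolynomial F A) :=
    Ideal.span (inc hF '' T ∪ SC ∪ mapEF hEF '' S1)
  have hS1ev : ∀ x ∈ S1, ev E x = 0 := by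
    rintro x (⟨y, hy, rfl⟩ | hx)
    · rw [ev_inc]; exact hSev y hy
    · exact hSBev x hx
  have hJfg : J.FG :=
    Submodule.fg_span (((hT.image _).union hSC).union (((hS.image _).union hSB).image _))
  have hJev : J ≤ RingHom.ker (ev F) := by
    rw [Ideal.span_le]
    rintro x ((⟨y, hy, rfl⟩ | hx) | ⟨y, hy, rfl⟩)
    · rw [SetLike.mem_coe, RingHom.mem_ker, ev_inc]; exact hTev y hy
    · exact hSCev x hx
    · have h0 : ev E y = 0 := hS1ev y hy
      rw [SetLike.mem_coe, RingHom.mem_ker, ev_mapEF, h0, map_zero]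
  have hsBC : Function.Surjective (algebraMap B C) → ∀ c ∈ F, ∃ b ∈ E, algebraMap B C b = c := by
    intro hs c hc
    rcases Finset.mem_union.1 hc with h | h
    · refine ⟨g c, Finset.mem_union_right _ (Finset.mem_image_of_mem _ h), ?_⟩
      simp only [g]
      rw [dif_pos (hs c)]
      exact (hs c).choose_spec
    · obtain ⟨b, hb, rfl⟩ := Finset.mem_image.1 h
      exact ⟨b, hb, rfl⟩
  -- nilpotency relations
  have hnil : ∃ S2 : Set (MvPolynomial E A), S2.Finite ∧ (∀ x ∈ S2, ev E x = 0) ∧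
      S2 ⊆ J.comap (mapEF hEF) ∧
      (Function.Surjective (algebraMap B C) → IsNilpotent (RingHom.ker (algebraMap B C)) →
        J.comap (mapEF hEF) ≤ (Ideal.span S2).radical) := by
    by_cases hcond : Function.Surjective (algebraMap B C) ∧
        IsNilpotent (RingHom.ker (algebraMap B C))
    swap
    · exact ⟨∅, Set.finite_empty, by simp, by simp, fun h1 h2 => absurd ⟨h1, h2⟩ hcond⟩
    obtain ⟨hs, N, hN⟩ := hcond
    have hsurj : Function.Surjective (mapEF (A := A) hEF) := by
      refine rename_surjective _ fun c => ?_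
      obtain ⟨b, hb, hbc⟩ := hsBC hs c.1 c.2
      exact ⟨⟨b, hb⟩, Subtype.ext hbc⟩
    haveI : Algebra.FinitePresentation A (MvPolynomial F A ⧸ J) :=
      Algebra.FinitePresentation.quotient hJfg
    have hker : (J.comap (mapEF hEF)).FG := by
      have h := Algebra.FinitePresentation.ker_fG_of_surjective
        ((Ideal.Quotient.mkₐ A J).comp (mapEF (A := A) hEF))
        ((Ideal.Quotient.mkₐ_surjective A J).comp hsurj)
      have e : RingHom.ker ((Ideal.Quotient.mkₐ A J).comp (mapEF (A := A) hEF)) =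
          J.comap (mapEF hEF) := by
        ext x
        exact Ideal.Quotient.eq_zero_iff_mem
      rwa [← e]
    obtain ⟨G, hG, hGK⟩ := Submodule.fg_def.1 hker
    refine ⟨(fun x => x ^ (N + 1)) '' G, hG.image _, ?_, ?_, fun _ _ => ?_⟩
    · rintro _ ⟨x, hx, rfl⟩
      have hxK : x ∈ J.comap (mapEF hEF) := hGK ▸ Submodule.subset_span hx
      have h1 : ev F (mapEF hEF x) = 0 := hJev hxK
      rw [ev_mapEF] at h1
      have h2 : ev E x ^ N ∈ RingHom.ker (algebraMap B C) ^ N :=
        Ideal.pow_mem_pow (RingHom.mem_ker.2 h1) N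
      rw [hN, Ideal.zero_eq_bot, Ideal.mem_bot] at h2
      rw [map_pow, pow_succ, h2, zero_mul]
    · rintro _ ⟨x, hx, rfl⟩
      exact Ideal.pow_mem_of_mem _ (hGK ▸ Submodule.subset_span hx) _ (Nat.succ_pos N)
    · rw [← hGK]
      refine Ideal.span_le.2 fun x hx => ?_
      exact ⟨N + 1, Ideal.subset_span ⟨x, hx, rfl⟩⟩
  obtain ⟨S2, hS2, hS2ev, hS2J, hS2rad⟩ := hnil
  refine ⟨⟨E, F, hEF, Ideal.span (S1 ∪ S2), J,
    Submodule.fg_span (((hS.image _).union hSB).union hS2), hJfg, ?_, hJev, ?_, ?_, ?_, ?_, ?_,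
    hsBC, ?_⟩, hE, hF, ?_, ?_⟩
  · exact Ideal.span_le.2 (Set.union_subset hS1ev hS2ev :)
  · refine Ideal.span_le.2 (Set.union_subset (fun x hx => ?_) hS2J)
    exact Ideal.subset_span (Or.inr ⟨x, hx, rfl⟩)
  · intro e
    obtain ⟨p, hp, hp'⟩ := hSBint e
    exact ⟨p, hp, Ideal.subset_span (Or.inl (Or.inr hp'))⟩
  · intro e
    obtain ⟨p, hp, hp'⟩ := hSCint e
    exact ⟨p, hp, Ideal.subset_span (Or.inl (Or.inr hp'))⟩
  · intro hs e
    obtain ⟨a, ha⟩ := hSBs hs e
    exact ⟨a, Ideal.subset_span (Or.inl (Or.inr ha))⟩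
  · intro hs e
    obtain ⟨a, ha⟩ := hSCs hs e
    exact ⟨a, Ideal.subset_span (Or.inl (Or.inr ha))⟩
  · exact fun h1 h2 => (hS2rad h1 h2).trans
      (Ideal.radical_mono (Ideal.span_mono Set.subset_union_right))
  · exact fun x hx => Ideal.subset_span (Or.inl (Or.inl ⟨x, hx, rfl⟩))
  · exact fun x hx => Ideal.subset_span (Or.inl (Or.inl ⟨x, hx, rfl⟩))

instance : Nonempty (Idx A B C) :=
  ⟨(exists_idx ∅ ∅ ∅ ∅ Set.finite_empty Set.finite_empty (by simp) (by simp)).choose⟩

/-- Two indices and finitely many extra relations have an upper bound. -/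
lemma exists_upper (i j : Idx A B C) : ∃ k, i ≤ k ∧ j ≤ k := by
  classical
  obtain ⟨GI, hGI, hI⟩ := Submodule.fg_def.1 i.hI
  obtain ⟨GI', hGI', hI'⟩ := Submodule.fg_def.1 j.hI
  obtain ⟨GJ, hGJ, hJ⟩ := Submodule.fg_def.1 i.hJ
  obtain ⟨GJ', hGJ', hJ'⟩ := Submodule.fg_def.1 j.hJ
  let h1 : i.E ⊆ i.E ∪ j.E := Finset.subset_union_left
  let h2 : j.E ⊆ i.E ∪ j.E := Finset.subset_union_right
  let h3 : i.F ⊆ i.F ∪ j.F := Finset.subset_union_left
  let h4 : j.F ⊆ i.F ∪ j.F := Finset.subset_union_right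
  have hsev : ∀ x ∈ inc (A := A) h1 '' GI ∪ inc h2 '' GI', ev (i.E ∪ j.E) x = 0 := by
    rintro x (⟨y, hy, rfl⟩ | ⟨y, hy, rfl⟩)
    · rw [ev_inc]
      exact i.hIev (hI ▸ Submodule.subset_span hy)
    · rw [ev_inc]
      exact j.hIev (hI' ▸ Submodule.subset_span hy)
  have htev : ∀ x ∈ inc (A := A) h3 '' GJ ∪ inc h4 '' GJ', ev (i.F ∪ j.F) x = 0 := by
    rintro x (⟨y, hy, rfl⟩ | ⟨y, hy, rfl⟩)
    · rw [ev_inc]
      exact i.hJev (hJ ▸ Submodule.subset_span hy)
    · rw [ev_inc]
      exact j.hJev (hJ' ▸ Submodule.subset_span hy)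
  obtain ⟨k, hE, hF, hS, hT⟩ := exists_idx _ _ _ _ ((hGI.image _).union (hGI'.image _))
    ((hGJ.image _).union (hGJ'.image _)) hsev htev
  refine ⟨k, ⟨h1.trans hE, h3.trans hF, ?_, ?_⟩, ⟨h2.trans hE, h4.trans hF, ?_, ?_⟩⟩
  · rw [← hI]; refine Submodule.span_le.2 fun y hy => ?_
    rw [SetLike.mem_coe, Ideal.mem_comap, ← inc_inc h1 hE]
    exact hS _ (Or.inl ⟨y, hy, rfl⟩)
  · rw [← hJ]; refine Submodule.span_le.2 fun y hy => ?_
    rw [SetLike.mem_coe, Ideal.mem_comap, ← inc_inc h3 hF]
    exact hT _ (Or.inl ⟨y, hy, rfl⟩)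
  · rw [← hI']; refine Submodule.span_le.2 fun y hy => ?_
    rw [SetLike.mem_coe, Ideal.mem_comap, ← inc_inc h2 hE]
    exact hS _ (Or.inr ⟨y, hy, rfl⟩)
  · rw [← hJ']; refine Submodule.span_le.2 fun y hy => ?_
    rw [SetLike.mem_coe, Ideal.mem_comap, ← inc_inc h4 hF]
    exact hT _ (Or.inr ⟨y, hy, rfl⟩)

instance : IsDirectedOrder (Idx A B C) := ⟨exists_upper⟩

omit [Algebra.IsIntegral A B] [Algebra.IsIntegral A C]

/-- An `A`-algebra homomorphism as a morphism of `Under A`. -/
noncomputable def uhom {R S : Type u} [CommRing R] [CommRing S] [Algebra A R] [Algebra A S]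
    (φ : R →ₐ[A] S) : Under.mk (CommRingCat.ofHom (algebraMap A R)) ⟶
      Under.mk (CommRingCat.ofHom (algebraMap A S)) :=
  Under.homMk (CommRingCat.ofHom φ.toRingHom)
    (CommRingCat.hom_ext φ.comp_algebraMap)

@[simp] lemma uhom_right {R S : Type u} [CommRing R] [CommRing S] [Algebra A R] [Algebra A S]
    (φ : R →ₐ[A] S) : (uhom φ).right = CommRingCat.ofHom φ.toRingHom := rfl

lemma uhom_ext {R S : Type u} [CommRing R] [CommRing S] [Algebra A R] [Algebra A S]
    {φ ψ : Under.mk (CommRingCat.ofHom (algebraMap A R)) ⟶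
      Under.mk (CommRingCat.ofHom (algebraMap A S))}
    (h : ∀ x : R, φ.right.hom x = ψ.right.hom x) : φ = ψ :=
  Under.UnderMorphism.ext (CommRingCat.hom_ext (RingHom.ext h))

noncomputable def mapB {i j : Idx A B C} (h : i ≤ j) : i.RB →ₐ[A] j.RB :=
  Ideal.quotientMapₐ j.I (inc h.choose) h.choose_spec.choose_spec.1

lemma mapB_mk {i j : Idx A B C} (h : i ≤ j) (hE : i.E ⊆ j.E) (p : MvPolynomial i.E A) :
    mapB h (Ideal.Quotient.mk i.I p) = Ideal.Quotient.mk j.I (inc hE p) := rfl

noncomputable def mapC {i j : Idx A B C} (h : i ≤ j) : i.RC →ₐ[A] j.RC :=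
  Ideal.quotientMapₐ j.J (inc h.choose_spec.choose) h.choose_spec.choose_spec.2

lemma mapC_mk {i j : Idx A B C} (h : i ≤ j) (hF : i.F ⊆ j.F) (p : MvPolynomial i.F A) :
    mapC h (Ideal.Quotient.mk i.J p) = Ideal.Quotient.mk j.J (inc hF p) := rfl

variable (A B C) in
/-- The diagram of approximations of `B`. -/
noncomputable def DB : Idx A B C ⥤ Under (CommRingCat.of A) where
  obj i := Under.mk (CommRingCat.ofHom (algebraMap A i.RB))
  map f := uhom (mapB (leOfHom f))
  map_id i := uhom_ext fun x => by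
    obtain ⟨p, rfl⟩ := Ideal.Quotient.mk_surjective x
    change mapB (le_refl i) (Ideal.Quotient.mk i.I p) = Ideal.Quotient.mk i.I p
    rw [mapB_mk _ (subset_refl _), inc_refl]
  map_comp {i j k} f g := uhom_ext fun x => by
    obtain ⟨p, rfl⟩ := Ideal.Quotient.mk_surjective x
    exact (congrArg (Ideal.Quotient.mk k.I)
      (inc_inc (leOfHom f).choose (leOfHom g).choose p)).symm

variable (A B C) in
/-- The diagram of approximations of `C`. -/
noncomputable def DC : Idx A B C ⥤ Under (CommRingCat.of A) where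
  obj i := Under.mk (CommRingCat.ofHom (algebraMap A i.RC))
  map f := uhom (mapC (leOfHom f))
  map_id i := uhom_ext fun x => by
    obtain ⟨p, rfl⟩ := Ideal.Quotient.mk_surjective x
    change mapC (le_refl i) (Ideal.Quotient.mk i.J p) = Ideal.Quotient.mk i.J p
    rw [mapC_mk _ (subset_refl _), inc_refl]
  map_comp {i j k} f g := uhom_ext fun x => by
    obtain ⟨p, rfl⟩ := Ideal.Quotient.mk_surjective x
    exact (congrArg (Ideal.Quotient.mk k.J)
      (inc_inc (leOfHom f).choose_spec.choose (leOfHom g).choose_spec.choose p)).symm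

noncomputable def toC (i : Idx A B C) : i.RB →ₐ[A] i.RC :=
  Ideal.quotientMapₐ i.J (mapEF i.hEF) i.hIJ

variable (A B C) in
/-- The morphism of diagrams. -/
noncomputable def tau : DB A B C ⟶ DC A B C where
  app i := uhom (toC i)
  naturality {i j} f := uhom_ext fun x => by
    obtain ⟨p, rfl⟩ := Ideal.Quotient.mk_surjective x
    exact (congrArg (Ideal.Quotient.mk j.J)
      (inc_mapEF i.hEF j.hEF (leOfHom f).choose (leOfHom f).choose_spec.choose p)).symm

noncomputable def evB (i : Idx A B C) : i.RB →ₐ[A] B :=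
  Ideal.Quotient.liftₐ i.I (ev i.E) fun _ ha => i.hIev ha

noncomputable def evC (i : Idx A B C) : i.RC →ₐ[A] C :=
  Ideal.Quotient.liftₐ i.J (ev i.F) fun _ ha => i.hJev ha

variable (A B C) in
/-- The cocone to `B`. -/
noncomputable def coB : DB A B C ⟶
    (Functor.const (Idx A B C)).obj (Under.mk (CommRingCat.ofHom (algebraMap A B))) where
  app i := uhom (evB i)
  naturality {i j} f := uhom_ext fun x => by
    obtain ⟨p, rfl⟩ := Ideal.Quotient.mk_surjective x
    exact ev_inc (leOfHom f).choose p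

variable (A B C) in
/-- The cocone to `C`. -/
noncomputable def coC : DC A B C ⟶
    (Functor.const (Idx A B C)).obj (Under.mk (CommRingCat.ofHom (algebraMap A C))) where
  app i := uhom (evC i)
  naturality {i j} f := uhom_ext fun x => by
    obtain ⟨p, rfl⟩ := Ideal.Quotient.mk_surjective x
    exact ev_inc (leOfHom f).choose_spec.choose p

lemma comm (i : Idx A B C) :
    ((tau A B C).app i).right ≫ ((coC A B C).app i).right =
      ((coB A B C).app i).right ≫ CommRingCat.ofHom (algebraMap B C) := by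
  refine CommRingCat.hom_ext (RingHom.ext fun x => ?_)
  obtain ⟨p, rfl⟩ := Ideal.Quotient.mk_surjective x
  exact ev_mapEF i.hEF p

/-- A cocone in `Under A` over a filtered category is colimiting if it is jointly surjective and
separating on underlying sets. -/
lemma isColimit_of_surj_sep {ι : Type u} [SmallCategory ι] [IsFiltered ι]
    {D : ι ⥤ Under (CommRingCat.of A)} (c : Cocone D)
    (hs : ∀ x : c.pt.right, ∃ (i : ι) (y : (D.obj i).right), (c.ι.app i).right y = x)
    (hi : ∀ (i : ι) (x y : (D.obj i).right), (c.ι.app i).right x = (c.ι.app i).right y →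
      ∃ (k : ι) (f : i ⟶ k), (D.map f).right x = (D.map f).right y) :
    Nonempty (IsColimit c) := by
  haveI : IsConnected ι := IsFiltered.isConnected ι
  haveI : ReflectsColimitsOfShape ι (forget CommRingCat.{u}) :=
    reflectsColimitsOfShape_of_reflectsIsomorphisms
  refine ⟨isColimitOfReflects (Under.forget _) (isColimitOfReflects (forget CommRingCat)
    (Types.FilteredColimit.isColimitOf _ _ (fun x => ?_) (fun i j x y h => ?_)))⟩
  · obtain ⟨i, y, hy⟩ := hs x
    exact ⟨i, y, hy.symm⟩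
  · obtain ⟨m, f, g, -⟩ : ∃ (m : ι) (f : i ⟶ m) (g : j ⟶ m), True :=
      ⟨IsFiltered.max i j, IsFiltered.leftToMax i j, IsFiltered.rightToMax i j, trivial⟩
    have e1 : (c.ι.app m).right ((D.map f).right x) = (c.ι.app i).right x := by
      have h1 : (D.map f).right ≫ (c.ι.app m).right = (c.ι.app i).right := by
        rw [← Under.comp_right, c.w f]
      exact congr($h1 x)
    have e2 : (c.ι.app m).right ((D.map g).right y) = (c.ι.app j).right y := by
      have h1 : (D.map g).right ≫ (c.ι.app m).right = (c.ι.app j).right := by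
        rw [← Under.comp_right, c.w g]
      exact congr($h1 y)
    obtain ⟨k, e, he⟩ := hi m _ _ (e1.trans (h.trans e2.symm))
    refine ⟨k, f ≫ e, g ≫ e, ?_⟩
    change (D.map (f ≫ e)).right x = (D.map (g ≫ e)).right y
    rw [D.map_comp, D.map_comp]
    exact he

variable [Algebra.IsIntegral A B] [Algebra.IsIntegral A C]

lemma isColimit_B : Nonempty (IsColimit (Cocone.mk _ (coB A B C))) := by
  refine isColimit_of_surj_sep _ (fun x => ?_) (fun i x y h => ?_)
  · obtain ⟨i, hE, -, -, -⟩ := exists_idx (A := A) (C := C) ({x} : Finset B) ∅ ∅ ∅ Set.finite_empty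
      Set.finite_empty (by simp) (by simp)
    refine ⟨i, Ideal.Quotient.mk i.I (X ⟨x, hE (Finset.mem_singleton_self x)⟩), ?_⟩
    exact aeval_X (fun e : i.E => (e : B)) _
  · obtain ⟨p, rfl⟩ := Ideal.Quotient.mk_surjective x
    obtain ⟨q, rfl⟩ := Ideal.Quotient.mk_surjective y
    have h' : ev i.E p = ev i.E q := h
    obtain ⟨k, hE, hF, hS, -⟩ := exists_idx (A := A) i.E i.F {p - q} ∅ (Set.finite_singleton _)
      Set.finite_empty (by rintro z rfl; simp [h']) (by simp)
    obtain ⟨l, hkl, hil⟩ := exists_upper k i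
    refine ⟨l, homOfLE hil, ?_⟩
    change mapB hil (Ideal.Quotient.mk i.I p) = mapB hil (Ideal.Quotient.mk i.I q)
    rw [mapB_mk hil (hE.trans hkl.choose), mapB_mk hil (hE.trans hkl.choose),
      Ideal.Quotient.eq, ← map_sub, ← inc_inc hE hkl.choose]
    exact hkl.choose_spec.choose_spec.1 (hS _ rfl)

lemma isColimit_C : Nonempty (IsColimit (Cocone.mk _ (coC A B C))) := by
  refine isColimit_of_surj_sep _ (fun x => ?_) (fun i x y h => ?_)
  · obtain ⟨i, -, hF, -, -⟩ := exists_idx (A := A) (B := B) ∅ ({x} : Finset C) ∅ ∅ Set.finite_empty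
      Set.finite_empty (by simp) (by simp)
    refine ⟨i, Ideal.Quotient.mk i.J (X ⟨x, hF (Finset.mem_singleton_self x)⟩), ?_⟩
    exact aeval_X (fun e : i.F => (e : C)) _
  · obtain ⟨p, rfl⟩ := Ideal.Quotient.mk_surjective x
    obtain ⟨q, rfl⟩ := Ideal.Quotient.mk_surjective y
    have h' : ev i.F p = ev i.F q := h
    obtain ⟨k, hE, hF, -, hT⟩ := exists_idx (A := A) i.E i.F ∅ {p - q} Set.finite_empty
      (Set.finite_singleton _) (by simp) (by rintro z rfl; simp [h'])
    obtain ⟨l, hkl, hil⟩ := exists_upper k i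
    refine ⟨l, homOfLE hil, ?_⟩
    change mapC hil (Ideal.Quotient.mk i.J p) = mapC hil (Ideal.Quotient.mk i.J q)
    rw [mapC_mk hil (hF.trans hkl.choose_spec.choose), mapC_mk hil (hF.trans hkl.choose_spec.choose),
      Ideal.Quotient.eq, ← map_sub, ← inc_inc hF hkl.choose_spec.choose]
    exact hkl.choose_spec.choose_spec.2 (hT _ rfl)

omit [Algebra.IsIntegral A B] [Algebra.IsIntegral A C]

/-- A quotient of a free algebra whose variables satisfy monic equations is finite. -/
lemma finite_quot {R : Type u} {E : Finset R} (I : Ideal (MvPolynomial E A))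
    (h : ∀ e : E, ∃ p : Polynomial A, p.Monic ∧ Polynomial.aeval (X e : MvPolynomial E A) p ∈ I) :
    Module.Finite A (MvPolynomial E A ⧸ I) := by
  have : Algebra.IsIntegral A (MvPolynomial E A ⧸ I) := ⟨fun x => by
    obtain ⟨p, rfl⟩ := Ideal.Quotient.mk_surjective x
    induction p using MvPolynomial.induction_on with
    | C a => exact isIntegral_algebraMap
    | add p q hp hq => rw [map_add]; exact hp.add hq
    | mul_X p e hp =>
      rw [map_mul]
      refine hp.mul ?_
      obtain ⟨q, hq, hq'⟩ := h e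
      refine ⟨q, hq, ?_⟩
      have := Polynomial.aeval_algHom_apply (Ideal.Quotient.mkₐ A I) (X e : MvPolynomial E A) q
      rw [← Polynomial.aeval_def]
      exact this.trans (Ideal.Quotient.eq_zero_iff_mem.2 hq')⟩
  exact Algebra.IsIntegral.finite

lemma surj_quot {R : Type u} {E : Finset R} (I : Ideal (MvPolynomial E A))
    (h : ∀ e : E, ∃ a : A, (X e - MvPolynomial.C a) ∈ I) :
    Function.Surjective (algebraMap A (MvPolynomial E A ⧸ I)) := by
  intro x
  obtain ⟨p, rfl⟩ := Ideal.Quotient.mk_surjective x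
  induction p using MvPolynomial.induction_on with
  | C a => exact ⟨a, rfl⟩
  | add p q hp hq =>
    obtain ⟨a, ha⟩ := hp
    obtain ⟨b, hb⟩ := hq
    exact ⟨a + b, by rw [map_add, map_add, ha, hb]⟩
  | mul_X p e hp =>
    obtain ⟨a, ha⟩ := hp
    obtain ⟨b, hb⟩ := h e
    refine ⟨a * b, ?_⟩
    rw [map_mul, map_mul, ha, (Ideal.Quotient.eq (I := I)).2 hb]
    rfl

lemma surj_toC (i : Idx A B C) (hs : Function.Surjective (algebraMap B C)) :
    Function.Surjective (toC i) := by
  intro x
  obtain ⟨p, rfl⟩ := Ideal.Quotient.mk_surjective x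
  have hsurj : Function.Surjective (mapEF (A := A) i.hEF) := by
    refine rename_surjective _ fun c => ?_
    obtain ⟨b, hb, hbc⟩ := i.hsBC hs c.1 c.2
    exact ⟨⟨b, hb⟩, Subtype.ext hbc⟩
  obtain ⟨q, rfl⟩ := hsurj p
  exact ⟨Ideal.Quotient.mk i.I q, rfl⟩

lemma isNilpotent_ker_toC (i : Idx A B C) (hs : Function.Surjective (algebraMap B C))
    (hn : IsNilpotent (RingHom.ker (algebraMap B C))) :
    IsNilpotent (RingHom.ker (toC i).toRingHom) := by
  have hfg : (RingHom.ker (toC i).toRingHom).FG := by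
    haveI : Algebra.FinitePresentation A i.RC := Algebra.FinitePresentation.quotient i.hJ
    haveI : Algebra.FinitePresentation A i.RB := Algebra.FinitePresentation.quotient i.hI
    exact Algebra.FinitePresentation.ker_fG_of_surjective (toC i) (surj_toC i hs)
  rw [hfg.isNilpotent_iff_le_nilradical]
  intro x hx
  obtain ⟨p, rfl⟩ := Ideal.Quotient.mk_surjective x
  obtain ⟨n, hn'⟩ := i.hnBC hs hn (Ideal.Quotient.eq_zero_iff_mem.1 hx :)
  refine ⟨n, ?_⟩
  rw [← map_pow]
  exact Ideal.Quotient.eq_zero_iff_mem.2 hn'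

end Groth.L12.IntPairs
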