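import Groth.Agent.L12.FunBasic

/-!
# Maps of functors of Artin rings with values in different universes
-/

universe u v w

open CategoryTheory ArtFun ArtFun.Art IsLocalRing

namespace Groth.L12

variable {Λ : Type u} {k : Type u} [CommRing Λ] [Field k] [Algebra Λ k]

/-- a natural map between functors possibly valued in different universes -/
structure NatMap (F : Art Λ k ⥤ Type v) (G : Art Λ k ⥤ Type w) : Type (max (u + 1) v w) where
  /-- the components -/
  app : ∀ A : Art Λ k, F.obj A → G.obj A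
  natural : ∀ {A B : Art Λ k} (f : A ⟶ B) (x : F.obj A), app B (F.map f x) = G.map f (app A x)

/-- a natural transformation as a natural map -/
def NatMap.ofNatTrans {F G : Art Λ k ⥤ Type v} (η : F ⟶ G) : NatMap F G where
  app A x := η.app A x
  natural f x := nat_apply η f x

section

variable {R : Type u} [CommRing R] [Algebra Λ R] {resR : R →ₐ[Λ] k} {F : Art Λ k ⥤ Type v}

/-- a family as a natural map out of `hR` -/
def NatMap.ofFamily (ξ : Family R resR F) : NatMap (hR R resR) F where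
  app A φ := ξ.app A φ
  natural f φ := ξ.natural f φ

end

variable {F : Art Λ k ⥤ Type v} {G : Art Λ k ⥤ Type w}

/-- the lifting property along `μ` -/
def NatMap.LiftsAlong (η : NatMap F G) {B A : Art Λ k} (μ : B ⟶ A) : Prop :=
  ∀ (x : F.obj A) (y : G.obj B), η.app A x = G.map μ y → ∃ z, F.map μ z = x ∧ η.app B z = y

/-- smoothness -/
def NatMap.Smooth (η : NatMap F G) : Prop :=
  ∀ ⦃B A : Art Λ k⦄ (μ : B ⟶ A), Function.Surjective μ → η.LiftsAlong μ

lemma isSmooth_iff {F G : Art Λ k ⥤ Type v} (η : F ⟶ G) :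
    IsSmooth η ↔ (NatMap.ofNatTrans η).Smooth :=
  forall_congr' fun _ => forall_congr' fun _ => forall_congr' fun μ =>
    imp_congr_right fun _ => relCmp_surj_iff η μ

lemma isVersal_iff {R : Type u} [CommRing R] [Algebra Λ R] {resR : R →ₐ[Λ] k}
    {F : Art Λ k ⥤ Type v} (ξ : Family R resR F) : IsVersal ξ ↔ (NatMap.ofFamily ξ).Smooth :=
  ⟨fun h _ _ μ hμ x y e => h μ hμ x y e.symm, fun h _ _ μ hμ x y e => h μ hμ x y e.symm⟩

lemma NatMap.smooth_of_small (η : NatMap F G)
    (h : ∀ ⦃B A : Art Λ k⦄ (μ : B ⟶ A), IsSmallExt μ → η.LiftsAlong μ) : η.Smooth := by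
  intro B A μ hμ
  refine surjective_induction (fun A B μ => η.LiftsAlong μ) ?_ (fun A B => h (B := B) (A := A)) ?_ μ hμ
  · intro A B e he x y hxy
    obtain ⟨z, rfl⟩ := (map_bijective_of_isIso F e).2 x
    exact ⟨z, rfl, (map_bijective_of_isIso G e).1 ((η.natural e z).symm.trans hxy)⟩
  · intro A B C p q hp hq x y hxy
    rw [← map_map] at hxy
    obtain ⟨z, hz₁, hz₂⟩ := hq x _ hxy
    obtain ⟨w, hw₁, hw₂⟩ := hp z y hz₂
    exact ⟨w, by rw [← map_map, hw₁, hz₁], hw₂⟩

lemma NatMap.surjective_app (η : NatMap F G) (hη : η.Smooth)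
    (h0 : Function.Surjective (η.app (Art.base Λ k))) (A : Art Λ k) :
    Function.Surjective (η.app A) := fun y => by
  obtain ⟨x, hx⟩ := h0 (G.map (toBase A) y)
  obtain ⟨z, -, hz⟩ := hη (toBase A) (toBase_surjective A) x y hx
  exact ⟨z, hz⟩

lemma h0_hR {R : Type u} [CommRing R] [Algebra Λ R] (resR : R →ₐ[Λ] k) : H0 (hR R resR) :=
  h0_of_surjective (Family.self R resR) Function.surjective_id

lemma rs_hR {R : Type u} [CommRing R] [Algebra Λ R] (resR : R →ₐ[Λ] k) : RS (hR R resR) :=
  fun _ _ _ _ _ _ _ _ h _ => hR_bijective_cmp h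

end Groth.L12
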