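import Mathlib.Algebra.Exact.Basic
import Mathlib.LinearAlgebra.Isomorphisms
import Mathlib.Tactic

/-!
# The nine-term sequence of a left exact sequence of three-term complexes
-/

universe u v0 v1 v2 w1 w2 v0' v1' v2' w1' w2' v0'' v1'' v2'' w1'' w2''

namespace Groth.L12.NineTerm

variable {R : Type u} [CommRing R]

/-- A complex `X₀ → X₁ → X₂` with chosen models `H₁`, `H₂` of its cohomology. -/
structure Cx (R : Type u) [CommRing R] (X0 : Type v0) (X1 : Type v1) (X2 : Type v2) (H1 : Type w1) (H2 : Type w2)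
    [AddCommGroup X0] [Module R X0] [AddCommGroup X1] [Module R X1] [AddCommGroup X2] [Module R X2]
    [AddCommGroup H1] [Module R H1] [AddCommGroup H2] [Module R H2] where
  a : X0 →ₗ[R] X1
  b : X1 →ₗ[R] X2
  comp : ∀ x, b (a x) = 0
  q1 : LinearMap.ker b →ₗ[R] H1
  q1_surj : Function.Surjective q1
  q1_ker : ∀ c, q1 c = 0 ↔ ∃ x, a x = (c : X1)
  q2 : X2 →ₗ[R] H2
  q2_surj : Function.Surjective q2
  q2_ker : ∀ c, q2 c = 0 ↔ ∃ x, b x = c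

variable {X0 : Type v0} {X1 : Type v1} {X2 : Type v2} {H1 : Type w1} {H2 : Type w2}
  [AddCommGroup X0] [Module R X0] [AddCommGroup X1] [Module R X1] [AddCommGroup X2] [Module R X2]
  [AddCommGroup H1] [Module R H1] [AddCommGroup H2] [Module R H2]
variable {Y0 : Type v0'} {Y1 : Type v1'} {Y2 : Type v2'} {I1 : Type w1'} {I2 : Type w2'}
  [AddCommGroup Y0] [Module R Y0] [AddCommGroup Y1] [Module R Y1] [AddCommGroup Y2] [Module R Y2]
  [AddCommGroup I1] [Module R I1] [AddCommGroup I2] [Module R I2]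

/-- A morphism of complexes with the induced maps on cohomology. -/
structure Mor (C : Cx R X0 X1 X2 H1 H2) (D : Cx R Y0 Y1 Y2 I1 I2) where
  m0 : X0 →ₗ[R] Y0
  m1 : X1 →ₗ[R] Y1
  m2 : X2 →ₗ[R] Y2
  comm_a : ∀ x, m1 (C.a x) = D.a (m0 x)
  comm_b : ∀ x, m2 (C.b x) = D.b (m1 x)
  h0 : LinearMap.ker C.a →ₗ[R] LinearMap.ker D.a
  h0_coe : ∀ x : LinearMap.ker C.a, (h0 x : Y0) = m0 x
  h1 : H1 →ₗ[R] I1
  h1_q : ∀ (c : LinearMap.ker C.b) (d : LinearMap.ker D.b), (d : Y1) = m1 c → h1 (C.q1 c) = D.q1 d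
  h2 : H2 →ₗ[R] I2
  h2_q : ∀ c, h2 (C.q2 c) = D.q2 (m2 c)

theorem exists_delta {K : Type*} {Z : Type*} {W : Type*} [AddCommGroup K] [Module R K]
    [AddCommGroup Z] [Module R Z] [AddCommGroup W] [Module R W] (p : K →ₗ[R] Z) (r : K →ₗ[R] W)
    (hp : Function.Surjective p) (h : ∀ x, p x = 0 → r x = 0) : ∃ δ : Z →ₗ[R] W, ∀ x, δ (p x) = r x := by
  refine ⟨(Submodule.liftQ _ r (fun x hx => LinearMap.mem_ker.2 (h x (LinearMap.mem_ker.1 hx)))) ∘ₗ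
    (p.quotKerEquivOfSurjective hp).symm.toLinearMap, fun x => ?_⟩
  have : (p.quotKerEquivOfSurjective hp).symm (p x) = Submodule.Quotient.mk x := by
    rw [LinearEquiv.symm_apply_eq]; rfl
  simp [this]

theorem exists_pullback {K : Type*} {X : Type*} {Y : Type*} [AddCommGroup K] [Module R K]
    [AddCommGroup X] [Module R X] [AddCommGroup Y] [Module R Y] (f : X →ₗ[R] Y) (hf : Function.Injective f)
    (g : K →ₗ[R] Y) (h : ∀ k, g k ∈ Set.range f) : ∃ l : K →ₗ[R] X, ∀ k, f (l k) = g k :=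
  ⟨(LinearEquiv.ofInjective f hf).symm.toLinearMap ∘ₗ g.codRestrict (LinearMap.range f) h,
    fun k => congrArg Subtype.val ((LinearEquiv.ofInjective f hf).apply_symm_apply ⟨g k, h k⟩)⟩

variable {Z0 : Type v0''} {Z1 : Type v1''} {Z2 : Type v2''} {J1 : Type w1''} {J2 : Type w2''}
  [AddCommGroup Z0] [Module R Z0] [AddCommGroup Z1] [Module R Z1] [AddCommGroup Z2] [Module R Z2]
  [AddCommGroup J1] [Module R J1] [AddCommGroup J2] [Module R J2]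
variable {C : Cx R X0 X1 X2 H1 H2} {D : Cx R Y0 Y1 Y2 I1 I2} {E : Cx R Z0 Z1 Z2 J1 J2}

theorem nine (f : Mor C D) (g : Mor D E)
    (i0 : Function.Injective f.m0) (i1 : Function.Injective f.m1) (i2 : Function.Injective f.m2)
    (e0 : Function.Exact f.m0 g.m0) (e1 : Function.Exact f.m1 g.m1) (e2 : Function.Exact f.m2 g.m2)
    (s0 : Function.Surjective g.m0) (s1 : Function.Surjective g.m1) :
    Function.Injective f.h0 ∧ Function.Exact f.h0 g.h0 ∧ Function.Exact f.h1 g.h1 ∧ Function.Exact f.h2 g.h2 ∧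
    ∃ (δ₀ : LinearMap.ker E.a →ₗ[R] H1) (δ₁ : J1 →ₗ[R] H2),
      Function.Exact g.h0 δ₀ ∧ Function.Exact δ₀ f.h1 ∧ Function.Exact g.h1 δ₁ ∧ Function.Exact δ₁ f.h2 := by
  -- the first connecting map
  let K0 : Submodule R Y0 := LinearMap.ker (g.m1 ∘ₗ D.a)
  let p0 : K0 →ₗ[R] LinearMap.ker E.a := (g.m0 ∘ₗ K0.subtype).codRestrict _ fun x => by
    rw [LinearMap.mem_ker, LinearMap.comp_apply, Submodule.subtype_apply, ← g.comm_a]
    exact LinearMap.mem_ker.1 x.2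
  have p0s : Function.Surjective p0 := fun z => by
    obtain ⟨y, hy⟩ := s0 z.1
    exact ⟨⟨y, by rw [LinearMap.mem_ker, LinearMap.comp_apply, g.comm_a, hy]; exact LinearMap.mem_ker.1 z.2⟩,
      Subtype.ext hy⟩
  obtain ⟨l0, hl0⟩ := exists_pullback f.m1 i1 (D.a ∘ₗ K0.subtype) fun k =>
    (e1 _).1 (LinearMap.mem_ker.1 k.2)
  have hl0b : ∀ k, C.b (l0 k) = 0 := fun k => i2 (by
    rw [f.comm_b, hl0, map_zero]; exact D.comp _)
  let r0 : K0 →ₗ[R] H1 := C.q1 ∘ₗ l0.codRestrict _ hl0b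
  obtain ⟨δ₀, hδ₀⟩ := exists_delta p0 r0 p0s fun k hk => by
    obtain ⟨x, hx⟩ := (e0 _).1 (congrArg Subtype.val hk)
    refine (C.q1_ker _).2 ⟨x, i1 ?_⟩
    rw [f.comm_a, hx]
    exact (hl0 k).symm
  -- the second connecting map
  let K1 : Submodule R Y1 := LinearMap.ker (g.m2 ∘ₗ D.b)
  let p1' : K1 →ₗ[R] LinearMap.ker E.b := (g.m1 ∘ₗ K1.subtype).codRestrict _ fun x => by
    rw [LinearMap.mem_ker, LinearMap.comp_apply, Submodule.subtype_apply, ← g.comm_b]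
    exact LinearMap.mem_ker.1 x.2
  let p1 : K1 →ₗ[R] J1 := E.q1 ∘ₗ p1'
  have p1s : Function.Surjective p1 := fun z => by
    obtain ⟨c, rfl⟩ := E.q1_surj z
    obtain ⟨y, hy⟩ := s1 c.1
    exact ⟨⟨y, by rw [LinearMap.mem_ker, LinearMap.comp_apply, g.comm_b, hy]; exact LinearMap.mem_ker.1 c.2⟩,
      congrArg E.q1 (Subtype.ext hy)⟩
  obtain ⟨l1, hl1⟩ := exists_pullback f.m2 i2 (D.b ∘ₗ K1.subtype) fun k =>
    (e2 _).1 (LinearMap.mem_ker.1 k.2)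
  let r1 : K1 →ₗ[R] H2 := C.q2 ∘ₗ l1
  have key1 : ∀ k : K1, p1 k = 0 → ∃ (x1 : X1) (y0 : Y0), f.m1 x1 = (k : Y1) - D.a y0 := fun k hk => by
    obtain ⟨z, hz⟩ := (E.q1_ker _).1 hk
    obtain ⟨y0, rfl⟩ := s0 z
    obtain ⟨x1, hx1⟩ := (e1 ((k : Y1) - D.a y0)).1 (by
      rw [map_sub, g.comm_a, hz]; exact sub_self _)
    exact ⟨x1, y0, hx1⟩
  obtain ⟨δ₁, hδ₁⟩ := exists_delta p1 r1 p1s fun k hk => by
    obtain ⟨x1, y0, hx⟩ := key1 k hk
    refine (C.q2_ker _).2 ⟨x1, i2 ?_⟩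
    rw [f.comm_b, hx, map_sub, D.comp, sub_zero]
    exact (hl1 k).symm
  refine ⟨fun x y h => Subtype.ext (i0 (by rw [← f.h0_coe, ← f.h0_coe, h])), ?_, ?_, ?_, δ₀, δ₁, ?_, ?_, ?_, ?_⟩
  · intro y
    refine ⟨fun hy => ?_, ?_⟩
    · obtain ⟨x, hx⟩ := (e0 y.1).1 (by rw [← g.h0_coe, hy]; rfl)
      refine ⟨⟨x, i1 ?_⟩, Subtype.ext ((f.h0_coe _).trans hx)⟩
      rw [f.comm_a, hx, map_zero]
      exact LinearMap.mem_ker.1 y.2
    · rintro ⟨x, rfl⟩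
      refine Subtype.ext ?_
      rw [g.h0_coe, f.h0_coe]
      exact e0.apply_apply_eq_zero _
  · intro z
    obtain ⟨d, rfl⟩ := D.q1_surj z
    have hd : E.b (g.m1 d) = 0 := by rw [← g.comm_b, LinearMap.mem_ker.1 d.2, map_zero]
    refine ⟨fun hz => ?_, ?_⟩
    · rw [g.h1_q d ⟨g.m1 d, hd⟩ rfl, E.q1_ker] at hz
      obtain ⟨z0, hz0⟩ := hz
      obtain ⟨y0, rfl⟩ := s0 z0
      obtain ⟨x1, hx1⟩ := (e1 ((d : Y1) - D.a y0)).1 (by rw [map_sub, g.comm_a, hz0]; exact sub_self _)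
      have hx1b : C.b x1 = 0 := i2 (by
        rw [f.comm_b, hx1, map_sub, D.comp, LinearMap.mem_ker.1 d.2, sub_zero, map_zero])
      refine ⟨C.q1 ⟨x1, hx1b⟩, ?_⟩
      have hd' : D.b ((d : Y1) - D.a y0) = 0 := by rw [map_sub, D.comp, LinearMap.mem_ker.1 d.2, sub_zero]
      rw [f.h1_q ⟨x1, hx1b⟩ ⟨_, hd'⟩ hx1.symm, ← sub_eq_zero, ← map_sub, D.q1_ker]
      exact ⟨-y0, by simp⟩
    · rintro ⟨x, hx⟩
      obtain ⟨c, rfl⟩ := C.q1_surj x
      have hc : D.b (f.m1 c) = 0 := by rw [← f.comm_b, LinearMap.mem_ker.1 c.2, map_zero]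
      rw [← hx, f.h1_q c ⟨_, hc⟩ rfl,
        g.h1_q ⟨f.m1 c, hc⟩ 0 (by rw [Submodule.coe_zero]; exact (e1.apply_apply_eq_zero _).symm), map_zero]
  · intro z
    obtain ⟨d, rfl⟩ := D.q2_surj z
    refine ⟨fun hz => ?_, ?_⟩
    · rw [g.h2_q, E.q2_ker] at hz
      obtain ⟨z1, hz1⟩ := hz
      obtain ⟨y1, rfl⟩ := s1 z1
      obtain ⟨x2, hx2⟩ := (e2 (d - D.b y1)).1 (by rw [map_sub, g.comm_b, hz1, sub_self])
      refine ⟨C.q2 x2, ?_⟩
      rw [f.h2_q, hx2, map_sub, sub_eq_self, D.q2_ker]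
      exact ⟨y1, rfl⟩
    · rintro ⟨x, hx⟩
      obtain ⟨c, rfl⟩ := C.q2_surj x
      rw [← hx, f.h2_q, g.h2_q, e2.apply_apply_eq_zero, map_zero]
  · intro z
    obtain ⟨k, rfl⟩ := p0s z
    refine ⟨fun hk => ?_, ?_⟩
    · rw [hδ₀] at hk
      obtain ⟨x, hx⟩ := (C.q1_ker _).1 hk
      have hy : D.a ((k : Y0) - f.m0 x) = 0 := by
        rw [map_sub, ← f.comm_a, sub_eq_zero, hx]
        exact (hl0 k).symm
      refine ⟨⟨_, hy⟩, Subtype.ext ?_⟩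
      rw [g.h0_coe, map_sub, e0.apply_apply_eq_zero, sub_zero]
      rfl
    · rintro ⟨y, hy⟩
      have hk : (y : Y0) ∈ K0 := by
        rw [LinearMap.mem_ker, LinearMap.comp_apply, LinearMap.mem_ker.1 y.2, map_zero]
      have : p0 ⟨y, hk⟩ = p0 k := (Subtype.ext (g.h0_coe y).symm : p0 ⟨y, hk⟩ = g.h0 y).trans hy
      rw [← this, hδ₀]
      refine (C.q1_ker _).2 ⟨0, i1 ?_⟩
      rw [map_zero, map_zero]
      exact (LinearMap.mem_ker.1 y.2).symm.trans (hl0 ⟨y, hk⟩).symm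
  · intro z
    obtain ⟨c, rfl⟩ := C.q1_surj z
    have hc : D.b (f.m1 c) = 0 := by rw [← f.comm_b, LinearMap.mem_ker.1 c.2, map_zero]
    rw [f.h1_q c ⟨_, hc⟩ rfl]
    refine ⟨fun hz => ?_, ?_⟩
    · obtain ⟨y0, hy0⟩ := (D.q1_ker _).1 hz
      have hk : y0 ∈ K0 := by
        rw [LinearMap.mem_ker, LinearMap.comp_apply, hy0]; exact e1.apply_apply_eq_zero _
      refine ⟨p0 ⟨y0, hk⟩, ?_⟩
      rw [hδ₀]
      exact congrArg C.q1 (Subtype.ext (i1 ((hl0 _).trans hy0)))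
    · rintro ⟨z, hz⟩
      obtain ⟨k, rfl⟩ := p0s z
      rw [hδ₀] at hz
      obtain ⟨x, hx⟩ := (C.q1_ker _).1 (by rw [map_sub]; exact sub_eq_zero.2 hz : C.q1 (⟨l0 k, hl0b k⟩ - c) = 0)
      refine (D.q1_ker _).2 ⟨(k : Y0) - f.m0 x, ?_⟩
      rw [map_sub, ← f.comm_a, hx, Submodule.coe_sub, map_sub, hl0]
      exact sub_sub_cancel _ _
  · intro z
    obtain ⟨k, rfl⟩ := p1s z
    refine ⟨fun hk => ?_, ?_⟩
    · rw [hδ₁] at hk
      obtain ⟨x1, hx⟩ := (C.q2_ker _).1 hk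
      have hy : D.b ((k : Y1) - f.m1 x1) = 0 := by
        rw [map_sub, ← f.comm_b, sub_eq_zero, hx]
        exact (hl1 k).symm
      refine ⟨D.q1 ⟨_, hy⟩, g.h1_q _ _ ?_⟩
      change g.m1 k = g.m1 ((k : Y1) - f.m1 x1)
      rw [map_sub, e1.apply_apply_eq_zero, sub_zero]
    · rintro ⟨y, hy⟩
      obtain ⟨d, rfl⟩ := D.q1_surj y
      have hk : (d : Y1) ∈ K1 := by
        rw [LinearMap.mem_ker, LinearMap.comp_apply, LinearMap.mem_ker.1 d.2, map_zero]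
      have : p1 ⟨d, hk⟩ = p1 k := (g.h1_q d (p1' ⟨d, hk⟩) rfl).symm.trans hy
      rw [← this, hδ₁]
      refine (C.q2_ker _).2 ⟨0, i2 ?_⟩
      rw [map_zero, map_zero]
      exact (LinearMap.mem_ker.1 d.2).symm.trans (hl1 ⟨d, hk⟩).symm
  · intro z
    obtain ⟨c, rfl⟩ := C.q2_surj z
    rw [f.h2_q]
    refine ⟨fun hz => ?_, ?_⟩
    · obtain ⟨y1, hy1⟩ := (D.q2_ker _).1 hz
      have hk : y1 ∈ K1 := by
        rw [LinearMap.mem_ker, LinearMap.comp_apply, hy1]; exact e2.apply_apply_eq_zero _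
      refine ⟨p1 ⟨y1, hk⟩, ?_⟩
      rw [hδ₁]
      exact congrArg C.q2 (i2 ((hl1 _).trans hy1))
    · rintro ⟨z, hz⟩
      obtain ⟨k, rfl⟩ := p1s z
      rw [hδ₁] at hz
      obtain ⟨x, hx⟩ := (C.q2_ker _).1 (by rw [map_sub]; exact sub_eq_zero.2 hz : C.q2 (l1 k - c) = 0)
      refine (D.q2_ker _).2 ⟨(k : Y1) - f.m1 x, ?_⟩
      rw [map_sub, ← f.comm_b, hx, map_sub, hl1]
      exact sub_sub_cancel _ _

end Groth.L12.NineTerm
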