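import Groth.Prelude.Def_W4c4chowquasisplitNorm
import Groth.Agent.L22.Cyc.FiniteDeg
import Groth.Agent.L19.Topology
import Groth.Agent.L05.PtSeq.Trans
import Groth.Agent.L21.Smooth.Scheme
import Groth.Agent.L21.Curve.NormalConnected
import Mathlib.FieldTheory.PrimitiveElement
import Mathlib.FieldTheory.Galois.Basic
import Mathlib.RingTheory.AdjoinRoot
import Mathlib.FieldTheory.IsAlgClosed.AlgebraicClosure
import Mathlib.AlgebraicGeometry.Morphisms.UniversallyOpen

/-!
Norm subgroups of Chow groups that are everything: schemes defined over an intermediate field, and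
descent of a reducible base change to a field of constants.
-/

set_option autoImplicit false
set_option linter.style.haveILetI false
set_option linter.unusedSectionVars false
set_option backward.isDefEq.respectTransparency false
set_option backward.isDefEq.respectTransparency.types false

universe u

open CategoryTheory CategoryTheory.Limits AlgebraicGeometry TopologicalSpace
open scoped TensorProduct

noncomputable section

namespace Groth.L12.NormSub

/-- A scheme defined over a nontrivial finite intermediate field has trivial conormed Chow groups. -/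
theorem normSubgroup_eq_top {k : Type u} [Field k] {K : Type u} [Field K] [Algebra k K]
    (F : IntermediateField k K) [FiniteDimensional k F] (hF : F ≠ ⊥)
    {X : Scheme.{u}} [X.Over (Spec (CommRingCat.of k))] (g : X ⟶ Spec (CommRingCat.of F))
    (hg : g ≫ Spec.map (CommRingCat.ofHom (algebraMap k F)) = X ↘ Spec (CommRingCat.of k))
    (δ : X → ℤ) (j : ℤ) : QsChow.normSubgroup k K X δ j = ⊤ := by
  refine eq_top_iff.2 fun c _ => ?_
  obtain ⟨⟨α, hα⟩, rfl⟩ := QuotientAddGroup.mk_surjective c
  let p := Curv2.bcFst k X F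
  let s : X ⟶ Curv2.bc k X F := pullback.lift (𝟙 X) g (by rw [Category.id_comp, hg])
  have hsp : s ≫ p = 𝟙 X := pullback.lift_fst _ _ _
  have hps : ∀ x, p (s x) = x := fun x => by rw [← Scheme.Hom.comp_apply, hsp]; rfl
  haveI : IsClosedImmersion (s ≫ p) := by rw [hsp]; infer_instance
  haveI : IsClosedImmersion s := IsClosedImmersion.of_comp s p
  have hinj : Function.Injective (s : X → Curv2.bc k X F) := fun a b h => by rw [← hps a, ← hps b, h]
  have hdeg : ∀ x, p.residueDegree (s x) * s.residueDegree x = 1 := fun x => by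
    rw [← Groth.L22.Cyc.residueDegree_comp, Groth.L22.Cyc.residueDegree_congr _ hsp]
    exact Scheme.Hom.residueDegree_id x
  let δ' : Curv2.bc k X F → ℤ := δ ∘ ⇑p
  let β := AlgebraicCycle.map s δ δ' α
  have hcs : ∀ x, AlgebraicCycle.mapCoeff s δ δ' x = s.residueDegree x := fun x =>
    if_pos (show δ x = δ (p (s x)) by rw [hps])
  have hcp : ∀ w, AlgebraicCycle.mapCoeff p δ' δ w = p.residueDegree w := fun w => if_pos rfl
  have hβs : ∀ x, β (s x) = α x * (s.residueDegree x : ℤ) := fun x => by
    show (∑ᶠ y ∈ (s : X → Curv2.bc k X F) ⁻¹' {s x}, α y * _) = _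
    rw [show (s : X → Curv2.bc k X F) ⁻¹' {s x} = {x} from Set.ext fun y =>
      ⟨fun h => hinj h, fun h => congrArg s h⟩, finsum_mem_singleton]
    exact congrArg (fun n : ℕ => α x * (n : ℤ)) (hcs x)
  have hβ0 : ∀ w, w ∉ Set.range (s : X → Curv2.bc k X F) → β w = 0 := fun w hw => by
    show (∑ᶠ y ∈ (s : X → Curv2.bc k X F) ⁻¹' {w}, α y * _) = _
    rw [show (s : X → Curv2.bc k X F) ⁻¹' {w} = ∅ from Set.ext fun y =>
      ⟨fun h => hw ⟨y, h⟩, False.elim⟩, finsum_mem_empty]
  have hβ : β ∈ Cyc.Zk (Curv2.bc k X F) δ' j := fun w hw => by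
    by_cases hr : w ∈ Set.range (s : X → Curv2.bc k X F)
    · obtain ⟨x, rfl⟩ := hr
      rw [hβs, hα x (fun e => hw (by show δ (p (s x)) = j; rw [hps, e])), zero_mul]
    · exact hβ0 w hr
  have hpush : AlgebraicCycle.map p δ' δ β = α := by
    refine DFunLike.ext _ _ fun z => ?_
    show (∑ᶠ w ∈ (p : Curv2.bc k X F → X) ⁻¹' {z}, β w * ((AlgebraicCycle.mapCoeff p δ' δ w : ℕ) : ℤ)) = α z
    rw [finsum_mem_inter_support_eq _ _ {s z} ?_, finsum_mem_singleton, hβs, hcp, mul_assoc,
      ← Nat.cast_mul, mul_comm (s.residueDegree z), hdeg, Nat.cast_one, mul_one]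
    ext w
    refine ⟨fun ⟨hw, hs⟩ => ⟨?_, hs⟩, fun ⟨hw, hs⟩ => ⟨by rw [Set.mem_singleton_iff.1 hw]; exact hps z, hs⟩⟩
    by_cases hr : w ∈ Set.range (s : X → Curv2.bc k X F)
    · obtain ⟨x, rfl⟩ := hr
      have : p (s x) = z := hw
      rw [hps] at this
      rw [this]; rfl
    · exact absurd (by simp [hβ0 w hr]) hs
  refine AddSubgroup.subset_closure ⟨F, inferInstance, hF, β, hβ, hpush.symm ▸ hα, ?_⟩
  exact congrArg (ChowOps.clHom X δ j) (Subtype.ext hpush.symm)

/-- Either a nontrivial subfield of the Galois extension `L` maps to `K`, or `K ⊗ L` is a field. -/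
theorem subfield_or_isField (k L K : Type u) [Field k] [Field L] [Field K] [Algebra k L] [Algebra k K]
    [FiniteDimensional k L] [IsGalois k L] :
    (∃ F : IntermediateField k L, F ≠ ⊥ ∧ Nonempty (F →ₐ[k] K)) ∨ IsField (K ⊗[k] L) := by
  by_cases hF : ∃ F : IntermediateField k L, F ≠ ⊥ ∧ Nonempty (F →ₐ[k] K)
  · exact Or.inl hF
  refine Or.inr ?_
  simp only [not_exists, not_and] at hF
  let pb := Field.powerBasisOfFiniteOfSeparable k L
  let g := minpoly k pb.gen
  have hint : IsIntegral k pb.gen := Algebra.IsIntegral.isIntegral _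
  let Ω := AlgebraicClosure K
  let ι : L →ₐ[k] Ω := IsAlgClosed.lift
  let J : K →ₐ[k] Ω := IsScalarTower.toAlgHom k K Ω
  have hgm : (g.map (algebraMap k K)).Monic := (minpoly.monic hint).map _
  have hirr : Irreducible (g.map (algebraMap k K)) := by
    have hnu : ¬ IsUnit (g.map (algebraMap k K)) := fun hu => by
      have := Polynomial.natDegree_eq_zero_of_isUnit hu
      rw [Polynomial.natDegree_map] at this
      exact (minpoly.natDegree_pos hint).ne' this
    obtain ⟨q, hqm, hqi, hqd⟩ := Polynomial.exists_monic_irreducible_factor _ hnu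
    have hsL : (g.map (algebraMap k L)).Splits := Normal.splits inferInstance pb.gen
    have hdvd : q.map (J : K →+* Ω) ∣ (g.map (algebraMap k L)).map (ι : L →+* Ω) := by
      rw [Polynomial.map_map, show (ι : L →+* Ω).comp (algebraMap k L) = (J : K →+* Ω).comp (algebraMap k K) from
        RingHom.ext fun a => (ι.commutes a).trans (J.commutes a).symm, ← Polynomial.map_map]
      exact Polynomial.map_dvd _ hqd
    have hne : (g.map (algebraMap k L)).map (ι : L →+* Ω) ≠ 0 :=
      (((minpoly.monic hint).map _).map _).ne_zero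
    have hlift : q.map (J : K →+* Ω) ∈ Polynomial.lifts (ι : L →+* Ω) := by
      have hs : (q.map (J : K →+* Ω)).Splits := (hsL.map _).of_dvd hne hdvd
      rw [hs.eq_prod_roots_of_monic (hqm.map _)]
      refine Subsemiring.multiset_prod_mem _ _ fun f hf => ?_
      obtain ⟨r, hr, rfl⟩ := Multiset.mem_map.1 hf
      have hr' : r ∈ ((g.map (algebraMap k L)).map (ι : L →+* Ω)).roots :=
        Multiset.mem_of_le (Polynomial.roots.le_of_dvd hne hdvd) hr
      rw [hsL.roots_map] at hr'
      obtain ⟨l, -, rfl⟩ := Multiset.mem_map.1 hr'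
      exact (Polynomial.lifts_iff_coeff_lifts _).2 fun n => ⟨(Polynomial.X - Polynomial.C l).coeff n, by
        rw [← Polynomial.coeff_map, Polynomial.map_sub, Polynomial.map_X, Polynomial.map_C]⟩
    let F₀ : IntermediateField k L := IntermediateField.comap ι J.fieldRange
    have hF₀ : F₀ = ⊥ := by
      by_contra hne₀
      exact hF F₀ hne₀ ⟨(AlgEquiv.ofInjectiveField J).symm.toAlgHom.comp
        ((ι.comp F₀.val).codRestrict J.range fun x => x.2)⟩
    have hk : q ∈ Polynomial.lifts (algebraMap k K) := (Polynomial.lifts_iff_coeff_lifts _).2 fun n => by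
      obtain ⟨l, hl⟩ := (Polynomial.lifts_iff_coeff_lifts _).1 hlift n
      rw [Polynomial.coeff_map] at hl
      have hlF : l ∈ F₀ := ⟨q.coeff n, hl.symm⟩
      rw [hF₀, IntermediateField.mem_bot] at hlF
      obtain ⟨a, rfl⟩ := hlF
      exact ⟨a, J.toRingHom.injective ((J.commutes a).trans ((ι.commutes a).symm.trans hl))⟩
    obtain ⟨q₀, hq₀⟩ := (Polynomial.mem_lifts q).1 hk
    have hd₀ : q₀ ∣ g := (Polynomial.map_dvd_map' (algebraMap k K)).1 (hq₀.symm ▸ hqd)
    have hq₀nu : ¬ IsUnit q₀ := fun hu => hqi.not_isUnit (hq₀ ▸ hu.map (Polynomial.mapRingHom (algebraMap k K)))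
    obtain ⟨r, hr⟩ := hd₀
    have hru : IsUnit r := ((minpoly.irreducible hint).isUnit_or_isUnit hr).resolve_left hq₀nu
    rw [hr, Polynomial.map_mul, hq₀]
    exact (irreducible_mul_isUnit (hru.map (Polynomial.mapRingHom (algebraMap k K)))).2 hqi
  haveI := Fact.mk hirr
  let A := AdjoinRoot (g.map (algebraMap k K))
  let e : L →ₐ[k] A := pb.lift (AdjoinRoot.root _) (by
    rw [← Polynomial.aeval_map_algebraMap K, AdjoinRoot.aeval_eq, AdjoinRoot.mk_self])
  let φ : K ⊗[k] L →ₐ[K] A := Algebra.TensorProduct.lift (Algebra.ofId K A) e fun _ _ => Commute.all _ _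
  have hsurj : Function.Surjective φ := fun z => by
    have hz : z ∈ φ.range := by
      have h1 : z ∈ Algebra.adjoin K ({AdjoinRoot.root (g.map (algebraMap k K))} : Set A) := by
        rw [AdjoinRoot.adjoinRoot_eq_top]; exact Algebra.mem_top
      refine (Algebra.adjoin_le ?_) h1
      rintro _ rfl
      exact ⟨1 ⊗ₜ pb.gen, by simp [φ, e]⟩
    exact hz
  haveI : Module.Finite K A := (AdjoinRoot.powerBasis hgm.ne_zero).finite
  have hrk : Module.finrank K (K ⊗[k] L) = Module.finrank K A := by
    rw [Module.finrank_baseChange, pb.finrank, (AdjoinRoot.powerBasis hgm.ne_zero).finrank,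
      AdjoinRoot.powerBasis_dim, Polynomial.natDegree_map, pb.natDegree_minpoly]
  have hinj : Function.Injective φ :=
    (LinearMap.injective_iff_surjective_of_finrank_eq_finrank hrk (f := φ.toLinearMap)).2 hsurj
  exact (RingEquiv.ofBijective φ.toRingHom ⟨hinj, hsurj⟩).toMulEquiv.isField (Field.toIsField A)

/-- A morphism to `Spec k` through the global sections. -/
theorem eq_toSpecΓ {k : Type u} [Field k] {X : Scheme.{u}} (f : X ⟶ Spec (CommRingCat.of k)) :
    f = X.toSpecΓ ≫ Spec.map (CommRingCat.ofHom (Coh.toGlobal f)) := by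
  show f = X.toSpecΓ ≫ Spec.map ((Scheme.ΓSpecIso (CommRingCat.of k)).inv ≫ f.appTop)
  rw [Spec.map_comp, ← Category.assoc, ← Scheme.toSpecΓ_naturality, Category.assoc, ← SpecMap_ΓSpecIso_hom,
    ← Spec.map_comp, Iso.inv_hom_id, Spec.map_id, Category.comp_id]

/-- An irreducible normal scheme with reducible base change to `L` is defined over a subfield of `L`. -/
theorem exists_factor {k : Type u} [Field k] {X : Scheme.{u}} [X.Over (Spec (CommRingCat.of k))]
    [IsIntegral X] (hX : ∀ x : X, IsIntegrallyClosed (X.presheaf.stalk x))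
    (L : Type u) [Field L] [Algebra k L] [FiniteDimensional k L] [IsGalois k L]
    (hred : ¬ IrreducibleSpace ↥(Curv2.bc k X L)) :
    ∃ F : IntermediateField k L, F ≠ ⊥ ∧
      ∃ g : X ⟶ Spec (CommRingCat.of F),
        g ≫ Spec.map (CommRingCat.ofHom (algebraMap k F)) = X ↘ Spec (CommRingCat.of k) := by
  let f := X ↘ Spec (CommRingCat.of k)
  let η := genericPoint X
  let K := X.functionField
  letI : Algebra k K := (Curv2.stalkMap k X η).toAlgebra
  rcases subfield_or_isField k L K with ⟨F, hF, ⟨φ⟩⟩ | hfield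
  · refine ⟨F, hF, ?_⟩
    have hη : η ∈ (⊤ : X.Opens) := trivial
    have hgl : ∀ x : F, ∃ t : Γ(X, ⊤), X.presheaf.germ ⊤ η hη t = φ x := fun x => by
      refine Groth.L05.PtSeq.exists_section_of_mem_stalks ⊤ hη (φ x) fun p _ => ?_
      haveI := hX p
      obtain ⟨P, hP, hP0⟩ := (Algebra.IsIntegral.isIntegral (R := k) x).map φ
      have hcomp : (algebraMap (X.presheaf.stalk p) K).comp (Curv2.stalkMap k X p) = algebraMap k K :=
        RingHom.ext fun t => TopCat.Presheaf.germ_stalkSpecializes_apply X.presheaf (U := (⊤ : X.Opens))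
          (Opens.mem_top p) ((genericPoint_spec X).specializes trivial) _
      refine IsIntegrallyClosed.isIntegral_iff.1 ⟨P.map (Curv2.stalkMap k X p), hP.map _, ?_⟩
      rw [Polynomial.eval₂_map, hcomp]
      exact hP0
    choose t ht using hgl
    have hinj := germ_injective_of_isIntegral X η hη
    let ψ : F →+* Γ(X, ⊤) :=
      { toFun := t
        map_one' := hinj (by rw [ht, map_one, map_one])
        map_mul' := fun a b => hinj (by rw [ht, map_mul, map_mul, ht, ht])
        map_zero' := hinj (by rw [ht, map_zero, map_zero])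
        map_add' := fun a b => hinj (by rw [ht, map_add, map_add, ht, ht]) }
    refine ⟨X.toSpecΓ ≫ Spec.map (CommRingCat.ofHom ψ), ?_⟩
    refine Eq.trans ?_ (eq_toSpecΓ f).symm
    rw [Category.assoc, ← Spec.map_comp]
    congr 2
    refine CommRingCat.hom_ext (RingHom.ext fun a => hinj ?_)
    exact (ht _).trans (φ.commutes a)
  · refine absurd ?_ hred
    let i := Spec.map (CommRingCat.ofHom (algebraMap k L))
    let a := Spec.map (CommRingCat.ofHom (algebraMap k K))
    have hw : a = X.fromSpecStalk η ≫ f := by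
      rw [eq_toSpecΓ f, Scheme.fromSpecStalk_toSpecΓ_assoc, ← Spec.map_comp]
      rfl
    let c : pullback a i ⟶ Curv2.bc k X L :=
      pullback.map a i f i (X.fromSpecStalk η) (𝟙 _) (𝟙 _)
        (by rw [Category.comp_id, hw]) (by rw [Category.comp_id, Category.id_comp])
    have hc : Set.range c = Curv2.bcFst k X L ⁻¹' {η} := by
      refine (Scheme.Pullback.range_map _ _ _ _ _ _ _ _ _).trans ?_
      erw [Scheme.range_fromSpecStalk]
      refine Set.ext fun v => ⟨fun hv => ?_, fun hv => ⟨?_, ⟨_, rfl⟩⟩⟩
      · exact (hv.1.antisymm ((genericPoint_spec X).specializes trivial)).eq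
      · exact specializes_of_eq hv
    haveI hU : Subsingleton (PrimeSpectrum (K ⊗[k] L)) := by
      letI := hfield.toField
      infer_instance
    haveI : Subsingleton ↥(Spec (CommRingCat.of (K ⊗[k] L))) := hU
    haveI : Subsingleton ↥(pullback a i) :=
      (pullbackSpecIso k K L).hom.homeomorph.injective.subsingleton
    haveI : Nonempty ↥(pullback a i) := by
      letI := hfield.toField
      exact ⟨(pullbackSpecIso k K L).inv.base (⟨⊥, Ideal.isPrime_bot⟩ : PrimeSpectrum (K ⊗[k] L))⟩
    haveI : Flat i := Flat.SpecMap_iff.2 (RingHom.flat_algebraMap_iff.2 inferInstance)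
    haveI : LocallyOfFinitePresentation i := (HasRingHomProperty.Spec_iff (P := @LocallyOfFinitePresentation)).2
      ((RingHom.finitePresentation_algebraMap (A := k) (B := L)).2 (Algebra.FinitePresentation.of_finiteType.1 inferInstance))
    haveI : UniversallyOpen (Curv2.bcFst k X L) := MorphismProperty.pullback_fst _ _ inferInstance
    refine Groth.L19.irreducibleSpace_of_generalizing (Groth.L19.generalizingMap_of_isOpenMap _
      (Curv2.bcFst k X L).isOpenMap) η (fun y => (genericPoint_spec X).specializes trivial) ?_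
    rw [← hc]
    refine ⟨Set.range_nonempty _, ?_⟩
    exact (Set.subsingleton_range _).isPreirreducible

end Groth.L12.NormSub
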