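import Groth.Agent.L12.Minimal
import Groth.Agent.L01.PowSerReg
import Groth.Prelude.Def_ArtFun3
import Mathlib.LinearAlgebra.Contraction

/-!
# Obstruction theories of presentations
-/

universe u v

open CategoryTheory ArtFun ArtFun.Art IsLocalRing TensorProduct

namespace Groth.L12

variable {k : Type u} [Field k]

section Gen

variable {P : Type u} [CommRing P] [Algebra k P] [IsLocalRing P] {resP : P →ₐ[k] k}

/-- two lifts of one map along a semismall extension agree on `m²` -/
lemma lifts_eq_on_sq {C' C : Art k k} (p : C' ⟶ C) (hp : IsSemismallExt p)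
    (hmem : ∀ a : P, a ∈ maximalIdeal P → resP a = 0)
    (L L' : HomSet P resP C') (h : HomSet.map p L = HomSet.map p L') {a : P} (ha : a ∈ maximalIdeal P ^ 2) :
    L.1 a = L'.1 a := by
  rw [pow_two] at ha
  refine Submodule.mul_induction_on ha (fun x hx y hy => ?_) fun x y hx hy => by rw [map_add, map_add, hx, hy]
  have hmax : ∀ (M : HomSet P resP C') (z : P), z ∈ maximalIdeal P → M.1 z ∈ maximalIdeal C' := fun M z hz => by
    rw [C'.mem_maximalIdeal_iff, ← AlgHom.comp_apply, M.2]
    exact hmem z hz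
  have hd : ∀ z, L.1 z - L'.1 z ∈ RingHom.ker p.toAlgHom := fun z => by
    rw [RingHom.mem_ker, map_sub, sub_eq_zero]
    exact DFunLike.congr_fun (congrArg Subtype.val h) z
  have h0 : ∀ a ∈ maximalIdeal C', ∀ b ∈ RingHom.ker p.toAlgHom, a * b = 0 := fun a ha b hb =>
    (Submodule.mem_bot C').1 (hp.2 ▸ Ideal.mul_mem_mul ha hb)
  rw [map_mul, map_mul]
  linear_combination h0 _ (hmax L x hx) _ (hd y) + h0 _ (hmax L' y hy) _ (hd x)

lemma finite_quot_smul [IsNoetherianRing P] (hmem : ∀ a : P, a ∈ maximalIdeal P ↔ resP a = 0) (J : Ideal P) :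
    Module.Finite k (↥J ⧸ (maximalIdeal P • ⊤ : Submodule P J)) := by
  classical
  obtain ⟨n, g, hg⟩ := Submodule.fg_iff_exists_fin_generating_family.1 (IsNoetherian.noetherian J)
  let g' : Fin n → J := fun i => ⟨g i, hg ▸ Submodule.subset_span ⟨i, rfl⟩⟩
  refine Module.Finite.of_fg_top ⟨Finset.univ.image fun i => Submodule.Quotient.mk (g' i), top_le_iff.1 fun x _ => ?_⟩
  obtain ⟨⟨x, hx⟩, rfl⟩ := Submodule.Quotient.mk_surjective _ x
  obtain ⟨c, hc⟩ := Ideal.mem_span_range_iff_exists_fun.1 (show x ∈ Ideal.span (Set.range g) by rw [show Ideal.span (Set.range g) = J from hg]; exact hx)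
  have hxe : (⟨x, hx⟩ : J) = ∑ i, c i • g' i := Subtype.ext (by simp [g', hc])
  rw [hxe, ← Submodule.mkQ_apply, map_sum]
  refine Submodule.sum_mem _ fun i _ => ?_
  have h1 : ((maximalIdeal P • ⊤ : Submodule P J)).mkQ (c i • g' i) =
      resP (c i) • Submodule.Quotient.mk (g' i) := by
    rw [← Submodule.Quotient.mk_smul, Submodule.mkQ_apply, Submodule.Quotient.eq, ← algebraMap_smul P (resP (c i)),
      ← sub_smul]
    exact Submodule.smul_mem_smul ((hmem _).2 (by rw [map_sub, AlgHom.commutes, Algebra.algebraMap_self_apply, sub_self]))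
      Submodule.mem_top
  rw [h1]
  exact Submodule.smul_mem _ _ (Submodule.subset_span (by simp))

theorem hasObsTheory_presentation [IsNoetherianRing P] {R : Type u} [CommRing R] [Algebra k R] (res : R →ₐ[k] k)
    (hmem : ∀ a : P, a ∈ maximalIdeal P ↔ resP a = 0) (hP : IsSmoothFunctor (hR P resP))
    (q : P →ₐ[k] R) (hq : res.comp q = resP) (hqs : Function.Surjective q) (J : Ideal P)
    (hJ : RingHom.ker q = J) (hJ2 : J ≤ maximalIdeal P ^ 2) :
    HasObsTheory (hR R res) (Module.Dual k (↥J ⧸ (maximalIdeal P • ⊤ : Submodule P J))) := by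
  haveI := finite_quot_smul (k := k) hmem J
  set N : Submodule P J := maximalIdeal P • ⊤
  let qq : ∀ {C : Art k k}, HomSet R res C → HomSet P resP C := fun φ =>
    ⟨φ.1.comp q, by rw [← AlgHom.comp_assoc, φ.2, hq]⟩
  have hlift : ∀ {C' C : Art k k} (p : C' ⟶ C), IsSemismallExt p → ∀ φ : HomSet R res C,
      ∃ L : HomSet P resP C', HomSet.map p L = qq φ := fun p hp φ => hP p hp.1 (qq φ)
  choose L hL using @hlift
  have hJker : ∀ {C' C : Art k k} (p : C' ⟶ C) (φ : HomSet R res C) (M : HomSet P resP C'),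
      HomSet.map p M = qq φ → ∀ j ∈ J, M.1 j ∈ RingHom.ker p.toAlgHom := fun p φ M hM j hj => by
    rw [RingHom.mem_ker]
    refine (DFunLike.congr_fun (congrArg Subtype.val hM) j).trans ?_
    change φ.1 (q j) = 0
    rw [RingHom.mem_ker.1 (hJ.symm ▸ hj : j ∈ RingHom.ker q), map_zero]
  have hmap : ∀ {C' C : Art k k} (p : C' ⟶ C) (_ : IsSemismallExt p) (φ : HomSet R res C) (M : HomSet P resP C'),
      HomSet.map p M = qq φ → ∃ f : (↥J ⧸ N) →ₗ[k] RingHom.ker p.toAlgHom,
        ∀ j : J, ((f (Submodule.Quotient.mk j) : RingHom.ker p.toAlgHom) : C') = M.1 j := by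
    intro C' C p hp φ M hM
    let f₀ : J →ₗ[k] RingHom.ker p.toAlgHom :=
      { toFun := fun j => ⟨M.1 j, hJker p φ M hM j j.2⟩
        map_add' := fun a b => Subtype.ext (map_add M.1 _ _)
        map_smul' := fun c a => Subtype.ext (map_smul M.1 c (a : P)) }
    have hN : N.restrictScalars k ≤ LinearMap.ker f₀ := fun j hj => by
      rw [Submodule.restrictScalars_mem] at hj
      rw [LinearMap.mem_ker]
      refine Subtype.ext ?_
      change M.1 (j : P) = 0
      refine Submodule.smul_induction_on hj (fun a ha y _ => ?_) fun a b ha hb => by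
        rw [Submodule.coe_add, map_add, ha, hb, add_zero]
      rw [Submodule.coe_smul, smul_eq_mul, map_mul]
      exact (Submodule.mem_bot C').1 (hp.2 ▸ Ideal.mul_mem_mul
        ((C'.mem_maximalIdeal_iff _).2 (by rw [← AlgHom.comp_apply, M.2]; exact (hmem a).1 ha))
        (hJker p φ M hM _ y.2))
    refine ⟨((N.restrictScalars k).liftQ f₀ hN).comp (Submodule.Quotient.restrictScalarsEquiv k N).symm.toLinearMap,
      fun j => ?_⟩
    rfl
  choose f hf using fun {C' C : Art k k} (p : C' ⟶ C) (hp : IsSemismallExt p) (φ : HomSet R res C) =>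
    hmap p hp φ (L p hp φ) (hL p hp φ)
  refine ⟨{ obs := fun p hp φ => (dualTensorHomEquiv k _ _).symm (f p hp φ)
            obs_eq_zero_iff := fun {C' C} p hp (φ : HomSet R res C) => ?_
            obs_quot := fun {C' C} p hp K hK hKJ hq' (φ : HomSet R res C) => ?_ }⟩
  · rw [LinearEquiv.map_eq_zero_iff]
    constructor
    · intro h0
      have hker : ∀ j ∈ J, (L p hp φ).1 j = 0 := fun j hj => by
        have := hf p hp φ ⟨j, hj⟩
        rw [h0] at this
        exact this.symm
      let ψ : R →ₐ[k] C' := AlgHom.liftOfSurjective q hqs (L p hp φ).1 fun j hj => hker j (hJ.le hj)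
      have hψ : ∀ a, ψ (q a) = (L p hp φ).1 a := fun a => AlgHom.liftOfSurjective_apply _ hqs _ _ a
      refine ⟨(⟨ψ, AlgHom.ext fun r => ?_⟩ : HomSet R res C'), Subtype.ext (AlgHom.ext fun r => ?_)⟩
      · obtain ⟨a, rfl⟩ := hqs r
        rw [AlgHom.comp_apply, hψ, ← AlgHom.comp_apply, (L p hp φ).2, ← hq]
        rfl
      · obtain ⟨a, rfl⟩ := hqs r
        exact (congrArg p.toAlgHom (hψ a)).trans (DFunLike.congr_fun (congrArg Subtype.val (hL p hp φ)) a)
    · rintro ⟨ψ, hψ⟩
      have hψ' : HomSet.map p (qq ψ) = qq φ := Subtype.ext (AlgHom.ext fun a =>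
        DFunLike.congr_fun (congrArg Subtype.val hψ) (q a))
      refine LinearMap.ext fun x => ?_
      obtain ⟨j, rfl⟩ := Submodule.Quotient.mk_surjective N x
      refine Subtype.ext ((hf p hp φ j).trans ?_)
      rw [lifts_eq_on_sq p hp (fun a => (hmem a).1) _ (qq ψ) ((hL p hp φ).trans hψ'.symm) (hJ2 j.2)]
      change ψ.1 (q j) = 0
      rw [RingHom.mem_ker.1 (hJ.symm ▸ j.2 : (j : P) ∈ RingHom.ker q), map_zero]
  · rw [LinearEquiv.symm_apply_eq]
    have h2 : ∀ t : Module.Dual k (↥J ⧸ N) ⊗[k] RingHom.ker p.toAlgHom,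
        dualTensorHomEquiv k _ _ (LinearMap.lTensor _ ((kerToQuot hK p hKJ).restrictScalars k) t) =
          ((kerToQuot hK p hKJ).restrictScalars k).comp (dualTensorHomEquiv k _ _ t) := fun t => by
      induction t with
      | zero => simp
      | tmul g v =>
        refine LinearMap.ext fun x => ?_
        simp [dualTensorHomEquiv]
      | add a b ha hb => rw [map_add, map_add, ha, hb, map_add, LinearMap.comp_add]
    rw [h2, LinearEquiv.apply_symm_apply]
    refine LinearMap.ext fun x => ?_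
    obtain ⟨j, rfl⟩ := Submodule.Quotient.mk_surjective N x
    refine Subtype.ext ((hf _ hq' φ j).trans ?_)
    change _ = Ideal.Quotient.mk K ((f p hp φ (Submodule.Quotient.mk j) : RingHom.ker p.toAlgHom) : C')
    rw [hf p hp φ j]
    refine lifts_eq_on_sq (quotFactor hK p hKJ) hq' (fun a => (hmem a).1) _
      (HomSet.map (quotMk C' K hK) (L p hp φ)) ((hL _ hq' φ).trans ?_) (hJ2 j.2)
    refine Eq.trans (hL p hp φ).symm (Subtype.ext (AlgHom.ext fun a => ?_))
    rfl

end Gen

variable {F : Art k k ⥤ Type v} {V : Type u} [AddCommGroup V] [Module k V]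

/-- transport along a linear isomorphism -/
theorem hasObsTheory_equiv {V' : Type u} [AddCommGroup V'] [Module k V'] (e : V ≃ₗ[k] V') (h : HasObsTheory F V) :
    HasObsTheory F V' := by
  obtain ⟨T⟩ := h
  refine ⟨{ obs := fun p hp u => LinearEquiv.rTensor _ e (T.obs p hp u)
            obs_eq_zero_iff := fun p hp u => by rw [LinearEquiv.map_eq_zero_iff, T.obs_eq_zero_iff]
            obs_quot := fun {C' C} p hp K hK hKJ hq u => ?_ }⟩
  rw [T.obs_quot p hp K hK hKJ hq u]
  change LinearMap.rTensor _ e.toLinearMap (LinearMap.lTensor V _ (T.obs p hp u)) =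
    LinearMap.lTensor V' _ (LinearMap.rTensor _ e.toLinearMap (T.obs p hp u))
  rw [← LinearMap.comp_apply, ← LinearMap.comp_apply, LinearMap.lTensor_comp_rTensor, LinearMap.rTensor_comp_lTensor]

/-- pulling back along a versal family -/
theorem hasObsTheory_of_versal {R : Type u} [CommRing R] [Algebra k R] {res : R →ₐ[k] k}
    (ξ : Family R res F) (hξ : IsVersal ξ) (T : ObsTheory F V) : HasObsTheory (hR R res) V := by
  refine ⟨{ obs := fun {C' C} p hp (φ : HomSet R res C) => T.obs p hp (ξ.app C φ)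
            obs_eq_zero_iff := fun {C' C} p hp (φ : HomSet R res C) => ?_
            obs_quot := fun p hp K hK hKJ hq u => T.obs_quot p hp K hK hKJ hq _ }⟩
  rw [T.obs_eq_zero_iff]
  constructor
  · rintro ⟨y, hy⟩
    obtain ⟨ψ, hψ, -⟩ := hξ p hp.1 φ y hy
    exact ⟨ψ, hψ⟩
  · rintro ⟨(ψ : HomSet R res C'), (hψ : HomSet.map p ψ = φ)⟩
    exact ⟨ξ.app C' ψ, by rw [← ξ.natural, hψ]⟩

/-- pushing to a functor with a universal family -/
theorem hasObsTheory_of_universal {R : Type u} [CommRing R] [Algebra k R] {res : R →ₐ[k] k}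
    (ξ : Family R res F) (hξ : IsUniversal ξ) (h : HasObsTheory (hR R res) V) : HasObsTheory F V := by
  obtain ⟨T⟩ := h
  refine ⟨{ obs := fun {C' C} p hp u => T.obs p hp ((Equiv.ofBijective _ (hξ C)).symm u)
            obs_eq_zero_iff := fun {C' C} p hp u => ?_
            obs_quot := fun p hp K hK hKJ hq u => T.obs_quot p hp K hK hKJ hq _ }⟩
  refine (T.obs_eq_zero_iff p hp _).trans ?_
  constructor
  · rintro ⟨(ψ : HomSet R res C'), (hψ : HomSet.map p ψ = _)⟩
    exact ⟨ξ.app C' ψ, (ξ.natural p ψ).symm.trans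
      ((congrArg (ξ.app C) hψ).trans (Equiv.apply_symm_apply (Equiv.ofBijective _ (hξ C)) u))⟩
  · rintro ⟨y, rfl⟩
    obtain ⟨ψ, rfl⟩ := (hξ C').2 y
    exact ⟨ψ, (hξ C).1 ((ξ.natural p ψ).trans
      (Equiv.apply_symm_apply (Equiv.ofBijective _ (hξ C)) _).symm)⟩

/-- the number of relations is bounded by the dimension of an obstruction space -/
theorem spanFinrank_ker_le' [Module.Finite k V] {P : Type u} [CommRing P] [Algebra k P] [IsLocalRing P]
    [IsNoetherianRing P] {resP : P →ₐ[k] k} (hmem : ∀ a : P, a ∈ maximalIdeal P ↔ resP a = 0)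
    (htr : ∀ N : ℕ, ∃ (A : Art k k) (φ : HomSet P resP A), Function.Surjective φ.1 ∧
      RingHom.ker φ.1 ≤ maximalIdeal P ^ N)
    {R : Type u} [CommRing R] [Algebra k R]
    (res : R →ₐ[k] k) (q : P →ₐ[k] R) (hq : res.comp q = resP) (hqs : Function.Surjective q)
    (hJ2 : RingHom.ker q ≤ maximalIdeal P ^ 2) (T : ObsTheory (hR R res) V) :
    (RingHom.ker q).spanFinrank ≤ Module.finrank k V := by
  classical
  set J := RingHom.ker q with hJ
  set M := maximalIdeal P
  have hJM : J ≤ M := hJ2.trans (Ideal.pow_le_self two_ne_zero)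
  obtain ⟨k₀, hk₀⟩ := Ideal.exists_pow_inf_eq_pow_smul M (J : Submodule P P)
  have hAR : M ^ (k₀ + 1) ⊓ J ≤ M * J := by
    have h := hk₀ (k₀ + 1) (Nat.le_succ _)
    simp only [smul_eq_mul, Ideal.mul_top, Nat.add_sub_cancel_left, pow_one] at h
    rw [h]
    exact Ideal.mul_mono_right inf_le_right
  obtain ⟨A, φA, hφs, hφk⟩ := htr (k₀ + 1)
  let π := φA.1
  have hφm : M.map π ≤ maximalIdeal A := Ideal.map_le_iff_le_comap.2 fun a ha => by
    rw [Ideal.mem_comap, A.mem_maximalIdeal_iff, ← AlgHom.comp_apply, φA.2]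
    exact (hmem a).1 ha
  have hle₀ : (M * J).map π ≤ maximalIdeal A :=
    (Ideal.map_mono (Ideal.mul_le_right.trans hJM)).trans hφm
  have hle₁ : J.map π ≤ maximalIdeal A := (Ideal.map_mono hJM).trans hφm
  let C' := quot A _ hle₀
  let C := quot A _ hle₁
  let p : C' ⟶ C := quotFactor hle₀ (quotMk A _ hle₁) (fun z hz => by
    rw [RingHom.mem_ker]
    exact Ideal.Quotient.eq_zero_iff_mem.2 (Ideal.map_mono Ideal.mul_le_right hz))
  let π' : HomSet P resP C' := HomSet.map (quotMk A _ hle₀) φA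
  have hπs : Function.Surjective π'.1 := fun z => by
    obtain ⟨z, rfl⟩ := quotMk_surjective A _ hle₀ z
    obtain ⟨a, rfl⟩ := hφs z
    exact ⟨a, rfl⟩
  have hker : ∀ a, p (π'.1 a) = 0 → ∃ j ∈ J, π'.1 j = π'.1 a := fun a ha => by
    obtain ⟨j, hj, hje⟩ := (Ideal.mem_map_iff_of_surjective π hφs).1
      (Ideal.Quotient.eq_zero_iff_mem.1 ha : π a ∈ J.map π)
    exact ⟨j, hj, congrArg (Ideal.Quotient.mk _) hje⟩
  have hJker : ∀ j ∈ J, π'.1 j ∈ RingHom.ker p.toAlgHom := fun j hj =>
    RingHom.mem_ker.2 (Ideal.Quotient.eq_zero_iff_mem.2 (Ideal.mem_map_of_mem π hj))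
  have hp : IsSemismallExt p := by
    refine ⟨fun z => ?_, le_bot_iff.1 (Ideal.mul_le.2 fun a ha b hb => ?_)⟩
    · obtain ⟨z, rfl⟩ := Ideal.Quotient.mk_surjective z
      exact ⟨Ideal.Quotient.mk _ z, rfl⟩
    · obtain ⟨a, rfl⟩ := hπs a
      obtain ⟨b, rfl⟩ := hπs b
      obtain ⟨j, hj, hje⟩ := hker b (RingHom.mem_ker.1 hb)
      have ham : a ∈ M := by
        rw [hmem, ← π'.2, AlgHom.comp_apply]
        exact (C'.mem_maximalIdeal_iff _).1 ha
      rw [← hje, ← map_mul, Submodule.mem_bot]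
      exact Ideal.Quotient.eq_zero_iff_mem.2 (Ideal.mem_map_of_mem π (Ideal.mul_mem_mul ham hj))
  let uP : HomSet P resP C := HomSet.map p π'
  let u' : R →ₐ[k] C := AlgHom.liftOfSurjective q hqs uP.1 fun j hj => RingHom.mem_ker.1 (hJker j hj)
  have hu' : ∀ a, u' (q a) = uP.1 a := fun a => AlgHom.liftOfSurjective_apply _ hqs _ _ a
  let u : HomSet R res C := ⟨u', AlgHom.ext fun r => by
    obtain ⟨a, rfl⟩ := hqs r
    rw [AlgHom.comp_apply, hu', ← AlgHom.comp_apply, uP.2, ← hq]
    rfl⟩
  set K := RingHom.ker p.toAlgHom with hK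
  haveI : IsNoetherian k C' := (isFiniteLength_iff_isNoetherian_isArtinian.1 (isFiniteLength_art C')).1
  haveI : Module.Finite k K := Module.Finite.of_injective ((Submodule.subtype K).restrictScalars k) Subtype.coe_injective
  let Φ : Module.Dual k K →ₗ[k] V :=
    { toFun := fun l => TensorProduct.rid k V (LinearMap.lTensor V l (T.obs p hp u))
      map_add' := fun a b => by rw [LinearMap.lTensor_add, LinearMap.add_apply, map_add]
      map_smul' := fun c a => by rw [LinearMap.lTensor_smul, LinearMap.smul_apply, map_smul]; rfl }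
  have hΦ : Function.Injective Φ := by
    refine (injective_iff_map_eq_zero Φ).2 fun l hl => ?_
    by_contra hl0
    obtain ⟨x₀, hx₀⟩ : ∃ x, l x ≠ 0 := by
      by_contra h
      push Not at h
      exact hl0 (LinearMap.ext h)
    set x₁ := (l x₀)⁻¹ • x₀
    have hx₁ : l x₁ = 1 := by rw [map_smul, smul_eq_mul, inv_mul_cancel₀ hx₀]
    let K₀ : Ideal C' :=
      { carrier := {z | ∃ h : z ∈ K, l ⟨z, h⟩ = 0}
        add_mem' := fun {a b} ⟨ha, ea⟩ ⟨hb, eb⟩ => ⟨add_mem ha hb, by
          rw [show (⟨a + b, add_mem ha hb⟩ : K) = ⟨a, ha⟩ + ⟨b, hb⟩ from rfl, map_add, ea, eb, add_zero]⟩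
        zero_mem' := ⟨zero_mem _, map_zero l⟩
        smul_mem' := fun c z ⟨hz, ez⟩ => ⟨Ideal.mul_mem_left _ _ hz, by
          have h1 : (⟨c • z, Ideal.mul_mem_left _ _ hz⟩ : K) = C'.res c • ⟨z, hz⟩ := Subtype.ext (by
            change c * z = C'.res c • z
            rw [Algebra.smul_def, ← sub_eq_zero, ← sub_mul]
            exact (Submodule.mem_bot C').1 (hp.2 ▸ Ideal.mul_mem_mul ((C'.mem_maximalIdeal_iff _).2 (by
              rw [map_sub, AlgHom.commutes, Algebra.algebraMap_self_apply, sub_self])) hz))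
          rw [h1, map_smul, ez, smul_zero]⟩ }
    have hK₀ : K₀ ≤ K := fun z hz => hz.1
    have hKm : K ≤ maximalIdeal C' := fun z hz => (C'.mem_maximalIdeal_iff z).2 (by
      rw [← Art.res_app p z, RingHom.mem_ker.1 hz, map_zero])
    have hK₀m : K₀ ≤ maximalIdeal C' := hK₀.trans hKm
    let p₀ := quotFactor hK₀m p hK₀
    have hp₀ : IsSemismallExt p₀ := by
      refine ⟨fun z => ?_, le_bot_iff.1 (Ideal.mul_le.2 fun a ha b hb => ?_)⟩
      · obtain ⟨w, rfl⟩ := hp.1 z
        exact ⟨Ideal.Quotient.mk _ w, rfl⟩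
      · obtain ⟨a, rfl⟩ := quotMk_surjective C' _ hK₀m a
        obtain ⟨b, rfl⟩ := quotMk_surjective C' _ hK₀m b
        have h1 : a * b = 0 := (Submodule.mem_bot C').1 (hp.2 ▸ Ideal.mul_mem_mul
          ((C'.mem_maximalIdeal_iff a).2 (((quot C' K₀ hK₀m).mem_maximalIdeal_iff _).1 ha))
          (show b ∈ K from RingHom.mem_ker.2 (RingHom.mem_ker.1 hb)))
        rw [Submodule.mem_bot]
        change Ideal.Quotient.mk K₀ a * Ideal.Quotient.mk K₀ b = 0
        rw [← map_mul, h1, map_zero]
    have hfac : (kerToQuot hK₀m p hK₀).restrictScalars k =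
        (LinearMap.toSpanSingleton k _ (kerToQuot hK₀m p hK₀ x₁)).comp l := by
      refine LinearMap.ext fun x => ?_
      change kerToQuot hK₀m p hK₀ x = l x • kerToQuot hK₀m p hK₀ x₁
      rw [← map_smul, ← sub_eq_zero, ← map_sub]
      refine Subtype.ext (Ideal.Quotient.eq_zero_iff_mem.2 ⟨(x - l x • x₁).2, ?_⟩)
      rw [map_sub, map_smul, hx₁, smul_eq_mul, mul_one, sub_self]
    have hobs : T.obs p₀ hp₀ u = 0 := by
      rw [T.obs_quot p hp K₀ hK₀m hK₀ hp₀ u, hfac, LinearMap.lTensor_comp, LinearMap.comp_apply,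
        (LinearEquiv.map_eq_zero_iff (TensorProduct.rid k V)).1 hl, map_zero]
    obtain ⟨(ψ : HomSet R res _), (hψ : HomSet.map p₀ ψ = u)⟩ := (T.obs_eq_zero_iff p₀ hp₀ u).1 hobs
    have hagree := fun j (hj : j ∈ J) => lifts_eq_on_sq p₀ hp₀ (fun a => (hmem a).1)
      (HomSet.map (quotMk C' K₀ hK₀m) π') ⟨ψ.1.comp q, by rw [← AlgHom.comp_assoc, ψ.2, hq]⟩
      (Subtype.ext (AlgHom.ext fun a => ((DFunLike.congr_fun (congrArg Subtype.val hψ) (q a)).trans (hu' a)).symm))
      (hJ2 hj)
    obtain ⟨a, ha⟩ := hπs (x₁ : C')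
    obtain ⟨j, hj, hje⟩ := hker a (by rw [ha]; exact RingHom.mem_ker.1 x₁.2)
    have h1 : Ideal.Quotient.mk K₀ (π'.1 j) = 0 :=
      (hagree j hj).trans (by
        change ψ.1 (q j) = 0
        rw [RingHom.mem_ker.1 hj, map_zero])
    obtain ⟨h2, h3⟩ := Ideal.Quotient.eq_zero_iff_mem.1 h1
    have h4 : (⟨π'.1 j, h2⟩ : K) = x₁ := Subtype.ext (hje.trans ha)
    rw [h4, hx₁] at h3
    exact one_ne_zero h3
  have hfr : Module.finrank k K ≤ Module.finrank k V := by
    rw [← Subspace.dual_finrank_eq]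
    exact LinearMap.finrank_le_finrank_of_injective hΦ
  let b := Module.finBasis k K
  have hb : ∀ i, ∃ j ∈ J, π'.1 j = (b i : C') := fun i => by
    obtain ⟨a, ha⟩ := hπs (b i : C')
    obtain ⟨j, hj, hje⟩ := hker a (by rw [ha]; exact RingHom.mem_ker.1 (b i).2)
    exact ⟨j, hj, hje.trans ha⟩
  choose g hg hgb using hb
  have hspan : J ≤ Ideal.span (Set.range g) := by
    refine Submodule.le_of_le_smul_of_le_jacobson_bot (IsNoetherian.noetherian J)
      (IsLocalRing.maximalIdeal_le_jacobson _) fun j hj => ?_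
    set x : K := ⟨π'.1 j, hJker j hj⟩
    set w := ∑ i, algebraMap k P (b.repr x i) * g i
    have hw : w ∈ Ideal.span (Set.range g) :=
      Ideal.sum_mem _ fun i _ => Ideal.mul_mem_left _ _ (Ideal.subset_span ⟨i, rfl⟩)
    have hwe : π'.1 w = π'.1 j := by
      have h1 := congrArg (fun y : K => (y : C')) (b.sum_repr x)
      simp only [Submodule.coe_sum, Submodule.coe_smul_of_tower, Algebra.smul_def] at h1
      simp only [w, map_sum, map_mul, AlgHom.commutes, hgb]
      exact h1
    have hJw : j - w ∈ J :=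
      sub_mem hj (Ideal.sum_mem _ fun i _ => Ideal.mul_mem_left _ _ (hg i))
    obtain ⟨c, hc, hce⟩ := (Ideal.mem_map_iff_of_surjective π hφs).1
      (Ideal.Quotient.eq.1 hwe.symm : π j - π w ∈ (M * J).map π)
    have hd : j - w - c ∈ M * J := by
      refine hAR ⟨?_, sub_mem hJw (Ideal.mul_le_right hc)⟩
      refine hφk (RingHom.mem_ker.2 ?_)
      change π (j - w - c) = 0
      rw [map_sub π (j - w) c, map_sub π j w, hce, sub_self]
    have : j - w ∈ M * J := by
      have h5 := add_mem hd hc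
      rwa [sub_add_cancel] at h5
    have h6 := add_mem (Submodule.mem_sup_left hw : w ∈ Ideal.span (Set.range g) ⊔ M • J) (Submodule.mem_sup_right this)
    rwa [add_sub_cancel] at h6
  have hJe : J = Ideal.span (Set.range g) := le_antisymm hspan (Ideal.span_le.2 (by rintro - ⟨i, rfl⟩; exact hg i))
  rw [hJe]
  refine (Submodule.spanFinrank_span_le_ncard_of_finite (Set.finite_range g)).trans (le_trans ?_ hfr)
  rw [← Nat.card_coe_set_eq]
  exact (Finite.card_range_le g).trans (by simp)

theorem spanFinrank_ker_le [Module.Finite k V] (P : CRing k k) {R : Type u} [CommRing R] [Algebra k R]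
    (res : R →ₐ[k] k) (q : P.carrier →ₐ[k] R) (hq : res.comp q = P.res) (hqs : Function.Surjective q)
    (hJ2 : RingHom.ker q ≤ maximalIdeal P.carrier ^ 2) (T : ObsTheory (hR R res) V) :
    (RingHom.ker q).spanFinrank ≤ Module.finrank k V :=
  spanFinrank_ker_le' (CRing.mem_maximalIdeal_iff P)
    (fun N => ⟨P.trunc N, P.truncHom N, truncHom_surjective P N, fun a ha =>
      Ideal.pow_le_pow_right (Nat.le_succ N) (Ideal.Quotient.eq_zero_iff_mem.1 ha)⟩)
    res q hq hqs hJ2 T

/-- the field as a coefficient ring -/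
noncomputable def fieldCRing : CRing k k := artCRing (Art.base k k)

lemma smooth_psRing_field (n : ℕ) :
    IsSmoothFunctor (hR (psRing (fieldCRing (k := k)) (Fin n)).carrier (psRing (fieldCRing (k := k)) (Fin n)).res) := by
  intro B A μ hμ φ
  obtain ⟨ψ, hψ, -⟩ := psRing_versal (fieldCRing (k := k)) (Fin n) μ hμ φ
    (⟨Algebra.ofId k B, AlgHom.ext fun l => B.res.commutes l⟩ : HomSet k (AlgHom.id k k) B)
    (Subtype.ext (AlgHom.ext fun l => by
      exact ((μ.toAlgHom.comp (Algebra.ofId k B)).commutes l).trans ((φ.1.comp (psC fieldCRing (Fin n))).commutes l).symm))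
  exact ⟨ψ, hψ⟩

/-- a minimal presentation of a coefficient ring over a field -/
theorem exists_presentation (R : CRing k k) :
    ∃ (n : ℕ) (q : (psRing (fieldCRing (k := k)) (Fin n)).carrier →ₐ[k] R.carrier),
      R.res.comp q = (psRing fieldCRing (Fin n)).res ∧ Function.Surjective q ∧
      RingHom.ker q ≤ maximalIdeal (psRing (fieldCRing (k := k)) (Fin n)).carrier ^ 2 ∧
      n = Module.finrank (ResidueField R.carrier) (CotangentSpace R.carrier) := by
  obtain ⟨n, s, hs, hgen, hind⟩ := exists_minimal_gens (maximalIdeal R.carrier ^ 2)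
  set P := psRing (fieldCRing (k := k)) (Fin n) with hP
  haveI : IsAdicComplete (maximalIdeal R.carrier) R.carrier := R.isAdicComplete
  obtain ⟨φ, hφC, hφX⟩ := exists_psLift (fieldCRing (k := k)) (Algebra.ofId k R.carrier) s hs
  have hres : R.res.comp φ = P.res := by
    haveI : IsAdicComplete (maximalIdeal k) k := (artCRing (Art.base k k)).isAdicComplete
    refine psHom_ext _ (S := k) (fun j => ?_) (AlgHom.ext fun l => ?_) fun j => ?_
    · change R.res (φ _) ∈ _
      rw [hφX, (CRing.mem_maximalIdeal_iff R _).1 (hs j)]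
      exact zero_mem _
    · exact (((R.res.comp φ).comp (psC fieldCRing (Fin n))).commutes l).trans
        ((P.res.comp (psC fieldCRing (Fin n))).commutes l).symm
    · change R.res (φ _) = P.res _
      rw [hφX, (CRing.mem_maximalIdeal_iff R _).1 (hs j)]
      exact (psX_res (fieldCRing (k := k)) (Fin n) j).symm
  let X' : Fin n → P.carrier := fun j => (MvPowerSeries.X j : MvPowerSeries (Fin n) k)
  have hX' : ∀ j, φ (X' j) = s j := hφX
  have hXm : ∀ j, X' j ∈ maximalIdeal P.carrier := fun j => X_mem_maximalIdeal (R := k) j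
  have hφs : Function.Surjective φ := by
    refine surjective_of_cotangent φ P.res_surjective (fun x => (CRing.mem_maximalIdeal_iff R x).symm) hres
      (hgen.trans (sup_le (le_sup_of_le_left (Ideal.span_le.2 ?_)) le_sup_right))
    rintro - ⟨j, rfl⟩
    rw [← hX' j]
    exact Ideal.mem_map_of_mem _ (hXm j)
  have hker : RingHom.ker φ ≤ maximalIdeal P.carrier ^ 2 := fun w hw => by
    obtain ⟨c, hc⟩ := Ideal.mem_span_range_iff_exists_fun.1 (sub_C_mem_span_X (w : MvPowerSeries (Fin n) k))
    let c' : Fin n → P.carrier := c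
    have hw0 : MvPowerSeries.constantCoeff (w : MvPowerSeries (Fin n) k) = 0 := by
      have h1 : P.res w = 0 := by rw [← hres, AlgHom.comp_apply, RingHom.mem_ker.1 hw, map_zero]
      exact h1
    let w' : MvPowerSeries (Fin n) k := w
    have hc' : ∑ j, c j * MvPowerSeries.X j = w' := by
      refine Eq.trans hc ?_
      change w' - MvPowerSeries.C (MvPowerSeries.constantCoeff w') = w'
      rw [show MvPowerSeries.constantCoeff w' = 0 from hw0, map_zero]
      exact sub_zero w'
    have hw' : ∑ j, c' j * X' j = w := hc'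
    have hsum : ∑ j, φ (c' j) * s j ∈ maximalIdeal R.carrier ^ 2 := by
      have h1 : φ w = ∑ j, φ (c' j) * s j := by
        rw [← hw', map_sum]
        simp only [map_mul, hX']
      rw [← h1, RingHom.mem_ker.1 hw]
      exact zero_mem _
    rw [← hw', pow_two]
    refine Ideal.sum_mem _ fun j _ => Ideal.mul_mem_mul ((CRing.mem_maximalIdeal_iff P _).2 ?_) (hXm j)
    rw [← hres, AlgHom.comp_apply]
    exact (CRing.mem_maximalIdeal_iff R _).1 (hind _ hsum j)
  refine ⟨n, φ, hres, hφs, hker, ?_⟩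
  rw [← IsLocalRing.spanFinrank_maximalIdeal_eq_finrank_cotangentSpace]
  refine le_antisymm ?_ ?_
  · obtain ⟨S, hS1, hS2⟩ := Submodule.FG.exists_span_finset_card_eq_spanFinrank
      (IsNoetherian.noetherian (maximalIdeal R.carrier))
    let t := S.card
    let g : Fin t → R.carrier := fun i => (S.equivFin.symm i : R.carrier)
    have hg : t = (maximalIdeal R.carrier).spanFinrank ∧ Ideal.span (Set.range g) = maximalIdeal R.carrier := by
      refine ⟨hS1, ?_⟩
      have : Set.range g = (S : Set R.carrier) := by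
        ext x
        exact ⟨by rintro ⟨i, rfl⟩; exact (S.equivFin.symm i).2, fun hx => ⟨S.equivFin ⟨x, hx⟩, by simp [g]⟩⟩
      rw [this]
      exact hS2
    choose G hG using fun i => hφs (g i)
    have hGm : ∀ i, G i ∈ maximalIdeal P.carrier := fun i => by
      rw [CRing.mem_maximalIdeal_iff, ← hres, AlgHom.comp_apply, hG, ← CRing.mem_maximalIdeal_iff, ← hg.2]
      exact Ideal.subset_span ⟨i, rfl⟩
    have hMle : maximalIdeal P.carrier ≤ Ideal.span (Set.range G) := by
      refine Submodule.le_of_le_smul_of_le_jacobson_bot (IsNoetherian.noetherian _)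
        (IsLocalRing.maximalIdeal_le_jacobson _) fun w hw => ?_
      have h1 : φ w ∈ Ideal.span (Set.range g) := hg.2.symm ▸ cringHom_map_max hres (Ideal.mem_map_of_mem _ hw)
      obtain ⟨c, hc⟩ := Ideal.mem_span_range_iff_exists_fun.1 h1
      choose d hd using fun i => hφs (c i)
      have h2 : w - ∑ i, d i * G i ∈ maximalIdeal P.carrier • maximalIdeal P.carrier := by
        rw [smul_eq_mul, ← pow_two]
        refine hker ?_
        rw [RingHom.mem_ker, map_sub, map_sum, ← hc]
        simp [hd, hG]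
      have h3 := add_mem (Submodule.mem_sup_left (Ideal.sum_mem _ fun i _ => Ideal.mul_mem_left _ _ (Ideal.subset_span ⟨i, rfl⟩)) :
        ∑ i, d i * G i ∈ Ideal.span (Set.range G) ⊔ maximalIdeal P.carrier • maximalIdeal P.carrier)
        (Submodule.mem_sup_right h2)
      rwa [add_sub_cancel] at h3
    have hle : (maximalIdeal P.carrier).spanFinrank ≤ t := by
      rw [le_antisymm hMle (Ideal.span_le.2 (by rintro - ⟨i, rfl⟩; exact hGm i))]
      refine (Submodule.spanFinrank_span_le_ncard_of_finite (Set.finite_range G)).trans ?_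
      rw [← Nat.card_coe_set_eq]
      exact (Finite.card_range_le G).trans (by simp)
    have hdim : (n : WithBot ℕ∞) ≤ (maximalIdeal (MvPowerSeries (Fin n) k)).spanFinrank :=
      (Groth.L01.PowSerReg.le_ringKrullDim k n).trans (ringKrullDim_le_spanFinrank_maximalIdeal _)
    exact (Nat.cast_le.1 hdim).trans (hle.trans hg.1.le)
  · have hle : maximalIdeal R.carrier ≤ Ideal.span (Set.range s) :=
      Submodule.le_of_le_smul_of_le_jacobson_bot (IsNoetherian.noetherian _)
        (IsLocalRing.maximalIdeal_le_jacobson _) (by rw [smul_eq_mul, ← pow_two]; exact hgen)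
    rw [le_antisymm hle (Ideal.span_le.2 (by rintro - ⟨i, rfl⟩; exact hs i))]
    refine (Submodule.spanFinrank_span_le_ncard_of_finite (Set.finite_range s)).trans ?_
    rw [← Nat.card_coe_set_eq]
    exact (Finite.card_range_le s).trans (by simp)

end Groth.L12
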