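import Groth.Agent.L20.ModStalk
import Groth.Prelude.Def_FlatMod2
import Mathlib.Algebra.Category.ModuleCat.Sheaf.ChangeOfRings
import Mathlib.Algebra.Category.ModuleCat.Presheaf.Sheafification
import Mathlib.Algebra.Category.ModuleCat.Presheaf.EpiMono
import Mathlib.Algebra.Category.ModuleCat.Sheaf.Abelian
import Mathlib.Topology.Sheaves.Sheafify
import Mathlib.Algebra.Module.FinitePresentation
import Mathlib.RingTheory.Flat.Basic

/-!
# Modules over a flat sheaf of algebras are quotients of modules flat over the structure sheaf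
-/

set_option autoImplicit false
set_option linter.style.haveILetI false
set_option backward.isDefEq.respectTransparency false
set_option backward.isDefEq.respectTransparency.types false

universe u

open CategoryTheory CategoryTheory.Limits AlgebraicGeometry TopologicalSpace Opposite

noncomputable section

namespace Groth.L12.OrdFlat

variable {X : Scheme.{u}} (A : Sheaf (Opens.grothendieckTopology X) RingCat.{u}) (φ : X.ringCatSheaf ⟶ A)
  (M : SheafOfModules.{u} A)

abbrev alg : X.Modules := (SheafOfModules.restrictScalars φ).obj (SheafOfModules.unit A)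

abbrev AS (W : X.Opens) : Type u := A.obj.obj (op W)

abbrev ra {U V : X.Opens} (h : V ≤ U) : AS A U →+* AS A V := (A.obj.map (homOfLE h).op).hom

/-- The indices of the generators over `U`. -/
abbrev Idx (U : X.Opens) : Type u := {p : Σ V : X.Opens, M.val.obj (op V) // U ≤ p.1}

/-- The restriction of indices. -/
def idxRes {U V : X.Opens} (h : V ≤ U) (i : Idx A M U) : Idx A M V := ⟨i.1, h.trans i.2⟩

/-- The restriction of a free section. -/
def pMap {U V : X.Opens} (h : V ≤ U) : (Idx A M U →₀ AS A U) →+ (Idx A M V →₀ AS A V) :=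
  (Finsupp.mapDomain.addMonoidHom (idxRes A M h)).comp (Finsupp.mapRange.addMonoidHom (ra A h).toAddMonoidHom)

theorem pMap_single {U V : X.Opens} (h : V ≤ U) (i : Idx A M U) (a : AS A U) :
    pMap A M h (Finsupp.single i a) = Finsupp.single (idxRes A M h i) (ra A h a) := by
  simp [pMap]

/-- The free presheaf, as abelian groups. -/
def pAb : (Opens X)ᵒᵖ ⥤ AddCommGrpCat.{u} where
  obj U := AddCommGrpCat.of (Idx A M U.unop →₀ AS A U.unop)
  map {U V} i := AddCommGrpCat.ofHom (pMap A M i.unop.le)
  map_id U := AddCommGrpCat.hom_ext (Finsupp.addHom_ext fun i a => by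
    show pMap A M _ (Finsupp.single i a) = Finsupp.single i a
    rw [pMap_single]
    congr 1
    exact ConcreteCategory.congr_hom (A.obj.map_id U) a)
  map_comp {U V W} f g := AddCommGrpCat.hom_ext (Finsupp.addHom_ext fun i a => by
    show pMap A M (f ≫ g).unop.le (Finsupp.single i a) =
      pMap A M g.unop.le (pMap A M f.unop.le (Finsupp.single i a))
    rw [pMap_single, pMap_single, pMap_single]
    congr 1
    exact ConcreteCategory.congr_hom (A.obj.map_comp f g) a)

instance (U : (Opens X)ᵒᵖ) : Module (A.obj.obj U) ((pAb A M).obj U) :=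
  inferInstanceAs (Module (AS A U.unop) (Idx A M U.unop →₀ AS A U.unop))

theorem pAb_map_smul ⦃U V : (Opens X)ᵒᵖ⦄ (i : U ⟶ V) (r : A.obj.obj U) (m : (pAb A M).obj U) :
    (pAb A M).map i (r • m) = A.obj.map i r • (pAb A M).map i m := by
  show pMap A M i.unop.le ((r : AS A U.unop) • (show Idx A M U.unop →₀ AS A U.unop from m)) =
    ra A i.unop.le r • pMap A M i.unop.le (show Idx A M U.unop →₀ AS A U.unop from m)
  induction (show Idx A M U.unop →₀ AS A U.unop from m) using Finsupp.induction_linear with
  | zero => rw [smul_zero, map_zero, smul_zero]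
  | add p q hp hq => rw [smul_add, map_add, map_add, smul_add, hp, hq]
  | single i a => rw [Finsupp.smul_single, pMap_single, pMap_single, Finsupp.smul_single, smul_eq_mul,
      smul_eq_mul, map_mul]

/-- The free presheaf of modules on all local sections. -/
def pMod : PresheafOfModules.{u} A.obj :=
  PresheafOfModules.ofPresheaf (R := A.obj) (pAb A M) (pAb_map_smul A M)

/-- Evaluation of a free section. -/
def evHom (U : X.Opens) : (Idx A M U →₀ AS A U) →+ M.val.obj (op U) :=
  Finsupp.liftAddHom fun i => AddMonoidHom.mk'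
    (fun a => (a • (M.val.map (homOfLE i.2).op i.1.2 : M.val.obj (op U)) : M.val.obj (op U)))
    fun a b => add_smul a b _

theorem evHom_single (U : X.Opens) (i : Idx A M U) (a : AS A U) :
    evHom A M U (Finsupp.single i a) = (a • (M.val.map (homOfLE i.2).op i.1.2 : M.val.obj (op U)) : M.val.obj (op U)) := by
  simp [evHom]

/-- The map onto `M`. -/
def pπ : pMod A M ⟶ M.val :=
  PresheafOfModules.homMk (M₁ := pMod A M) (M₂ := M.val)
    { app := fun U => AddCommGrpCat.ofHom (evHom A M U.unop)
      naturality := fun U V i => AddCommGrpCat.hom_ext (Finsupp.addHom_ext fun j a => by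
        show evHom A M V.unop (pMap A M i.unop.le (Finsupp.single j a)) =
          M.val.map i (evHom A M U.unop (Finsupp.single j a))
        rw [pMap_single, evHom_single, evHom_single, PresheafOfModules.map_smul]
        refine congrArg (fun z : M.val.obj V => (A.obj.map i a) • z) ?_
        exact (PresheafOfModules.map_comp_apply M.val (homOfLE j.2).op i j.1.2)) }
    fun U r m => by
      show evHom A M U.unop ((r : AS A U.unop) • (show Idx A M U.unop →₀ AS A U.unop from m)) =
        ((r : AS A U.unop) • (evHom A M U.unop (show Idx A M U.unop →₀ AS A U.unop from m)) : M.val.obj (op U.unop))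
      induction (show Idx A M U.unop →₀ AS A U.unop from m) using Finsupp.induction_linear with
      | zero => rw [smul_zero, map_zero, smul_zero]
      | add p q hp hq => rw [smul_add, map_add, map_add, smul_add, hp, hq]
      | single i a => rw [Finsupp.smul_single, evHom_single, evHom_single, smul_eq_mul, mul_smul]

theorem pπ_surjective (U : (Opens X)ᵒᵖ) (m : M.val.obj U) : ∃ p, (pπ A M).app U p = m := by
  refine ⟨(show (pMod A M).obj U from
    Finsupp.single (⟨⟨U.unop, m⟩, le_refl U.unop⟩ : Idx A M U.unop) (1 : AS A U.unop)), ?_⟩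
  show evHom A M U.unop (Finsupp.single _ _) = m
  rw [evHom_single]
  refine (one_smul _ _).trans ?_
  exact ConcreteCategory.congr_hom (M.val.map_id U) m

/-- The sheaf of modules generated freely by all local sections. -/
def freeSh : SheafOfModules.{u} A := (PresheafOfModules.sheafification (𝟙 A.obj)).obj (pMod A M)

/-- The unit. -/
def η : pMod A M ⟶ (freeSh A M).val :=
  (PresheafOfModules.sheafificationAdjunction (𝟙 A.obj)).unit.app (pMod A M)

/-- The epimorphism onto `M`. -/
def freeπ : freeSh A M ⟶ M :=
  ((PresheafOfModules.sheafificationAdjunction (𝟙 A.obj)).homEquiv _ _).symm (pπ A M)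

theorem η_freeπ : η A M ≫ (freeπ A M).val = pπ A M := by
  refine Eq.trans ?_ (Equiv.apply_symm_apply
    ((PresheafOfModules.sheafificationAdjunction (𝟙 A.obj)).homEquiv _ _) (pπ A M))
  exact (((PresheafOfModules.sheafificationAdjunction (𝟙 A.obj)).homEquiv_unit (pMod A M) M
    (freeπ A M))).symm

instance : Epi (freeπ A M) := by
  haveI : Epi ((SheafOfModules.forget A).map (freeπ A M)) := by
    refine (PresheafOfModules.epi_iff_surjective _).2 fun U m => ?_
    obtain ⟨p, hp⟩ := pπ_surjective A M U m
    refine ⟨(η A M).app U p, ?_⟩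
    rw [← η_freeπ] at hp
    exact hp
  exact (SheafOfModules.forget A).epi_of_epi_map this

/-- Germs of free sections. -/
def χ (x : X) (U : X.Opens) (hx : x ∈ U) :
    (Idx A M U →₀ AS A U) →+ ({p : Σ V : X.Opens, M.val.obj (op V) // x ∈ p.1} →₀ (alg A φ).presheaf.stalk x) :=
  (Finsupp.mapDomain.addMonoidHom fun i : Idx A M U => ⟨i.1, i.2 hx⟩).comp
    (Finsupp.mapRange.addMonoidHom ((alg A φ).presheaf.germ U x hx).hom)

theorem χ_single (x : X) (U : X.Opens) (hx : x ∈ U) (i : Idx A M U) (a : AS A U) :
    χ A φ M x U hx (Finsupp.single i a) =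
      Finsupp.single ⟨i.1, i.2 hx⟩ ((alg A φ).presheaf.germ U x hx a) := by
  simp [χ]
  rfl

theorem χ_pMap (x : X) {U V : X.Opens} (h : V ≤ U) (hx : x ∈ V) (p : Idx A M U →₀ AS A U) :
    χ A φ M x V hx (pMap A M h p) = χ A φ M x U (h hx) p := by
  induction p using Finsupp.induction_linear with
  | zero => rw [map_zero, map_zero, map_zero]
  | add p q hp hq => rw [map_add, map_add, map_add, hp, hq]
  | single i a =>
    rw [pMap_single, χ_single, χ_single]
    congr 1
    exact TopCat.Presheaf.germ_res_apply (alg A φ).presheaf (homOfLE h) x hx a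

/-- The sheaf is flat over the structure sheaf when the algebra is. -/
theorem isFlat_freeSh (hA : FlatMod.IsFlat (alg A φ)) :
    FlatMod.IsFlat ((SheafOfModules.restrictScalars φ).obj (freeSh A M)) := by
  classical
  intro x
  let F : X.Modules := (SheafOfModules.restrictScalars φ).obj (freeSh A M)
  let O := X.presheaf.stalk x
  let S := (alg A φ).presheaf.stalk x
  haveI : Module.Flat O S := hA x
  let T := {p : Σ V : X.Opens, M.val.obj (op V) // x ∈ p.1}
  let P : TopCat.Presheaf AddCommGrpCat.{u} X := pAb A M
  let e : P ⟶ F.presheaf := (PresheafOfModules.toPresheaf _).map (η A M)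
  have he : e = CategoryTheory.toSheafify (Opens.grothendieckTopology X) P :=
    PresheafOfModules.toPresheaf_map_sheafificationAdjunction_unit_app _ _
  let k := (TopCat.Presheaf.stalkFunctor AddCommGrpCat.{u} x).map e
  haveI : IsIso k := by
    show IsIso ((TopCat.Presheaf.stalkFunctor AddCommGrpCat.{u} x).map e)
    rw [he]
    exact TopCat.Presheaf.stalkFunctor_map_unit_toSheafify_isIso _ _ _
  -- the coordinates of a germ of a free section
  let c : Cocone ((OpenNhds.inclusion x).op ⋙ P) :=
    { pt := AddCommGrpCat.of (T →₀ S)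
      ι := { app := fun U => AddCommGrpCat.ofHom (χ A φ M x U.unop.1 U.unop.2)
             naturality := fun U V i => AddCommGrpCat.hom_ext (AddMonoidHom.ext fun p =>
               χ_pMap A φ M x (leOfHom i.unop) V.unop.2 p) } }
  let cmp : P.stalk x ⟶ AddCommGrpCat.of (T →₀ S) := colimit.desc _ c
  have hcmp : ∀ (U : X.Opens) (hx : x ∈ U) (p : Idx A M U →₀ AS A U),
      cmp (P.germ U x hx p) = χ A φ M x U hx p := fun U hx p =>
    ConcreteCategory.congr_hom (colimit.ι_desc c (op (⟨U, hx⟩ : OpenNhds x))) p
  have hinj : Function.Injective cmp := by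
    rw [injective_iff_map_eq_zero]
    intro z hz
    obtain ⟨U, hxU, p, rfl⟩ := TopCat.Presheaf.exists_germ_eq P z
    rw [hcmp] at hz
    -- each coefficient dies near the point
    have hco : ∀ i : Idx A M U, ∃ W : X.Opens, x ∈ W ∧ ∃ h : W ≤ U, ra A h ((show Idx A M U →₀ AS A U from p) i) = 0 := by
      intro i
      have h1 : (alg A φ).presheaf.germ U x hxU ((show Idx A M U →₀ AS A U from p) i) = 0 := by
        have h2 := DFunLike.congr_fun hz (⟨i.1, i.2 hxU⟩ : T)
        simp only [χ, AddMonoidHom.comp_apply, Finsupp.mapDomain.addMonoidHom_apply,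
          Finsupp.mapRange.addMonoidHom_apply, Finsupp.coe_zero, Pi.zero_apply] at h2
        rw [Finsupp.mapDomain_apply (fun a b hab => Subtype.ext (Subtype.mk.inj hab))] at h2
        exact (Finsupp.mapRange_apply (hf := map_zero _) ..).symm.trans h2
      obtain ⟨W, hxW, iU, iV, e1⟩ := TopCat.Presheaf.germ_eq (alg A φ).presheaf x hxU hxU
        ((show Idx A M U →₀ AS A U from p) i) 0 (h1.trans (map_zero _).symm)
      exact ⟨W, hxW, iU.le, e1.trans (map_zero _)⟩
    choose W hxW hWU hW using hco
    let W₀ : X.Opens := U ⊓ (show Idx A M U →₀ AS A U from p).support.inf W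
    have hxW₀ : x ∈ W₀ := ⟨hxU, by
      induction (show Idx A M U →₀ AS A U from p).support using Finset.induction_on with
      | empty => trivial
      | insert a s _ ih => rw [Finset.inf_insert]; exact ⟨hxW a, ih⟩⟩
    have h3 : pMap A M (inf_le_left : W₀ ≤ U) p = 0 := by
      have : Finsupp.mapRange (ra A (inf_le_left : W₀ ≤ U)) (map_zero _) p = 0 := by
        ext i
        rw [Finsupp.mapRange_apply, Finsupp.coe_zero, Pi.zero_apply]
        by_cases hi : i ∈ (show Idx A M U →₀ AS A U from p).support
        · have hle : W₀ ≤ W i := inf_le_right.trans (Finset.inf_le hi)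
          refine Eq.trans ?_ ((congrArg (ra A hle) (hW i)).trans (map_zero _))
          exact ConcreteCategory.congr_hom (A.obj.map_comp (homOfLE (hWU i)).op (homOfLE hle).op) _
        · rw [Finsupp.notMem_support_iff.1 hi]; exact map_zero _
      simp only [pMap, AddMonoidHom.comp_apply, Finsupp.mapRange.addMonoidHom_apply]
      rw [show Finsupp.mapRange (ra A (inf_le_left : W₀ ≤ U)).toAddMonoidHom _ p = 0 from this, map_zero]
    refine (TopCat.Presheaf.germ_res_apply P (homOfLE (inf_le_left : W₀ ≤ U)) x hxW₀ p).symm.trans ?_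
    rw [show P.map (homOfLE (inf_le_left : W₀ ≤ U)).op p = 0 from h3, map_zero]
  have hsurj : Function.Surjective cmp := fun z => by
    induction z using Finsupp.induction_linear with
    | zero => exact ⟨0, map_zero _⟩
    | add p q hp hq =>
      obtain ⟨p', rfl⟩ := hp
      obtain ⟨q', rfl⟩ := hq
      exact ⟨p' + q', map_add _ _ _⟩
    | single i s =>
      obtain ⟨U, hxU, a, rfl⟩ := TopCat.Presheaf.exists_germ_eq (alg A φ).presheaf s
      let W := U ⊓ i.1.1
      refine ⟨P.germ W x ⟨hxU, i.2⟩ (Finsupp.single (⟨i.1, inf_le_right⟩ : Idx A M W) (ra A inf_le_left a)), ?_⟩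
      rw [hcmp, χ_single]
      congr 1
      exact TopCat.Presheaf.germ_res_apply (alg A φ).presheaf (homOfLE (inf_le_left : W ≤ U)) x ⟨hxU, i.2⟩ a
  let ψ : F.presheaf.stalk x → (T →₀ S) := fun z => cmp ((inv k) z)
  have hψ : ∀ (U : X.Opens) (hx : x ∈ U) (p : Idx A M U →₀ AS A U),
      ψ (F.presheaf.germ U x hx ((η A M).app (op U) p)) = χ A φ M x U hx p := by
    intro U hx p
    have e1 : F.presheaf.germ U x hx ((η A M).app (op U) p) = k (P.germ U x hx p) :=
      (TopCat.Presheaf.stalkFunctor_map_germ_apply U x hx e p).symm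
    show cmp ((inv k) _) = _
    rw [e1, ← CategoryTheory.comp_apply, IsIso.hom_inv_id, ← hcmp]
    rfl
  have hbij : Function.Bijective ψ :=
    (show Function.Bijective cmp from ⟨hinj, hsurj⟩).comp (ConcreteCategory.bijective_of_isIso (inv k))
  have hlin : ∀ (r : O) (z : F.presheaf.stalk x), ψ (r • z) = r • ψ z := by
    intro r z
    obtain ⟨z', rfl⟩ := (ConcreteCategory.bijective_of_isIso k).2 z
    obtain ⟨U, hxU, p, rfl⟩ := TopCat.Presheaf.exists_germ_eq P z'
    obtain ⟨V, hxV, r, rfl⟩ := TopCat.Presheaf.exists_germ_eq X.presheaf r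
    let W := U ⊓ V
    have hxW : x ∈ W := ⟨hxU, hxV⟩
    have e1 : k (P.germ U x hxU p) = F.presheaf.germ W x hxW ((η A M).app (op W) (pMap A M inf_le_left p)) := by
      rw [← TopCat.Presheaf.germ_res_apply P (homOfLE (inf_le_left : W ≤ U)) x hxW p]
      exact TopCat.Presheaf.stalkFunctor_map_germ_apply W x hxW e _
    let rW : Γ(X, W) := X.presheaf.map (homOfLE (inf_le_right : W ≤ V)).op r
    have e2 : X.presheaf.germ V x hxV r = X.presheaf.germ W x hxW rW :=
      (TopCat.Presheaf.germ_res_apply X.presheaf (homOfLE (inf_le_right : W ≤ V)) x hxW r).symm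
    rw [e1, e2, hψ]
    have e3 : X.presheaf.germ W x hxW rW • F.presheaf.germ W x hxW ((η A M).app (op W) (pMap A M inf_le_left p)) =
        F.presheaf.germ W x hxW ((η A M).app (op W)
          ((φ.hom.app (op W) rW : AS A W) • (show Idx A M W →₀ AS A W from pMap A M inf_le_left p))) := by
      rw [← Groth.L20.ModStalk.germ_smul F hxW]
      refine congrArg _ ?_
      exact (map_smul ((η A M).app (op W)).hom (φ.hom.app (op W) rW : AS A W) _).symm
    rw [e3, hψ]
    induction (pMap A M (inf_le_left : W ≤ U) p) using Finsupp.induction_linear with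
    | zero => rw [smul_zero, map_zero, smul_zero]
    | add p q hp hq => rw [smul_add, map_add, map_add, smul_add, hp, hq]
    | single i a =>
      rw [Finsupp.smul_single, χ_single, χ_single, Finsupp.smul_single]
      congr 1
      exact Groth.L20.ModStalk.germ_smul (alg A φ) hxW rW a
  let E : F.presheaf.stalk x ≃ₗ[O] (T →₀ S) :=
    { Equiv.ofBijective ψ hbij with
      map_add' := fun a b => by show cmp ((inv k) (a + b)) = _; rw [map_add, map_add]; rfl
      map_smul' := hlin }
  haveI : Module.Flat O (T →₀ S) := Module.Flat.of_linearEquiv (finsuppLequivDFinsupp O)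
  exact Module.Flat.of_linearEquiv E

end Groth.L12.OrdFlat
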