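import Groth.Agent.L16.HomSh.Adjunction
import Groth.Agent.L17.ChangeRings
import Groth.Agent.L29.DCoh.Flat
import Groth.Agent.L15.ExtZero.RingExact
import Mathlib.Algebra.Category.ModuleCat.Sheaf.ChangeOfRings

/-!
# Restriction of scalars to the structure sheaf along a finite locally free algebra keeps injectives
-/

set_option autoImplicit false
set_option linter.style.haveILetI false
set_option backward.isDefEq.respectTransparency false
set_option backward.isDefEq.respectTransparency.types false

universe u

open CategoryTheory CategoryTheory.Limits AlgebraicGeometry TopologicalSpace Opposite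

noncomputable section

namespace Groth.L12.OrdInj

open Groth.L16.HomSh
open Groth.L18.Frame (rs ro rs_rs rs_smul rs_self)

variable {X : Scheme.{u}} (A : Sheaf (Opens.grothendieckTopology X) RingCat.{u}) (φ : X.ringCatSheaf ⟶ A)

/-- The algebra as a module over the structure sheaf. -/
abbrev alg : X.Modules := (SheafOfModules.restrictScalars φ).obj (SheafOfModules.unit A)

/-- A module over the algebra as a module over the structure sheaf. -/
abbrev res (I : SheafOfModules.{u} A) : X.Modules := (SheafOfModules.restrictScalars φ).obj I

/-- Sections of the algebra. -/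
abbrev AS (W : X.Opens) : Type u := A.obj.obj (op W)

/-- Restriction of sections of the algebra. -/
abbrev ra {U V : X.Opens} (h : V ≤ U) : AS A U →+* AS A V := (A.obj.map (homOfLE h).op).hom

theorem ra_ra {U V W : X.Opens} (h : V ≤ U) (h' : W ≤ V) (a : AS A U) :
    ra A h' (ra A h a) = ra A (h'.trans h) a :=
  ((RingHom.congr_fun (congrArg RingCat.Hom.hom (A.obj.map_comp (homOfLE h).op (homOfLE h').op)) a).symm)

variable {A φ}

/-- The product in the algebra, as a section of the module. -/
def mulR {W : X.Opens} (b : Γ(alg A φ, W)) (a : AS A W) : Γ(alg A φ, W) := (show AS A W from b) * a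

theorem mulR_add {W : X.Opens} (b c : Γ(alg A φ, W)) (a : AS A W) : mulR (b + c) a = mulR b a + mulR c a :=
  add_mul (show AS A W from b) (show AS A W from c) a

/-- The action, as a section of the module over the structure sheaf. -/
def act {I : SheafOfModules.{u} A} {W : X.Opens} (b : Γ(alg A φ, W)) (m : I.val.obj (op W)) : Γ(res A φ I, W) :=
  ((show AS A W from b) • m : I.val.obj (op W))

theorem act_add {I : SheafOfModules.{u} A} {W : X.Opens} (b c : Γ(alg A φ, W)) (m : I.val.obj (op W)) :
    act (b + c) m = act b m + act c m :=
  add_smul (show AS A W from b) (show AS A W from c) m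

/-- The right translate of a family. -/
def translate (J : X.Modules) {U : X.Opens} (a : AS A U) (f : Sec (alg A φ) J U) : Sec (alg A φ) J U :=
  ⟨fun W => AddMonoidHom.mk' (fun b => f.1 W (mulR b (ra A W.2 a)))
      fun b c => by
        rw [mulR_add, map_add],
    fun W W' h h' b => by
      refine (ev_rs f h h' _).trans ?_
      refine congrArg (ev f (h'.trans h)) ?_
      show ra A h' ((show AS A W from b) * ra A h a) = ra A h' (show AS A W from b) * ra A (h'.trans h) a
      rw [map_mul, ra_ra],
    fun W h r b => by
      refine Eq.trans ?_ (ev_smul f h r _)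
      refine congrArg (ev f h) ?_
      exact mul_assoc (φ.hom.app (op W) r) (show AS A W from b) (ra A h a)⟩

theorem ev_translate (J : X.Modules) {U : X.Opens} (a : AS A U) (f : Sec (alg A φ) J U) {W : X.Opens}
    (h : W ≤ U) (b : AS A W) : ev (translate J a f) h b = ev f h (show AS A W from b * ra A h a) := rfl

instance coindModule (J : X.Modules) (U : X.Opens) : Module (A.obj.obj (op U)) (Sec (alg A φ) J U) where
  smul := translate J
  one_smul f := sec_ext fun W h (b : AS A W) => by
    show ev (translate J (1 : AS A U) f) h b = _
    rw [ev_translate]
    exact congrArg (ev f h) (by rw [map_one, mul_one])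
  mul_smul a a' f := sec_ext fun W h (b : AS A W) => by
    show ev (translate J (a * a' : AS A U) f) h b = ev (translate J a' f) h (b * ra A h a : AS A W)
    rw [ev_translate, ev_translate]
    exact congrArg (ev f h) (by rw [map_mul, mul_assoc])
  smul_zero a := sec_ext fun W h b => rfl
  smul_add a f g := sec_ext fun W h b => rfl
  add_smul a a' f := sec_ext fun W h (b : AS A W) => by
    show ev (translate J (a + a' : AS A U) f) h b = ev (translate J a f) h b + ev (translate J a' f) h b
    rw [ev_translate, ev_translate, ev_translate, ← map_add]
    exact congrArg (ev f h) (by rw [map_add, mul_add])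
  zero_smul f := sec_ext fun W h (b : AS A W) => by
    show ev (translate J (0 : AS A U) f) h b = 0
    rw [ev_translate]
    refine (congrArg (ev f h) ?_).trans (map_zero _)
    rw [map_zero, mul_zero]

theorem ev_smul' (J : X.Modules) {U : X.Opens} (a : AS A U) (f : Sec (alg A φ) J U) {W : X.Opens}
    (h : W ≤ U) (b : AS A W) : ev (a • f) h b = ev f h (show AS A W from b * ra A h a) := rfl

variable (A φ)

instance (J : X.Modules) (U : (Opens X)ᵒᵖ) : Module (A.obj.obj U) ((abPre (alg A φ) J).obj U) :=
  coindModule J U.unop

/-- The coinduced module. -/
def coind (J : X.Modules) : SheafOfModules.{u} A where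
  val := PresheafOfModules.ofPresheaf (R := A.obj) (abPre (alg A φ) J) fun U V i a f =>
    sec_ext fun W h (b : AS A W) => by
      show ev (show Sec (alg A φ) J U.unop from f) (h.trans i.unop.le)
          (show AS A W from b * ra A (h.trans i.unop.le) a) =
        ev (show Sec (alg A φ) J U.unop from f) (h.trans i.unop.le)
          (show AS A W from b * ra A h (ra A i.unop.le a))
      rw [ra_ra]
  isSheaf := abPre_isSheaf (alg A φ) J

/-- Over the structure sheaf, the coinduced module is the sheaf of homomorphisms. -/
def coindIso (hcen : ∀ (U : (Opens X)ᵒᵖ) (s : X.ringCatSheaf.obj.obj U) (a : A.obj.obj U),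
      φ.hom.app U s * a = a * φ.hom.app U s) (J : X.Modules) : res A φ (coind A φ J) ≅ homMod (alg A φ) J :=
  (SheafOfModules.fullyFaithfulForget _).preimageIso <| PresheafOfModules.isoMk (fun U =>
    LinearEquiv.toModuleIso (R := X.ringCatSheaf.obj.obj U)
      (X₁ := (res A φ (coind A φ J)).val.obj U) (X₂ := (homMod (alg A φ) J).val.obj U)
      ({ toFun := fun f => f
         invFun := fun f => f
         left_inv := fun _ => rfl
         right_inv := fun _ => rfl
         map_add' := fun _ _ => rfl
         map_smul' := fun r f => sec_ext fun W h (b : AS A W) => by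
          show ev (show Sec (alg A φ) J U.unop from f) h (show AS A W from b * ra A h (φ.hom.app U r)) =
            ev ((show Γ(X, U.unop) from r) • (show Sec (alg A φ) J U.unop from f)) h b
          rw [ev_smulSec, ← ev_smul]
          refine congrArg (ev _ h) ?_
          show b * ra A h (φ.hom.app U r) = φ.hom.app (op W) (ro h r) * b
          rw [hcen]
          refine congrArg (b * ·) ?_
          exact (ConcreteCategory.congr_hom (φ.hom.naturality (homOfLE h).op) r).symm } :
        (res A φ (coind A φ J)).val.obj U ≃ₗ[X.ringCatSheaf.obj.obj U] (homMod (alg A φ) J).val.obj U)) fun U V i => rfl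

variable {A φ}

/-- The map into the coinduced module. -/
def toCoind {I : SheafOfModules.{u} A} {J : X.Modules} (g : res A φ I ⟶ J) : I ⟶ coind A φ J :=
  ⟨PresheafOfModules.homMk (M₁ := I.val) (M₂ := (coind A φ J).val)
    { app := fun U => AddCommGrpCat.ofHom <| AddMonoidHom.mk'
        (fun m => (⟨fun W => AddMonoidHom.mk'
            (fun b => g.app W.1 (act b (I.val.map (homOfLE W.2).op m)))
            fun b c => by
              rw [act_add, map_add],
          fun W W' h h' (b : AS A W) => by
            show rs J h' (g.app W _) = g.app W' _
            refine (hom_app_rs g h' _).symm.trans (congrArg (g.app W') ?_)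
            refine (PresheafOfModules.map_smul I.val (homOfLE h').op b _).trans ?_
            refine congrArg (fun z => (A.obj.map (homOfLE h').op b) • z) ?_
            exact (PresheafOfModules.map_comp_apply I.val (homOfLE h).op (homOfLE h').op m).symm,
          fun W h r (b : AS A W) => by
            refine Eq.trans ?_ (g.app_smul r _)
            refine congrArg (g.app W) ?_
            exact @mul_smul (AS A W) (I.val.obj (op W)) _ _ (φ.hom.app (op W) r) b _⟩ : Sec (alg A φ) J U.unop))
        fun m n => sec_ext fun W h (b : AS A W) => by
          show g.app W (act b (I.val.map (homOfLE h).op (m + n))) =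
            g.app W (act b (I.val.map (homOfLE h).op m)) + g.app W (act b (I.val.map (homOfLE h).op n))
          rw [← map_add]
          refine congrArg (g.app W) ?_
          rw [map_add]
          exact @smul_add (AS A W) (I.val.obj (op W)) _ _ b _ _
      naturality := fun U V i => by
        ext m
        refine sec_ext fun W h (b : AS A W) => ?_
        refine congrArg (fun z => g.app W (act b z)) ?_
        exact (PresheafOfModules.map_comp_apply I.val i (homOfLE h).op m).symm }
    fun U a m => sec_ext fun W h (b : AS A W) => by
      show g.app W (act b (I.val.map (homOfLE h).op (a • m))) =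
        g.app W (act (mulR b (ra A h a)) (I.val.map (homOfLE h).op m))
      refine congrArg (g.app W) ?_
      show (b • I.val.map (homOfLE h).op (a • m) : I.val.obj (op W)) = (b * ra A h a) • _
      rw [mul_smul]
      exact congrArg (fun z : I.val.obj (op W) => b • z) (PresheafOfModules.map_smul I.val (homOfLE h).op a m)⟩

theorem mono_toCoind {I : SheafOfModules.{u} A} {J : X.Modules} (g : res A φ I ⟶ J) [Mono g] :
    Mono (toCoind g) := by
  haveI : Mono ((SheafOfModules.forget A).map (toCoind g)) := by
    refine PresheafOfModules.mono_of_injective fun U m n h => ?_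
    have h1 : g.app U.unop (act (show Γ(alg A φ, U.unop) from (1 : AS A U.unop)) (I.val.map (homOfLE (le_refl U.unop)).op m)) =
        g.app U.unop (act (show Γ(alg A φ, U.unop) from (1 : AS A U.unop)) (I.val.map (homOfLE (le_refl U.unop)).op n)) :=
      congrArg (fun z : Sec (alg A φ) J U.unop => ev z (le_refl U.unop) (show Γ(alg A φ, U.unop) from (1 : AS A U.unop))) h
    have h2 := Groth.L15.ExtZero.Ring.val_app_injective (O := X.ringCatSheaf) g U.unop h1
    have e1 : ∀ z : I.val.obj (op U.unop),
        act (show Γ(alg A φ, U.unop) from (1 : AS A U.unop)) z = z := fun z =>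
      @one_smul (AS A U.unop) (I.val.obj (op U.unop)) _ _ z
    rw [e1, e1] at h2
    simpa using h2
  exact (SheafOfModules.forget A).mono_of_mono_map this

/-- Restriction of scalars along a finite locally free central algebra keeps injective objects. -/
theorem injective_res (hcen : ∀ (U : (Opens X)ᵒᵖ) (s : X.ringCatSheaf.obj.obj U) (a : A.obj.obj U),
      φ.hom.app U s * a = a * φ.hom.app U s)
    (hA : FlatMod.IsFinLocFree (X := X) (alg A φ)) (I : SheafOfModules.{u} A) [Injective I] :
    Injective (res A φ I) := by
  haveI : EnoughInjectives X.Modules := Groth.L15.ExtZero.Ring.enoughInjectives_mod X.ringCatSheaf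
  haveI := Groth.L17.ChangeRings.preservesMono_tensorLeftF (Groth.L29.DC.isFlat_of_isFinLocFree hA)
  let g := Injective.ι (res A φ I)
  haveI := mono_toCoind g
  haveI : Injective (homMod (alg A φ) (Injective.under (res A φ I))) :=
    Injective.injective_of_adjoint (tensorHomAdj (alg A φ)) _
  haveI : Injective (res A φ (coind A φ (Injective.under (res A φ I)))) :=
    Injective.of_iso (coindIso A φ hcen _).symm this
  let r : Retract I (coind A φ (Injective.under (res A φ I))) :=
    { i := toCoind g
      r := Injective.factorThru (𝟙 I) (toCoind g)
      retract := Injective.comp_factorThru _ _ }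
  exact (r.map (SheafOfModules.restrictScalars φ)).injective

end Groth.L12.OrdInj
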