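import Groth.Prelude.Def_W4c1etcurveeff2PicMod
import Groth.Agent.L09.WeilRec.Curve

/-!
The generalised Picard group of a reduced modulus: principal divisors, values on the modulus, and the
homomorphism from families of values to the kernel of `Pic_m → Pic`.
-/

set_option autoImplicit false
set_option linter.style.haveILetI false
set_option linter.unusedSectionVars false
set_option backward.isDefEq.respectTransparency false
set_option backward.isDefEq.respectTransparency.types false

universe u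

open CategoryTheory AlgebraicGeometry LocSym W4c1etcurveeff2 Groth.L09.LocSymB Groth.L09.WeilRec

noncomputable section

namespace Groth.L12.PicModSeq

variable {k : Type u} [Field k] [IsAlgClosed k] {X : Scheme.{u}} [IsIntegral X]
  {c : X ⟶ Spec (CommRingCat.of k)} [IsProper c] [Smooth c] (hdim : topologicalKrullDim X = 1)
include hdim

/-- The value of a function at a point where it is a unit (the leading coefficient in general). -/
abbrev val (x : Pt c) : (X.functionField)ˣ →* kˣ := (plc hdim x).u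

theorem ord_mulU (x : Pt c) (f g : (X.functionField)ˣ) :
    x.ord ((f * g : (X.functionField)ˣ) : X.functionField) =
      x.ord (f : X.functionField) + x.ord (g : X.functionField) := by
  rw [Units.val_mul, ord_mul hdim x f.ne_zero g.ne_zero]

theorem ord_oneU (x : Pt c) : x.ord ((1 : (X.functionField)ˣ) : X.functionField) = 0 := by
  rw [Units.val_one, ord_one hdim x]

theorem ord_invU (x : Pt c) (f : (X.functionField)ˣ) :
    x.ord ((f⁻¹ : (X.functionField)ˣ) : X.functionField) = -x.ord (f : X.functionField) := by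
  rw [Units.val_inv_eq_inv_val, ord_inv hdim x f.ne_zero]

/-- The constants, as units of the function field. -/
abbrev cst (c : X ⟶ Spec (CommRingCat.of k)) : kˣ →* (X.functionField)ˣ :=
  Units.map (constFun c).toMonoidHom

theorem ord_cst (x : Pt c) (a : kˣ) : x.ord (cst c a : X.functionField) = 0 :=
  ord_constFun hdim x _

theorem val_cst (x : Pt c) (a : kˣ) : val hdim x (cst c a) = a :=
  Units.ext (u_const hdim x _ _ rfl)

/-- A function with a nonzero value is nonzero and has order zero. -/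
theorem ne_zero_of_value {x : Pt c} {g : X.functionField} {a : kˣ} (h : HasValueAt x g (a : k)) :
    g ≠ 0 ∧ x.ord g = 0 := by
  have ha : constFun c (a : k) ≠ 0 := (cst c a).ne_zero
  have h0 := ord_constFun (c := c) hdim x (a : k)
  rcases h with h | h
  · exact ⟨h ▸ ha, h ▸ h0⟩
  have hb : Bd x 1 (1 - g / constFun c (a : k)) := Or.inr (by
    rw [one_sub_div ha, ord_div hdim x ?_ ha, h0, ord_sub_comm hdim x, sub_zero]
    · omega
    · intro e
      rw [sub_eq_zero] at e
      rw [← e, sub_self, ord_zero] at h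
      omega)
  obtain ⟨hne, h1⟩ := Bd.ne_zero hdim hb
  have hg : g ≠ 0 := fun e => hne (by rw [e, zero_div])
  refine ⟨hg, ?_⟩
  rw [ord_div hdim x hg ha, h0, sub_zero] at h1
  exact h1

theorem hasValueAt_iff (x : Pt c) (g : (X.functionField)ˣ) (a : kˣ) :
    HasValueAt x (g : X.functionField) (a : k) ↔ x.ord (g : X.functionField) = 0 ∧ val hdim x g = a := by
  refine ⟨fun h => ⟨(ne_zero_of_value hdim h).2, Units.ext ?_⟩, fun ⟨h0, h1⟩ => h1 ▸ hasValueAt_u hdim x g h0⟩
  exact u_eq_value hdim x g (ne_zero_of_value hdim h).2 h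

theorem cong1_iff {m : Pt c →₀ ℕ} (hm : ∀ x, m x ≤ 1) (g : (X.functionField)ˣ) :
    Cong1 m (g : X.functionField) ↔ ∀ x ∈ m.support, x.ord (g : X.functionField) = 0 ∧ val hdim x g = 1 := by
  refine forall₂_congr fun x hx => ?_
  have hmx : m x = 1 := by have := hm x; have := Finsupp.mem_support_iff.1 hx; omega
  rw [← hasValueAt_iff hdim, Units.val_one, HasValueAt, Cong1At, map_one, hmx, Nat.cast_one,
    ord_sub_comm hdim x]
  exact or_congr Iff.rfl ⟨fun h => by omega, fun h => by omega⟩

theorem principal_iff (D : Pt c →₀ ℤ) :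
    D ∈ principal c ↔ ∃ g : (X.functionField)ˣ, ∀ x : Pt c, D x = x.ord (g : X.functionField) := by
  refine ⟨fun h => ?_, fun ⟨g, hg⟩ => AddSubgroup.subset_closure ⟨g, g.ne_zero, hg⟩⟩
  induction h using AddSubgroup.closure_induction with
  | mem D hD => obtain ⟨g, hg, hx⟩ := hD; exact ⟨Units.mk0 g hg, hx⟩
  | zero => exact ⟨1, fun x => by rw [ord_oneU hdim]; rfl⟩
  | add D E _ _ hD hE =>
    obtain ⟨f, hf⟩ := hD
    obtain ⟨g, hg⟩ := hE
    exact ⟨f * g, fun x => by rw [ord_mulU hdim, Finsupp.add_apply, hf, hg]⟩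
  | neg D _ hD =>
    obtain ⟨f, hf⟩ := hD
    exact ⟨f⁻¹, fun x => by rw [ord_invU hdim, Finsupp.neg_apply, hf]⟩

/-- `g` is a unit with value `1` on the modulus. -/
def One1 (m : Pt c →₀ ℕ) (g : (X.functionField)ˣ) : Prop :=
  ∀ x ∈ m.support, x.ord (g : X.functionField) = 0 ∧ val hdim x g = 1

theorem principalMod_iff {m : Pt c →₀ ℕ} (hm : ∀ x, m x ≤ 1) (D : divAway c m) :
    D ∈ principalMod c m ↔ ∃ g : (X.functionField)ˣ,
      (∀ x : Pt c, (D : Pt c →₀ ℤ) x = x.ord (g : X.functionField)) ∧ One1 hdim m g := by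
  refine ⟨fun h => ?_,
    fun ⟨g, hg, h1⟩ => AddSubgroup.subset_closure ⟨g, ⟨g.ne_zero, hg⟩, (cong1_iff hdim hm g).2 h1⟩⟩
  induction h using AddSubgroup.closure_induction with
  | mem D hD =>
    obtain ⟨g, ⟨hg, hx⟩, h1⟩ := hD
    exact ⟨Units.mk0 g hg, hx, (cong1_iff hdim hm _).1 h1⟩
  | zero => exact ⟨1, fun x => by rw [ord_oneU hdim]; rfl, fun x _ => ⟨ord_oneU hdim x, map_one _⟩⟩
  | add D E _ _ hD hE =>
    obtain ⟨f, hf, hf1⟩ := hD
    obtain ⟨g, hg, hg1⟩ := hE
    refine ⟨f * g, fun x => ?_, fun x hx => ⟨?_, ?_⟩⟩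
    · rw [ord_mulU hdim, AddSubgroup.coe_add, Finsupp.add_apply, hf, hg]
    · rw [ord_mulU hdim, (hf1 x hx).1, (hg1 x hx).1, add_zero]
    · rw [map_mul, (hf1 x hx).2, (hg1 x hx).2, one_mul]
  | neg D _ hD =>
    obtain ⟨f, hf, hf1⟩ := hD
    refine ⟨f⁻¹, fun x => ?_, fun x hx => ⟨?_, ?_⟩⟩
    · rw [ord_invU hdim, AddSubgroup.coe_neg, Finsupp.neg_apply, hf]
    · rw [ord_invU hdim, (hf1 x hx).1, neg_zero]
    · rw [map_inv, (hf1 x hx).2, inv_one]

/-- The divisor of a function. -/
def dv (g : (X.functionField)ˣ) : Pt c →₀ ℤ :=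
  Finsupp.ofSupportFinite (fun x => x.ord (g : X.functionField)) (finite_ord hdim _)

@[simp] theorem dv_apply (g : (X.functionField)ˣ) (x : Pt c) :
    dv hdim g x = x.ord (g : X.functionField) := rfl

/-- A function with prescribed values at finitely many points. -/
theorem exists_values (S : Finset (Pt c)) (v : Pt c → kˣ) : ∃ g : (X.functionField)ˣ,
    ∀ x ∈ S, x.ord (g : X.functionField) = 0 ∧ val hdim x g = v x := by
  classical
  rcases S.eq_empty_or_nonempty with rfl | ⟨x₀, hx₀⟩
  · exact ⟨1, by simp⟩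
  obtain ⟨g, hg⟩ := exists_approx hdim S (fun x => constFun c (v x : k)) 1
  have hv : ∀ x ∈ S, HasValueAt x g (v x : k) := fun x hx =>
    (hg x hx).imp sub_eq_zero.1 fun h => by omega
  exact ⟨Units.mk0 g (ne_zero_of_value hdim (hv x₀ hx₀)).1,
    fun x hx => (hasValueAt_iff hdim x _ _).1 (hv x hx)⟩

/-- A function with prescribed orders at finitely many points. -/
theorem exists_orders (S : Finset (Pt c)) (E : Pt c → ℤ) : ∃ g : (X.functionField)ˣ,
    ∀ x ∈ S, x.ord (g : X.functionField) = E x := by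
  classical
  have hu : ∀ x : Pt c, ∃ π : (X.functionField)ˣ, (plc hdim x).e π = 1 := fun x => by
    haveI := isDVR hdim x
    obtain ⟨-, π, -, -, h, -⟩ := (plc_spec hdim x).exists_uniformizer
    exact ⟨π, h⟩
  choose π hπ using hu
  have ht : ∀ x : Pt c, x.ord ((π x ^ E x : (X.functionField)ˣ) : X.functionField) = E x := fun x => by
    rw [← e_eq hdim x, Pl.e_zpow, hπ, mul_one]
  obtain ⟨g, hg0, hg⟩ := exists_cong hdim S (fun x => ((π x ^ E x : (X.functionField)ˣ) : X.functionField))
    (fun x _ => Units.ne_zero _) 0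
  refine ⟨Units.mk0 g hg0, fun x hx => ?_⟩
  have hb : Bd x 1 (1 - g / ((π x ^ E x : (X.functionField)ˣ) : X.functionField)) :=
    (hg x hx).imp (fun h => by rw [h, sub_self]) (fun h => by simpa using h)
  have h0 := (Bd.ne_zero hdim hb).2
  rw [ord_div hdim x hg0 (Units.ne_zero _), ht] at h0
  rw [Units.val_mk0]
  omega

/-- Functions with the same divisor differ by a constant. -/
theorem exists_cst (g : (X.functionField)ˣ) (hg : ∀ x : Pt c, x.ord (g : X.functionField) = 0) :
    ∃ a : kˣ, g = cst c a := by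
  haveI : CompactSpace X := QuasiCompact.compactSpace_of_compactSpace c
  obtain ⟨p, -, hp⟩ := isClosed_univ.exists_closed_singleton (Set.univ_nonempty (α := X))
  obtain ⟨x₀, -⟩ := exists_pt (c := c) hp
  obtain ⟨t, ht⟩ := exists_const_of_nonneg hdim x₀ (g : X.functionField) fun x => (hg x).ge
  have ht0 : t ≠ 0 := fun e => g.ne_zero (by rw [ht, e, map_zero])
  exact ⟨Units.mk0 t ht0, Units.ext ht⟩

variable (m : Pt c →₀ ℕ)

/-- A chosen function with the values `v` on the modulus. -/
def rep (v : Pt c → kˣ) : (X.functionField)ˣ := (exists_values hdim m.support v).choose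

theorem rep_spec (v : Pt c → kˣ) : ∀ x ∈ m.support,
    x.ord (rep hdim m v : X.functionField) = 0 ∧ val hdim x (rep hdim m v) = v x :=
  (exists_values hdim m.support v).choose_spec

/-- The class of the divisor of a function with the values `v` on the modulus. -/
def cls (v : Pt c → kˣ) : PicMod c m :=
  QuotientAddGroup.mk ⟨dv hdim (rep hdim m v), fun x hx => (rep_spec hdim m v x hx).1⟩

variable {m} (hm : ∀ x, m x ≤ 1)
include hm

theorem cls_eq (v : Pt c → kˣ) (g : (X.functionField)ˣ) (D : divAway c m)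
    (hD : ∀ x : Pt c, (D : Pt c →₀ ℤ) x = x.ord (g : X.functionField))
    (hv : ∀ x ∈ m.support, val hdim x g = v x) :
    (QuotientAddGroup.mk D : PicMod c m) = cls hdim m v := by
  refine (QuotientAddGroup.eq (s := principalMod c m)).2 ((principalMod_iff hdim hm _).2
    ⟨g⁻¹ * rep hdim m v, fun x => ?_, fun x hx => ⟨?_, ?_⟩⟩)
  · rw [ord_mulU hdim, ord_invU hdim, ← hD]; rfl
  · rw [ord_mulU hdim, ord_invU hdim, ← hD, D.2 x hx, (rep_spec hdim m v x hx).1]; rfl
  · rw [map_mul, map_inv, hv x hx, (rep_spec hdim m v x hx).2, inv_mul_cancel]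

theorem cls_mul (v w : Pt c → kˣ) : cls hdim m (v * w) = cls hdim m v + cls hdim m w := by
  refine (cls_eq hdim hm (v * w) (rep hdim m v * rep hdim m w) (_ + _) (fun x => ?_) fun x hx => ?_).symm
  · rw [ord_mulU hdim]; rfl
  · rw [map_mul, (rep_spec hdim m v x hx).2, (rep_spec hdim m w x hx).2]; rfl

/-- `cls` as a homomorphism. -/
def clsHom : (Pt c → kˣ) →* Multiplicative (PicMod c m) :=
  MonoidHom.mk' (fun v => Multiplicative.ofAdd (cls hdim m v)) fun v w => by
    rw [cls_mul hdim hm, ofAdd_add]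

theorem cls_one : cls hdim m 1 = 0 := congrArg Multiplicative.toAdd (map_one (clsHom hdim hm))

theorem cls_pow (v : Pt c → kˣ) (n : ℕ) : cls hdim m (v ^ n) = n • cls hdim m v :=
  congrArg Multiplicative.toAdd (map_pow (clsHom hdim hm) v n)

theorem cls_div (v w : Pt c → kˣ) : cls hdim m (v / w) = cls hdim m v - cls hdim m w :=
  congrArg Multiplicative.toAdd (map_div (clsHom hdim hm) v w)

/-- The class vanishes exactly for constant families. -/
theorem cls_eq_zero_iff (v : Pt c → kˣ) :
    cls hdim m v = 0 ↔ ∃ a : kˣ, ∀ x ∈ m.support, v x = a := by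
  rw [cls, QuotientAddGroup.eq_zero_iff, principalMod_iff hdim hm]
  constructor
  · rintro ⟨h, hh, h1⟩
    obtain ⟨a, ha⟩ := exists_cst (c := c) hdim (rep hdim m v * h⁻¹) fun x => by
      rw [ord_mulU hdim, ord_invU hdim, ← hh]
      exact add_neg_cancel _
    refine ⟨a, fun x hx => ?_⟩
    have := congrArg (val hdim x) ha
    rwa [map_mul, map_inv, (h1 x hx).2, inv_one, mul_one, val_cst, (rep_spec hdim m v x hx).2] at this
  · rintro ⟨a, ha⟩
    refine ⟨rep hdim m v * (cst c a)⁻¹, fun x => ?_, fun x hx => ⟨?_, ?_⟩⟩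
    · rw [ord_mulU hdim, ord_invU hdim, ord_cst hdim, neg_zero, add_zero]; rfl
    · rw [ord_mulU hdim, ord_invU hdim, ord_cst hdim, (rep_spec hdim m v x hx).1]; rfl
    · rw [map_mul, map_inv, val_cst, (rep_spec hdim m v x hx).2, ha x hx, mul_inv_cancel]

omit hm in
theorem toPic_cls (v : Pt c → kˣ) : picModToPic c m (cls hdim m v) = 0 :=
  (QuotientAddGroup.eq_zero_iff _).2 ((principal_iff hdim _).2 ⟨rep hdim m v, fun _ => rfl⟩)

theorem exists_cls_of_toPic_eq_zero {y : PicMod c m} (hy : picModToPic c m y = 0) :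
    ∃ v, y = cls hdim m v := by
  induction y using QuotientAddGroup.induction_on with
  | _ D =>
    obtain ⟨g, hg⟩ := (principal_iff hdim _).1 ((QuotientAddGroup.eq_zero_iff _).1 hy)
    exact ⟨fun x => val hdim x g, cls_eq hdim hm _ g D hg fun _ _ => rfl⟩

omit hm in
theorem toPic_surjective : Function.Surjective (picModToPic c m) := fun y => by
  induction y using QuotientAddGroup.induction_on with
  | _ E =>
    obtain ⟨g, hg⟩ := exists_orders hdim m.support fun x => E x
    refine ⟨QuotientAddGroup.mk ⟨E - dv hdim g, fun x hx => ?_⟩, ?_⟩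
    · rw [Finsupp.sub_apply, dv_apply, hg x hx, sub_self]
    · refine (QuotientAddGroup.eq (s := principal c)).2 ((principal_iff hdim _).2 ⟨g, fun x => ?_⟩)
      show (-(E - dv hdim g) + E : Pt c →₀ ℤ) x = _
      rw [neg_sub, sub_add_cancel, dv_apply]

end Groth.L12.PicModSeq
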