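import Groth.Agent.L22.AffineDim
import Mathlib.RingTheory.AlgebraicIndependent.TranscendenceBasis
import Mathlib.RingTheory.Localization.Away.Basic
import Mathlib.RingTheory.Localization.FractionRing
import Mathlib.RingTheory.Localization.Integral
import Mathlib.Algebra.MvPolynomial.Funext
import Mathlib.RingTheory.Ideal.GoingUp
import Mathlib.FieldTheory.IsAlgClosed.AlgebraicClosure
import Mathlib.FieldTheory.AlgebraicClosure
import Mathlib.RingTheory.AlgebraicIndependent.AlgebraicClosure

/-!
Specialising some variables of a dominating rational variety.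
-/

set_option autoImplicit false
set_option linter.style.haveILetI false
set_option linter.unusedSectionVars false
set_option maxHeartbeats 1600000

universe u

open MvPolynomial Algebra

noncomputable section

namespace Groth.L12.RatSpec

variable {k : Type u} [Field k]

/-- The embedding of a localised polynomial ring in the field of rational functions. -/
theorem exists_embed {n : ℕ} (h : MvPolynomial (Fin n) k) (hh : h ≠ 0) :
    ∃ j : Localization.Away h →ₐ[k] FractionRing (MvPolynomial (Fin n) k), Function.Injective j ∧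
      ∀ p, j (algebraMap _ _ p) = algebraMap (MvPolynomial (Fin n) k) (FractionRing (MvPolynomial (Fin n) k)) p := by
  have hu : IsUnit (algebraMap (MvPolynomial (Fin n) k) (FractionRing (MvPolynomial (Fin n) k)) h) :=
    isUnit_iff_ne_zero.2 ((map_ne_zero_iff _ (IsFractionRing.injective _ _)).2 hh)
  let j₀ := IsLocalization.Away.lift (S := Localization.Away h) h
    (g := algebraMap (MvPolynomial (Fin n) k) (FractionRing (MvPolynomial (Fin n) k))) hu
  refine ⟨{ j₀ with commutes' := fun r => ?_ }, ?_, fun p => IsLocalization.Away.lift_eq h hu p⟩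
  · show j₀ (algebraMap k (Localization.Away h) r) = _
    rw [IsScalarTower.algebraMap_apply k (MvPolynomial (Fin n) k) (Localization.Away h)]
    exact (IsLocalization.Away.lift_eq h hu _).trans (IsScalarTower.algebraMap_apply k (MvPolynomial (Fin n) k) _ r).symm
  · show Function.Injective j₀
    rw [injective_iff_map_eq_zero]
    intro z hz
    obtain ⟨r, a, ha⟩ := IsLocalization.Away.surj (S := Localization.Away h) h z
    have h1 : algebraMap (MvPolynomial (Fin n) k) (FractionRing (MvPolynomial (Fin n) k)) a = 0 := by
      rw [← IsLocalization.Away.lift_eq (S := Localization.Away h) h hu a, ← ha, map_mul]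
      exact mul_eq_zero_of_left hz _
    rw [(map_eq_zero_iff _ (IsFractionRing.injective _ _)).1 h1, map_zero] at ha
    exact (((IsLocalization.Away.algebraMap_isUnit (S := Localization.Away h) h).pow r).mul_left_eq_zero).1 ha

/-- Transcendence degree of a field of rational functions. -/
theorem trdeg_rat (m : ℕ) : Algebra.trdeg k (FractionRing (MvPolynomial (Fin m) k)) = (m : Cardinal) := by
  haveI : Algebra.IsAlgebraic (MvPolynomial (Fin m) k) (FractionRing (MvPolynomial (Fin m) k)) :=
    IsLocalization.isAlgebraic _ (nonZeroDivisors (MvPolynomial (Fin m) k))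
  rw [← trdeg_add_eq k (MvPolynomial (Fin m) k), MvPolynomial.trdeg_of_isDomain,
    trdeg_eq_zero (R := MvPolynomial (Fin m) k), add_zero]
  simp

variable [Infinite k]

/-- A dominating map from a localised affine space may be specialised to affine space of the dimension of
the target. -/
theorem exists_specialisation {n : ℕ} (h : MvPolynomial (Fin n) k) (hh : h ≠ 0)
    (A : Type u) [CommRing A] [IsDomain A] [Algebra k A] [Algebra.FiniteType k A]
    (φ : A →ₐ[k] Localization.Away h) (hφ : Function.Injective φ) :
    ∃ m : ℕ, ringKrullDim A = (m : WithBot ℕ∞) ∧ ∃ (h' : MvPolynomial (Fin m) k) (_ : h' ≠ 0)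
      (σ : Localization.Away h →ₐ[k] Localization.Away h'), Function.Injective (σ.comp φ) := by
  classical
  obtain ⟨m, g, hg, hfin, hdim, -⟩ := Groth.L22.AffineDim.exists_normalization k A
  refine ⟨m, hdim, ?_⟩
  let P := MvPolynomial (Fin n) k
  let L := Localization.Away h
  let F := FractionRing P
  obtain ⟨jL, hjL, hjP⟩ := exists_embed h hh
  let xL : Fin n → L := fun j => algebraMap P L (X j)
  let xF : Fin n → F := fun j => algebraMap P F (X j)
  let tL : Fin m → L := fun i => φ (g (X i))
  let s : Set F := Set.range (jL ∘ tL)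
  have hτ : AlgebraicIndependent k (jL ∘ tL) := by
    have : Function.Injective ((jL.comp φ).comp g) := (hjL.comp hφ).comp hg
    have h1 := (MvPolynomial.algebraicIndependent_X (Fin m) k).map' (f := (jL.comp φ).comp g) this
    have e : ⇑((jL.comp φ).comp g) ∘ X = jL ∘ tL :=
      funext fun i => by simp only [tL, Function.comp_apply, AlgHom.comp_apply]
    rwa [e] at h1
  haveI : Algebra.IsAlgebraic P F := IsLocalization.isAlgebraic _ (nonZeroDivisors P)
  have hxF : IsTranscendenceBasis k xF := by
    have hinjF : Function.Injective (IsScalarTower.toAlgHom k P F) := IsFractionRing.injective P F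
    have h1 := (MvPolynomial.algebraicIndependent_X (Fin n) k).map' (f := IsScalarTower.toAlgHom k P F) hinjF
    have e : ⇑(IsScalarTower.toAlgHom k P F) ∘ X = xF :=
      funext fun i => by simp only [xF, Function.comp_apply, IsScalarTower.toAlgHom_apply]
    have hi : AlgebraicIndependent k xF := by rwa [e] at h1
    refine hi.isTranscendenceBasis_of_lift_trdeg_le_of_finite ?_
    simp [trdeg_rat, F, P]
  haveI : Algebra.IsAlgebraic (Algebra.adjoin k (s ∪ Set.range xF)) F :=
    isAlgebraic_iff_exists_isTranscendenceBasis_subset.2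
      ⟨Set.range xF, Set.subset_union_right, hxF.to_subtype_range⟩
  have hs : AlgebraicIndepOn k id s := hτ.to_subtype_range
  obtain ⟨u, hsu, hut, hu⟩ := exists_isTranscendenceBasis_between s (s ∪ Set.range xF) Set.subset_union_left hs
  -- the variables to be specialised
  let J : Finset (Fin n) := Finset.univ.filter fun j => xF j ∈ u ∧ xF j ∉ s
  have hxinj : Function.Injective xF := hxF.1.injective
  have huJ : u = s ∪ xF '' (J : Set (Fin n)) := by
    refine Set.Subset.antisymm (fun z hz => ?_) (Set.union_subset hsu ?_)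
    · by_cases hzs : z ∈ s
      · exact Or.inl hzs
      · obtain ⟨j, rfl⟩ := (hut hz).resolve_left hzs
        exact Or.inr ⟨j, by simp [J, hz, hzs], rfl⟩
    · rintro _ ⟨j, hj, rfl⟩
      exact (Finset.mem_filter.1 hj).2.1
  have hcard : m + J.card = n := by
    have hdisj : Disjoint s (xF '' (J : Set (Fin n))) := Set.disjoint_right.2 fun z hz => by
      obtain ⟨j, hj, rfl⟩ := hz
      exact (Finset.mem_filter.1 hj).2.2
    have h1 : u.ncard = n := by
      have := hu.cardinalMk_eq_trdeg
      rw [trdeg_rat] at this
      rw [Set.ncard, Set.encard, ENat.card, this]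
      simp
    rw [huJ, Set.ncard_union_eq hdisj (Set.finite_range _) ((J.finite_toSet).image _),
      Set.ncard_image_of_injective _ hxinj, Set.ncard_coe_finset] at h1
    rwa [show s.ncard = m by
      rw [show s = Set.range (jL ∘ tL) from rfl, ← Set.image_univ, Set.ncard_image_of_injective _ hτ.injective,
        Set.ncard_univ, Nat.card_eq_fintype_card, Fintype.card_fin]] at h1
  obtain ⟨e⟩ : Nonempty (Fin m ≃ {j : Fin n // j ∉ J}) := ⟨(Fintype.equivFinOfCardEq (by
    rw [Fintype.card_subtype_compl, Fintype.card_fin, Fintype.card_coe]; omega)).symm⟩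
  -- leading coefficients of the algebraic equations
  let uL : Set L := Set.range tL ∪ xL '' (J : Set (Fin n))
  let B := Algebra.adjoin k uL
  have hB : B.map jL = Algebra.adjoin k u := by
    rw [AlgHom.map_adjoin, huJ, Set.image_union, ← Set.range_comp, ← Set.image_comp]
    congr 2
    exact Set.image_congr fun j _ => hjP (X j)
  have hP : ∀ i : Fin m, ∃ p : Polynomial B, p ≠ 0 ∧ Polynomial.aeval (xL (e i)) p = 0 := fun i => by
    have halg : IsAlgebraic (Algebra.adjoin k u) (xF (e i)) := by
      haveI := hu.isAlgebraic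
      have hr : Set.range (Subtype.val : u → F) = u := Subtype.range_coe
      have h2 := Algebra.IsAlgebraic.isAlgebraic (R := Algebra.adjoin k (Set.range (Subtype.val : u → F))) (xF (e i))
      rwa [hr] at h2
    rw [← hB] at halg
    obtain ⟨p, hp, hp0⟩ := halg
    let eq := Subalgebra.equivMapOfInjective B jL hjL
    refine ⟨p.map eq.symm.toRingEquiv.toRingHom, (Polynomial.map_ne_zero_iff eq.symm.injective).2 hp,
      hjL ?_⟩
    rw [map_zero, ← hp0, show xF (e i) = jL (xL (e i)) from (hjP _).symm,
      Polynomial.aeval_def, Polynomial.aeval_def, ← AlgHom.coe_toRingHom, Polynomial.hom_eval₂,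
      Polynomial.eval₂_map]
    congr 1
    refine RingHom.ext fun b => ?_
    exact congrArg Subtype.val (eq.apply_symm_apply b)
  choose p hp hp0 using hP
  choose r a ha using fun i => IsLocalization.Away.surj (S := L) h ((p i).leadingCoeff : L)
  have hane : ∀ i, a i ≠ 0 := fun i h0 => by
    have := ha i
    rw [h0, map_zero, ((IsLocalization.Away.algebraMap_isUnit h).pow (r i)).mul_left_eq_zero] at this
    exact Polynomial.leadingCoeff_ne_zero.2 (hp i) (Subtype.ext this)
  obtain ⟨c, hc⟩ : ∃ c : Fin n → k, MvPolynomial.eval c (h * ∏ i, a i) ≠ 0 := by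
    by_contra hcon
    simp only [not_exists, not_not] at hcon
    exact mul_ne_zero hh (Finset.prod_ne_zero_iff.2 fun i _ => hane i)
      (MvPolynomial.funext fun x => (hcon x).trans (map_zero _).symm)
  rw [map_mul, map_prod] at hc
  let π : P →ₐ[k] MvPolynomial (Fin m) k :=
    MvPolynomial.aeval fun j => if hj : j ∈ J then C (c j) else X (e.symm ⟨j, hj⟩)
  have hπc : ∀ q : P, MvPolynomial.eval (fun i => c (e i)) (π q) = MvPolynomial.eval c q := fun q => by
    have : (MvPolynomial.aeval fun i => c (e i)).comp π = MvPolynomial.aeval c := by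
      refine MvPolynomial.algHom_ext fun j => ?_
      simp only [π, AlgHom.comp_apply, MvPolynomial.aeval_X]
      split_ifs with hj
      · simp
      · simp
    exact DFunLike.congr_fun this q
  have hπne : ∀ q : P, MvPolynomial.eval c q ≠ 0 → π q ≠ 0 := fun q hq h0 => hq (by
    rw [← hπc, h0, map_zero])
  let h' := π h
  have hh' : h' ≠ 0 := hπne h (left_ne_zero_of_mul hc)
  refine ⟨h', hh', ?_⟩
  let Y := MvPolynomial (Fin m) k
  let L' := Localization.Away h'
  have hu' : IsUnit ((algebraMap Y L').comp π.toRingHom h) := IsLocalization.Away.algebraMap_isUnit h'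
  let σ₀ : L →+* L' := IsLocalization.Away.lift h hu'
  have hσ₀ : ∀ q : P, σ₀ (algebraMap P L q) = algebraMap Y L' (π q) := fun q =>
    IsLocalization.Away.lift_eq h hu' q
  let σ : L →ₐ[k] L' :=
    { σ₀ with
      commutes' := fun z => by
        show σ₀ (algebraMap k L z) = _
        rw [IsScalarTower.algebraMap_apply k P L, hσ₀, AlgHom.commutes,
          ← IsScalarTower.algebraMap_apply k Y L'] }
  refine ⟨σ, ?_⟩
  obtain ⟨jL', hjL', hjY⟩ := exists_embed h' hh'
  let F' := FractionRing Y
  let ψ : L →ₐ[k] F' := jL'.comp σ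
  have hψP : ∀ q : P, ψ (algebraMap P L q) = algebraMap Y F' (π q) := fun q => by
    show jL' (σ₀ _) = _
    rw [hσ₀, hjY]
  let K := IntermediateField.adjoin k (Set.range (ψ ∘ tL))
  have hψB : B.map ψ ≤ K.toSubalgebra := by
    rw [AlgHom.map_adjoin]
    refine Algebra.adjoin_le ?_
    rintro _ ⟨z, hz, rfl⟩
    rcases hz with ⟨i, rfl⟩ | ⟨j, hj, rfl⟩
    · exact IntermediateField.subset_adjoin k _ ⟨i, rfl⟩
    · show ψ (algebraMap P L (X j)) ∈ K
      rw [hψP, MvPolynomial.aeval_X, dif_pos (show j ∈ J from hj)]
      exact IsScalarTower.algebraMap_apply k Y F' (c j) ▸ K.algebraMap_mem (c j)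
  let ρ : B →+* K := (ψ.comp B.val).toRingHom.codRestrict K.toSubfield fun b => hψB ⟨b, b.2, rfl⟩
  have hy : ∀ i : Fin m, IsAlgebraic K (algebraMap Y F' (X i)) := fun i => by
    refine ⟨(p i).map ρ, fun h0 => ?_, ?_⟩
    · have h1 : ρ (p i).leadingCoeff = 0 := by
        rw [Polynomial.leadingCoeff, ← Polynomial.coeff_map, h0, Polynomial.coeff_zero]
      have h2 : ψ ((p i).leadingCoeff : L) = 0 := congrArg Subtype.val h1
      have h3 := congrArg ψ (ha i)
      rw [map_mul, h2, zero_mul, hψP] at h3
      exact hπne (a i) (Finset.prod_ne_zero_iff.1 (right_ne_zero_of_mul hc) i (Finset.mem_univ i))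
        ((map_eq_zero_iff _ (IsFractionRing.injective Y F')).1 h3.symm)
    · have hxy : ψ (xL (e i)) = algebraMap Y F' (X i) := by
        rw [hψP, MvPolynomial.aeval_X, dif_neg (e i).2]
        simp
      rw [← hxy, Polynomial.aeval_def, Polynomial.eval₂_map]
      have h2 := congrArg ψ (hp0 i)
      rw [map_zero, Polynomial.aeval_def, ← AlgHom.coe_toRingHom, Polynomial.hom_eval₂] at h2
      exact h2
  -- hence the images of the coordinates form a transcendence basis
  haveI halgK : Algebra.IsAlgebraic K F' := ⟨fun z => by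
    have hpoly : ∀ q : Y, algebraMap Y F' q ∈ algebraicClosure K F' := fun q => by
      induction q using MvPolynomial.induction_on with
      | C z =>
        show algebraMap Y F' (algebraMap k Y z) ∈ algebraicClosure K F'
        rw [← IsScalarTower.algebraMap_apply k Y F']
        exact (algebraicClosure K F').algebraMap_mem ⟨_, K.algebraMap_mem z⟩
      | add q q' hq hq' => rw [map_add]; exact add_mem hq hq'
      | mul_X q i hq => rw [map_mul]; exact mul_mem hq (mem_algebraicClosure_iff.2 (hy i))
    obtain ⟨q, q', -, rfl⟩ := IsFractionRing.div_surjective (A := Y) z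
    exact mem_algebraicClosure_iff.1 (div_mem (hpoly q) (hpoly q'))⟩
  haveI : Algebra.IsAlgebraic (Algebra.adjoin k (Set.range (ψ ∘ tL))) F' :=
    IntermediateField.isAlgebraic_adjoin_iff_top.1 halgK
  obtain ⟨v, hv, hvb⟩ := exists_isTranscendenceBasis_subset (R := k) (Set.range (ψ ∘ tL))
  have hvcard : v.ncard = m := by
    have := hvb.cardinalMk_eq_trdeg
    rw [trdeg_rat] at this
    rw [Set.ncard, Set.encard, ENat.card, this]
    simp
  have hle : (Set.range (ψ ∘ tL)).ncard ≤ m := by
    rw [← Set.image_univ]
    exact (Set.ncard_image_le Set.finite_univ).trans (by simp)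
  have hveq : (v : Set F') = Set.range (ψ ∘ tL) := Set.eq_of_subset_of_ncard_le hv (by rw [hvcard]; exact hle) (Set.finite_range _)
  have hinj : Function.Injective (ψ ∘ tL) := by
    have h1 : Fintype.card (Fin m) ≤ (Finset.univ.image (ψ ∘ tL)).card := by
      rw [Fintype.card_fin, ← Set.ncard_coe_finset, Finset.coe_image, Finset.coe_univ, Set.image_univ, ← hveq, hvcard]
    have h2 := Finset.card_image_iff.1 (le_antisymm Finset.card_image_le h1)
    rw [Finset.coe_univ, Set.injOn_univ] at h2
    exact h2
  have hind : AlgebraicIndependent k (ψ ∘ tL) := by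
    rw [← algebraicIndependent_subtype_range hinj, ← hveq]
    exact hvb.1
  have hgi : Function.Injective ((ψ.comp φ).comp g) := by
    have h1 : (ψ.comp φ).comp g = MvPolynomial.aeval (ψ ∘ tL) := MvPolynomial.algHom_ext fun i => by simp [tL]
    rw [h1]
    exact hind
  letI := g.toRingHom.toAlgebra
  haveI : Algebra.IsIntegral (MvPolynomial (Fin m) k) A := ⟨hfin.to_isIntegral⟩
  have hker : RingHom.ker (ψ.comp φ).toRingHom = ⊥ := Ideal.eq_bot_of_comap_eq_bot (R := MvPolynomial (Fin m) k) (by
    rw [RingHom.comap_ker]
    exact (RingHom.injective_iff_ker_eq_bot _).1 hgi)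
  intro x y hxy
  exact (RingHom.injective_iff_ker_eq_bot _).2 hker (congrArg jL' hxy)

end Groth.L12.RatSpec
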