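import Groth.Agent.L12.ObsBound
import Groth.Agent.L07.QuasiRegular
import Groth.Agent.L12.Minimal
import Mathlib.RingTheory.MvPolynomial.Ideal
import Mathlib.RingTheory.Filtration
import Mathlib.FieldTheory.IsAlgClosed.Basic

/-!
Regular local rings at rational points: lifting criteria.
-/

universe u

open IsLocalRing MvPolynomial

namespace Groth.L12.RegJets

theorem exists_params (P : Type u) [CommRing P] [IsRegularLocalRing P] :
    ∃ (d : ℕ) (x : Fin d → P), Ideal.span (Set.range x) = maximalIdeal P ∧ CAlgX.IsQuasiRegular x := by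
  obtain ⟨s, hcard, hs⟩ :=
    Submodule.FG.exists_span_finset_card_eq_spanFinrank (IsNoetherian.noetherian (maximalIdeal P))
  classical
  let x : Fin s.card → P := fun i => (s.equivFin.symm i).1
  have hx : Set.range x = (s : Set P) := by
    ext a
    exact ⟨by rintro ⟨i, rfl⟩; exact (s.equivFin.symm i).2, fun ha => ⟨s.equivFin ⟨a, ha⟩, by simp [x]⟩⟩
  have hspan : Ideal.span (Set.range x) = maximalIdeal P := by rw [hx]; exact hs
  refine ⟨_, x, hspan, Groth.L07.QReg.isQuasiRegular_of_isWeaklyRegular ?_⟩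
  refine (Groth.L01.isRegular_of_ofList_eq_maximalIdeal _ ?_ ?_).toIsWeaklyRegular
  · rw [Groth.L07.QReg.ofList_ofFn, hspan]
  · rw [List.length_ofFn, hcard]; exact ((isRegularLocalRing_iff P).1 inferInstance).symm

variable {k : Type u} [Field k] {P : Type u} [CommRing P] [Algebra k P]

theorem aeval_mem_span_pow {d : ℕ} (x : Fin d → P) {N : ℕ} {p : MvPolynomial (Fin d) k}
    (hp : p ∈ idealOfVars (Fin d) k ^ N) : aeval x p ∈ Ideal.span (Set.range x) ^ N := by
  have h : (idealOfVars (Fin d) k).map (aeval (R := k) x) ≤ Ideal.span (Set.range x) := by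
    rw [idealOfVars, Ideal.map_span, Ideal.span_le]
    rintro _ ⟨_, ⟨i, rfl⟩, rfl⟩
    rw [aeval_X]; exact Ideal.subset_span ⟨i, rfl⟩
  exact Ideal.pow_right_mono h N (Ideal.map_pow (aeval (R := k) x) _ N ▸ Ideal.mem_map_of_mem _ hp)

variable [IsLocalRing P]

theorem exists_homogeneous_approx (resP : P →ₐ[k] k) {d : ℕ} (x : Fin d → P)
    (hx : Ideal.span (Set.range x) = maximalIdeal P) (n : ℕ) {g : P} (hg : g ∈ maximalIdeal P ^ n) :
    ∃ G : MvPolynomial (Fin d) k, G.IsHomogeneous n ∧ g - aeval x G ∈ maximalIdeal P ^ (n + 1) := by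
  rw [← hx] at hg
  obtain ⟨Q, hQ, rfl⟩ := Groth.L07.QReg.exists_homogeneous_of_mem_span_pow x n hg
  refine ⟨Q.map resP.toRingHom, hQ.map _, ?_⟩
  have h1 : aeval x (Q.map resP.toRingHom) = eval x ((Q.map resP.toRingHom).map (algebraMap k P)) := by
    rw [eval_map]; rfl
  rw [h1, ← map_sub, pow_succ', ← hx]
  refine Groth.L07.QReg.eval_mem_mul_span_pow x _ (hQ.sub ((hQ.map _).map _)) fun e => ?_
  rw [hx, coeff_sub, coeff_map, coeff_map, mem_maximalIdeal_of_res resP, map_sub]
  simp

theorem exists_approx (resP : P →ₐ[k] k) {d : ℕ} (x : Fin d → P)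
    (hx : Ideal.span (Set.range x) = maximalIdeal P) (N : ℕ) (a : P) :
    ∃ p : MvPolynomial (Fin d) k, a - aeval x p ∈ maximalIdeal P ^ N := by
  induction N with
  | zero => exact ⟨0, by simp⟩
  | succ N ih =>
    obtain ⟨p, hp⟩ := ih
    obtain ⟨G, -, hG⟩ := exists_homogeneous_approx resP x hx N hp
    exact ⟨p + G, by rwa [map_add, ← sub_sub]⟩

theorem mem_pow_idealOfVars {d : ℕ} (x : Fin d → P) (hx : Ideal.span (Set.range x) = maximalIdeal P)
    (hq : CAlgX.IsQuasiRegular x) (N : ℕ) {p : MvPolynomial (Fin d) k}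
    (hp : aeval x p ∈ maximalIdeal P ^ N) : p ∈ idealOfVars (Fin d) k ^ N := by
  induction N with
  | zero => simp
  | succ N ih =>
    have h0 := (mem_pow_idealOfVars_iff' N p).1 (ih (Ideal.pow_le_pow_right (Nat.le_succ N) hp))
    have hrest : p - homogeneousComponent N p ∈ idealOfVars (Fin d) k ^ (N + 1) := by
      rw [mem_pow_idealOfVars_iff']
      intro e he
      rw [coeff_sub, coeff_homogeneousComponent]
      split_ifs with h
      · exact sub_self _
      · rw [sub_zero]; exact h0 e (by omega)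
    have hG : aeval x (homogeneousComponent N p) ∈ maximalIdeal P ^ (N + 1) := by
      have := aeval_mem_span_pow x hrest
      rw [hx, map_sub] at this
      simpa using sub_mem hp this
    have hc : homogeneousComponent N p = 0 := by
      ext e
      by_contra hne
      rw [coeff_zero] at hne
      have h1 := hq N ((homogeneousComponent N p).map (algebraMap k P))
        ((homogeneousComponent_isHomogeneous N p).map _) (by rw [eval_map, hx]; exact hG) e
      rw [hx, coeff_map] at h1
      exact (IsLocalRing.mem_maximalIdeal _).1 h1 ((isUnit_iff_ne_zero.2 hne).map _)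
    rwa [hc, sub_zero] at hrest

/-- the universal property of `P/m^N` -/
theorem exists_hom_of_indep (resP : P →ₐ[k] k) {d : ℕ} (x : Fin d → P) (hx : Ideal.span (Set.range x) = maximalIdeal P)
    (hind : ∀ (N : ℕ) (p : MvPolynomial (Fin d) k), aeval x p ∈ maximalIdeal P ^ N → p ∈ idealOfVars (Fin d) k ^ N)
    {B : Type u} [CommRing B] [Algebra k B] (b : Fin d → B) (N : ℕ)
    (hb : Ideal.span (Set.range b) ^ N = ⊥) :
    ∃ g : P →ₐ[k] B, (∀ i, g (x i) = b i) ∧ maximalIdeal P ^ N ≤ RingHom.ker g := by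
  let π : MvPolynomial (Fin d) k →ₐ[k] P ⧸ maximalIdeal P ^ N := (Ideal.Quotient.mkₐ k _).comp (aeval x)
  have hπ : Function.Surjective π := by
    intro z
    obtain ⟨a, rfl⟩ := Ideal.Quotient.mk_surjective z
    obtain ⟨p, hp⟩ := exists_approx resP x hx N a
    exact ⟨p, (Ideal.Quotient.eq.2 hp).symm⟩
  have hker : RingHom.ker π ≤ RingHom.ker (aeval b) := by
    intro p hp
    have h1 : p ∈ idealOfVars (Fin d) k ^ N :=
      hind N p (Ideal.Quotient.eq_zero_iff_mem.1 hp)
    have h2 := aeval_mem_span_pow b h1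
    rwa [hb, Ideal.mem_bot] at h2
  let g0 : P ⧸ maximalIdeal P ^ N →ₐ[k] B := AlgHom.liftOfSurjective π hπ (aeval b) hker
  refine ⟨g0.comp (Ideal.Quotient.mkₐ k _), fun i => ?_, fun a ha => ?_⟩
  · have h := DFunLike.congr_fun (AlgHom.liftOfSurjective_comp π hπ (aeval b) hker) (X i)
    simpa [π, g0] using h
  · rw [RingHom.mem_ker, AlgHom.comp_apply, Ideal.Quotient.mkₐ_eq_mk,
      Ideal.Quotient.eq_zero_iff_mem.2 ha, map_zero]

theorem exists_hom (resP : P →ₐ[k] k) {d : ℕ} (x : Fin d → P) (hx : Ideal.span (Set.range x) = maximalIdeal P)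
    (hq : CAlgX.IsQuasiRegular x) {B : Type u} [CommRing B] [Algebra k B] (b : Fin d → B) (N : ℕ)
    (hb : Ideal.span (Set.range b) ^ N = ⊥) :
    ∃ g : P →ₐ[k] B, (∀ i, g (x i) = b i) ∧ maximalIdeal P ^ N ≤ RingHom.ker g :=
  exists_hom_of_indep resP x hx (fun M _ h => mem_pow_idealOfVars x hx hq M h) b N hb

theorem hom_ext_of_vanish (resP : P →ₐ[k] k) {d : ℕ} (x : Fin d → P)
    (hx : Ideal.span (Set.range x) = maximalIdeal P) {B : Type u} [CommRing B] [Algebra k B]
    (f g : P →ₐ[k] B) (N : ℕ) (hf : maximalIdeal P ^ N ≤ RingHom.ker f)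
    (hg : maximalIdeal P ^ N ≤ RingHom.ker g) (h : ∀ i, f (x i) = g (x i)) : f = g := by
  refine AlgHom.ext fun a => ?_
  obtain ⟨p, hp⟩ := exists_approx resP x hx N a
  have h1 := RingHom.mem_ker.1 (hf hp)
  have h2 := RingHom.mem_ker.1 (hg hp)
  rw [map_sub, sub_eq_zero] at h1 h2
  rw [h1, h2, ← AlgHom.comp_apply, ← AlgHom.comp_apply, MvPolynomial.comp_aeval, MvPolynomial.comp_aeval]
  simp [h]

theorem map_span_le {d : ℕ} (x : Fin d → P) (hx : Ideal.span (Set.range x) = maximalIdeal P)
    {B : Type u} [CommRing B] [Algebra k B] (f : P →ₐ[k] B) :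
    (maximalIdeal P).map f = Ideal.span (Set.range fun i => f (x i)) := by
  rw [← hx, Ideal.map_span, ← Set.range_comp]; rfl

/-- Nilpotent-valued maps from a regular ring lift along surjections with nil kernel. -/
theorem exists_lift_of_indep (resP : P →ₐ[k] k) {d : ℕ} (x : Fin d → P) (hx : Ideal.span (Set.range x) = maximalIdeal P)
    (hind : ∀ (N : ℕ) (p : MvPolynomial (Fin d) k), aeval x p ∈ maximalIdeal P ^ N → p ∈ idealOfVars (Fin d) k ^ N) {B' B : Type u} [CommRing B'] [Algebra k B']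
    [CommRing B] [Algebra k B] (π : B' →ₐ[k] B) (hπ : Function.Surjective π)
    (hker : ∀ z, π z = 0 → IsNilpotent z) (f : P →ₐ[k] B)
    (hf : ∀ a ∈ maximalIdeal P, IsNilpotent (f a)) : ∃ g : P →ₐ[k] B', π.comp g = f := by
  choose b hb using fun i => hπ (f (x i))
  have hbn : ∀ i, IsNilpotent (b i) := fun i => by
    obtain ⟨n, hn⟩ := hf (x i) (hx ▸ Ideal.subset_span ⟨i, rfl⟩)
    obtain ⟨j, hj⟩ := hker (b i ^ n) (by rw [map_pow, hb, hn])
    exact ⟨n * j, by rw [pow_mul, hj]⟩
  obtain ⟨N, hN⟩ : IsNilpotent (Ideal.span (Set.range b)) := by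
    refine (Ideal.FG.isNilpotent_iff_le_nilradical (Submodule.fg_span (Set.finite_range b))).2 ?_
    rw [Ideal.span_le]
    rintro _ ⟨i, rfl⟩
    exact hbn i
  rw [Ideal.zero_eq_bot] at hN
  obtain ⟨g, hgx, hgk⟩ := exists_hom_of_indep resP x hx hind b N hN
  refine ⟨g, hom_ext_of_vanish resP x hx _ _ N (fun a ha => ?_) ?_ fun i => ?_⟩
  · rw [RingHom.mem_ker, AlgHom.comp_apply, RingHom.mem_ker.1 (hgk ha), map_zero]
  · rw [← Ideal.map_eq_bot_iff_le_ker, Ideal.map_pow, map_span_le x hx, ← le_bot_iff]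
    have h2 : Ideal.span (Set.range fun i => f (x i)) = (Ideal.span (Set.range b)).map π := by
      rw [Ideal.map_span, ← Set.range_comp]
      exact congrArg (fun s => Ideal.span (Set.range s)) (funext fun i => (hb i).symm)
    rw [h2, ← Ideal.map_pow, hN, Ideal.map_bot]
  · rw [AlgHom.comp_apply, hgx, hb]

/-- Nilpotent-valued maps from a regular local ring lift. -/
theorem exists_lift {P : Type u} [CommRing P] [IsRegularLocalRing P] [Algebra k P] (resP : P →ₐ[k] k)
    {B' B : Type u} [CommRing B'] [Algebra k B'] [CommRing B] [Algebra k B] (π : B' →ₐ[k] B)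
    (hπ : Function.Surjective π) (hker : ∀ z, π z = 0 → IsNilpotent z) (f : P →ₐ[k] B)
    (hf : ∀ a ∈ maximalIdeal P, IsNilpotent (f a)) : ∃ g : P →ₐ[k] B', π.comp g = f := by
  obtain ⟨d, x, hx, hq⟩ := exists_params P
  exact exists_lift_of_indep resP x hx (fun M _ h => mem_pow_idealOfVars x hx hq M h) π hπ hker f hf

/-- finite dimensionality of small extensions -/
theorem finite_of_residue {C : Type u} [CommRing C] [Algebra k C] [IsLocalRing C] [IsArtinianRing C]
    (h : ∀ x : C, ∃ c : k, x - algebraMap k C c ∈ nonunits C) : Module.Finite k C := by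
  have hres : Function.Bijective (Algebra.ofId k (ResidueField C)) := by
    refine ⟨(algebraMap k _).injective, fun z => ?_⟩
    obtain ⟨x, rfl⟩ := IsLocalRing.residue_surjective z
    obtain ⟨c, hc⟩ := h x
    refine ⟨c, Eq.symm ?_⟩
    rw [← sub_eq_zero, Algebra.ofId_apply, IsScalarTower.algebraMap_apply k C (ResidueField C),
      ResidueField.algebraMap_eq, ← map_sub, IsLocalRing.residue_eq_zero_iff]
    exact hc
  let r : C →ₐ[k] k := (AlgEquiv.ofBijective _ hres).symm.toAlgHom.comp
    (IsScalarTower.toAlgHom k C (ResidueField C))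
  have h1 := Groth.L12.isFiniteLength_art (ArtFun.Art.of C r fun c => ⟨algebraMap k C c, r.commutes c⟩)
  have h2 := (isFiniteLength_iff_isNoetherian_isArtinian.1 h1).1
  haveI : IsNoetherian k C := h2
  exact Module.IsNoetherian.finite k C

/-- lifting against square-zero extensions of finite algebras forces regularity -/
theorem regular_of_lift (A : Type u) [CommRing A] [IsLocalRing A] [Algebra k A] [Algebra.EssFiniteType k A]
    (res : A →ₐ[k] k)
    (H : ∀ (B' : Type u) [CommRing B'] [IsLocalRing B'] [Algebra k B'] [Module.Finite k B']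
        (J : Ideal B'), J ^ 2 = ⊥ → ∀ f : A →ₐ[k] B' ⧸ J,
          ∃ g : A →ₐ[k] B', (Ideal.Quotient.mkₐ k J).comp g = f) : IsRegularLocalRing A := by
  obtain ⟨P0, _, _, _, q0, hq0⟩ := Groth.L12.exists_regular_cover A res
  obtain ⟨P, _, _, _, q, hq, hker⟩ := Groth.L12.exists_minimal_regular_cover _ P0 le_rfl q0 hq0
  let resP : P →ₐ[k] k := res.comp q
  have hresP : Function.Surjective (algebraMap k (ResidueField P)) := by
    intro z
    obtain ⟨a, rfl⟩ := IsLocalRing.residue_surjective z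
    refine ⟨resP a, Eq.symm ?_⟩
    rw [← sub_eq_zero, IsScalarTower.algebraMap_apply k P (ResidueField P),
      ResidueField.algebraMap_eq, ← map_sub, IsLocalRing.residue_eq_zero_iff,
      mem_maximalIdeal_of_res resP, map_sub, AlgHom.commutes]
    simp
  let I := RingHom.ker q
  let e : (P ⧸ I) ≃ₐ[k] A := Ideal.quotientKerAlgEquivOfSurjective hq
  let T : W4bk4hartshdef114.ObsTheory k (P ⧸ I) PUnit.{u + 1} :=
    { obs := fun _ _ _ _ _ => 0
      obs_eq_zero_iff := fun C' _ _ J hs u => by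
        refine ⟨fun _ => ?_, fun _ => rfl⟩
        obtain ⟨hloc, hart, hres, hkill, hJ⟩ := hs
        haveI := hloc
        haveI := hart
        haveI : Module.Finite k C' := finite_of_residue hres
        have hJ2 : J ^ 2 = ⊥ := by
          rw [pow_two, ← le_bot_iff, Ideal.mul_le]
          intro a ha b hb
          exact Ideal.mem_bot.2 (hkill a b (fun hu => hJ (Ideal.eq_top_of_isUnit_mem _ ha hu)) hb)
        obtain ⟨g, hg⟩ := H C' J hJ2 (u.comp e.symm.toAlgHom)
        refine ⟨g.comp e.toAlgHom, ?_⟩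
        rw [← AlgHom.comp_assoc, hg, AlgHom.comp_assoc]
        exact AlgHom.ext fun z => congrArg u (e.symm_apply_apply z)
      obs_quot := fun _ _ _ _ _ _ _ _ => (map_zero _).symm }
  have h := Groth.L12.ObsBound.spanFinrank_le k P hresP I hker PUnit.{u + 1} T
  rw [Module.finrank_zero_of_subsingleton, Nat.le_zero,
    Submodule.spanFinrank_eq_zero_iff_eq_bot (IsNoetherian.noetherian I)] at h
  exact IsRegularLocalRing.of_ringEquiv
    (RingEquiv.ofBijective q ⟨(RingHom.injective_iff_ker_eq_bot _).2 h, hq⟩)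

theorem X_dvd_of_isNilpotent_mk {n : ℕ} {h : Polynomial k}
    (hn : IsNilpotent (Ideal.Quotient.mk (Ideal.span {(Polynomial.X : Polynomial k) ^ n}) h)) (h0 : n ≠ 0) :
    Polynomial.X ∣ h := by
  obtain ⟨j, hj⟩ := hn
  rw [← map_pow, Ideal.Quotient.eq_zero_iff_mem, Ideal.mem_span_singleton] at hj
  exact Polynomial.prime_X.dvd_of_dvd_pow ((dvd_pow_self _ h0).trans hj)

theorem mk_isNilpotent {n : ℕ} {h : Polynomial k} (hh : Polynomial.X ∣ h) :
    IsNilpotent (Ideal.Quotient.mk (Ideal.span {(Polynomial.X : Polynomial k) ^ n}) h) :=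
  ⟨n, by rw [← map_pow, Ideal.Quotient.eq_zero_iff_mem, Ideal.mem_span_singleton]; exact pow_dvd_pow_of_dvd hh n⟩

/-- A curve in any direction forces the initial form of a kernel element to vanish. -/
theorem curve_absurd (resP : P →ₐ[k] k) {d : ℕ} (x : Fin d → P)
    (hx : Ideal.span (Set.range x) = maximalIdeal P) {e : ℕ} (v : Fin d → k)
    {G : MvPolynomial (Fin d) k} (hG : G.IsHomogeneous e) (hv : eval v G ≠ 0) {g : P}
    (hg : g - aeval x G ∈ maximalIdeal P ^ (e + 1)) {L : ℕ} (hL : e + 1 ≤ L)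
    (Φ : P →ₐ[k] Polynomial k ⧸ Ideal.span {(Polynomial.X : Polynomial k) ^ L})
    (r : Fin d → Polynomial k)
    (hΦ : ∀ i, Φ (x i) = Ideal.Quotient.mk _ (Polynomial.X * (Polynomial.C (v i) + Polynomial.X * r i))) :
    Φ g ≠ 0 := by
  intro h0
  set h : Fin d → Polynomial k := fun i => Polynomial.X * (Polynomial.C (v i) + Polynomial.X * r i)
  set w : Fin d → Polynomial k := fun i => Polynomial.C (v i) + Polynomial.X * r i
  have h1 : Φ (aeval x G) = Ideal.Quotient.mk (Ideal.span {(Polynomial.X : Polynomial k) ^ L}) (aeval h G) := by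
    rw [← Ideal.Quotient.mkₐ_eq_mk k, ← AlgHom.comp_apply, ← AlgHom.comp_apply, comp_aeval, comp_aeval]
    exact congrArg (fun f => aeval f G) (funext hΦ)
  have h2 : Φ (g - aeval x G) ∈ (Ideal.span {(Polynomial.X : Polynomial k) ^ (e + 1)}).map (Ideal.Quotient.mk (Ideal.span {(Polynomial.X : Polynomial k) ^ L})) := by
    have hle : (maximalIdeal P).map Φ ≤ (Ideal.span {(Polynomial.X : Polynomial k)}).map (Ideal.Quotient.mk (Ideal.span {(Polynomial.X : Polynomial k) ^ L})) := by
      rw [map_span_le x hx, Ideal.span_le]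
      rintro _ ⟨i, rfl⟩
      dsimp only
      rw [hΦ]
      exact Ideal.mem_map_of_mem _ (Ideal.mem_span_singleton.2 (dvd_mul_right _ _))
    have := Ideal.pow_right_mono hle (e + 1) (Ideal.map_pow Φ _ (e + 1) ▸ Ideal.mem_map_of_mem Φ hg)
    rwa [← Ideal.map_pow, Ideal.span_singleton_pow] at this
  rw [map_sub, h0, zero_sub, h1, Submodule.neg_mem_iff, Ideal.mem_quotient_iff_mem_sup,
    sup_eq_left.2 ((Ideal.span_singleton_le_span_singleton).2 (pow_dvd_pow _ hL)),
    Ideal.mem_span_singleton] at h2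
  have h3 : aeval h G = Polynomial.X ^ e * aeval w G := by
    simp only [aeval_def, eval₂_eq, Finset.mul_sum]
    refine Finset.sum_congr rfl fun m hm => ?_
    have hdeg : ∑ i ∈ m.support, m i = e := by
      have := hG (mem_support_iff.mp hm)
      simpa [Finsupp.weight_apply, Finsupp.sum] using this
    simp only [h, w, mul_pow, Finset.prod_mul_distrib, Finset.prod_pow_eq_pow_sum, hdeg]
    ring
  rw [h3, pow_succ, mul_dvd_mul_iff_left (pow_ne_zero _ Polynomial.X_ne_zero), Polynomial.X_dvd_iff] at h2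
  apply hv
  have hw : (fun i => Polynomial.constantCoeff (w i)) = v := by funext i; simp [w]
  rw [← hw, ← h2]
  simp only [aeval_def, ← Polynomial.constantCoeff_apply, eval₂_eq, eval_eq, map_sum, map_mul, map_prod, map_pow]
  simp

end Groth.L12.RegJets
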