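import Groth.Agent.L12.RegJets
import Mathlib.RingTheory.Jacobson.Ring
import Mathlib.Algebra.MvPolynomial.Funext
import Mathlib.RingTheory.Localization.AtPrime.Basic

/-!
Regularity through curvilinear jets.
-/

universe u

open IsLocalRing

namespace Groth.L12.RegJets

variable {k : Type u} [Field k] [IsAlgClosed k]

theorem isNilpotent_of_hom {A : Type u} [CommRing A] [IsLocalRing A] [Algebra k A]
    {B : Type u} [CommRing B] [Algebra k B] [IsLocalRing B] [Module.Finite k B] (f : A →ₐ[k] B)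
    {a : A} (ha : a ∈ maximalIdeal A) : IsNilpotent (f a) := by
  haveI : IsArtinianRing B := IsArtinianRing.of_finite k B
  have hbij : Function.Bijective (Algebra.ofId k (ResidueField B)) :=
    IsAlgClosed.algebraMap_bijective_of_isIntegral
  let rB : B →ₐ[k] k := (AlgEquiv.ofBijective _ hbij).symm.toAlgHom.comp
    (IsScalarTower.toAlgHom k B (ResidueField B))
  have h1 : f a ∈ maximalIdeal B :=
    (mem_maximalIdeal_of_res rB _).2 ((mem_maximalIdeal_of_res (rB.comp f) a).1 ha)
  obtain ⟨n, hn⟩ := (isArtinianRing_iff_isNilpotent_maximalIdeal B).1 inferInstance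
  exact ⟨n, Ideal.mem_bot.1 (Ideal.zero_eq_bot (R := B) ▸ hn ▸ Ideal.pow_mem_pow h1 n)⟩

theorem residue_surjective_atPrime (A : Type u) [CommRing A] [Algebra k A] [Algebra.FiniteType k A]
    (m : Ideal A) [m.IsMaximal] :
    Function.Surjective (algebraMap k (ResidueField (Localization.AtPrime m))) := by
  letI := Ideal.Quotient.field m
  haveI : Module.Finite k (A ⧸ m) := finite_of_finite_type_of_isJacobsonRing k (A ⧸ m)
  have h1 : Function.Bijective (algebraMap k (A ⧸ m)) := IsAlgClosed.algebraMap_bijective_of_isIntegral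
  intro z
  obtain ⟨q, rfl⟩ := (IsLocalization.AtPrime.equivQuotMaximalIdeal m (Localization.AtPrime m)).surjective z
  obtain ⟨c, rfl⟩ := h1.2 q
  exact ⟨c, (IsLocalization.AtPrime.equivQuotMaximalIdeal_apply_mk m (Localization.AtPrime m)
    (algebraMap k A c)).symm⟩

variable (A : Type u) [CommRing A] [Algebra k A] (m : Ideal A) [m.IsMaximal]

omit [IsAlgClosed k] in
theorem exists_extend {B : Type u} [CommRing B] [Algebra k B]
    (res : Localization.AtPrime m →ₐ[k] k) (φ : A →ₐ[k] B) (hφ : ∀ a ∈ m, IsNilpotent (φ a)) :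
    ∃ φ' : Localization.AtPrime m →ₐ[k] B, φ'.comp (IsScalarTower.toAlgHom k A _) = φ ∧
      ∀ z ∈ maximalIdeal (Localization.AtPrime m), IsNilpotent (φ' z) := by
  have hu : ∀ y : m.primeCompl, IsUnit (φ y) := fun y => by
    have hmem : ∀ a : A, a ∈ m ↔ res (algebraMap A _ a) = 0 := fun a => by
      rw [← mem_maximalIdeal_of_res res, IsLocalization.AtPrime.to_map_mem_maximal_iff (Localization.AtPrime m) m]
    set c := res (algebraMap A _ (y : A)) with hc
    have h1 : (y : A) - algebraMap k A c ∈ m := by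
      rw [hmem, map_sub, map_sub, ← IsScalarTower.algebraMap_apply, AlgHom.commutes, ← hc]
      simp
    have h2 : c ≠ 0 := fun h => y.2 ((hmem _).2 h)
    have h3 := (hφ _ h1).isUnit_add_left_of_commute ((isUnit_iff_ne_zero.2 h2).map (algebraMap k B))
      (Commute.all _ _)
    rwa [map_sub, AlgHom.commutes, add_sub_cancel] at h3
  refine ⟨IsLocalization.liftAlgHom (M := m.primeCompl) hu,
    AlgHom.ext fun a => IsLocalization.lift_eq _ a, ?_⟩
  have hle : (maximalIdeal (Localization.AtPrime m)).map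
      (IsLocalization.liftAlgHom (M := m.primeCompl) hu) ≤ nilradical B := by
    rw [← Localization.AtPrime.map_eq_maximalIdeal, Ideal.map_le_iff_le_comap, Ideal.map_le_iff_le_comap]
    intro a ha
    rw [Ideal.mem_comap, Ideal.mem_comap, mem_nilradical]
    simpa [IsLocalization.lift_eq] using hφ a ha
  exact fun z hz => mem_nilradical.1 (hle (Ideal.mem_map_of_mem _ hz))

theorem exists_order {P : Type u} [CommRing P] [IsLocalRing P] [IsNoetherianRing P] {g : P} (hne : g ≠ 0) :
    ∃ e, g ∈ maximalIdeal P ^ e ∧ g ∉ maximalIdeal P ^ (e + 1) := by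
  by_contra hall
  push Not at hall
  have hall' : ∀ i, g ∈ maximalIdeal P ^ i := fun i => by
    induction i with
    | zero => simp
    | succ i ih => exact hall i ih
  have : g ∈ ⨅ i, maximalIdeal P ^ i := by simpa [Ideal.mem_iInf] using hall'
  rw [Ideal.iInf_pow_eq_bot_of_isLocalRing _ (maximalIdeal.isMaximal P).ne_top] at this
  exact hne this

theorem factor_factor {S : Type u} [CommRing S] [Algebra k S] {I J K : Ideal S} (h1 : I ≤ J) (h2 : J ≤ K) :
    (Ideal.Quotient.factorₐ k h2).comp (Ideal.Quotient.factorₐ k h1) = Ideal.Quotient.factorₐ k (h1.trans h2) :=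
  AlgHom.ext fun z => by
    obtain ⟨z, rfl⟩ := Ideal.Quotient.mk_surjective z
    rfl

theorem exists_jets
    (H : ∀ (l : ℕ), 1 ≤ l →
        ∀ (φ : A →ₐ[k] (Polynomial k ⧸ Ideal.span {(Polynomial.X : Polynomial k) ^ l})),
          (∀ a ∈ m, IsNilpotent (φ a)) →
          ∃ ψ : A →ₐ[k] (Polynomial k ⧸ Ideal.span {(Polynomial.X : Polynomial k) ^ (l + 1)}),
            (Ideal.Quotient.factorₐ k (Ideal.span_singleton_le_span_singleton.mpr
              (pow_dvd_pow (Polynomial.X : Polynomial k) (Nat.le_succ l)))).comp ψ = φ)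
    (φ2 : A →ₐ[k] (Polynomial k ⧸ Ideal.span {(Polynomial.X : Polynomial k) ^ 2}))
    (h2nil : ∀ a ∈ m, IsNilpotent (φ2 a)) (n : ℕ) :
    ∃ (hle : Ideal.span {(Polynomial.X : Polynomial k) ^ (n + 2)} ≤ Ideal.span {(Polynomial.X : Polynomial k) ^ 2})
      (ψ : A →ₐ[k] Polynomial k ⧸ Ideal.span {(Polynomial.X : Polynomial k) ^ (n + 2)}),
      (∀ a ∈ m, IsNilpotent (ψ a)) ∧ (Ideal.Quotient.factorₐ k hle).comp ψ = φ2 := by
  induction n with
  | zero =>
    refine ⟨le_rfl, φ2, h2nil, AlgHom.ext fun a => ?_⟩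
    rw [AlgHom.comp_apply]
    obtain ⟨z, hz⟩ := Ideal.Quotient.mk_surjective (φ2 a)
    rw [← hz]
    rfl
  | succ n ih =>
    obtain ⟨hle, ψ, hψn, hψ⟩ := ih
    obtain ⟨ψ', hψ'⟩ := H (n + 2) (by omega) ψ hψn
    refine ⟨(Ideal.span_singleton_le_span_singleton.mpr (pow_dvd_pow _ (Nat.le_succ (n + 2)))).trans hle,
      ψ', fun a ha => ?_, ?_⟩
    · obtain ⟨z, hz⟩ := Ideal.Quotient.mk_surjective (ψ' a)
      rw [← hz]
      refine mk_isNilpotent (X_dvd_of_isNilpotent_mk (n := n + 2) ?_ (by omega))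
      have := hψn a ha
      rwa [← hψ', AlgHom.comp_apply, ← hz, Ideal.Quotient.factorₐ_apply_mk] at this
    · rw [← hψ, ← hψ', ← AlgHom.comp_assoc, factor_factor]

theorem regular_of_jets [Algebra.FiniteType k A] (res : Localization.AtPrime m →ₐ[k] k)
    (H : ∀ (l : ℕ), 1 ≤ l →
        ∀ (φ : A →ₐ[k] (Polynomial k ⧸ Ideal.span {(Polynomial.X : Polynomial k) ^ l})),
          (∀ a ∈ m, IsNilpotent (φ a)) →
          ∃ ψ : A →ₐ[k] (Polynomial k ⧸ Ideal.span {(Polynomial.X : Polynomial k) ^ (l + 1)}),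
            (Ideal.Quotient.factorₐ k (Ideal.span_singleton_le_span_singleton.mpr
              (pow_dvd_pow (Polynomial.X : Polynomial k) (Nat.le_succ l)))).comp ψ = φ) :
    IsRegularLocalRing (Localization.AtPrime m) := by
  haveI : Algebra.EssFiniteType k (Localization.AtPrime m) := Algebra.EssFiniteType.comp k A _
  obtain ⟨P0, _, _, _, q0, hq0⟩ := Groth.L12.exists_regular_cover (Localization.AtPrime m) res
  obtain ⟨P, _, _, _, q, hq, hker⟩ := Groth.L12.exists_minimal_regular_cover _ P0 le_rfl q0 hq0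
  suffices h : RingHom.ker q = ⊥ from IsRegularLocalRing.of_ringEquiv
    (RingEquiv.ofBijective q ⟨(RingHom.injective_iff_ker_eq_bot _).2 h, hq⟩)
  rw [eq_bot_iff]
  intro g hg
  by_contra hne
  rw [Ideal.mem_bot] at hne
  haveI : IsDomain P := Groth.L01.isDomain_of_regular P
  let resP : P →ₐ[k] k := res.comp q
  obtain ⟨d, x, hx, hqr⟩ := exists_params P
  -- the order of `g`
  obtain ⟨e, he1, he2⟩ := exists_order hne
  obtain ⟨G, hG, hgG⟩ := exists_homogeneous_approx resP x hx e he1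
  have hG0 : G ≠ 0 := by rintro rfl; exact he2 (by simpa using hgG)
  obtain ⟨v, hv⟩ : ∃ v, MvPolynomial.eval v G ≠ 0 := by
    by_contra hall
    push Not at hall
    exact hG0 (MvPolynomial.funext fun v => by simpa using hall v)
  -- first order
  set I2 : Ideal (Polynomial k) := Ideal.span {(Polynomial.X : Polynomial k) ^ 2}
  obtain ⟨φ2, hφ2x, hφ2k⟩ := exists_hom resP x hx hqr
    (fun i => Ideal.Quotient.mk I2 (Polynomial.C (v i) * Polynomial.X)) 2 (by
      rw [eq_bot_iff]
      refine (Ideal.pow_right_mono (J := (Ideal.span {(Polynomial.X : Polynomial k)}).map (Ideal.Quotient.mk I2)) ?_ 2).trans ?_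
      · rw [Ideal.span_le]
        rintro _ ⟨i, rfl⟩
        exact Ideal.mem_map_of_mem _ (Ideal.mem_span_singleton.2 (dvd_mul_left _ _))
      · rw [← Ideal.map_pow, Ideal.span_singleton_pow, Ideal.map_quotient_self])
  let φ2' : Localization.AtPrime m →ₐ[k] Polynomial k ⧸ I2 :=
    AlgHom.liftOfSurjective q hq φ2 (hker.trans hφ2k)
  have hφ2' : ∀ p, φ2' (q p) = φ2 p := fun p =>
    DFunLike.congr_fun (AlgHom.liftOfSurjective_comp q hq φ2 (hker.trans hφ2k)) p
  let ι : A →ₐ[k] Localization.AtPrime m := IsScalarTower.toAlgHom k A _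
  have h2nil : ∀ a ∈ m, IsNilpotent (φ2' (ι a)) := fun a ha => by
    obtain ⟨p, hp⟩ := hq (ι a)
    rw [← hp, hφ2']
    refine ⟨2, ?_⟩
    rw [← map_pow]
    refine RingHom.mem_ker.1 (hφ2k (Ideal.pow_mem_pow ?_ 2))
    rw [mem_maximalIdeal_of_res resP, AlgHom.comp_apply, hp, ← mem_maximalIdeal_of_res res]
    exact (IsLocalization.AtPrime.to_map_mem_maximal_iff (Localization.AtPrime m) m a).2 ha
  -- successive lifting
  obtain ⟨hle, ψ, hψn, hψ⟩ := exists_jets A m H (φ2'.comp ι) h2nil e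
  obtain ⟨ψ', hψ'ι, -⟩ := exists_extend A m res ψ hψn
  have hagree : (Ideal.Quotient.factorₐ k hle).comp ψ' = φ2' := by
    refine IsLocalization.algHom_ext m.primeCompl (DFunLike.ext _ _ fun a => ?_)
    exact DFunLike.congr_fun ((congrArg (fun f => (Ideal.Quotient.factorₐ k hle).comp f) hψ'ι).trans hψ) a
  have hr : ∀ i, ∃ r : Polynomial k, ψ' (q (x i)) =
      Ideal.Quotient.mk _ (Polynomial.X * (Polynomial.C (v i) + Polynomial.X * r)) := by
    intro i
    obtain ⟨z, hz⟩ := Ideal.Quotient.mk_surjective (ψ' (q (x i)))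
    have h := DFunLike.congr_fun hagree (q (x i))
    rw [AlgHom.comp_apply, hφ2', hφ2x, ← hz] at h
    change Ideal.Quotient.mk I2 z = _ at h
    obtain ⟨r, hr⟩ := Ideal.mem_span_singleton'.1 (Ideal.Quotient.eq.1 h)
    refine ⟨r, ?_⟩
    rw [← hz]
    congr 1
    linear_combination -hr
  choose r hr using hr
  refine curve_absurd resP x hx v hG hv hgG (by omega : e + 1 ≤ e + 2) (ψ'.comp q) r hr ?_
  rw [AlgHom.comp_apply, RingHom.mem_ker.1 hg, map_zero]

end Groth.L12.RegJets
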