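import Groth.Agent.L17.FinLocBases
import Groth.Agent.L18.IdealModule
import Groth.Agent.L16.AffineBC.Pullback
import Groth.Agent.L29.DCoh.PCQCoh
import Groth.Prelude.Def_PerfAux

/-!
# The resolution property forces affine diagonal
-/

set_option autoImplicit false
set_option linter.style.haveILetI false
set_option backward.isDefEq.respectTransparency false
set_option backward.isDefEq.respectTransparency.types false

universe u

open CategoryTheory CategoryTheory.Limits AlgebraicGeometry TopologicalSpace Opposite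

noncomputable section

namespace Groth.L12.ResAffDiag

open Groth.L18.Frame (rs ro rs_rs)

variable {X : Scheme.{u}}

/-- The intersection of two affine opens is affine near every point. -/
theorem isAffineHom_ι [CompactSpace X] [QuasiSeparatedSpace X] (hX : PerfAux.HasResolutionProperty X)
    {U : X.Opens} (hU : IsAffineOpen U) : IsAffineHom U.ι := by
  obtain ⟨I, hI, hIs, hItop⟩ := Groth.L18.IdealModule.exists_finiteType_of_isCompact U hU.isCompact
  have hJ := Groth.L18.IdealModule.isCoh_idealMod I hI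
  obtain ⟨E, π, hE, hπ⟩ := hX _ hJ.1 hJ.2
  haveI := hπ
  haveI : Coh.IsQCoh E := Groth.L29.DC.PCQCoh.isQCoh_of_isFinLocFree hE
  haveI : Coh.IsQCoh (ClSub.idealMod I) := hJ.1
  let ψ : E ⟶ Coh.structureModule X := π ≫ ClSub.idealModι I
  have h1 : (1 : Γ(X, U)) ∈ I.ideal ⟨U, hU⟩ := by rw [hItop ⟨U, hU⟩ le_rfl]; trivial
  obtain ⟨m, hm⟩ := (Groth.L18.IdealModule.mem_ideal_iff I hU _).1 h1
  obtain ⟨e, he⟩ := Groth.L16.AffineBC.surjective_app_of_epi π hU m
  have hψ : (show Γ(X, U) from ψ.app U e) = 1 := by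
    rw [← hm]
    exact congrArg (fun z => (show Γ(X, U) from (ClSub.idealModι I).app U z)) he
  have hloc : ∀ x : X, ∃ V : X.Opens, x ∈ V ∧ IsAffineOpen V ∧ IsAffineOpen (U ⊓ V) := by
    intro x
    obtain ⟨U₀, n, hx, ⟨ι⟩⟩ := hE x
    obtain ⟨s₀, hs₀⟩ := Groth.L17.FinLocBases.exists_isBasis E ι
    have hU₀ : U₀.ι ''ᵁ ⊤ = U₀ := U₀.ι_image_top
    obtain ⟨_, ⟨V, hV, rfl⟩, hxV, hVU⟩ :=
      X.isBasis_affineOpens.exists_subset_of_mem_open (show x ∈ U₀.ι ''ᵁ ⊤ from hU₀.symm ▸ hx) (U₀.ι ''ᵁ ⊤).2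
    refine ⟨V, hxV, hV, ?_⟩
    let t : Fin n → Γ(E, V) := fun i => rs E hVU (s₀ i)
    let f : Fin n → Γ(X, V) := fun i => ψ.app V (t i)
    obtain ⟨r, hr⟩ := (hs₀ (U ⊓ V) (homOfLE ((inf_le_right : U ⊓ V ≤ V).trans hVU))).2
      (rs E (inf_le_left : U ⊓ V ≤ U) e)
    change (∑ i, (show Γ(X, U ⊓ V) from r i) • rs E _ (s₀ i)) = rs E inf_le_left e at hr
    refine isAffineOpen_of_isAffineOpen_basicOpen (U ⊓ V) (Set.range fun i => ro inf_le_right (f i)) ?_ ?_
    · rw [Ideal.eq_top_iff_one]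
      have h2 : (1 : Γ(X, U ⊓ V)) = ∑ i, (show Γ(X, U ⊓ V) from r i) * ro inf_le_right (f i) := by
        calc (1 : Γ(X, U ⊓ V)) = ro inf_le_left (show Γ(X, U) from ψ.app U e) := by rw [hψ, ro, map_one]
          _ = ψ.app (U ⊓ V) (rs E inf_le_left e) :=
            congr($(ψ.mapPresheaf.naturality (homOfLE (inf_le_left : U ⊓ V ≤ U)).op) e).symm
          _ = _ := by
            rw [← hr, map_sum]
            refine Finset.sum_congr rfl fun i _ => ?_
            refine (ψ.app_smul _ _).trans ?_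
            show (show Γ(X, U ⊓ V) from r i) * _ = _
            congr 1
            rw [← rs_rs E hVU (inf_le_right : U ⊓ V ≤ V) (s₀ i)]
            exact congr($(ψ.mapPresheaf.naturality (homOfLE (inf_le_right : U ⊓ V ≤ V)).op) (t i))
      rw [h2]
      exact Ideal.sum_mem _ fun i _ => Ideal.mul_mem_left _ _ (Ideal.subset_span ⟨i, rfl⟩)
    · rintro _ ⟨i, rfl⟩
      have hle : X.basicOpen (f i) ≤ U := by
        intro y hy
        by_contra hyU
        have hyI : y ∈ (I.support : Set X) ∩ (V : Set X) := ⟨hIs.ge hyU, X.basicOpen_le _ hy⟩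
        rw [I.coe_support_inter ⟨V, hV⟩] at hyI
        exact (Scheme.mem_zeroLocus_iff _ _ _).1 hyI.1 (f i)
          ((Groth.L18.IdealModule.mem_ideal_iff I hV _).2 ⟨π.app V (t i), rfl⟩) hy
      show IsAffineOpen (X.basicOpen (ro inf_le_right (f i)))
      rw [show ro inf_le_right (f i) = X.presheaf.map (homOfLE (inf_le_right : U ⊓ V ≤ V)).op (f i) from rfl,
        Scheme.basicOpen_res, inf_eq_right.2 (le_inf hle (X.basicOpen_le _))]
      exact hV.basicOpen _
  choose V hxV hV hUV using hloc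
  refine (HasAffineProperty.iff_of_iSup_eq_top (P := @IsAffineHom) (fun x => (⟨V x, hV x⟩ : X.affineOpens))
    (top_unique fun x _ => Opens.mem_iSup.2 ⟨x, hxV x⟩)).2 fun x => ?_
  show IsAffineOpen (U.ι ⁻¹ᵁ V x)
  rw [← U.ι.isAffineOpen_iff_of_isOpenImmersion, Scheme.Hom.image_preimage_eq_opensRange_inf,
    Scheme.Opens.opensRange_ι]
  exact hUV x

/-- Resolution property gives affine intersections. -/
theorem isAffineOpen_inf [CompactSpace X] [QuasiSeparatedSpace X] (hX : PerfAux.HasResolutionProperty X)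
    {U V : X.Opens} (hU : IsAffineOpen U) (hV : IsAffineOpen V) : IsAffineOpen (U ⊓ V) := by
  haveI := isAffineHom_ι hX hU
  have h := hV.preimage U.ι
  rwa [← U.ι.isAffineOpen_iff_of_isOpenImmersion, Scheme.Hom.image_preimage_eq_opensRange_inf,
    Scheme.Opens.opensRange_ι] at h

end Groth.L12.ResAffDiag
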