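/-
Complexes of finite projective modules which are locally small are globally small: algebraic core.
-/
import Mathlib.RingTheory.Flat.FaithfullyFlat.Basic
import Mathlib.RingTheory.Flat.EquationalCriterion
import Mathlib.Algebra.Module.FinitePresentation
import Mathlib.RingTheory.TensorProduct.Basic
import Mathlib.Algebra.Category.ModuleCat.Basic
import Mathlib.LinearAlgebra.TensorProduct.RightExactness
import Mathlib.RingTheory.Finiteness.Prod

/-!
# Chains of finite projective modules indexed from the top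
-/

set_option autoImplicit false
set_option linter.style.haveILetI false

universe u

noncomputable section

open TensorProduct

namespace Groth.L12.SizeCore

variable {R : Type u} [CommRing R]

/-- a chain of modules, degree `0` is the top -/
structure Ch (R : Type u) [CommRing R] where
  /-- the terms -/
  X : ℕ → ModuleCat.{u} R
  /-- the differentials -/
  d : ∀ n, X (n + 1) →ₗ[R] X n
  dd : ∀ n x, d n (d (n + 1) x) = 0

variable (B : Type u) [CommRing B] [Algebra R B]

/-- the base change of a chain is a homotopy retract of a small one -/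
structure Retr (E : Ch R) (c : ℕ → ℕ) where
  /-- small terms -/
  Q : ℕ → ModuleCat.{u} B
  /-- small differentials -/
  δ : ∀ n, Q (n + 1) →ₗ[B] Q n
  gen : ∀ n, ∃ s : Fin (c n) → Q n, Submodule.span B (Set.range s) = ⊤
  /-- to the small chain -/
  g : ∀ n, B ⊗[R] E.X n →ₗ[B] Q n
  /-- from the small chain -/
  h : ∀ n, Q n →ₗ[B] B ⊗[R] E.X n
  /-- the homotopy -/
  H : ∀ n, B ⊗[R] E.X n →ₗ[B] B ⊗[R] E.X (n + 1)
  g_d : ∀ n x, δ n (g (n + 1) x) = g n ((E.d n).baseChange B x)
  h_d : ∀ n q, (E.d n).baseChange B (h (n + 1) q) = h n (δ n q)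
  htpy0 : ∀ x, h 0 (g 0 x) = x + (E.d 0).baseChange B (H 0 x)
  htpy : ∀ n x, h (n + 1) (g (n + 1) x) =
    x + (E.d (n + 1)).baseChange B (H (n + 1) x) + H n ((E.d n).baseChange B x)

/-- a small resolution -/
structure Res (E : Ch R) (w : ℕ) (b : ℕ → ℕ) where
  /-- the small chain -/
  P : Ch R
  /-- the comparison map -/
  f : ∀ n, P.X n →ₗ[R] E.X n
  comm : ∀ n x, E.d n (f (n + 1) x) = f n (P.d n x)
  proj : ∀ n, Module.Projective R (P.X n)
  gen : ∀ n, ∃ s : Fin (b n) → P.X n, Submodule.span R (Set.range s) = ⊤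
  zero : ∀ n, w < n → Subsingleton (P.X n)
  surj0 : ∀ e, ∃ p e', f 0 p + E.d 0 e' = e
  inj0 : ∀ p e', f 0 p = E.d 0 e' → ∃ p', P.d 0 p' = p
  surj : ∀ n e, E.d n e = 0 → ∃ p e', P.d n p = 0 ∧ f (n + 1) p + E.d (n + 1) e' = e
  inj : ∀ n p e', P.d n p = 0 → f (n + 1) p = E.d (n + 1) e' → ∃ p', P.d (n + 1) p' = p

/-- the carries -/
def carry (L : ℕ) (c : ℕ → ℕ) : ℕ → ℕ
  | 0 => c 0
  | n + 1 => c (n + 1) + L * carry L c n

/-- one step -/
def next (L : ℕ) (c : ℕ → ℕ) : ℕ → ℕ
  | 0 => c 1 + L * c 0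
  | n + 1 => c (n + 2)

lemma carry_next (L : ℕ) (c : ℕ → ℕ) : ∀ n, carry L (next L c) n = carry L c (n + 1)
  | 0 => rfl
  | n + 1 => by
    change c (n + 2) + L * carry L (next L c) n = c (n + 2) + L * carry L c (n + 1)
    rw [carry_next L c n]

variable (R)

/-- generators descend with loss `L` -/
def GenDescends (L : ℕ) : Prop :=
  ∀ (M : Type u) [AddCommGroup M] [Module R M] [Module.Finite R M] (k : ℕ) (t : Fin k → B ⊗[R] M),
    Submodule.span B (Set.range t) = ⊤ → ∃ s : Fin (L * k) → M, Submodule.span R (Set.range s) = ⊤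

variable {R}

section baseChangeLemmas

variable {M N P : Type u} [AddCommGroup M] [Module R M] [AddCommGroup N] [Module R N] [AddCommGroup P] [Module R P]

lemma bc_comp (f : N →ₗ[R] P) (g : M →ₗ[R] N) (x : B ⊗[R] M) :
    f.baseChange B (g.baseChange B x) = (f ∘ₗ g).baseChange B x := by
  rw [LinearMap.baseChange_comp]
  rfl

lemma bc_congr {f g : M →ₗ[R] N} (h : f = g) (x : B ⊗[R] M) : f.baseChange B x = g.baseChange B x := by
  rw [h]

lemma bc_surjective {f : M →ₗ[R] N} (h : Function.Surjective f) : Function.Surjective (f.baseChange B) := by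
  intro y
  obtain ⟨x, rfl⟩ := LinearMap.lTensor_surjective B h y
  exact ⟨x, by rw [LinearMap.baseChange_eq_ltensor]⟩

lemma bc_exact {f : M →ₗ[R] N} {g : N →ₗ[R] P} (hfg : Function.Exact f g) (hg : Function.Surjective g)
    (y : B ⊗[R] N) (hy : g.baseChange B y = 0) : ∃ x, f.baseChange B x = y := by
  rw [LinearMap.baseChange_eq_ltensor] at hy
  obtain ⟨x, hx⟩ := ((lTensor_exact B hfg hg) y).1 hy
  exact ⟨x, by rw [LinearMap.baseChange_eq_ltensor]; exact hx⟩

end baseChangeLemmas

variable {B}

lemma Ch.dd_bc (E : Ch R) (n : ℕ) (x : B ⊗[R] E.X (n + 2)) :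
    (E.d n).baseChange B ((E.d (n + 1)).baseChange B x) = 0 := by
  rw [bc_comp, bc_congr B (show E.d n ∘ₗ E.d (n + 1) = 0 from LinearMap.ext (E.dd n)),
    LinearMap.baseChange_zero, LinearMap.zero_apply]

section step

variable {E : Ch R} {a : ℕ} (ψ : (Fin a → R) →ₗ[R] E.X 0)

/-- `(x, e) ↦ de - ψ x` -/
def Dmap : (Fin a → R) × E.X 1 →ₗ[R] E.X 0 :=
  E.d 0 ∘ₗ LinearMap.snd R _ _ - ψ ∘ₗ LinearMap.fst R _ _

/-- the top of the next chain -/
abbrev Ker : Submodule R ((Fin a → R) × E.X 1) := LinearMap.ker (Dmap ψ)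

/-- the differential into the top -/
def d₀ : E.X 2 →ₗ[R] Ker ψ :=
  LinearMap.codRestrict _ (LinearMap.inr R (Fin a → R) (E.X 1) ∘ₗ E.d 1) fun x => by
    simp [Dmap, E.dd 0 x]

/-- terms of the next chain -/
def nextX : ℕ → ModuleCat.{u} R
  | 0 => ModuleCat.of R (Ker ψ)
  | n + 1 => E.X (n + 2)

/-- differentials of the next chain -/
def nextd : ∀ n, nextX ψ (n + 1) →ₗ[R] nextX ψ n
  | 0 => d₀ ψ
  | n + 1 => E.d (n + 2)

/-- the next chain -/
def nextCh : Ch R where
  X := nextX ψ
  d := nextd ψ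
  dd
    | 0, x => Subtype.ext (show LinearMap.inr R (Fin a → R) (E.X 1) (E.d 1 (E.d 2 x)) = 0 by
        rw [E.dd 1 x, map_zero])
    | n + 1, x => E.dd (n + 2) x

variable (σ : E.X 0 →ₗ[R] (Fin a → R) × E.X 1) (hσ : Dmap ψ ∘ₗ σ = LinearMap.id)

include hσ

/-- the projection onto the kernel -/
def proj : (Fin a → R) × E.X 1 →ₗ[R] Ker ψ :=
  LinearMap.codRestrict _ (LinearMap.id - σ ∘ₗ Dmap ψ) fun z => by
    rw [LinearMap.mem_ker, LinearMap.sub_apply, map_sub, LinearMap.comp_apply]
    change Dmap ψ z - (Dmap ψ ∘ₗ σ) (Dmap ψ z) = 0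
    rw [hσ, LinearMap.id_apply, sub_self]

lemma proj_subtype : proj ψ σ hσ ∘ₗ (Ker ψ).subtype = LinearMap.id :=
  LinearMap.ext fun z => Subtype.ext (by simp [proj, LinearMap.mem_ker.1 z.2])

lemma subtype_proj : (Ker ψ).subtype ∘ₗ proj ψ σ hσ = LinearMap.id - σ ∘ₗ Dmap ψ := LinearMap.ext fun _ => rfl

lemma ker_projective [Module.Projective R (E.X 1)] : Module.Projective R (Ker ψ) :=
  Module.Projective.of_split (Ker ψ).subtype (proj ψ σ hσ) (proj_subtype ψ σ hσ)

lemma ker_finite [Module.Finite R (E.X 1)] : Module.Finite R (Ker ψ) :=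
  Module.Finite.of_surjective (proj ψ σ hσ) fun z => ⟨_, LinearMap.congr_fun (proj_subtype ψ σ hσ) z⟩

variable {c : ℕ → ℕ} (ρ : Retr B E c) {L : ℕ}

/-- small terms of the next step -/
def nextQ (a : ℕ) : ℕ → ModuleCat.{u} B
  | 0 => ModuleCat.of B (ρ.Q 1 × (B ⊗[R] (Fin a → R)))
  | n + 1 => ρ.Q (n + 2)

/-- the next retraction -/
def nextRetr (ha : a = L * c 0) : Retr B (nextCh ψ) (next L c) := by
  classical
  let ι : B ⊗[R] (Ker ψ) →ₗ[B] B ⊗[R] ((Fin a → R) × E.X 1) := (Ker ψ).subtype.baseChange B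
  let π : B ⊗[R] ((Fin a → R) × E.X 1) →ₗ[B] B ⊗[R] (Ker ψ) := (proj ψ σ hσ).baseChange B
  let D : B ⊗[R] ((Fin a → R) × E.X 1) →ₗ[B] B ⊗[R] E.X 0 := (Dmap ψ).baseChange B
  let F : B ⊗[R] ((Fin a → R) × E.X 1) →ₗ[B] B ⊗[R] (Fin a → R) := (LinearMap.fst R _ _).baseChange B
  let S : B ⊗[R] ((Fin a → R) × E.X 1) →ₗ[B] B ⊗[R] E.X 1 := (LinearMap.snd R _ _).baseChange B
  let l : B ⊗[R] (Fin a → R) →ₗ[B] B ⊗[R] ((Fin a → R) × E.X 1) := (LinearMap.inl R _ _).baseChange B
  let r : B ⊗[R] E.X 1 →ₗ[B] B ⊗[R] ((Fin a → R) × E.X 1) := (LinearMap.inr R _ _).baseChange B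
  have hdec : ∀ z, l (F z) + r (S z) = z := fun z => by
    simp only [l, r, F, S, bc_comp]
    rw [← LinearMap.add_apply, ← LinearMap.baseChange_add,
      bc_congr B (show _ = LinearMap.id from LinearMap.ext fun x => by simp), LinearMap.baseChange_id,
      LinearMap.id_apply]
  have hFr : ∀ x, F (r x) = 0 := fun x => by
    simp only [F, r, bc_comp]
    rw [bc_congr B (show _ = (0 : E.X 1 →ₗ[R] (Fin a → R)) from LinearMap.ext fun x => by simp)]
    simp
  have hSr : ∀ x, S (r x) = x := fun x => by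
    simp only [S, r, bc_comp]
    rw [bc_congr B (show _ = LinearMap.id from LinearMap.ext fun x => by simp), LinearMap.baseChange_id,
      LinearMap.id_apply]
  have hD : ∀ z, D z = (E.d 0).baseChange B (S z) - ψ.baseChange B (F z) := fun z => by
    simp only [D, S, F, bc_comp, Dmap, LinearMap.baseChange_sub, LinearMap.sub_apply]
  have hDι : ∀ w, D (ι w) = 0 := fun w => by
    simp only [D, ι, bc_comp]
    rw [bc_congr B (show _ = (0 : Ker ψ →ₗ[R] E.X 0) from LinearMap.ext fun x => LinearMap.mem_ker.1 x.2)]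
    simp
  have hιπ : ∀ z, D z = 0 → ι (π z) = z := fun z hz => by
    simp only [ι, π, bc_comp]
    rw [subtype_proj, LinearMap.baseChange_sub, LinearMap.sub_apply, LinearMap.baseChange_id, ← bc_comp,
      show (Dmap ψ).baseChange B z = 0 from hz, map_zero, sub_zero, LinearMap.id_apply]
  have hπι : ∀ w, π (ι w) = w := fun w => by
    simp only [ι, π, bc_comp]
    rw [proj_subtype, LinearMap.baseChange_id, LinearMap.id_apply]
  have hιinj : ∀ w w', ι w = ι w' → w = w' := fun w w' h => by rw [← hπι w, h, hπι]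
  have hd : ∀ x, ι ((d₀ ψ).baseChange B x) = r ((E.d 1).baseChange B x) := fun x => by
    simp only [ι, r, bc_comp]
    rfl
  refine
    { Q := nextQ ρ a
      δ := fun
        | 0 => (LinearMap.inl B (ρ.Q 1) (B ⊗[R] (Fin a → R))).comp (ρ.δ 1)
        | n + 1 => ρ.δ (n + 2)
      gen := fun
        | 0 => ?_
        | n + 1 => ρ.gen (n + 2)
      g := fun
        | 0 => ((ρ.g 1).comp (S.comp ι)).prod (F.comp ι)
        | n + 1 => ρ.g (n + 2)
      h := fun
        | 0 => π.comp (l.comp (LinearMap.snd B _ _) +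
            r.comp ((ρ.h 1).comp (LinearMap.fst B _ _) -
              (ρ.H 0).comp ((ψ.baseChange B).comp (LinearMap.snd B _ _))))
        | n + 1 => ρ.h (n + 2)
      H := fun
        | 0 => (ρ.H 1).comp (S.comp ι)
        | n + 1 => ρ.H (n + 2)
      g_d := ?_
      h_d := ?_
      htpy0 := ?_
      htpy := ?_ }
  · obtain ⟨s, hs⟩ := ρ.gen 1
    let b : Fin a → B ⊗[R] (Fin a → R) := fun i => 1 ⊗ₜ[R] Pi.single i 1
    have hb : Submodule.span B (Set.range b) = ⊤ := by
      refine top_le_iff.1 fun z _ => ?_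
      induction z using TensorProduct.induction_on with
      | zero => exact zero_mem _
      | tmul x v =>
        rw [pi_eq_sum_univ' v, TensorProduct.tmul_sum]
        refine Submodule.sum_mem _ fun i _ => ?_
        rw [TensorProduct.tmul_smul, show x ⊗ₜ[R] (Pi.single i 1 : Fin a → R) = x • b i by
          simp [b, TensorProduct.smul_tmul']]
        exact Submodule.smul_of_tower_mem _ _ (Submodule.smul_mem _ _ (Submodule.subset_span ⟨i, rfl⟩))
      | add z w hz hw => exact add_mem (hz trivial) (hw trivial)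
    let t : Fin (c 1) ⊕ Fin a → ρ.Q 1 × (B ⊗[R] (Fin a → R)) :=
      Sum.elim (fun i => (s i, 0)) (fun i => (0, b i))
    have en : next L c 0 = c 1 + a := by subst ha; rfl
    refine ⟨fun i => t (finSumFinEquiv.symm (Fin.cast en i)), ?_⟩
    change Submodule.span B (Set.range fun i => t (finSumFinEquiv.symm (Fin.cast en i))) =
      (⊤ : Submodule B (ρ.Q 1 × (B ⊗[R] (Fin a → R))))
    rw [show Set.range (fun i => t (finSumFinEquiv.symm (Fin.cast en i))) =
        Set.range t from (finSumFinEquiv.symm.surjective.comp (finCongr en).surjective).range_comp t,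
      show Set.range t = LinearMap.inl B _ _ '' Set.range s ∪ LinearMap.inr B _ _ '' Set.range b by
        rw [Set.Sum.elim_range, ← Set.range_comp, ← Set.range_comp]; rfl,
      Submodule.span_union, Submodule.span_image, Submodule.span_image, hs, hb,
      Submodule.map_top, Submodule.map_top, LinearMap.sup_range_inl_inr]
  · rintro (_ | n) x
    · change (ρ.δ 1 (ρ.g 2 x), (0 : B ⊗[R] (Fin a → R))) =
        (ρ.g 1 (S (ι ((d₀ ψ).baseChange B x))), F (ι ((d₀ ψ).baseChange B x)))
      rw [hd, hSr, hFr, ρ.g_d 1 x]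
    · exact ρ.g_d (n + 2) x
  · rintro (_ | n) q
    · change (d₀ ψ).baseChange B (ρ.h 2 q) =
        π (l 0 + r (ρ.h 1 (ρ.δ 1 q) - ρ.H 0 (ψ.baseChange B 0)))
      simp only [map_zero, zero_add, sub_zero]
      refine hιinj _ _ ?_
      rw [hd, ρ.h_d 1 q, hιπ]
      rw [hD, hSr, hFr, map_zero, sub_zero, ← ρ.h_d 1 q, E.dd_bc]
    · exact ρ.h_d (n + 2) q
  · intro (w : B ⊗[R] ↥(Ker ψ))
    change π (l (F (ι w)) + r (ρ.h 1 (ρ.g 1 (S (ι w))) - ρ.H 0 (ψ.baseChange B (F (ι w))))) =
      w + (d₀ ψ).baseChange B (ρ.H 1 (S (ι w)))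
    have hw : (E.d 0).baseChange B (S (ι w)) = ψ.baseChange B (F (ι w)) :=
      sub_eq_zero.1 ((hD _).symm.trans (hDι w))
    rw [ρ.htpy 0, hw, add_sub_cancel_right, map_add r, ← add_assoc, hdec, ← hd, map_add, hπι, hπι]
  · rintro (_ | n) x
    · revert x
      intro (x : B ⊗[R] E.X 2)
      change ρ.h 2 (ρ.g 2 x) = x + (E.d 2).baseChange B (ρ.H 2 x) + ρ.H 1 (S (ι ((d₀ ψ).baseChange B x)))
      rw [hd, hSr]
      exact ρ.htpy 1 x
    · exact ρ.htpy (n + 2) x

end step

/-- the last step: a chain which is locally a retract of a module -/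
theorem res_zero [Module.FaithfullyFlat R B] {L : ℕ} (hL : GenDescends R B L) (E : Ch R)
    [∀ n, Module.Finite R (E.X n)] [∀ n, Module.Projective R (E.X n)] {c : ℕ → ℕ}
    (hc : ∀ n, 0 < n → c n = 0) (ρ : Retr B E c) :
    Nonempty (Res E 0 fun n => L * carry L c n) := by
  have hQ : ∀ n, Subsingleton (ρ.Q (n + 1)) := fun n => by
    obtain ⟨s, hs⟩ := ρ.gen (n + 1)
    haveI : IsEmpty (Fin (c (n + 1))) := by rw [hc _ n.succ_pos]; infer_instance
    rw [Set.range_eq_empty s, Submodule.span_empty] at hs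
    exact (Submodule.subsingleton_iff B).1 (subsingleton_of_bot_eq_top hs)
  have hexB : ∀ n x, (E.d n).baseChange B x = 0 → ∃ y, (E.d (n + 1)).baseChange B y = x := by
    intro n x hx
    have := ρ.htpy n x
    rw [(hQ n).elim (ρ.g (n + 1) x) 0, map_zero, hx, map_zero, add_zero] at this
    exact ⟨-ρ.H (n + 1) x, by rw [map_neg, neg_eq_iff_add_eq_zero, add_comm ((E.d (n + 1)).baseChange B _) x]; exact this.symm⟩
  have hex : ∀ n, Function.Exact (E.d (n + 1)) (E.d n) := fun n => by
    refine (Module.FaithfullyFlat.lTensor_exact_iff_exact R B _ _).1 fun x => ⟨fun hx => ?_, ?_⟩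
    · obtain ⟨y, hy⟩ := hexB n x (by rw [LinearMap.baseChange_eq_ltensor]; exact hx)
      exact ⟨y, by rw [← LinearMap.baseChange_eq_ltensor]; exact hy⟩
    · rintro ⟨y, rfl⟩
      rw [← LinearMap.baseChange_eq_ltensor, ← LinearMap.baseChange_eq_ltensor]
      exact E.dd_bc n y
  let M : ModuleCat.{u} R := ModuleCat.of R (E.X 0 ⧸ LinearMap.range (E.d 0))
  let q : E.X 0 →ₗ[R] M := Submodule.mkQ _
  have hq : Function.Surjective q := Submodule.mkQ_surjective _
  have hqd : Function.Exact (E.d 0) q := LinearMap.exact_map_mkQ_range _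
  -- the base change is a retract
  have hkill : ∀ x, ρ.h 0 (ρ.g 0 ((E.d 0).baseChange B x)) = 0 := fun x => by
    rw [← ρ.g_d 0 x, (hQ 0).elim (ρ.g 1 x) 0, map_zero, map_zero]
  have hex' : Function.Exact ((E.d 0).baseChange B) (q.baseChange B) := fun y =>
    ⟨fun hy => bc_exact B hqd hq y hy, by
      rintro ⟨x, rfl⟩
      rw [bc_comp, bc_congr B (show q ∘ₗ E.d 0 = 0 from LinearMap.ext fun x => hqd.apply_apply_eq_zero x)]
      simp⟩
  let s' : B ⊗[R] M →ₗ[B] B ⊗[R] E.X 0 :=
    (Submodule.liftQ _ ((ρ.h 0).comp (ρ.g 0)) (by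
      rw [LinearMap.exact_iff.1 hex']
      rintro _ ⟨x, rfl⟩
      exact hkill x)).comp
      (LinearMap.quotKerEquivOfSurjective (q.baseChange B) (bc_surjective B hq)).symm.toLinearMap
  have hs' : (q.baseChange B).comp s' = LinearMap.id := by
    refine LinearMap.ext fun m => ?_
    obtain ⟨e, rfl⟩ := bc_surjective B hq m
    have : (LinearMap.quotKerEquivOfSurjective (q.baseChange B) (bc_surjective B hq)).symm
        (q.baseChange B e) = Submodule.Quotient.mk e := by
      rw [LinearEquiv.symm_apply_eq]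
      rfl
    rw [LinearMap.comp_apply, LinearMap.id_apply]
    simp only [s', LinearMap.comp_apply, LinearEquiv.coe_coe, this, Submodule.liftQ_apply]
    change q.baseChange B (ρ.h 0 (ρ.g 0 e)) = _
    rw [ρ.htpy0, map_add, hex'.apply_apply_eq_zero, add_zero]
  haveI : Module.Projective B (B ⊗[R] M) := Module.Projective.of_split s' (q.baseChange B) hs'
  haveI : Module.FinitePresentation R (E.X 0) := Module.finitePresentation_of_projective R _
  haveI : Module.FinitePresentation R M := Module.finitePresentation_of_surjective q hq (by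
    rw [LinearMap.exact_iff.1 hqd]; exact Module.Finite.iff_fg.1 (Module.Finite.range (E.d 0)))
  haveI : Module.Flat R M := Module.Flat.of_flat_tensorProduct R M B
  haveI hMp : Module.Projective R M := Module.Flat.projective_of_finitePresentation
  obtain ⟨sec, hsec⟩ := Module.projective_lifting_property q LinearMap.id hq
  obtain ⟨t, ht⟩ := ρ.gen 0
  obtain ⟨gs, hgs⟩ := hL M (c 0) (fun i => q.baseChange B (ρ.h 0 (t i))) (by
    refine top_le_iff.1 fun m _ => ?_
    obtain ⟨e, rfl⟩ := bc_surjective B hq m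
    have h1 : q.baseChange B e = q.baseChange B (ρ.h 0 (ρ.g 0 e)) := by
      rw [ρ.htpy0, map_add, hex'.apply_apply_eq_zero, add_zero]
    rw [h1]
    have h2 : ρ.g 0 e ∈ Submodule.span B (Set.range t) := by rw [ht]; trivial
    have h3 := Submodule.mem_map_of_mem (f := (q.baseChange B).comp (ρ.h 0)) h2
    rw [Submodule.map_span, ← Set.range_comp] at h3
    exact h3)
  exact ⟨{
    P :=
      { X := fun
          | 0 => M
          | _ + 1 => ModuleCat.of R PUnit
        d := fun _ => 0
        dd := fun _ _ => rfl }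
    f := fun
      | 0 => sec
      | _ + 1 => 0
    comm := fun n x => by
      cases n with
      | zero => exact (map_zero (E.d 0)).trans (map_zero sec).symm
      | succ n => exact map_zero (E.d (n + 1))
    proj := fun
      | 0 => hMp
      | _ + 1 => Module.Projective.of_free
    gen := fun
      | 0 => ⟨gs, hgs⟩
      | _ + 1 => ⟨fun _ => 0, Subsingleton.elim _ _⟩
    zero := fun n hn => by
      obtain ⟨m, rfl⟩ := Nat.exists_eq_succ_of_ne_zero hn.ne'
      exact inferInstanceAs (Subsingleton PUnit)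
    surj0 := fun e => by
      obtain ⟨e', he'⟩ := (hqd (e - sec (q e))).1 (by
        rw [map_sub, show q (sec (q e)) = q e from LinearMap.congr_fun hsec (q e), sub_self])
      exact ⟨q e, e', by rw [he']; exact add_sub_cancel _ _⟩
    inj0 := fun p e' he => ⟨PUnit.unit, by
      have := congrArg q he
      rw [hqd.apply_apply_eq_zero, show q (sec p) = p from LinearMap.congr_fun hsec p] at this
      exact this.symm⟩
    surj := fun n e he => by
      obtain ⟨e', rfl⟩ := (hex n e).1 he
      exact ⟨0, e', rfl, by simp⟩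
    inj := fun n p e' _ _ => ⟨PUnit.unit, Subsingleton.elim (α := PUnit) _ _⟩ }⟩

/-- locally small chains are globally small -/
theorem exists_res [Module.FaithfullyFlat R B] {L : ℕ} (hL : GenDescends R B L) :
    ∀ (w : ℕ) (E : Ch R) (_ : ∀ n, Module.Finite R (E.X n)) (_ : ∀ n, Module.Projective R (E.X n))
      (c : ℕ → ℕ), (∀ n, w < n → c n = 0) → Retr B E c → Nonempty (Res E w fun n => L * carry L c n) := by
  intro w
  induction w with
  | zero => intro E _ _ c hc ρ; exact res_zero hL E hc ρ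
  | succ w ih =>
    intro E hfin hproj c hc ρ
    classical
    let q : E.X 0 →ₗ[R] E.X 0 ⧸ LinearMap.range (E.d 0) := Submodule.mkQ _
    obtain ⟨t, ht⟩ := ρ.gen 0
    obtain ⟨gs, hgs⟩ := hL (E.X 0 ⧸ LinearMap.range (E.d 0)) (c 0)
      (fun i => q.baseChange B (ρ.h 0 (t i))) (by
        refine top_le_iff.1 fun m _ => ?_
        obtain ⟨e, rfl⟩ := bc_surjective B (Submodule.mkQ_surjective _) m
        have h1 : q.baseChange B e = q.baseChange B (ρ.h 0 (ρ.g 0 e)) := by
          rw [ρ.htpy0, map_add, bc_comp B q,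
            bc_congr B (show q ∘ₗ E.d 0 = 0 from LinearMap.range_le_ker_iff.1 (Submodule.ker_mkQ _).ge)]
          simp
        change q.baseChange B e ∈ _
        rw [h1]
        have h3 := Submodule.mem_map_of_mem (f := (q.baseChange B).comp (ρ.h 0))
          (show ρ.g 0 e ∈ Submodule.span B (Set.range t) by rw [ht]; trivial)
        rw [Submodule.map_span, ← Set.range_comp] at h3
        exact h3)
    choose v hv using fun i => Submodule.mkQ_surjective (LinearMap.range (E.d 0)) (gs i)
    let ψ : (Fin (L * c 0) → R) →ₗ[R] E.X 0 := Fintype.linearCombination R v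
    have hD : Function.Surjective (Dmap ψ) := by
      intro e
      obtain ⟨x, hx⟩ := (Submodule.mem_span_range_iff_exists_fun R).1
        (show q e ∈ Submodule.span R (Set.range gs) by rw [hgs]; trivial)
      have hqe : q (ψ x) = q e := by
        simp only [ψ, Fintype.linearCombination_apply, map_sum, map_smul]
        rw [← hx]
        exact Finset.sum_congr rfl fun i _ => by rw [show q (v i) = gs i from hv i]
      obtain ⟨e', he'⟩ := (Submodule.Quotient.eq _).1 hqe.symm
      exact ⟨(-x, e'), by simp [Dmap, he']⟩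
    obtain ⟨σ, hσ⟩ := Module.projective_lifting_property (Dmap ψ) LinearMap.id hD
    haveI := hfin 1
    haveI := hproj 1
    obtain ⟨res⟩ := ih (nextCh ψ)
      (fun n => match n with
        | 0 => ker_finite ψ σ hσ
        | n + 1 => hfin (n + 2))
      (fun n => match n with
        | 0 => ker_projective ψ σ hσ
        | n + 1 => hproj (n + 2))
      (next L c) (fun n hn => match n, hn with
        | 0, h => absurd h (Nat.not_lt_zero _)
        | n + 1, h => hc (n + 2) (by omega))
      (nextRetr ψ σ hσ ρ rfl)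
    let ι : Ker ψ →ₗ[R] (Fin (L * c 0) → R) × E.X 1 := (Ker ψ).subtype
    have hker : ∀ z : Ker ψ, E.d 0 (ι z).2 = ψ (ι z).1 := fun z => sub_eq_zero.1 (LinearMap.mem_ker.1 z.2)
    let f₀ : res.P.X 0 →ₗ[R] (Fin (L * c 0) → R) × E.X 1 := ι ∘ₗ res.f 0
    have hcomm0 : ∀ x, f₀ (res.P.d 0 x) = (0, E.d 1 (res.f 1 x)) := fun x => by
      change ι (res.f 0 (res.P.d 0 x)) = _
      rw [← res.comm 0 x]
      rfl
    exact ⟨{
      P :=
        { X := fun
            | 0 => ModuleCat.of R (Fin (L * c 0) → R)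
            | n + 1 => res.P.X n
          d := fun
            | 0 => LinearMap.fst R _ _ ∘ₗ f₀
            | n + 1 => res.P.d n
          dd := fun
            | 0, x => congrArg Prod.fst (hcomm0 x)
            | n + 1, x => res.P.dd n x }
      f := fun
        | 0 => ψ
        | 1 => LinearMap.snd R _ _ ∘ₗ f₀
        | n + 2 => res.f (n + 1)
      comm := fun
        | 0, x => hker (res.f 0 x)
        | 1, x => (congrArg Prod.snd (hcomm0 x)).symm
        | n + 2, x => res.comm (n + 1) x
      proj := fun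
        | 0 => inferInstanceAs (Module.Projective R (Fin (L * c 0) → R))
        | n + 1 => res.proj n
      gen := fun
        | 0 => ⟨fun i => Pi.single i 1, by
            refine top_le_iff.1 fun x _ => ?_
            rw [pi_eq_sum_univ' (show Fin (L * c 0) → R from x)]
            exact Submodule.sum_mem _ fun i _ => Submodule.smul_mem _ _ (Submodule.subset_span ⟨i, rfl⟩)⟩
        | n + 1 => by
            obtain ⟨s, hs⟩ := res.gen n
            have e : L * carry L (next L c) n = L * carry L c (n + 1) := by rw [carry_next]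
            exact ⟨s ∘ Fin.cast e.symm, by
              rw [Set.range_comp, show Set.range (Fin.cast e.symm) = Set.univ from
                (finCongr e.symm).surjective.range_eq, Set.image_univ]
              exact hs⟩
      zero := fun n hn => by
        obtain ⟨m, rfl⟩ := Nat.exists_eq_succ_of_ne_zero (Nat.ne_of_gt (lt_of_le_of_lt (Nat.zero_le _) hn))
        exact res.zero m (by omega)
      surj0 := fun e => by
        obtain ⟨⟨x, e'⟩, he⟩ := hD e
        exact ⟨-x, e', by rw [map_neg, neg_add_eq_sub]; exact he⟩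
      inj0 := fun x e' he => by
        let z : Ker ψ := ⟨(x, e'), LinearMap.mem_ker.2 (by simp [Dmap, he])⟩
        obtain ⟨p, e'', hp⟩ := res.surj0 z
        have h : f₀ p + ((0 : Fin (L * c 0) → R), E.d 1 e'') = (x, e') :=
          (map_add ι (res.f 0 p) (d₀ ψ e'')).symm.trans (congrArg ι hp)
        exact ⟨p, (add_zero _).symm.trans (congrArg Prod.fst h)⟩
      surj := fun n e he => match n, e, he with
        | 0, e, he => by
            let z : Ker ψ := ⟨(0, e), LinearMap.mem_ker.2 (by simpa [Dmap] using he)⟩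
            obtain ⟨p, e'', hp⟩ := res.surj0 z
            have h : f₀ p + ((0 : Fin (L * c 0) → R), E.d 1 e'') = (0, e) :=
              (map_add ι (res.f 0 p) (d₀ ψ e'')).symm.trans (congrArg ι hp)
            exact ⟨p, e'', (add_zero _).symm.trans (congrArg Prod.fst h), congrArg Prod.snd h⟩
        | 1, e, he => by
            obtain ⟨p, e'', hp0, hp⟩ := res.surj 0 e (Subtype.ext (by
              change ((0 : Fin (L * c 0) → R), E.d 1 e) = 0
              rw [he]; rfl))
            exact ⟨p, e'', hp0, hp⟩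
        | n + 2, e, he => res.surj (n + 1) e he
      inj := fun n p e' hp he => match n, p, e', hp, he with
        | 0, p, e', hp, he => res.inj0 p e' (Subtype.ext (show ι (res.f 0 p) = (0, E.d 1 e') from
            Prod.ext hp he))
        | n + 1, p, e', hp, he => res.inj n p e' hp he }⟩

end Groth.L12.SizeCore

end
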