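/-
Complexes which locally have bounded size globally have bounded size.
-/
import Groth.Agent.L12.SizeCore
import Groth.Agent.L12.GenBound
import Groth.Agent.L02.PC.Basic
import Groth.Agent.L28.HomElt
import Mathlib.Algebra.Homology.Embedding.StupidTrunc
import Mathlib.RingTheory.Flat.FaithfullyFlat.Algebra

/-!
# Local size bounds global size
-/

set_option autoImplicit false
set_option linter.style.haveILetI false

universe u

noncomputable section

open CategoryTheory CategoryTheory.Limits AlgebraicGeometry TensorProduct W4c5algebraiztannaka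

attribute [local instance] HasDerivedCategory.standard

namespace Groth.L12.SizeBound

open Groth.L12.SizeCore

section descends

/-- spanning of a base change gives generators modulo an ideal over which there is a point -/
theorem exists_gen_mod {R B : Type u} [CommRing R] [CommRing B] [Algebra R B] {M : Type u} [AddCommGroup M]
    [Module R M] {k : ℕ} (t : Fin k → B ⊗[R] M) (ht : Submodule.span B (Set.range t) = ⊤) (J : Ideal R)
    (ρ : B →ₐ[R] R ⧸ J) :
    ∃ t' : Fin k → M, Submodule.span R (Set.range t') ⊔ J • (⊤ : Submodule R M) = ⊤ := by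
  let Φ : B ⊗[R] M →ₗ[R] M ⧸ (J • ⊤ : Submodule R M) :=
    (TensorProduct.quotTensorEquivQuotSMul M J).toLinearMap ∘ₗ LinearMap.rTensor M ρ.toLinearMap
  have hΦ : ∀ (b : B) (r : R), ρ b = Ideal.Quotient.mk J r → ∀ z, Φ (b • z) = r • Φ z := by
    intro b r hr z
    induction z using TensorProduct.induction_on with
    | zero => simp
    | tmul x m =>
      have h1 : ρ (b * x) = r • ρ x := by
        rw [map_mul, hr, Algebra.smul_def]
        rfl
      simp only [Φ, LinearMap.comp_apply, TensorProduct.smul_tmul', smul_eq_mul, LinearMap.rTensor_tmul,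
        AlgHom.toLinearMap_apply]
      rw [h1, ← TensorProduct.smul_tmul', map_smul]
    | add x y hx hy => rw [smul_add, map_add, map_add, hx, hy, smul_add]
  choose t' ht' using fun i => Submodule.mkQ_surjective (J • ⊤ : Submodule R M) (Φ (t i))
  refine ⟨t', top_le_iff.1 fun m _ => ?_⟩
  have key : ∀ z ∈ Submodule.span B (Set.range t),
      Φ z ∈ (Submodule.span R (Set.range t')).map (Submodule.mkQ (J • ⊤ : Submodule R M)) := by
    intro z hz
    induction hz using Submodule.span_induction with
    | mem x hx =>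
      obtain ⟨i, rfl⟩ := hx
      exact ⟨t' i, Submodule.subset_span ⟨i, rfl⟩, ht' i⟩
    | zero => rw [map_zero]; exact zero_mem _
    | add x y _ _ hx hy => rw [map_add]; exact add_mem hx hy
    | smul b x _ hx =>
      obtain ⟨r, hr⟩ := Ideal.Quotient.mk_surjective (ρ b)
      rw [hΦ b r hr.symm]
      exact Submodule.smul_mem _ _ hx
  obtain ⟨m', hm', he⟩ := key ((1 : B) ⊗ₜ[R] m) (by rw [ht]; trivial)
  have h1 : Φ ((1 : B) ⊗ₜ[R] m) = Submodule.Quotient.mk m := by
    simp only [Φ, LinearMap.comp_apply, LinearMap.rTensor_tmul, AlgHom.toLinearMap_apply, map_one]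
    exact (TensorProduct.quotTensorEquivQuotSMul_mk_tmul J 1 m).trans (by rw [one_smul])
  rw [h1, Submodule.mkQ_apply, Submodule.Quotient.eq] at he
  exact Submodule.mem_sup.2 ⟨m', hm', m - m', by rw [← neg_sub]; exact neg_mem he, add_sub_cancel _ _⟩

variable {R B : Type u} [CommRing R] [CommRing B] [Algebra R B] {L : ℕ}
  (hB : IsNisCoverLen (Spec.map (CommRingCat.ofHom (algebraMap R B))) L)

include hB

theorem genDescends : GenDescends R B L := by
  intro M _ _ _ k t ht
  suffices h : GenBound.Killed M k (Set.univ : Set (PrimeSpectrum R)) L by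
    obtain ⟨s, hs⟩ := GenBound.killed_univ h
    refine ⟨fun i => s (Fin.cast (Nat.mul_comm L k) i), ?_⟩
    rw [← hs]
    exact congrArg _ ((finCongr (Nat.mul_comm L k)).surjective.range_comp s)
  suffices ∀ {A : Set (Spec (CommRingCat.of R) : Scheme.{u})} {n : ℕ},
      NisCover.Chain (Spec.map (CommRingCat.ofHom (algebraMap R B))) A n → GenBound.Killed M k (R := R) A n from
    this (NisCover.Chain.of_isNisCoverLen hB)
  intro A n hA
  induction hA with
  | zero => exact GenBound.killed_empty _ k
  | @step A B' n hA hAB h1 h2 h3 ih =>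
    refine GenBound.killed_step ih h1 fun C hC hCW => ?_
    obtain ⟨T, g, s, hg, hr, hs⟩ := h3
    obtain ⟨h, hh⟩ := GenBound.exists_lift_of_range_subset g C hC (by
      rw [show Set.range g = B' \ A from hr]; exact hCW)
    have hcomm : CommRingCat.ofHom (algebraMap R B) ≫ Spec.preimage (h ≫ s) =
        CommRingCat.ofHom (Ideal.Quotient.mk (PrimeSpectrum.vanishingIdeal C)) := by
      refine Spec.map_injective ?_
      rw [Spec.map_comp, Spec.map_preimage, Category.assoc, hs, hh]
    exact exists_gen_mod t ht _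
      ⟨(Spec.preimage (h ≫ s)).hom, fun r => RingHom.congr_fun (congrArg CommRingCat.Hom.hom hcomm) r⟩

theorem faithfullyFlat : Module.FaithfullyFlat R B := by
  haveI := hB.etale
  have hfl : Flat (Spec.map (CommRingCat.ofHom (algebraMap R B))) := inferInstance
  haveI : Module.Flat R B := RingHom.flat_algebraMap_iff.1 (Flat.SpecMap_iff.1 hfl)
  refine Module.FaithfullyFlat.of_comap_surjective fun y => ?_
  suffices ∀ {A : Set (Spec (CommRingCat.of R) : Scheme.{u})} {n : ℕ},
      NisCover.Chain (Spec.map (CommRingCat.ofHom (algebraMap R B))) A n →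
        A ⊆ Set.range (Spec.map (CommRingCat.ofHom (algebraMap R B))) from
    this (NisCover.Chain.of_isNisCoverLen hB) (Set.mem_univ y)
  intro A n hA
  induction hA with
  | zero => exact Set.empty_subset _
  | @step A B' n hA hAB h1 h2 h3 ih =>
    obtain ⟨T, g, s, hg, hr, hs⟩ := h3
    intro z hz
    by_cases hzA : z ∈ A
    · exact ih hzA
    · obtain ⟨x, hx⟩ : z ∈ Set.range g := by rw [show Set.range g = B' \ A from hr]; exact ⟨hz, hzA⟩
      exact ⟨s x, by rw [← hx, ← hs, Scheme.Hom.comp_apply]⟩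

end descends

section retr

variable {R B : Type u} [CommRing R] [CommRing B] (φ : R →+* B)

/-- extension of scalars as a tensor product -/
def bce (M : ModuleCat.{u} R) :
    letI := φ.toAlgebra
    ((ModuleCat.extendScalars.{u, u, u} φ).obj M) ≃ₗ[B] B ⊗[R] M :=
  letI := φ.toAlgebra
  LinearEquiv.refl B _

lemma bce_map {M N : ModuleCat.{u} R} (f : M ⟶ N) (x : (ModuleCat.extendScalars.{u, u, u} φ).obj M) :
    letI := φ.toAlgebra
    bce φ N ((ModuleCat.extendScalars.{u, u, u} φ).map f x) = f.hom.baseChange B (bce φ M x) := by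
  letI := φ.toAlgebra
  have h : ∀ z : B ⊗[R] M, bce φ N ((ModuleCat.extendScalars.{u, u, u} φ).map f ((bce φ M).symm z)) =
      f.hom.baseChange B z := by
    intro z
    induction z using TensorProduct.induction_on with
    | zero => simp only [map_zero]
    | tmul a m => rfl
    | add x y hx hy => simp only [map_add, hx, hy]
  simpa using h (bce φ M x)

/-- equal maps in the derived category are homotopic -/
lemma exists_homotopy {A : Type u} [CommRing A] {P K : DRing.Cx A} [P.IsKProjective] (f₁ f₂ : P ⟶ K)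
    (h : DerivedCategory.Q.map f₁ = DerivedCategory.Q.map f₂) : Nonempty (Homotopy f₁ f₂) := by
  refine ⟨HomotopyCategory.homotopyOfEq f₁ f₂ ((CochainComplex.IsKProjective.Qh_map_bijective P _).injective ?_)⟩
  have h1 := (DerivedCategory.quotientCompQhIso (ModuleCat.{u} A)).hom.naturality f₁
  have h2 := (DerivedCategory.quotientCompQhIso (ModuleCat.{u} A)).hom.naturality f₂
  simp only [Functor.comp_map] at h1 h2
  exact (cancel_mono ((DerivedCategory.quotientCompQhIso (ModuleCat.{u} A)).hom.app K)).1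
    (h1.trans (Eq.trans (congrArg (fun z => _ ≫ z) h) h2.symm))

/-- the chain of a complex below `M` -/
def chainOf (E : DRing.Cx R) (M : ℤ) : Ch R where
  X n := E.X (M - n)
  d n := (E.d (M - (n + 1 : ℕ)) (M - n)).hom
  dd n x := ConcreteCategory.congr_hom (E.d_comp_d (M - (n + 1 + 1 : ℕ)) (M - (n + 1 : ℕ)) (M - n)) x

theorem exists_retr (E : DRing.Cx R) (a b : ℤ) (hE : DRing.VanishesOutside E a b)
    (hEp : DRing.TermwiseFiniteProjective E) (N : ℕ) (P : DRing.Cx B) (hP : TermsOfSize P N)
    (i : DRing.toD P ≅ DRing.toD ((bcCx φ).obj E)) (M : ℤ) (hM : b ≤ M) (c : ℕ → ℕ)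
    (hc : ∀ n, c n = if -(N : ℤ) ≤ M - n ∧ M - n ≤ N then N else 0) :
    letI := φ.toAlgebra
    Nonempty (Retr B (chainOf E M) c) := by
  letI := φ.toAlgebra
  haveI : P.IsKProjective :=
    Groth.L02.PC.isKProjective_of_vanishesAbove (b := (N : ℤ)) (fun j hj => hP.1 j (Or.inr hj)) fun j => (hP.2 j).1
  haveI : ((bcCx φ).obj E).IsKProjective :=
    Groth.L02.PC.isKProjective_of_vanishesAbove (b := b)
      (fun j hj => (ModuleCat.extendScalars.{u, u, u} φ).map_isZero (hE j (Or.inr hj))) fun j => by
        haveI := (hEp j).2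
        exact Module.Projective.of_equiv (bce φ (E.X j)).symm
  obtain ⟨h, hh⟩ := Groth.L02.PC.exists_chainMap i.hom
  obtain ⟨g, hg⟩ := Groth.L02.PC.exists_chainMap i.inv
  obtain ⟨ho⟩ := exists_homotopy (g ≫ h) (𝟙 _) (by
    rw [Functor.map_comp, hg, hh, i.inv_hom_id, CategoryTheory.Functor.map_id])
  let k : ℕ → ℤ := fun n => M - n
  refine ⟨{
    Q := fun n => P.X (k n)
    δ := fun n => (P.d (k (n + 1)) (k n)).hom
    gen := fun n => ?_
    g := fun n => (g.f (k n)).hom ∘ₗ (bce φ (E.X (k n))).symm.toLinearMap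
    h := fun n => (bce φ (E.X (k n))).toLinearMap ∘ₗ (h.f (k n)).hom
    H := fun n => (bce φ (E.X (k (n + 1)))).toLinearMap ∘ₗ (ho.hom (k n) (k (n + 1))).hom ∘ₗ
      (bce φ (E.X (k n))).symm.toLinearMap
    g_d := fun n x => ?_
    h_d := fun n q => ?_
    htpy0 := fun x => ?_
    htpy := fun n x => ?_ }⟩
  · by_cases hn : -(N : ℤ) ≤ M - n ∧ M - n ≤ N
    · rw [hc, if_pos hn]
      obtain ⟨f, hf⟩ := (hP.2 (k n)).2
      refine ⟨fun l => f (Pi.single l 1), top_le_iff.1 fun y _ => ?_⟩
      obtain ⟨v, rfl⟩ := hf y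
      rw [pi_eq_sum_univ' v, map_sum]
      exact Submodule.sum_mem _ fun l _ => by
        rw [map_smul]; exact Submodule.smul_mem _ _ (Submodule.subset_span ⟨l, rfl⟩)
    · rw [hc, if_neg hn]
      haveI : Subsingleton (P.X (k n)) :=
        ModuleCat.subsingleton_of_isZero (hP.1 (k n) (by simp only [k]; omega))
      exact ⟨fun l => 0, Subsingleton.elim _ _⟩
  · obtain ⟨y, rfl⟩ := (bce φ (E.X (k (n + 1)))).surjective x
    change P.d _ _ (g.f _ ((bce φ _).symm (bce φ _ y))) = g.f _ ((bce φ _).symm ((E.d (k (n + 1)) (k n)).hom.baseChange B (bce φ _ y)))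
    rw [← bce_map, LinearEquiv.symm_apply_apply, LinearEquiv.symm_apply_apply]
    exact ConcreteCategory.congr_hom (g.comm (k (n + 1)) (k n)) y
  · change (E.d (k (n + 1)) (k n)).hom.baseChange B (bce φ _ (h.f _ q)) = bce φ _ (h.f _ (P.d _ _ q))
    rw [← bce_map]
    exact congrArg (bce φ _) (ConcreteCategory.congr_hom (h.comm (k (n + 1)) (k n)) q)
  · obtain ⟨y, rfl⟩ := (bce φ (E.X (k 0))).surjective x
    change bce φ _ (h.f _ (g.f _ ((bce φ _).symm (bce φ _ y)))) =
      bce φ _ y + (E.d (k 1) (k 0)).hom.baseChange B (bce φ _ (ho.hom (k 0) (k 1) ((bce φ _).symm (bce φ _ y))))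
    rw [← bce_map, LinearEquiv.symm_apply_apply, ← map_add]
    refine congrArg (bce φ _) ?_
    have h0 := ho.comm (k 0)
    have hz : IsZero (((bcCx φ).obj E).X (k 0 + 1)) :=
      (ModuleCat.extendScalars.{u, u, u} φ).map_isZero (hE (k 0 + 1) (Or.inr (by simp only [k]; omega)))
    rw [dNext_eq ho.hom (show (ComplexShape.up ℤ).Rel (k 0) (k 0 + 1) from rfl),
      prevD_eq ho.hom (show (ComplexShape.up ℤ).Rel (k 1) (k 0) by change k 1 + 1 = k 0; simp only [k]; omega),
      hz.eq_of_tgt (((bcCx φ).obj E).d (k 0) (k 0 + 1)) 0, zero_comp, zero_add, add_comm] at h0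
    exact ConcreteCategory.congr_hom h0 y
  · obtain ⟨y, rfl⟩ := (bce φ (E.X (k (n + 1)))).surjective x
    change bce φ _ (h.f _ (g.f _ ((bce φ _).symm (bce φ _ y)))) =
      bce φ _ y + (E.d (k (n + 1 + 1)) (k (n + 1))).hom.baseChange B
          (bce φ _ (ho.hom (k (n + 1)) (k (n + 1 + 1)) ((bce φ _).symm (bce φ _ y)))) +
        bce φ _ (ho.hom (k n) (k (n + 1)) ((bce φ _).symm ((E.d (k (n + 1)) (k n)).hom.baseChange B (bce φ _ y))))
    rw [← bce_map, ← bce_map, LinearEquiv.symm_apply_apply, LinearEquiv.symm_apply_apply, ← map_add, ← map_add]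
    refine congrArg (bce φ _) ?_
    have h0 := ho.comm (k (n + 1))
    rw [dNext_eq ho.hom (show (ComplexShape.up ℤ).Rel (k (n + 1)) (k n) by
        change k (n + 1) + 1 = k n; simp only [k]; omega),
      prevD_eq ho.hom (show (ComplexShape.up ℤ).Rel (k (n + 1 + 1)) (k (n + 1)) by
        change k (n + 1 + 1) + 1 = k (n + 1); simp only [k]; omega)] at h0
    refine (ConcreteCategory.congr_hom h0 y).trans ?_
    have aux : ∀ a b z : ((bcCx φ).obj E).X (k (n + 1)), a + b + z = z + b + a := fun a b z => by abel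
    exact aux _ _ _

end retr

/-- the bound -/
def bound (N : ℕ) : ℕ := N * (N * (N + 1) ^ (2 * N + 1)) + N

lemma carry_bound (N p : ℕ) (c : ℕ → ℕ) (hcN : ∀ n, c n ≤ N) (hc0 : ∀ n, n < p → c n = 0) :
    ∀ n, (n < p → carry N c n = 0) ∧ carry N c n ≤ N * (N + 1) ^ (n + 1 - p) := by
  intro n
  induction n with
  | zero => exact ⟨hc0 0, (hcN 0).trans (Nat.le_mul_of_pos_right N (pow_pos (Nat.succ_pos N) _))⟩
  | succ n ih =>
    refine ⟨fun h => ?_, ?_⟩
    · change c (n + 1) + N * carry N c n = 0
      simp [hc0 _ h, ih.1 (show n < p by omega)]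
    · change c (n + 1) + N * carry N c n ≤ _
      rcases lt_or_ge n p with hn | hn
      · rw [ih.1 hn, mul_zero, add_zero]
        exact (hcN _).trans (Nat.le_mul_of_pos_right N (pow_pos (Nat.succ_pos N) _))
      · rw [show n + 1 + 1 - p = (n + 1 - p) + 1 by omega, pow_succ]
        have h1 : 1 ≤ (N + 1) ^ (n + 1 - p) := Nat.one_le_pow _ _ (Nat.succ_pos N)
        have h2 := ih.2
        have h3 := hcN (n + 1)
        nlinarith

section iso

variable {R : Type u} [CommRing R]

/-- a complex vanishing above `M` is its truncation -/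
def truncIso (E : DRing.Cx R) (M : ℤ) (hE : ∀ i, M < i → IsZero (E.X i)) :
    E.stupidTrunc (ComplexShape.embeddingUpIntLE M) ≅ E :=
  HomologicalComplex.Hom.isoOfComponents
    (fun i =>
      if h : i ≤ M then E.stupidTruncXIso (ComplexShape.embeddingUpIntLE M) (i := (M - i).toNat)
          (show M - ((M - i).toNat : ℤ) = i by omega)
      else IsZero.iso (E.isZero_stupidTrunc_X _ i fun n (hn : M - (n : ℤ) = i) => by omega) (hE i (by omega)))
    (fun i j hij => by
      change i + 1 = j at hij
      by_cases hj : j ≤ M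
      · rw [dif_pos hj, dif_pos (show i ≤ M by omega)]
        simp only [HomologicalComplex.stupidTrunc, HomologicalComplex.stupidTruncXIso]
        rw [HomologicalComplex.extend_d_eq _ _ (i := (M - i).toNat) (j := (M - j).toNat)
            (show M - ((M - i).toNat : ℤ) = i by omega) (show M - ((M - j).toNat : ℤ) = j by omega),
          HomologicalComplex.restriction_d_eq _ _ (show M - ((M - i).toNat : ℤ) = i by omega)
            (show M - ((M - j).toNat : ℤ) = j by omega)]
        simp [HomologicalComplex.restrictionXIso]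
      · exact (hE j (by omega)).eq_of_tgt _ _)

end iso

/-- local size bounds global size -/
theorem exists_bound : ∃ F : ℕ → ℕ, ∀ (R : Type u) [CommRing R] (E : DRing.Cx R) (a b : ℤ),
    DRing.VanishesOutside E a b → DRing.TermwiseFiniteProjective E →
    ∀ N : ℕ, LocSize E N → GlobSize R (DRing.toD E) (F N) := by
  refine ⟨bound, fun R _ E a b hE hEp N hloc => ?_⟩
  obtain ⟨B, _, φ, hB, P, hP, ⟨i⟩⟩ := hloc
  letI := φ.toAlgebra
  haveI : Module.FaithfullyFlat R B := faithfullyFlat hB
  set M : ℤ := max b N with hMdef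
  have hMb : b ≤ M := le_max_left _ _
  have hMN : (N : ℤ) ≤ M := le_max_right _ _
  set p : ℕ := (M - N).toNat with hp
  have hpM : (p : ℤ) = M - N := Int.toNat_of_nonneg (by omega)
  let c : ℕ → ℕ := fun n => if -(N : ℤ) ≤ M - n ∧ M - n ≤ N then N else 0
  obtain ⟨ρ⟩ := exists_retr φ E a b hE hEp N P hP i M hMb c fun n => rfl
  obtain ⟨res⟩ := exists_res (genDescends hB) (p + 2 * N) (chainOf E M) (fun n => (hEp _).1)
    (fun n => (hEp _).2) c (fun n hn => if_neg (by omega)) ρ
  have hc0 : ∀ n, n < p → c n = 0 := fun n hn => if_neg (by omega)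
  have hcN : ∀ n, c n ≤ N := fun n => by
    simp only [c]
    split_ifs <;> omega
  let e := ComplexShape.embeddingUpIntLE M
  let Pc : ChainComplex (ModuleCat.{u} R) ℕ :=
    ChainComplex.of (fun n => res.P.X n) (fun n => ModuleCat.ofHom (res.P.d n))
      fun n => ModuleCat.hom_ext (LinearMap.ext fun x => res.P.dd n x)
  have hPd : ∀ n (x : res.P.X (n + 1)), Pc.d (n + 1) n x = res.P.d n x := fun n x => by
    change (ChainComplex.of.d (fun n => res.P.X n) (fun n => ModuleCat.ofHom (res.P.d n)) (n + 1) n) x = _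
    rw [ChainComplex.of_d]
    rfl
  let fc : Pc ⟶ E.restriction e :=
    ChainComplex.ofHom (fun n => ModuleCat.ofHom (res.f n)) fun n => ModuleCat.hom_ext (LinearMap.ext fun x => by
      change E.d (M - (n + 1 : ℕ)) (M - n) (res.f (n + 1) x) = res.f n (Pc.d (n + 1) n x)
      rw [hPd]
      exact res.comm n x)
  haveI : QuasiIso fc := by
    refine Groth.L28.HomElt.quasiIso_of_bijective fc fun j => ?_
    rcases j with _ | j
    · refine ⟨(Groth.L28.HomElt.injective_homologyMap_iff fc (ChainComplex.prev ℕ 0)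
        ChainComplex.next_nat_zero).2 fun x w _ hx => ?_,
        (Groth.L28.HomElt.surjective_homologyMap_iff fc (ChainComplex.prev ℕ 0)
        ChainComplex.next_nat_zero).2 fun y _ => ?_⟩
      · obtain ⟨x', hx'⟩ := res.inj0 x w hx
        exact ⟨x', (hPd 0 x').trans hx'⟩
      · obtain ⟨x, w, hxw⟩ := res.surj0 y
        exact ⟨x, w, by rw [Pc.shape 0 0 (by simp)]; rfl, hxw⟩
    · refine ⟨(Groth.L28.HomElt.injective_homologyMap_iff fc (ChainComplex.prev ℕ (j + 1))
        (ChainComplex.next_nat_succ j)).2 fun x w hx he => ?_,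
        (Groth.L28.HomElt.surjective_homologyMap_iff fc (ChainComplex.prev ℕ (j + 1))
        (ChainComplex.next_nat_succ j)).2 fun y hy => ?_⟩
      · obtain ⟨x', hx'⟩ := res.inj j x w ((hPd j x).symm.trans hx) he
        exact ⟨x', (hPd (j + 1) x').trans hx'⟩
      · obtain ⟨x, w, hx, hxw⟩ := res.surj j y hy
        exact ⟨x, w, (hPd j x).trans hx, hxw⟩
  let q : Pc.extend e ⟶ E :=
    HomologicalComplex.extendMap fc e ≫ (truncIso E M fun j hj => hE j (Or.inr (lt_of_le_of_lt hMb hj))).hom
  haveI : QuasiIso (HomologicalComplex.extendMap fc e) := (HomologicalComplex.quasiIso_extendMap_iff fc e).2 ‹_›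
  haveI : QuasiIso q := quasiIso_comp _ _
  have hzero : ∀ n, n < p ∨ p + 2 * N < n → Subsingleton (res.P.X n) := by
    rintro n (hn | hn)
    · obtain ⟨s, hs⟩ := res.gen n
      haveI : IsEmpty (Fin (N * carry N c n)) := by
        rw [(carry_bound N p c hcN hc0 n).1 hn, mul_zero]; infer_instance
      rw [Set.range_eq_empty s, Submodule.span_empty] at hs
      exact (Submodule.subsingleton_iff R).1 (subsingleton_of_bot_eq_top hs)
    · exact res.zero n hn
  refine ⟨Pc.extend e, ⟨fun j hj => ?_, fun j => ?_⟩, ⟨asIso (DerivedCategory.Q.map q)⟩⟩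
  · by_cases hj' : ∃ n : ℕ, e.f n = j
    · obtain ⟨n, rfl⟩ := hj'
      have hn : n < p ∨ p + 2 * N < n := by
        have hb : N ≤ bound N := Nat.le_add_left _ _
        change M - (n : ℤ) < _ ∨ _ < M - (n : ℤ) at hj
        omega
      haveI := hzero n hn
      exact (ModuleCat.isZero_of_subsingleton (res.P.X n)).of_iso (Pc.extendXIso e rfl)
    · exact Pc.isZero_extend_X e j fun n hn => hj' ⟨n, hn⟩
  · by_cases hj' : ∃ n : ℕ, e.f n = j
    · obtain ⟨n, rfl⟩ := hj'
      let l : res.P.X n ≃ₗ[R] (Pc.extend e).X (e.f n) := (Pc.extendXIso e rfl).toLinearEquiv.symm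
      haveI := res.proj n
      refine ⟨Module.Projective.of_equiv l, ?_⟩
      by_cases hn : n < p ∨ p + 2 * N < n
      · haveI := hzero n hn
        exact ⟨0, fun y => ⟨0, l.symm.injective (Subsingleton.elim _ _)⟩⟩
      obtain ⟨s, hs⟩ := res.gen n
      have hle : N * carry N c n ≤ bound N := by
        refine le_trans ?_ (Nat.le_add_right _ _)
        refine Nat.mul_le_mul_left N (((carry_bound N p c hcN hc0 n).2).trans ?_)
        exact Nat.mul_le_mul_left N (Nat.pow_le_pow_right (Nat.succ_pos N) (by omega))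
      refine ⟨l.toLinearMap ∘ₗ Fintype.linearCombination R s ∘ₗ LinearMap.funLeft R R (Fin.castLE hle), ?_⟩
      have hs' : Function.Surjective (Fintype.linearCombination R s) := by
        rw [← LinearMap.range_eq_top, Fintype.range_linearCombination]
        exact hs
      exact l.surjective.comp (hs'.comp
        (LinearMap.funLeft_surjective_of_injective R R (Fin.castLE hle) (Fin.castLE_injective hle)))
    · haveI := ModuleCat.subsingleton_of_isZero (Pc.isZero_extend_X e j fun n hn => hj' ⟨n, hn⟩)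
      exact ⟨inferInstance, 0, fun y => ⟨0, Subsingleton.elim _ _⟩⟩

end Groth.L12.SizeBound

end
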