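import Mathlib.Algebra.DirectSum.Module
import Mathlib.Algebra.DirectSum.Decomposition
import Mathlib.RingTheory.Finiteness.Basic
import Mathlib.RingTheory.Nilpotent.Basic
import Mathlib.LinearAlgebra.Pi
import Mathlib.Tactic

/-!
Direct summands of split filtrations are split.
-/

universe u v w

namespace Groth.L12.SplitFilt

open scoped DirectSum

variable {Γ : Type w} [LinearOrder Γ] {R : Type u} [CommRing R] {M : Type v} [AddCommGroup M] [Module R M]
  (G : Γ → Submodule R M)

lemma mem_biSup_iff [DirectSum.Decomposition G] (s : Set Γ) (x : M) :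
    x ∈ (⨆ η ∈ s, G η) ↔ ∀ η ∉ s, (DirectSum.decompose G x η : M) = 0 := by
  classical
  constructor
  · intro hx η hη
    induction hx using Submodule.iSup_induction' with
    | mem i y hy =>
      by_cases hi : i ∈ s
      · rw [iSup_pos hi] at hy
        exact DirectSum.decompose_of_mem_ne G hy (fun h => hη (h ▸ hi))
      · rw [iSup_neg hi, Submodule.mem_bot] at hy
        simp [hy]
    | zero => simp
    | add a b _ _ ha hb => rw [DirectSum.decompose_add, DirectSum.add_apply, Submodule.coe_add, ha, hb, add_zero]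
  · intro h
    rw [← DirectSum.sum_support_decompose G x]
    refine Submodule.sum_mem _ fun i _ => ?_
    by_cases hi : i ∈ s
    · exact Submodule.mem_iSup_of_mem i (Submodule.mem_iSup_of_mem hi (SetLike.coe_mem _))
    · rw [h i hi]; exact zero_mem _

theorem split_of_retract [Module.Finite R M] {N : Type v} [AddCommGroup N] [Module R N]
    (hG : DirectSum.IsInternal G) (F : Γ → Submodule R M) (hF : ∀ γ, F γ = ⨆ η ∈ Set.Ici γ, G η)
    (i : N →ₗ[R] M) (p : M →ₗ[R] N) (hpi : p ∘ₗ i = LinearMap.id)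
    (F' : Γ → Submodule R N) (hi : ∀ γ, F' γ ≤ (F γ).comap i) (hp : ∀ γ, F γ ≤ (F' γ).comap p) :
    ∃ G' : Γ → Submodule R N, DirectSum.IsInternal G' ∧ ∀ γ, F' γ = ⨆ η ∈ Set.Ici γ, G' η := by
  classical
  letI D := hG.chooseDecomposition
  -- finitely many weights
  obtain ⟨T, hT⟩ := (Module.Finite.fg_top : (⊤ : Submodule R M).FG)
  let S : Finset Γ := T.biUnion fun t => (DirectSum.decompose G t).support
  have hS : ∀ γ ∉ S, ∀ x : M, (DirectSum.decompose G x γ : M) = 0 := by
    intro γ hγ x
    have hx : x ∈ Submodule.span R (T : Set M) := hT ▸ Submodule.mem_top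
    induction hx using Submodule.span_induction with
    | mem t ht =>
      have : γ ∉ (DirectSum.decompose G t).support := fun h => hγ (Finset.mem_biUnion.mpr ⟨t, ht, h⟩)
      rw [DFinsupp.notMem_support_iff] at this
      rw [this]; rfl
    | zero => simp
    | add a b _ _ ha hb => simp [DirectSum.decompose_add, ha, hb]
    | smul r a _ ha => simp [DirectSum.decompose_smul, DirectSum.smul_apply, ha]
  let π : Γ → M →ₗ[R] M := fun γ =>
    (G γ).subtype ∘ₗ DirectSum.component R Γ (fun γ => G γ) γ ∘ₗ (DirectSum.decomposeLinearEquiv G).toLinearMap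
  have hπ : ∀ γ x, π γ x = (DirectSum.decompose G x γ : M) := fun γ x => rfl
  have hπmem : ∀ γ x, π γ x ∈ G γ := fun γ x => SetLike.coe_mem _
  have hπsame : ∀ γ x, x ∈ G γ → π γ x = x := fun γ x hx => DirectSum.decompose_of_mem_same G hx
  have hπne : ∀ γ η x, x ∈ G γ → γ ≠ η → π η x = 0 := fun γ η x hx h => DirectSum.decompose_of_mem_ne G hx h
  have hsum : ∀ x, ∑ γ ∈ S, π γ x = x := by
    intro x
    conv_rhs => rw [← DirectSum.sum_support_decompose G x]
    refine (Finset.sum_subset (fun γ hγ => ?_) (fun γ _ hγ => ?_)).symm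
    · by_contra h
      exact (DFinsupp.mem_support_iff.mp hγ) (Subtype.ext (hS γ h x))
    · rw [DFinsupp.notMem_support_iff] at hγ
      rw [hπ, hγ]; rfl
  let K : Γ → Submodule R M := fun γ => ⨆ η ∈ Set.Ioi γ, G η
  have hGF : ∀ {γ η : Γ}, γ ≤ η → G η ≤ F γ := fun {γ η} h => by
    rw [hF]; exact le_iSup₂_of_le η (Set.mem_Ici.mpr h) le_rfl
  have hFK : ∀ {γ η : Γ}, γ < η → F η ≤ K γ := fun {γ η} h => by
    rw [hF]; exact iSup₂_le fun ζ hζ => le_iSup₂_of_le ζ (lt_of_lt_of_le h hζ) le_rfl
  -- the idempotent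
  let e : Module.End R M := i ∘ₗ p
  have hpix : ∀ n, p (i n) = n := fun n => LinearMap.congr_fun hpi n
  have he : ∀ x, e (e x) = e x := fun x => by simp [e, hpix]
  have heF : ∀ γ, F γ ≤ (F γ).comap e := fun γ x hx => hi γ (hp γ hx)
  have heK : ∀ γ, K γ ≤ (K γ).comap e := fun γ => iSup₂_le fun η hη x hx => hFK hη (heF η (hGF le_rfl hx))
  have hsplit : ∀ γ x, x ∈ F γ → x - π γ x ∈ K γ := by
    intro γ x hx
    rw [hF, mem_biSup_iff] at hx
    rw [mem_biSup_iff]
    intro η hη
    rw [← hπ, map_sub]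
    rcases eq_or_ne γ η with rfl | hne
    · rw [hπsame γ _ (hπmem γ x), sub_self]
    · rw [hπne γ η _ (hπmem γ x) hne, sub_zero, hπ]
      exact hx η (fun h => hη (lt_of_le_of_ne (Set.mem_Ici.mp h) hne))
  have hKπ : ∀ γ x, x ∈ K γ → π γ x = 0 := fun γ x hx =>
    (mem_biSup_iff G _ x).mp hx γ (by simp)
  let e₀ : Module.End R M := ∑ γ ∈ S, π γ ∘ₗ e ∘ₗ π γ
  have he₀G : ∀ γ x, x ∈ G γ → e₀ x = π γ (e x) := by
    intro γ x hx
    simp only [e₀, LinearMap.coe_sum, Finset.sum_apply, LinearMap.coe_comp, Function.comp_apply]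
    rw [Finset.sum_eq_single γ]
    · rw [hπsame γ x hx]
    · intro η _ hη; rw [hπne γ η x hx hη.symm, map_zero, map_zero]
    · intro hγ
      have : x = 0 := by rw [← hπsame γ x hx, hπ, hS γ hγ x]
      simp [this]
  have he₀ : ∀ x, e₀ (e₀ x) = e₀ x := by
    intro x
    rw [← hsum x]
    simp only [map_sum]
    refine Finset.sum_congr rfl fun γ _ => ?_
    set g := π γ x
    have hg : g ∈ G γ := hπmem γ x
    rw [he₀G γ g hg, he₀G γ _ (hπmem γ _)]
    have hk : e g - π γ (e g) ∈ K γ := hsplit γ _ (heF γ (hGF le_rfl hg))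
    have h0 := hKπ γ _ (heK γ hk)
    rw [map_sub, map_sub, he, sub_eq_zero] at h0
    exact h0.symm
  -- endomorphisms preserving the filtration
  let P : Subalgebra R (Module.End R M) :=
    { carrier := {f | ∀ γ, F γ ≤ (F γ).comap f}
      mul_mem' := fun {f g} hf hg γ x hx => hf γ (hg γ hx)
      add_mem' := fun {f g} hf hg γ x hx => (add_mem (hf γ hx) (hg γ hx) : f x + g x ∈ F γ)
      algebraMap_mem' := fun r γ x hx => Submodule.smul_mem _ r hx }
  have heP : e ∈ P := heF
  have he₀P : e₀ ∈ P := by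
    intro γ x hx
    rw [hF, mem_biSup_iff] at hx
    rw [Submodule.mem_comap, ← hsum x, map_sum]
    refine Submodule.sum_mem _ fun η _ => ?_
    rw [he₀G η _ (hπmem η x)]
    by_cases hη : γ ≤ η
    · exact hGF hη (hπmem η _)
    · have : π η x = 0 := hx η hη
      simp [this]
  let v : Module.End R M := (e - e₀) * e₀ + e * (e₀ - e)
  -- strictly increasing maps
  have hvK : ∀ γ x, x ∈ G γ → v x ∈ K γ := by
    intro γ x hx
    have hd : ∀ η y, y ∈ G η → (e - e₀) y ∈ K η := fun η y hy => by
      rw [LinearMap.sub_apply, he₀G η y hy]; exact hsplit η _ (heF η (hGF le_rfl hy))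
    simp only [v, LinearMap.add_apply, Module.End.mul_apply]
    refine add_mem ?_ ?_
    · rw [he₀G γ x hx]; exact hd γ _ (hπmem γ _)
    · have h : -(e ((e - e₀) x)) ∈ K γ := neg_mem (heK γ (hd γ x hx))
      rw [LinearMap.sub_apply, map_sub, neg_sub] at h
      rw [LinearMap.sub_apply, map_sub]
      exact h
  have hv : IsNilpotent v := by
    refine ⟨S.card + 1, LinearMap.ext fun x => ?_⟩
    let c : Γ → ℕ := fun η => (S.filter (· < η)).card
    have key : ∀ n, (v ^ n) x ∈ ⨆ η ∈ {η : Γ | n ≤ c η}, G η := by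
      intro n
      induction n with
      | zero => rw [mem_biSup_iff]; intro η hη; exact absurd (Nat.zero_le _) hη
      | succ n ih =>
        rw [pow_succ', Module.End.mul_apply]
        rw [mem_biSup_iff] at ih
        conv => congr; · skip
                rw [← hsum ((v ^ n) x), map_sum]
        refine Submodule.sum_mem _ fun γ hγ => ?_
        by_cases hc : n ≤ c γ
        · have hle : K γ ≤ ⨆ η ∈ {η : Γ | n + 1 ≤ c η}, G η := iSup₂_le fun η hη => by
            have : c γ < c η := by
              refine Finset.card_lt_card ⟨fun z hz => ?_, fun h => ?_⟩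
              · rw [Finset.mem_filter] at hz ⊢; exact ⟨hz.1, hz.2.trans hη⟩
              · exact lt_irrefl γ (Finset.mem_filter.mp (h (Finset.mem_filter.mpr ⟨hγ, hη⟩))).2
            exact le_iSup₂_of_le η (show n + 1 ≤ c η by omega) le_rfl
          exact hle (hvK γ _ (hπmem γ _))
        · have : π γ ((v ^ n) x) = 0 := ih γ hc
          simp [this]
    have h := (mem_biSup_iff G _ _).mp (key (S.card + 1))
    rw [← hsum ((v ^ (S.card + 1)) x)]
    simp only [LinearMap.zero_apply]
    refine Finset.sum_eq_zero fun γ _ => ?_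
    refine h γ (fun hγ => ?_)
    have : c γ ≤ S.card := Finset.card_filter_le _ _
    simp only [Set.mem_setOf_eq] at hγ
    omega
  have hvP : v ∈ P := add_mem (mul_mem (sub_mem heP he₀P) he₀P) (mul_mem heP (sub_mem he₀P heP))
  obtain ⟨U, hU⟩ : IsUnit (1 + (⟨v, hvP⟩ : P)) := IsNilpotent.isUnit_one_add (by
    obtain ⟨n, hn⟩ := hv
    exact ⟨n, Subtype.ext (by simpa using hn)⟩)
  let u : Module.End R M := ((U : P) : Module.End R M)
  let w : Module.End R M := ((↑U⁻¹ : P) : Module.End R M)
  have huw : ∀ x, u (w x) = x := fun x => LinearMap.congr_fun (congrArg Subtype.val U.mul_inv) x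
  have hwu : ∀ x, w (u x) = x := fun x => LinearMap.congr_fun (congrArg Subtype.val U.inv_mul) x
  have huF : ∀ γ x, x ∈ F γ → u x ∈ F γ := fun γ x hx => (U : P).2 γ hx
  have hwF : ∀ γ x, x ∈ F γ → w x ∈ F γ := fun γ x hx => (↑U⁻¹ : P).2 γ hx
  have heu : ∀ x, e (u x) = u (e₀ x) := by
    intro x
    have hu : u = 1 + v := congrArg Subtype.val hU
    have h1 : ∀ y, e (e y) = e y := he
    simp only [hu, v, LinearMap.add_apply, Module.End.one_apply, Module.End.mul_apply, LinearMap.sub_apply,
      map_add, map_sub, h1, he₀]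
    abel
  refine ⟨fun η => ((G η).map u).comap i, ?_, ?_⟩
  swap
  · intro γ
    refine le_antisymm (fun n hn => ?_) (iSup₂_le fun η hη n hn => ?_)
    · have hg : w (i n) ∈ F γ := hwF γ _ (hi γ hn)
      have hfix : e₀ (w (i n)) = w (i n) := by
        rw [← hwu (e₀ _), ← heu, huw]; simp [e, hpix]
      rw [hF, mem_biSup_iff] at hg
      have : n = ∑ η ∈ S, p (u (π η (w (i n)))) := by
        rw [← map_sum, ← map_sum, hsum, huw, hpix]
      rw [this]
      refine Submodule.sum_mem _ fun η _ => ?_
      by_cases hη : η ∈ Set.Ici γ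
      · refine Submodule.mem_iSup_of_mem η (Submodule.mem_iSup_of_mem hη ⟨π η (w (i n)), hπmem η _, ?_⟩)
        change u _ = e (u _)
        rw [heu]
        congr 1
        conv_lhs => rw [← hfix, ← hsum (w (i n))]
        simp only [map_sum]
        rw [Finset.sum_eq_single η]
        · rw [he₀G η _ (hπmem η _), hπsame η _ (hπmem η _)]
        · intro ζ _ hζ; rw [he₀G ζ _ (hπmem ζ _), hπne ζ η _ (hπmem ζ _) hζ]
        · intro hη'
          have h0 : π η (w (i n)) = 0 := hS η hη' _
          simp [h0]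
      · have h0 : π η (w (i n)) = 0 := hg η hη
        simp [h0]
    · obtain ⟨g, hg, hgn⟩ := hn
      rw [← hpix n]
      exact hp γ (hgn ▸ huF γ g (hGF hη hg))
  · rw [DirectSum.isInternal_submodule_iff_iSupIndep_and_iSup_eq_top]
    have huinj : Function.Injective u := Function.LeftInverse.injective hwu
    have hiinj : Function.Injective i := Function.LeftInverse.injective hpix
    refine ⟨?_, ?_⟩
    · intro η
      rw [disjoint_iff_inf_le]
      rintro n ⟨⟨g, hg, hgn⟩, hn2⟩
      have hle : (⨆ j, ⨆ (_ : j ≠ η), ((G j).map u).comap i) ≤ ((⨆ j, ⨆ (_ : j ≠ η), G j).map u).comap i :=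
        iSup₂_le fun j hj => Submodule.comap_mono (Submodule.map_mono (le_iSup₂_of_le j hj le_rfl))
      obtain ⟨g', hg', hgn'⟩ := hle hn2
      have : g' = g := huinj (hgn'.trans hgn.symm)
      have h0 : g = 0 := Submodule.disjoint_def.mp (hG.submodule_iSupIndep η) g hg (this ▸ hg')
      rw [Submodule.mem_bot]
      exact hiinj (by rw [← hgn, h0, map_zero, map_zero])
    · rw [eq_top_iff]
      intro n _
      rcases S.eq_empty_or_nonempty with hS0 | hSne
      · have h0 : i n = 0 := by rw [← hsum (i n), hS0]; rfl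
        rw [← hpix n, h0, map_zero]; exact zero_mem _
      · have hmin : i n ∈ F (S.min' hSne) := by
          rw [hF, mem_biSup_iff]
          intro η hη
          exact hS η (fun h => hη (S.min'_le η h)) _
        have hn : n ∈ F' (S.min' hSne) := hpix n ▸ hp _ hmin
        obtain ⟨g, hg⟩ : ∃ g, g = w (i n) := ⟨_, rfl⟩
        have hfix : e₀ g = g := by
          rw [← hwu (e₀ _), ← heu, hg, huw]; simp [e, hpix]
        have : n = ∑ η ∈ S, p (u (π η g)) := by
          rw [← map_sum, ← map_sum, hsum, hg, huw, hpix]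
        rw [this]
        refine Submodule.sum_mem _ fun η hη' => Submodule.mem_iSup_of_mem η ⟨π η g, hπmem η _, ?_⟩
        change u _ = e (u _)
        rw [heu]
        congr 1
        conv_lhs => rw [← hfix, ← hsum g]
        simp only [map_sum]
        rw [Finset.sum_eq_single η]
        · rw [he₀G η _ (hπmem η _), hπsame η _ (hπmem η _)]
        · intro ζ _ hζ; rw [he₀G ζ _ (hπmem ζ _), hπne ζ η _ (hπmem ζ _) hζ]
        · exact fun h => absurd hη' h

variable {A : Type v} [Fintype A] {M' : A → Type v} [∀ a, AddCommGroup (M' a)] [∀ a, Module R (M' a)]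

theorem pi_split (G' : ∀ a, Γ → Submodule R (M' a)) (hG : ∀ a, DirectSum.IsInternal (G' a))
    (F : ∀ a, Γ → Submodule R (M' a)) (hF : ∀ a γ, F a γ = ⨆ η ∈ Set.Ici γ, G' a η) :
    ∃ H : Γ → Submodule R (∀ a, M' a), DirectSum.IsInternal H ∧
      ∀ γ, Submodule.pi Set.univ (fun a => F a γ) = ⨆ η ∈ Set.Ici γ, H η := by
  classical
  refine ⟨fun η => Submodule.pi Set.univ (fun a => G' a η), ?_, ?_⟩
  · rw [DirectSum.isInternal_submodule_iff_iSupIndep_and_iSup_eq_top]
    refine ⟨fun η => ?_, ?_⟩
    · rw [Submodule.disjoint_def]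
      intro x hx hx'
      funext a
      refine Submodule.disjoint_def.mp ((hG a).submodule_iSupIndep η) _ (hx a (Set.mem_univ a)) ?_
      have hle : (⨆ j, ⨆ (_ : j ≠ η), Submodule.pi Set.univ (fun a => G' a j)) ≤
          (⨆ j, ⨆ (_ : j ≠ η), G' a j).comap (LinearMap.proj a) :=
        iSup₂_le fun j hj y hy => Submodule.mem_iSup_of_mem j (Submodule.mem_iSup_of_mem hj (hy a (Set.mem_univ a)))
      exact hle hx'
    · rw [eq_top_iff]
      intro x _
      rw [← Finset.univ_sum_single x]
      refine Submodule.sum_mem _ fun a _ => ?_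
      have hxa : x a ∈ ⨆ η, G' a η := by rw [(hG a).submodule_iSup_eq_top]; trivial
      have hle : (⨆ η, G' a η) ≤ (⨆ η, Submodule.pi Set.univ (fun a => G' a η)).comap (LinearMap.single R M' a) :=
        iSup_le fun η y hy => Submodule.mem_iSup_of_mem η fun b _ => by
          rcases eq_or_ne b a with rfl | hb
          · simpa using hy
          · simp [hb]
      exact hle hxa
  · intro γ
    refine le_antisymm (fun x hx => ?_) (iSup₂_le fun η hη y hy a _ => ?_)
    · rw [← Finset.univ_sum_single x]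
      refine Submodule.sum_mem _ fun a _ => ?_
      have hxa : x a ∈ ⨆ η ∈ Set.Ici γ, G' a η := hF a γ ▸ hx a (Set.mem_univ a)
      have hle : (⨆ η ∈ Set.Ici γ, G' a η) ≤
          (⨆ η ∈ Set.Ici γ, Submodule.pi Set.univ (fun a => G' a η)).comap (LinearMap.single R M' a) :=
        iSup₂_le fun η hη y hy => Submodule.mem_iSup_of_mem η (Submodule.mem_iSup_of_mem hη fun b _ => by
          rcases eq_or_ne b a with rfl | hb
          · simpa using hy
          · simp [hb])
      exact hle hxa
    · show y a ∈ F a γ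
      rw [hF a γ]
      exact Submodule.mem_iSup_of_mem η (Submodule.mem_iSup_of_mem hη (hy a (Set.mem_univ a)))

theorem pi_split_iff [∀ a, Module.Finite R (M' a)] (F : ∀ a, Γ → Submodule R (M' a)) :
    (∃ G : Γ → Submodule R (∀ a, M' a), DirectSum.IsInternal G ∧
        ∀ γ, Submodule.pi Set.univ (fun a => F a γ) = ⨆ η ∈ Set.Ici γ, G η) ↔
    ∀ a, ∃ G : Γ → Submodule R (M' a), DirectSum.IsInternal G ∧ ∀ γ, F a γ = ⨆ η ∈ Set.Ici γ, G η := by
  classical
  constructor
  · rintro ⟨G, hG, hGF⟩ a
    refine split_of_retract G hG (fun γ => Submodule.pi Set.univ (fun a => F a γ)) hGF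
      (LinearMap.single R M' a) (LinearMap.proj a) (by ext; simp) (F a) (fun γ x hx b _ => ?_)
      (fun γ x hx => hx a (Set.mem_univ a))
    rcases eq_or_ne b a with rfl | hb
    · simpa using hx
    · simp [hb]
  · intro h
    choose G hG hGF using h
    exact pi_split G hG F hGF

end Groth.L12.SplitFilt
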