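import Mathlib.Algebra.DirectSum.Module
import Mathlib.Algebra.DirectSum.Decomposition
import Mathlib.LinearAlgebra.PiTensorProduct.Basic
import Mathlib.Algebra.Module.Projective
import Mathlib.LinearAlgebra.Multilinear.Basic
import Mathlib.RingTheory.Nakayama
import Mathlib.RingTheory.Ideal.Maximal
import Mathlib.Tactic

/-!
A split filtration of a projective module is determined by the induced filtration on a tensor power.
-/

universe u v w

namespace Groth.L12.SplitTensor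

open scoped TensorProduct

variable {Γ : Type w} [AddCommGroup Γ] [LinearOrder Γ] [IsOrderedAddMonoid Γ]
  {R : Type u} [CommRing R] {M : Type v} [AddCommGroup M] [Module R M]

/-- the filtration on the tensor power -/
def TP (F : Γ → Submodule R M) (k : ℕ) (γ : Γ) : Submodule R (⨂[R] _i : Fin k, M) :=
  ⨆ c : {c : Fin k → Γ // ∑ i, c i = γ}, LinearMap.range (PiTensorProduct.map (R := R) (fun i => (F (c.1 i)).subtype))

lemma map_proj_eq_zero (F₁ F₂ : Γ → Submodule R M) (π : Γ → M →ₗ[R] M)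
    (hπ : ∀ {η c : Γ}, η < c → ∀ x ∈ F₂ c, π η x = 0) (k : ℕ)
    (h : ∀ γ, TP F₁ k γ ≤ TP F₂ k γ) (c η : Fin k → Γ) (x : Fin k → M) (hx : ∀ i, x i ∈ F₁ (c i))
    (hlt : ∑ i, η i < ∑ i, c i) (φ : Fin k → M →ₗ[R] R) :
    ∏ i, φ i (π (η i) (x i)) = 0 := by
  have h1 : PiTensorProduct.tprod R x ∈ TP F₁ k (∑ i, c i) :=
    Submodule.mem_iSup_of_mem ⟨c, rfl⟩ ⟨PiTensorProduct.tprod R (fun i => (⟨x i, hx i⟩ : F₁ (c i))), by
      rw [PiTensorProduct.map_tprod]; rfl⟩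
  let Φ : (⨂[R] _i : Fin k, M) →ₗ[R] R :=
    PiTensorProduct.lift ((MultilinearMap.mkPiAlgebra R (Fin k) R).compLinearMap fun i => φ i ∘ₗ π (η i))
  have hΦ : ∀ y : Fin k → M, Φ (PiTensorProduct.tprod R y) = ∏ i, φ i (π (η i) (y i)) := fun y => by
    simp [Φ]
  rw [← hΦ]
  have h2 : TP F₂ k (∑ i, c i) ≤ LinearMap.ker Φ := by
    refine iSup_le ?_
    rintro ⟨d, hd⟩ - ⟨t, rfl⟩
    rw [LinearMap.mem_ker]
    induction t using PiTensorProduct.induction_on with
    | smul_tprod r y =>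
      rw [map_smul, map_smul, PiTensorProduct.map_tprod, hΦ]
      obtain ⟨i, -, hi⟩ := Finset.exists_lt_of_sum_lt (s := Finset.univ) (f := η) (g := d) (hd ▸ hlt)
      rw [Finset.prod_eq_zero (Finset.mem_univ i), smul_zero]
      exact (congrArg (φ i) (hπ hi _ (y i).2)).trans (map_zero _)
    | add a b ha hb => rw [map_add, map_add, ha, hb, add_zero]
  exact h2 (h _ h1)

lemma exists_dual_ne [Module.Projective R M] {x : M} (hx : x ≠ 0) : ∃ ψ : M →ₗ[R] R, ψ x ≠ 0 := by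
  obtain ⟨s, hs⟩ := Module.projective_def'.mp (inferInstance : Module.Projective R M)
  by_contra h
  push Not at h
  have : s x = 0 := Finsupp.ext fun i => by simpa using h (Finsupp.lapply i ∘ₗ s)
  refine hx ?_
  rw [← LinearMap.id_apply (R := R) x, ← hs, LinearMap.comp_apply, this, map_zero]

/-- Data of a splitting. -/
structure Split (F : Γ → Submodule R M) where
  G : Γ → Submodule R M
  π : Γ → M →ₗ[R] M
  S : Finset Γ
  mem : ∀ γ x, π γ x ∈ G γ
  sum : ∀ x, ∑ γ ∈ S, π γ x = x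
  zero : ∀ {η c : Γ}, η < c → ∀ x ∈ F c, π η x = 0
  le : ∀ {γ η : Γ}, γ ≤ η → G η ≤ F γ

lemma nonempty_split [Module.Finite R M] (F : Γ → Submodule R M)
    (h : ∃ G : Γ → Submodule R M, DirectSum.IsInternal G ∧ ∀ γ, F γ = ⨆ η ∈ Set.Ici γ, G η) :
    Nonempty (Split F) := by
  classical
  obtain ⟨G, hG, hF⟩ := h
  letI D := hG.chooseDecomposition
  obtain ⟨T, hT⟩ := (Module.Finite.fg_top : (⊤ : Submodule R M).FG)
  let S : Finset Γ := T.biUnion fun t => (DirectSum.decompose G t).support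
  have hS : ∀ γ ∉ S, ∀ x : M, (DirectSum.decompose G x γ : M) = 0 := by
    intro γ hγ x
    have hx : x ∈ Submodule.span R (T : Set M) := hT ▸ Submodule.mem_top
    induction hx using Submodule.span_induction with
    | mem t ht =>
      have : γ ∉ (DirectSum.decompose G t).support := fun h => hγ (Finset.mem_biUnion.mpr ⟨t, ht, h⟩)
      rw [DFinsupp.notMem_support_iff] at this
      rw [this]; rfl
    | zero => simp
    | add a b _ _ ha hb => simp [DirectSum.decompose_add, ha, hb]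
    | smul r a _ ha => simp [DirectSum.decompose_smul, DirectSum.smul_apply, ha]
  refine ⟨⟨G, fun γ => (G γ).subtype ∘ₗ DirectSum.component R Γ (fun γ => G γ) γ ∘ₗ
    (DirectSum.decomposeLinearEquiv G).toLinearMap, S, fun γ x => SetLike.coe_mem _, fun x => ?_, ?_, ?_⟩⟩
  · conv_rhs => rw [← DirectSum.sum_support_decompose G x]
    refine (Finset.sum_subset (fun γ hγ => ?_) (fun γ _ hγ => ?_)).symm
    · by_contra h
      exact (DFinsupp.mem_support_iff.mp hγ) (Subtype.ext (hS γ h x))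
    · rw [DFinsupp.notMem_support_iff] at hγ
      exact congrArg Subtype.val hγ
  · intro η c hlt x hx
    rw [hF] at hx
    have hle : (⨆ η ∈ Set.Ici c, G η) ≤ LinearMap.ker ((G η).subtype ∘ₗ DirectSum.component R Γ (fun γ => G γ) η ∘ₗ
        (DirectSum.decomposeLinearEquiv G).toLinearMap) :=
      iSup₂_le fun ζ hζ y hy => DirectSum.decompose_of_mem_ne G hy (ne_of_gt (lt_of_lt_of_le hlt hζ))
    exact hle hx
  · intro γ η h
    rw [hF]; exact le_iSup₂_of_le η (Set.mem_Ici.mpr h) le_rfl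

lemma le_of_TP_le [Module.Finite R M] [Module.Projective R M] {F₁ F₂ : Γ → Submodule R M}
    (s₁ : Split F₁) (s₂ : Split F₂) (hF₁ : ∀ γ, F₁ γ ≤ ⨆ η ∈ Set.Ici γ, s₁.G η) (n : ℕ)
    (h : ∀ γ, TP F₁ (n + 1) γ ≤ TP F₂ (n + 1) γ) (h' : ∀ γ, TP F₂ (n + 1) γ ≤ TP F₁ (n + 1) γ) (γ : Γ) :
    F₁ γ ≤ F₂ γ := by
  classical
  refine (hF₁ γ).trans (iSup₂_le fun γ₁ (hγ₁ : γ ≤ γ₁) v hv => ?_)
  rw [← s₂.sum v]
  refine Submodule.sum_mem _ fun η _ => ?_
  by_cases hη : γ ≤ η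
  · exact s₂.le hη (s₂.mem η v)
  suffices s₂.π η v = 0 by rw [this]; exact zero_mem _
  have hlt : η < γ₁ := lt_of_lt_of_le (not_le.mp hη) hγ₁
  by_contra hne
  obtain ⟨m, hm, hle⟩ := Ideal.exists_le_maximal (LinearMap.ker (LinearMap.toSpanSingleton R M (s₂.π η v)))
    (fun ht => hne (by
      have : (1 : R) ∈ LinearMap.ker (LinearMap.toSpanSingleton R M (s₂.π η v)) := ht ▸ trivial
      simpa using this))
  -- the elements all whose functionals lie in `m`
  let Z : Submodule R M := ⨅ φ : M →ₗ[R] R, Submodule.comap φ m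
  have hZ : ∀ x, x ∉ Z → ∃ φ : M →ₗ[R] R, φ x ∉ m := fun x hx => by
    simpa [Z, Submodule.mem_iInf] using hx
  have htop : ¬ ∀ x : M, x ∈ Z := by
    intro hall
    have h2 : (⊤ : Submodule R M) ≤ m • ⊤ := by
      intro x _
      obtain ⟨s, hs⟩ := Module.projective_def'.mp (inferInstance : Module.Projective R M)
      have hx' := LinearMap.congr_fun hs x
      simp only [LinearMap.comp_apply, LinearMap.id_apply, Finsupp.linearCombination_apply] at hx'
      rw [← hx']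
      refine Submodule.sum_mem _ fun i _ => Submodule.smul_mem_smul ?_ Submodule.mem_top
      have := hall x
      simp only [Z, Submodule.mem_iInf] at this
      exact this (Finsupp.lapply i ∘ₗ s)
    obtain ⟨r, hr, hr'⟩ := Submodule.exists_sub_one_mem_and_smul_eq_zero_of_fg_of_le_smul m ⊤
      Module.Finite.fg_top h2
    have h3 : r ∈ m := hle (by simpa using hr' _ Submodule.mem_top)
    exact hm.ne_top ((Ideal.eq_top_iff_one m).mpr (by simpa using sub_mem h3 hr))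
  -- top weights
  have top : ∀ {F : Γ → Submodule R M} (s : Split F), ∃ μ, (∃ x ∈ s.G μ, x ∉ Z) ∧
      ∀ ζ ∈ s.S, μ < ζ → ∀ x, s.π ζ x ∈ Z := by
    intro F s
    let W := s.S.filter fun ζ => ∃ x, s.π ζ x ∉ Z
    have hW : W.Nonempty := by
      by_contra hW
      refine htop fun x => ?_
      rw [← s.sum x]
      refine Submodule.sum_mem _ fun ζ hζ => ?_
      by_contra hx
      exact hW ⟨ζ, Finset.mem_filter.mpr ⟨hζ, x, hx⟩⟩
    obtain ⟨hμ, x, hx⟩ := Finset.mem_filter.mp (W.max'_mem hW)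
    refine ⟨W.max' hW, ⟨_, s.mem _ x, hx⟩, fun ζ hζ hgt x => ?_⟩
    by_contra hx
    exact absurd (W.le_max' ζ (Finset.mem_filter.mpr ⟨hζ, x, hx⟩)) (not_le.mpr hgt)
  have comp : ∀ {F : Γ → Submodule R M} {F' : Γ → Submodule R M} (s : Split F') (μ : Γ) (x : M),
      x ∈ F μ → x ∉ Z → (∀ γ, TP F (n + 1) γ ≤ TP F' (n + 1) γ) →
      ∃ ν ∈ s.S, μ ≤ ν ∧ ∃ φ : M →ₗ[R] R, φ (s.π ν x) ∉ m := by
    intro F F' s μ x hx hxZ hFF
    have : ∃ ν ∈ s.S, s.π ν x ∉ Z := by
      by_contra hc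
      push Not at hc
      exact hxZ (s.sum x ▸ Submodule.sum_mem _ hc)
    obtain ⟨ν, hν, hνZ⟩ := this
    obtain ⟨φ, hφ⟩ := hZ _ hνZ
    refine ⟨ν, hν, ?_, φ, hφ⟩
    by_contra hlt
    have h0 := map_proj_eq_zero F F' s.π (fun h => s.zero h) (n + 1) hFF (fun _ => μ) (fun _ => ν)
      (fun _ => x) (fun _ => hx) (Finset.sum_lt_sum_of_nonempty Finset.univ_nonempty fun _ _ => not_le.mp hlt)
      (fun _ => φ)
    rw [Finset.prod_const] at h0
    exact hφ (hm.isPrime.mem_of_pow_mem _ (h0 ▸ m.zero_mem))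
  obtain ⟨μ, ⟨w, hw, hwZ⟩, hμ⟩ := top s₁
  obtain ⟨μ', ⟨w', hw', hwZ'⟩, hμ'⟩ := top s₂
  obtain ⟨ν, hν, hμν, φ, hφ⟩ := comp s₂ μ w (s₁.le le_rfl hw) hwZ h
  obtain ⟨ν', hν', hμν', φ', hφ'⟩ := comp s₁ μ' w' (s₂.le le_rfl hw') hwZ' h'
  have hνle : ν ≤ μ' := le_of_not_gt fun hc => by
    have := hμ' ν hν hc w
    simp only [Z, Submodule.mem_iInf] at this
    exact hφ (this φ)
  have hν'le : ν' ≤ μ := le_of_not_gt fun hc => by
    have := hμ ν' hν' hc w'
    simp only [Z, Submodule.mem_iInf] at this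
    exact hφ' (this φ')
  have hνμ : ν ≤ μ := hνle.trans (hμν'.trans hν'le)
  have key : ∀ ψ : M →ₗ[R] R, φ (s₂.π ν w) ^ n * ψ (s₂.π η v) = 0 := by
    intro ψ
    have h0 := map_proj_eq_zero F₁ F₂ s₂.π (fun h => s₂.zero h) (n + 1) h
      (Fin.cons γ₁ (fun _ => μ)) (Fin.cons η (fun _ => ν)) (Fin.cons v (fun _ => w))
      (fun i => by refine Fin.cases ?_ (fun j => ?_) i <;> simp [s₁.le le_rfl hv, s₁.le le_rfl hw])
      (by
        simp only [Fin.sum_univ_succ, Fin.cons_zero, Fin.cons_succ]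
        exact add_lt_add_of_lt_of_le hlt (Finset.sum_le_sum fun _ _ => hνμ))
      (Fin.cons ψ (fun _ => φ))
    simp only [Fin.prod_univ_succ, Fin.cons_zero, Fin.cons_succ, Finset.prod_const, Finset.card_univ,
      Fintype.card_fin] at h0
    rw [mul_comm]; exact h0
  have hsm : φ (s₂.π ν w) ^ n • s₂.π η v = 0 := by
    by_contra hc
    obtain ⟨ψ, hψ⟩ := exists_dual_ne (R := R) hc
    exact hψ (by rw [map_smul, smul_eq_mul, key])
  exact hφ (hm.isPrime.mem_of_pow_mem n (hle (by simpa using hsm)))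

theorem eq_of_TP_eq [Module.Finite R M] [Module.Projective R M] (F₁ F₂ : Γ → Submodule R M)
    (h₁ : ∃ G : Γ → Submodule R M, DirectSum.IsInternal G ∧ ∀ γ, F₁ γ = ⨆ η ∈ Set.Ici γ, G η)
    (h₂ : ∃ G : Γ → Submodule R M, DirectSum.IsInternal G ∧ ∀ γ, F₂ γ = ⨆ η ∈ Set.Ici γ, G η)
    (k : ℕ) (hk : 1 ≤ k) (h : ∀ γ, TP F₁ k γ = TP F₂ k γ) : F₁ = F₂ := by
  obtain ⟨n, rfl⟩ : ∃ n, k = n + 1 := ⟨k - 1, by omega⟩
  obtain ⟨s₁⟩ := nonempty_split F₁ h₁
  obtain ⟨s₂⟩ := nonempty_split F₂ h₂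
  have sh : ∀ {F : Γ → Submodule R M} (s : Split F) (γ : Γ), F γ ≤ ⨆ η ∈ Set.Ici γ, s.G η := by
    intro F s γ x hx
    rw [← s.sum x]
    refine Submodule.sum_mem _ fun η _ => ?_
    by_cases hη : η ∈ Set.Ici γ
    · exact Submodule.mem_iSup_of_mem η (Submodule.mem_iSup_of_mem hη (s.mem η x))
    · rw [s.zero (not_le.mp hη) x hx]; exact zero_mem _
  exact funext fun γ => le_antisymm
    (le_of_TP_le s₁ s₂ (sh s₁) n (fun γ => (h γ).le) (fun γ => (h γ).ge) γ)
    (le_of_TP_le s₂ s₁ (sh s₂) n (fun γ => (h γ).ge) (fun γ => (h γ).le) γ)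

end Groth.L12.SplitTensor
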