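import Groth.Agent.L12.CRingBasic

/-!
# Stages in the construction of a versal family: least extensions to which an element lifts
-/

universe u v w

open CategoryTheory ArtFun ArtFun.Art IsLocalRing

namespace Groth.L12

variable {Λ : Type u} {k : Type u} [CommRing Λ] [Field k] [Algebra Λ k]
variable {P : Type u} [CommRing P] [Algebra Λ P] {resP : P →ₐ[Λ] k} {F : Art Λ k ⥤ Type v}

/-- an element of `F` over an Artinian quotient of `P` -/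
structure Stage (P : Type u) [CommRing P] [Algebra Λ P] (resP : P →ₐ[Λ] k)
    (F : Art Λ k ⥤ Type v) : Type (max (u + 1) v) where
  /-- the object -/
  A : Art Λ k
  /-- the quotient map -/
  π : HomSet P resP A
  surj : Function.Surjective π.1
  /-- the element -/
  η : F.obj A

/-- `ker χ` is an ideal to which the element of `S` lifts -/
def LiftIdeal (S : Stage P resP F) (K : Ideal P) : Prop :=
  ∃ (E : Art Λ k) (χ : HomSet P resP E) (g : E ⟶ S.A) (z : F.obj E), Function.Surjective χ.1 ∧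
    RingHom.ker χ.1 = K ∧ HomSet.map g χ = S.π ∧ F.map g z = S.η

lemma LiftIdeal.le {S : Stage P resP F} {K : Ideal P} (h : LiftIdeal S K) : K ≤ RingHom.ker S.π.1 := by
  obtain ⟨E, χ, g, z, -, rfl, hg, -⟩ := h
  intro x hx
  rw [RingHom.mem_ker, ← hg]
  change g (χ.1 x) = 0
  rw [RingHom.mem_ker.1 hx, map_zero]

lemma liftIdeal_self (S : Stage P resP F) : LiftIdeal S (RingHom.ker S.π.1) :=
  ⟨S.A, S.π, 𝟙 _, S.η, S.surj, rfl, Subtype.ext (AlgHom.ext fun _ => rfl), map_id' F _⟩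

/-- quotient objects above a given one -/
lemma exists_quot_of_le {E₀ : Art Λ k} (χ₀ : HomSet P resP E₀) (hχ₀ : Function.Surjective χ₀.1)
    {K : Ideal P} (hK : RingHom.ker χ₀.1 ≤ K) (hK' : K ≤ RingHom.ker resP) :
    ∃ (E : Art Λ k) (g : E₀ ⟶ E), Function.Surjective g ∧ RingHom.ker (HomSet.map g χ₀).1 = K := by
  have hle : K.map χ₀.1 ≤ maximalIdeal E₀ := Ideal.map_le_iff_le_comap.2 fun x hx => by
    rw [Ideal.mem_comap, E₀.mem_maximalIdeal_iff, ← AlgHom.comp_apply, χ₀.2]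
    exact hK' hx
  refine ⟨quot E₀ _ hle, quotMk E₀ _ hle, quotMk_surjective _ _ _, ?_⟩
  ext x
  rw [RingHom.mem_ker]
  change Ideal.Quotient.mk (K.map χ₀.1) (χ₀.1 x) = 0 ↔ _
  rw [Ideal.Quotient.eq_zero_iff_mem]
  refine ⟨fun hx => ?_, fun hx => Ideal.mem_map_of_mem _ hx⟩
  obtain ⟨y, hy, e⟩ := (Ideal.mem_map_iff_of_surjective _ hχ₀).1 hx
  rw [show x = y + (x - y) by ring]
  exact add_mem hy (hK (by rw [RingHom.mem_ker, map_sub, e, sub_self]))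

lemma ker_le_ker_res {E : Art Λ k} (χ : HomSet P resP E) :
    RingHom.ker χ.1 ≤ RingHom.ker resP := fun x hx => by
  rw [RingHom.mem_ker, ← χ.2, AlgHom.comp_apply, RingHom.mem_ker.1 hx, map_zero]

lemma exists_desc_homSet {E E' : Art Λ k} (χ : HomSet P resP E) (hχ : Function.Surjective χ.1)
    (χ' : HomSet P resP E') (h : RingHom.ker χ.1 ≤ RingHom.ker χ'.1) :
    ∃ g : E ⟶ E', HomSet.map g χ = χ' := by
  let φ : E →ₐ[Λ] E' := AlgHom.liftOfSurjective χ.1 hχ χ'.1 h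
  have hφ : ∀ a, φ (χ.1 a) = χ'.1 a := fun a => AlgHom.liftOfSurjective_apply _ hχ _ _ a
  refine ⟨⟨φ, AlgHom.ext fun e => ?_⟩, Subtype.ext (AlgHom.ext hφ)⟩
  obtain ⟨a, rfl⟩ := hχ e
  rw [AlgHom.comp_apply, hφ, ← AlgHom.comp_apply, ← AlgHom.comp_apply, χ'.2, χ.2]

lemma homSet_cancel {E E' : Art Λ k} (χ : HomSet P resP E) (hχ : Function.Surjective χ.1)
    {g g' : E ⟶ E'} (h : HomSet.map g χ = HomSet.map g' χ) : g = g' :=
  hom_ext fun e => by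
    obtain ⟨a, rfl⟩ := hχ e
    exact DFunLike.congr_fun (congrArg Subtype.val h) a

lemma LiftIdeal.mono {S : Stage P resP F} {K K' : Ideal P} (h : LiftIdeal S K) (hle : K ≤ K')
    (hle' : K' ≤ RingHom.ker S.π.1) : LiftIdeal S K' := by
  obtain ⟨E, χ, g, z, hχ, rfl, hg, hz⟩ := h
  obtain ⟨E', q, hq, hker⟩ := exists_quot_of_le χ hχ hle (hle'.trans (ker_le_ker_res _))
  have hsurj : Function.Surjective (HomSet.map q χ).1 := fun e => by
    obtain ⟨a, rfl⟩ := hq e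
    obtain ⟨b, rfl⟩ := hχ a
    exact ⟨b, rfl⟩
  obtain ⟨g', hg'⟩ := exists_desc_homSet _ hsurj S.π (hker ▸ hle')
  refine ⟨E', HomSet.map q χ, g', F.map q z, hsurj, hker, hg', ?_⟩
  rw [map_map]
  rw [show q ≫ g' = g from homSet_cancel χ hχ (hg'.trans hg.symm), hz]

lemma LiftIdeal.inf (h1 : S1 F) {S : Stage P resP F} [IsNoetherianRing P] [IsLocalRing P]
    {M : Ideal P} (hM : maximalIdeal P * RingHom.ker S.π.1 ≤ M)
    {E₀ : Art Λ k} (χ₀ : HomSet P resP E₀) (hχ₀ : Function.Surjective χ₀.1) (hker₀ : RingHom.ker χ₀.1 = M)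
    {K₁ K₂ : Ideal P} (h₁ : LiftIdeal S K₁) (h₂ : LiftIdeal S K₂) (hM₁ : M ≤ K₁) (hM₂ : M ≤ K₂) :
    LiftIdeal S (K₁ ⊓ K₂) := by
  set J := RingHom.ker S.π.1
  obtain ⟨L, ⟨hL₁, hLJ, hL₂⟩, hmax⟩ := set_has_maximal_iff_noetherian.2 inferInstance
    {L : Ideal P | K₁ ≤ L ∧ L ≤ J ∧ L ⊓ K₂ ≤ K₁ ⊓ K₂} ⟨K₁, le_rfl, h₁.le, le_rfl⟩
  have hsum : L ⊔ K₂ = J := by
    refine le_antisymm (sup_le hLJ h₂.le) fun t ht => ?_
    by_contra hnot
    refine hmax (L ⊔ Ideal.span {t}) ⟨hL₁.trans le_sup_left,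
      sup_le hLJ ((Ideal.span_singleton_le_iff_mem _).2 ht), ?_⟩
      (lt_of_le_of_ne le_sup_left fun e => hnot (Ideal.mem_sup_left (e ▸
        Ideal.mem_sup_right (Ideal.mem_span_singleton_self t))))
    rintro x ⟨hx, hx₂⟩
    obtain ⟨y, hy, z, hz, rfl⟩ := Submodule.mem_sup.1 hx
    obtain ⟨a, rfl⟩ := Ideal.mem_span_singleton'.1 hz
    by_cases ha : IsUnit a
    · refine absurd ?_ hnot
      obtain ⟨u, rfl⟩ := ha
      rw [show t = ↑u⁻¹ * ((y + ↑u * t) - y) by rw [add_sub_cancel_left, ← mul_assoc, Units.inv_mul, one_mul]]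
      exact Ideal.mul_mem_left _ _ (sub_mem (Ideal.mem_sup_right hx₂) (Ideal.mem_sup_left hy))
    · have hat : a * t ∈ M := hM (Ideal.mul_mem_mul ((mem_maximalIdeal a).2 ha) ht)
      exact hL₂ ⟨add_mem hy (hL₁ (hM₁ hat)), hx₂⟩
  have heq : L ⊓ K₂ = K₁ ⊓ K₂ := le_antisymm hL₂ (inf_le_inf_right _ hL₁)
  obtain ⟨E₁, χ₁, g₁, z₁, hχ₁, hk₁, hg₁, hz₁⟩ := h₁.mono hL₁ hLJ
  obtain ⟨E₂, χ₂, g₂, z₂, hχ₂, hk₂, hg₂, hz₂⟩ := h₂
  obtain ⟨E, q, hq, hker⟩ := exists_quot_of_le χ₀ hχ₀ (K := K₁ ⊓ K₂) (hker₀ ▸ le_inf hM₁ hM₂)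
    (inf_le_left.trans (h₁.le.trans (ker_le_ker_res _)))
  have hsurj : Function.Surjective (HomSet.map q χ₀).1 := fun e => by
    obtain ⟨a, rfl⟩ := hq e
    obtain ⟨b, rfl⟩ := hχ₀ a
    exact ⟨b, rfl⟩
  obtain ⟨p₁, hp₁⟩ := exists_desc_homSet _ hsurj χ₁ (hker ▸ hk₁.symm ▸ inf_le_left.trans hL₁)
  obtain ⟨p₂, hp₂⟩ := exists_desc_homSet _ hsurj χ₂ (hker ▸ hk₂.symm ▸ inf_le_right)
  have happ₁ : ∀ a, p₁ ((HomSet.map q χ₀).1 a) = χ₁.1 a := fun a => DFunLike.congr_fun (congrArg Subtype.val hp₁) a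
  have happ₂ : ∀ a, p₂ ((HomSet.map q χ₀).1 a) = χ₂.1 a := fun a => DFunLike.congr_fun (congrArg Subtype.val hp₂) a
  have hg₁' : ∀ a, g₁ (χ₁.1 a) = S.π.1 a := fun a => DFunLike.congr_fun (congrArg Subtype.val hg₁) a
  have hg₂' : ∀ a, g₂ (χ₂.1 a) = S.π.1 a := fun a => DFunLike.congr_fun (congrArg Subtype.val hg₂) a
  have hfp : IsFibreProd p₁ p₂ g₁ g₂ := by
    refine ⟨homSet_cancel _ hsurj ?_, fun b₁ b₂ e₁ e₂ => ?_, fun e₁ e₂ e => ?_⟩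
    · exact Subtype.ext (AlgHom.ext fun a => (congrArg g₁.toAlgHom (happ₁ a)).trans
        ((hg₁' a).trans ((hg₂' a).symm.trans (congrArg g₂.toAlgHom (happ₂ a)).symm)))
    · obtain ⟨a, rfl⟩ := hsurj b₁
      obtain ⟨b, rfl⟩ := hsurj b₂
      rw [← sub_eq_zero, ← map_sub]
      rw [happ₁, happ₁, ← sub_eq_zero, ← map_sub, ← RingHom.mem_ker, hk₁] at e₁
      rw [happ₂, happ₂, ← sub_eq_zero, ← map_sub, ← RingHom.mem_ker, hk₂] at e₂
      exact RingHom.mem_ker.1 (hker.symm ▸ hL₂ ⟨e₁, e₂⟩)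
    · obtain ⟨a, rfl⟩ := hχ₁ e₁
      obtain ⟨b, rfl⟩ := hχ₂ e₂
      rw [hg₁', hg₂', ← sub_eq_zero, ← map_sub] at e
      have hab : a - b ∈ L ⊔ K₂ := hsum.symm ▸ RingHom.mem_ker.2 e
      obtain ⟨y, hy, z, hz, hyz⟩ := Submodule.mem_sup.1 hab
      refine ⟨(HomSet.map q χ₀).1 (a - y), ?_, ?_⟩
      · rw [happ₁, map_sub, show χ₁.1 y = 0 from RingHom.mem_ker.1 (hk₁.symm ▸ hy), sub_zero]
      · rw [happ₂, show a - y = b + z by rw [← sub_eq_iff_eq_add'.2 hyz.symm]; ring, map_add,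
          show χ₂.1 z = 0 from RingHom.mem_ker.1 (hk₂.symm ▸ hz), add_zero]
  have hg₂s : Function.Surjective g₂ := fun s => by
    obtain ⟨a, rfl⟩ := S.surj s
    exact ⟨χ₂.1 a, hg₂' a⟩
  obtain ⟨z, hz', -⟩ := (cmp_surj_iff F hfp).1 (h1 p₁ p₂ g₁ g₂ hfp hg₂s) z₁ z₂ (hz₁.trans hz₂.symm)
  refine ⟨E, HomSet.map q χ₀, p₁ ≫ g₁, z, hsurj, hker, ?_, by rw [← map_map, hz', hz₁]⟩
  exact Subtype.ext (AlgHom.ext fun a => (congrArg g₁.toAlgHom (happ₁ a)).trans (hg₁' a))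

theorem exists_least_liftIdeal (h1 : S1 F) (S : Stage P resP F) [IsNoetherianRing P] [IsLocalRing P]
    {M : Ideal P} (hM : maximalIdeal P * RingHom.ker S.π.1 ≤ M) (hMJ : M ≤ RingHom.ker S.π.1)
    {E₀ : Art Λ k} (χ₀ : HomSet P resP E₀) (hχ₀ : Function.Surjective χ₀.1) (hker₀ : RingHom.ker χ₀.1 = M) :
    ∃ K, M ≤ K ∧ LiftIdeal S K ∧ ∀ K', M ≤ K' → LiftIdeal S K' → K ≤ K' := by
  let good : Set (Ideal E₀) := {I | LiftIdeal S (I.comap χ₀.1)}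
  have hgood : ∀ K', M ≤ K' → LiftIdeal S K' → (K'.map χ₀.1).comap χ₀.1 = K' := fun K' hMK _ => by
    rw [Ideal.comap_map_of_surjective' _ hχ₀, sup_eq_left]
    exact hker₀ ▸ hMK
  have hne : good.Nonempty := ⟨(RingHom.ker S.π.1).map χ₀.1, by
    change LiftIdeal S _
    rw [hgood _ hMJ (liftIdeal_self S)]
    exact liftIdeal_self S⟩
  obtain ⟨I, hI, hmin⟩ := wellFounded_lt.has_min good hne
  have hMI : M ≤ I.comap χ₀.1 := fun x hx => by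
    rw [Ideal.mem_comap, RingHom.mem_ker.1 (hker₀.symm ▸ hx : x ∈ RingHom.ker χ₀.1)]
    exact zero_mem _
  refine ⟨I.comap χ₀.1, hMI, hI, fun K' hMK hK' => ?_⟩
  have hinf := LiftIdeal.inf h1 hM χ₀ hχ₀ hker₀ hI hK' hMI hMK
  by_contra hne'
  refine hmin ((I.comap χ₀.1 ⊓ K').map χ₀.1) (by
    change LiftIdeal S _
    rw [hgood _ (le_inf hMI hMK) hinf]
    exact hinf) (lt_of_le_of_ne ?_ fun e => hne' ?_)
  · exact (Ideal.map_mono inf_le_left).trans Ideal.map_comap_le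
  · rw [← e, hgood _ (le_inf hMI hMK) hinf]
    exact inf_le_right

end Groth.L12
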