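import Groth.Agent.L12.Criteria
import Mathlib.RingTheory.Nakayama
import Mathlib.RingTheory.AdicCompletion.Functoriality

/-!
# Surjectivity criteria through cotangent spaces and derivations
-/

universe u v w

open CategoryTheory ArtFun ArtFun.Art IsLocalRing

namespace Groth.L12

variable {Λ : Type u} {k : Type u} [CommRing Λ] [Field k] [Algebra Λ k]

/-- an augmented Artinian object as a coefficient ring -/
def artCRing (A : Art Λ k) : CRing Λ k :=
  { carrier := A
    res := A.res
    res_surjective := A.res_surjective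
    isAdicComplete :=
      { haus' := fun x hx => by
          obtain ⟨N, hN⟩ := isNilpotent_maximalIdeal A
          have := SModEq.sub_mem.1 (hx N)
          rw [hN, smul_eq_mul, Ideal.mul_top, sub_zero] at this
          exact this
        prec' := fun f hf => by
          obtain ⟨N, hN⟩ := isNilpotent_maximalIdeal A
          refine ⟨f N, fun n => ?_⟩
          rcases le_total n N with h | h
          · exact hf h
          · have := SModEq.sub_mem.1 (hf h)
            rw [hN, smul_eq_mul, Ideal.mul_top] at this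
            exact SModEq.sub_mem.2 (by rw [← neg_sub, neg_mem_iff]
                                       rw [show f N - f n = 0 from this]; exact zero_mem _) } }

variable {R : Type u} [CommRing R] [IsLocalRing R] [Algebra Λ R] [IsAdicComplete (maximalIdeal R) R]
  {S : Type u} [CommRing S] [IsLocalRing S] [Algebra Λ S] [IsNoetherianRing S]
  {resR : R →ₐ[Λ] k} {resS : S →ₐ[Λ] k}

theorem surjective_of_cotangent (f : R →ₐ[Λ] S) (hresR : Function.Surjective resR)
    (hS : ∀ s, resS s = 0 ↔ s ∈ maximalIdeal S) (hf : resS.comp f = resR)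
    (h : maximalIdeal S ≤ (maximalIdeal R).map f ⊔ maximalIdeal S ^ 2) : Function.Surjective f := by
  have hle : maximalIdeal S ≤ (maximalIdeal R).map f := by
    refine Submodule.le_of_le_smul_of_le_jacobson_bot (IsNoetherian.noetherian _)
      (IsLocalRing.maximalIdeal_le_jacobson _) ?_
    rwa [pow_two] at h
  have hle' : (maximalIdeal R).map f ≤ maximalIdeal S := by
    refine Ideal.map_le_iff_le_comap.2 fun r hr => ?_
    rw [Ideal.mem_comap, ← hS, ← AlgHom.comp_apply, hf]
    by_contra hne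
    obtain ⟨r', hr'⟩ := hresR (resR r)⁻¹
    have h1 : resR (1 - r * r') = 0 := by rw [map_sub, map_one, map_mul, hr', mul_inv_cancel₀ hne, sub_self]
    have hu : IsUnit (1 - r * r') :=
      Ideal.mem_jacobson_bot.1 (IsLocalRing.maximalIdeal_le_jacobson ⊥ hr) (-r') |> fun hu => by
        simpa [sub_eq_add_neg, add_comm] using hu
    have hunit : IsUnit (resR (1 - r * r')) := hu.map resR
    rw [h1] at hunit
    exact not_isUnit_zero hunit
  have hm : (maximalIdeal R).map f = maximalIdeal S := le_antisymm hle' hle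
  haveI : IsHausdorff ((maximalIdeal R).map (f : R →+* S)) S := by
    rw [show (maximalIdeal R).map (f : R →+* S) = maximalIdeal S from hm]
    infer_instance
  refine surjective_of_mk_map_comp_surjective (I := maximalIdeal R) (f : R →+* S) fun y => ?_
  obtain ⟨s, rfl⟩ := Ideal.Quotient.mk_surjective y
  obtain ⟨r, hr⟩ := hresR (resS s)
  refine ⟨r, Ideal.Quotient.eq.2 ?_⟩
  change f r - s ∈ (maximalIdeal R).map f
  rw [hm, ← hS, map_sub, ← AlgHom.comp_apply, hf, hr, sub_self]

lemma map_max_le_of_comp (f : R →ₐ[Λ] S) (hresR : ∀ r ∈ maximalIdeal R, resR r = 0)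
    (hS : ∀ s, resS s = 0 ↔ s ∈ maximalIdeal S) (hf : resS.comp f = resR) :
    (maximalIdeal R).map f ≤ maximalIdeal S :=
  Ideal.map_le_iff_le_comap.2 fun r hr => by
    rw [Ideal.mem_comap, ← hS, ← AlgHom.comp_apply, hf, hresR r hr]

lemma map_ker_le_of_comp (f : R →ₐ[Λ] S) (hR : ∀ r, resR r = 0 → r ∈ maximalIdeal R) :
    (RingHom.ker (algebraMap Λ k)).map (algebraMap Λ S) ≤ (maximalIdeal R).map f :=
  Ideal.map_le_iff_le_comap.2 fun l hl => by
    rw [Ideal.mem_comap, ← f.commutes l]
    exact Ideal.mem_map_of_mem _ (hR _ (by rw [AlgHom.commutes]; exact hl))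

omit [IsAdicComplete (maximalIdeal R) R] in
theorem map_eq_of_surjective (f : R →ₐ[Λ] S) (hf : Function.Surjective f) :
    (maximalIdeal R).map f ⊔ maximalIdeal S ^ 2 = maximalIdeal S := by
  have : (maximalIdeal R).map f = maximalIdeal S := IsLocalRing.map_maximalIdeal_of_surjective (f : R →+* S) hf
  rw [this, sup_eq_left]
  exact Ideal.pow_le_self two_ne_zero

theorem surjective_tfae (f : R →ₐ[Λ] S) (hresR : Function.Surjective resR)
    (hR : ∀ r, resR r = 0 ↔ r ∈ maximalIdeal R) (hS : ∀ s, resS s = 0 ↔ s ∈ maximalIdeal S)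
    (hf : resS.comp f = resR) :
    List.TFAE [Function.Surjective f,
      Ideal.map f (maximalIdeal R) ⊔ maximalIdeal S ^ 2 = maximalIdeal S,
      Ideal.map (algebraMap Λ S) (RingHom.ker (algebraMap Λ k)) ⊔ Ideal.map f (maximalIdeal R) ⊔
        maximalIdeal S ^ 2 = maximalIdeal S] := by
  have h3 : Ideal.map (algebraMap Λ S) (RingHom.ker (algebraMap Λ k)) ⊔ Ideal.map f (maximalIdeal R) =
      Ideal.map f (maximalIdeal R) := sup_eq_right.2 (map_ker_le_of_comp f fun r => (hR r).1)
  tfae_have 1 → 2 := map_eq_of_surjective f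
  tfae_have 2 → 3 := fun h => by rw [h3]; exact h
  tfae_have 3 → 1 := fun h => surjective_of_cotangent f hresR hS hf (by rw [h3] at h; exact h.ge)
  tfae_finish

theorem art_surjective_tfae {A B : Art Λ k} (f : A ⟶ B) :
    List.TFAE [Function.Surjective f,
      Ideal.map f.toAlgHom (maximalIdeal A) ⊔ maximalIdeal B ^ 2 = maximalIdeal B,
      Ideal.map (algebraMap Λ B) (RingHom.ker (algebraMap Λ k)) ⊔ Ideal.map f.toAlgHom (maximalIdeal A) ⊔
        maximalIdeal B ^ 2 = maximalIdeal B] := by
  haveI : IsAdicComplete (maximalIdeal A) A := (artCRing A).isAdicComplete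
  exact surjective_tfae f.toAlgHom A.res_surjective (fun r => (A.mem_maximalIdeal_iff r).symm)
    (fun r => (B.mem_maximalIdeal_iff r).symm) f.res_comp

theorem art_surjective_iff_comp {A B B' : Art Λ k} (f : A ⟶ B) (q : B ⟶ B') (hq : Function.Surjective q)
    (hker : RingHom.ker q.toAlgHom ≤ Ideal.map (algebraMap Λ B) (RingHom.ker (algebraMap Λ k)) ⊔ maximalIdeal B ^ 2) :
    Function.Surjective f ↔ Function.Surjective (f ≫ q) := by
  refine ⟨fun hf => surjective_comp hf hq, fun hfq => ((art_surjective_tfae f).out 2 0).1 (le_antisymm ?_ ?_)⟩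
  · refine sup_le (sup_le (Ideal.map_le_iff_le_comap.2 fun l hl => ?_) ?_) (Ideal.pow_le_self two_ne_zero)
    · rw [Ideal.mem_comap, B.mem_maximalIdeal_iff, AlgHom.commutes]
      exact hl
    · exact map_max_le_of_comp f.toAlgHom (fun r hr => (A.mem_maximalIdeal_iff r).1 hr)
        (fun r => (B.mem_maximalIdeal_iff r).symm) f.res_comp
  · intro b hb
    obtain ⟨a, ha⟩ := hfq (q b)
    have ha0 : a ∈ maximalIdeal A := by
      rw [A.mem_maximalIdeal_iff, ← Art.res_app (f ≫ q), ha, Art.res_app]
      exact (B.mem_maximalIdeal_iff b).1 hb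
    have hk : b - f a ∈ RingHom.ker q.toAlgHom := by
      rw [RingHom.mem_ker, map_sub, sub_eq_zero]
      exact ha.symm
    rw [show b = f a + (b - f a) by ring]
    refine add_mem (Ideal.mem_sup_left (Ideal.mem_sup_right (Ideal.mem_map_of_mem _ ha0))) ?_
    exact SetLike.le_def.1 (sup_le (le_sup_of_le_left le_sup_left) le_sup_right) (hker hk)

/-- maps to `k[ε]` separate the maximal ideal of a square-zero object with section -/
lemma exists_dual_functional {E : Art Λ k} (hE : maximalIdeal E ^ 2 = ⊥) (σ : Art.base Λ k ⟶ E) {e₀ : E}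
    (he : e₀ ∈ maximalIdeal E) (he0 : e₀ ≠ 0) :
    ∃ g : E ⟶ dual Λ k, TrivSqZeroExt.snd (g e₀) = 1 ∧ σ ≫ g = baseToDual := by
  let σ' : k →+* E := σ.toAlgHom.toRingHom
  letI : Module k E := Module.compHom E σ'
  have hs : ∀ (c : k) (e : E), c • e = σ' c * e := fun _ _ => rfl
  have hσ : ∀ c : k, E.res (σ' c) = c := fun c => Art.res_app σ c
  let m : Submodule k E :=
    { carrier := {e | E.res e = 0}
      add_mem' := fun {a b} ha hb => by
        change E.res (a + b) = 0
        rw [map_add, ha, hb, add_zero]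
      zero_mem' := map_zero E.res
      smul_mem' := fun c e he => by
        change E.res (σ' c * e) = 0
        rw [map_mul, he, mul_zero] }
  have he0' : (⟨e₀, (E.mem_maximalIdeal_iff _).1 he⟩ : m) ≠ 0 := fun h => he0 (congrArg Subtype.val h)
  obtain ⟨ψ, hψ⟩ : ∃ ψ : Module.Dual k m, ψ ⟨e₀, (E.mem_maximalIdeal_iff _).1 he⟩ = 1 := by
    obtain ⟨ψ, hψ⟩ := LinearMap.exists_extend (p := k ∙ (⟨e₀, (E.mem_maximalIdeal_iff _).1 he⟩ : m))
      (LinearEquiv.toSpanNonzeroSingleton k m _ he0').symm.toLinearMap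
    refine ⟨ψ, ?_⟩
    have := DFunLike.congr_fun hψ ⟨_, Submodule.mem_span_singleton_self _⟩
    rw [LinearMap.comp_apply, Submodule.subtype_apply] at this
    rw [this, LinearEquiv.coe_coe, LinearEquiv.symm_apply_eq]
    exact Subtype.ext (by simp [LinearEquiv.toSpanNonzeroSingleton])
  let d : E → m := fun e => ⟨e - σ' (E.res e), by change E.res _ = 0; rw [map_sub, hσ, sub_self]⟩
  have hd1 : d 1 = 0 := Subtype.ext (by simp [d])
  have hd0 : d 0 = 0 := Subtype.ext (by simp [d])
  have hdadd : ∀ a b, d (a + b) = d a + d b := fun a b => Subtype.ext (by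
    change a + b - σ' (E.res (a + b)) = (a - σ' (E.res a)) + (b - σ' (E.res b))
    rw [map_add, map_add]; ring)
  have hdmul : ∀ a b, d (a * b) = E.res a • d b + E.res b • d a := fun a b => Subtype.ext (by
    have h0 : (a - σ' (E.res a)) * (b - σ' (E.res b)) = 0 := by
      have := Ideal.mul_mem_mul ((E.mem_maximalIdeal_iff _).2 (d a).2) ((E.mem_maximalIdeal_iff _).2 (d b).2)
      rwa [← pow_two, hE] at this
    change a * b - σ' (E.res (a * b)) = σ' (E.res a) * (b - σ' (E.res b)) + σ' (E.res b) * (a - σ' (E.res a))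
    rw [map_mul, map_mul]
    linear_combination h0)
  have hdalg : ∀ l : Λ, d (algebraMap Λ E l) = 0 := fun l => Subtype.ext (by
    change algebraMap Λ E l - σ' (E.res (algebraMap Λ E l)) = 0
    rw [AlgHom.commutes, show σ' (algebraMap Λ k l) = algebraMap Λ E l from σ.toAlgHom.commutes l, sub_self])
  let φ : E →ₐ[Λ] dual Λ k :=
    { toFun := fun e => ((E.res e, ψ (d e)) : k × k)
      map_one' := TrivSqZeroExt.ext (map_one E.res) (by change ψ (d 1) = 0; rw [hd1, map_zero])
      map_mul' := fun a b => TrivSqZeroExt.ext (map_mul E.res a b) (by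
        change ψ (d (a * b)) = E.res a • ψ (d b) + MulOpposite.op (E.res b) • ψ (d a)
        rw [hdmul, map_add, map_smul, map_smul, op_smul_eq_smul])
      map_zero' := TrivSqZeroExt.ext (map_zero E.res) (by change ψ (d 0) = 0; rw [hd0, map_zero])
      map_add' := fun a b => TrivSqZeroExt.ext (map_add E.res a b) (by
        change ψ (d (a + b)) = ψ (d a) + ψ (d b)
        rw [hdadd, map_add])
      commutes' := fun l => TrivSqZeroExt.ext (by
          change E.res (algebraMap Λ E l) = TrivSqZeroExt.fst (algebraMap Λ (DualNumber k) l)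
          rw [AlgHom.commutes, TrivSqZeroExt.algebraMap_eq_inl', TrivSqZeroExt.fst_inl]) (by
          change ψ (d (algebraMap Λ E l)) = TrivSqZeroExt.snd (algebraMap Λ (DualNumber k) l)
          rw [hdalg, map_zero, TrivSqZeroExt.algebraMap_eq_inl', TrivSqZeroExt.snd_inl]) }
  refine ⟨⟨φ, AlgHom.ext fun _ => rfl⟩, ?_, dualHom_ext fun c => ?_⟩
  swap
  · change ψ (d (σ' c)) = 0
    rw [show d (σ' c) = 0 from Subtype.ext (by
      change σ' c - σ' (E.res (σ' c)) = 0
      exact sub_eq_zero.2 (congrArg σ' (hσ c)).symm), map_zero]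
  change ψ (d e₀) = 1
  rw [← hψ]
  congr 1
  exact Subtype.ext (by change e₀ - σ' (E.res e₀) = e₀; rw [(E.mem_maximalIdeal_iff _).1 he, map_zero, sub_zero])

/-- a map of coefficient rings which is injective on tangent vectors is surjective -/
theorem surjective_of_tangent_injective (R S : CRing Λ k) (f : R.carrier →ₐ[Λ] S.carrier)
    (hf : S.res.comp f = R.res)
    (h : ∀ φ ψ : HomSet S.carrier S.res (dual Λ k), (∀ r, φ.1 (f r) = ψ.1 (f r)) → φ = ψ) :
    Function.Surjective f := by
  refine surjective_of_cotangent f R.res_surjective (fun s => (CRing.mem_maximalIdeal_iff S s).symm) hf ?_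
  by_contra hnot
  obtain ⟨s, hs, hsn⟩ := SetLike.not_le_iff_exists.1 hnot
  set I := (maximalIdeal R.carrier).map f ⊔ maximalIdeal S.carrier ^ 2 with hI
  have hIm : I ≤ maximalIdeal S.carrier := sup_le (cringHom_map_max hf) (Ideal.pow_le_self two_ne_zero)
  obtain ⟨E, g, hg, hker⟩ := exists_quot_of_le (S.truncHom 1) (truncHom_surjective S 1)
    (K := I) (fun x hx => Ideal.mem_sup_right (Ideal.Quotient.eq_zero_iff_mem.1 hx))
    (hIm.trans_eq (cring_ker_eq S).symm)
  set χ := HomSet.map g (S.truncHom 1) with hχdef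
  have hχ : Function.Surjective χ.1 := fun x => by
    obtain ⟨a, rfl⟩ := hg x
    obtain ⟨b, rfl⟩ := truncHom_surjective S 1 a
    exact ⟨b, rfl⟩
  let χR : HomSet R.carrier R.res E := ⟨χ.1.comp f, by rw [← AlgHom.comp_assoc, χ.2, hf]⟩
  obtain ⟨σ, hσ⟩ : ∃ σ : Art.base Λ k ⟶ E, HomSet.map σ (basePt R.carrier R.res) = χR := by
    refine exists_desc_homSet (E := Art.base Λ k) (basePt R.carrier R.res) R.res_surjective χR fun r hr => ?_
    change χ.1 (f r) = 0
    rw [← RingHom.mem_ker, hker]
    exact Ideal.mem_sup_left (Ideal.mem_map_of_mem _ ((CRing.mem_maximalIdeal_iff R r).2 hr))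
  have hres : ∀ t, E.res (χ.1 t) = S.res t := fun t => DFunLike.congr_fun χ.2 t
  have hE2 : maximalIdeal E ^ 2 = ⊥ := by
    rw [eq_bot_iff, pow_two, Ideal.mul_le]
    intro a ha b hb
    obtain ⟨a, rfl⟩ := hχ a
    obtain ⟨b, rfl⟩ := hχ b
    rw [E.mem_maximalIdeal_iff, hres] at ha hb
    rw [Ideal.mem_bot, ← map_mul, ← RingHom.mem_ker, hker]
    refine Ideal.mem_sup_right ?_
    rw [pow_two]
    exact Ideal.mul_mem_mul ((CRing.mem_maximalIdeal_iff S a).2 ha) ((CRing.mem_maximalIdeal_iff S b).2 hb)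
  obtain ⟨ψ, hψ, hψσ⟩ := exists_dual_functional hE2 σ (e₀ := χ.1 s)
    ((E.mem_maximalIdeal_iff _).2 ((hres s).trans ((CRing.mem_maximalIdeal_iff S s).1 hs)))
    (fun h0 => hsn (hker ▸ RingHom.mem_ker.2 h0))
  have h1 := h (HomSet.map ψ χ) (HomSet.map (zeroHom E) χ) fun r => by
    have hr : χ.1 (f r) = σ (R.res r) := (DFunLike.congr_fun (congrArg Subtype.val hσ) r).symm
    change ψ (χ.1 (f r)) = zeroHom E (χ.1 (f r))
    rw [hr, show zeroHom E = toBase E ≫ baseToDual from rfl]
    change (σ ≫ ψ) (R.res r) = baseToDual (E.res (σ (R.res r)))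
    rw [show E.res (σ (R.res r)) = R.res r from Art.res_app σ _]
    rw [hψσ]
  have h2 : TrivSqZeroExt.snd ((HomSet.map ψ χ).1 s) = TrivSqZeroExt.snd ((HomSet.map (zeroHom E) χ).1 s) := by
    rw [h1]
  exact one_ne_zero (hψ.symm.trans (h2.trans (snd_zeroHom _)))

end Groth.L12
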