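import Groth.Agent.L12.RegJets
import Groth.Agent.L12.PSSmooth
import Mathlib.Algebra.MvPolynomial.PDeriv
import Mathlib.Algebra.TrivSqZeroExt.Basic

/-!
The T¹-lifting property forces a polynomial associated graded ring in characteristic zero.
-/

universe u

open IsLocalRing MvPolynomial ArtFun ArtFun.Art

namespace Groth.L12.T1Power

variable {k : Type u} [Field k]

theorem pderiv_mem {d : ℕ} (i : Fin d) {n : ℕ} {p : MvPolynomial (Fin d) k}
    (hp : p ∈ idealOfVars (Fin d) k ^ (n + 1)) : pderiv i p ∈ idealOfVars (Fin d) k ^ n := by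
  rw [mem_pow_idealOfVars_iff'] at hp ⊢
  intro m hm
  rw [coeff_pderiv, hp _ (by rw [map_add, Finsupp.degree_single]; omega), zero_mul]

theorem eq_zero_of_pderiv [CharZero k] {d : ℕ} {e : ℕ} (he : e ≠ 0) {g : MvPolynomial (Fin d) k}
    (hg : g ∈ idealOfVars (Fin d) k ^ e) (h : ∀ i, pderiv i g ∈ idealOfVars (Fin d) k ^ e) :
    g ∈ idealOfVars (Fin d) k ^ (e + 1) := by
  rw [mem_pow_idealOfVars_iff'] at hg ⊢
  intro m hm
  rcases Nat.lt_or_eq_of_le (Nat.lt_succ_iff.1 hm) with hlt | heq
  · exact hg m hlt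
  obtain ⟨i, hi⟩ : ∃ i, m i ≠ 0 := by
    by_contra hall
    push Not at hall
    exact he (by rw [← heq, show m = 0 from Finsupp.ext hall, map_zero])
  set m' := m - Finsupp.single i 1 with hm'
  have hsum : m' + Finsupp.single i 1 = m :=
    tsub_add_cancel_of_le (Finsupp.single_le_iff.2 (Nat.one_le_iff_ne_zero.2 hi))
  have hdeg : m'.degree < e := by
    have := congrArg Finsupp.degree hsum
    rw [map_add, Finsupp.degree_single] at this
    omega
  have h1 := (mem_pow_idealOfVars_iff' e _).1 (h i) m' hdeg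
  rw [coeff_pderiv, hsum, mul_eq_zero] at h1
  exact h1.resolve_right (by exact_mod_cast Nat.succ_ne_zero (m' i))

/-- evaluation at dual-number points -/
theorem aeval_inl_add_inr {A : Type u} [CommRing A] [Algebra k A] {M : Type u} [AddCommGroup M]
    [Module A M] [Module Aᵐᵒᵖ M] [IsCentralScalar A M] [Module k M] [IsScalarTower k A M]
    [IsScalarTower k Aᵐᵒᵖ M] {d : ℕ} (b : Fin d → A) (w : Fin d → M) (p : MvPolynomial (Fin d) k) :
    aeval (fun i => (TrivSqZeroExt.inl (b i) + TrivSqZeroExt.inr (w i) : TrivSqZeroExt A M)) p =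
      TrivSqZeroExt.inl (aeval b p) + TrivSqZeroExt.inr (∑ i, aeval b (pderiv i p) • w i) := by
  classical
  induction p using MvPolynomial.induction_on with
  | C a => simp [TrivSqZeroExt.algebraMap_eq_inl']
  | add p q hp hq =>
    simp only [map_add, hp, hq, add_smul, Finset.sum_add_distrib, TrivSqZeroExt.inr_add,
      TrivSqZeroExt.inl_add]
    abel
  | mul_X p j hp =>
    rw [map_mul, hp, aeval_X]
    refine TrivSqZeroExt.ext (by simp) ?_
    simp only [TrivSqZeroExt.snd_mul, TrivSqZeroExt.fst_add, TrivSqZeroExt.fst_inl, TrivSqZeroExt.fst_inr,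
      TrivSqZeroExt.snd_add, TrivSqZeroExt.snd_inl, TrivSqZeroExt.snd_inr, add_zero, zero_add, op_smul_eq_smul,
      pderiv_mul, map_add, map_mul, aeval_X, pderiv_X, add_smul, Finset.sum_add_distrib]
    rw [Finset.smul_sum, add_comm]
    congr 1
    · exact Finset.sum_congr rfl fun i _ => by rw [smul_smul, mul_comm]
    · rw [Finset.sum_eq_single j]
      · simp
      · intro i _ hij
        simp [Ne.symm hij]
      · simp

variable {R : Type u} [CommRing R] [IsLocalRing R] [IsNoetherianRing R] [Algebra k R]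

/-- The T¹-lifting property, for a single local algebra. -/
def T1 (k : Type u) [Field k] (R : Type u) [CommRing R] [Algebra k R] : Prop :=
  ∀ (A : ArtFun.Art k k) (M M' : Type u) [AddCommGroup M] [Module (↥A) M] [Module (↥A)ᵐᵒᵖ M]
      [IsCentralScalar (↥A) M] [Module k M] [IsScalarTower k (↥A) M] [IsScalarTower k (↥A)ᵐᵒᵖ M]
      [AddCommGroup M'] [Module (↥A) M'] [Module (↥A)ᵐᵒᵖ M'] [IsCentralScalar (↥A) M'] [Module k M']
      [IsScalarTower k (↥A) M'] [IsScalarTower k (↥A)ᵐᵒᵖ M'] (f : M' →ₗ[↥A] M),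
      Function.Surjective f →
        ∀ φ : R →ₐ[k] TrivSqZeroExt (↥A) M,
          ∃ ψ : R →ₐ[k] TrivSqZeroExt (↥A) M',
            ∀ r : R, (ψ r).fst = (φ r).fst ∧ f (ψ r).snd = (φ r).snd

theorem exists_art_pow (resR : R →ₐ[k] k) (e : ℕ) :
    ∃ (A : Art k k) (π : R →ₐ[k] A), Function.Surjective π ∧ RingHom.ker π = maximalIdeal R ^ (e + 1) := by
  set I := maximalIdeal R ^ (e + 1)
  have hI : I ≤ maximalIdeal R := Ideal.pow_le_self (Nat.succ_ne_zero e)
  haveI : Nontrivial (R ⧸ I) := Ideal.Quotient.nontrivial_iff.2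
    (ne_top_of_le_ne_top (maximalIdeal.isMaximal R).ne_top hI)
  haveI : IsLocalRing (R ⧸ I) := IsLocalRing.of_surjective' _ Ideal.Quotient.mk_surjective
  haveI : IsArtinianRing (R ⧸ I) := by
    rw [isArtinianRing_iff_isNilpotent_maximalIdeal]
    refine ⟨e + 1, ?_⟩
    rw [← IsLocalRing.map_maximalIdeal_of_surjective (Ideal.Quotient.mk I) Ideal.Quotient.mk_surjective,
      ← Ideal.map_pow, Ideal.zero_eq_bot]
    exact Ideal.map_quotient_self _
  let res : R ⧸ I →ₐ[k] k := Ideal.Quotient.liftₐ I resR fun a ha => (mem_maximalIdeal_of_res resR a).1 (hI ha)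
  exact ⟨Art.of (R ⧸ I) res fun c => ⟨algebraMap k _ c, res.commutes c⟩, Ideal.Quotient.mkₐ k I,
    Ideal.Quotient.mk_surjective, Ideal.Quotient.mkₐ_ker k I⟩

omit [IsNoetherianRing R] in
theorem pow_le_ker {d : ℕ} (x : Fin d → R) (hx : Ideal.span (Set.range x) = maximalIdeal R) {B : Type u}
    [CommRing B] [Algebra k B] (ψ : R →ₐ[k] B) (n : ℕ)
    (h : ∀ p ∈ idealOfVars (Fin d) k ^ n, ψ (aeval x p) = 0) : maximalIdeal R ^ n ≤ RingHom.ker ψ := by
  have h1 : (idealOfVars (Fin d) k).map (aeval (R := k) x) = maximalIdeal R := by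
    rw [idealOfVars, Ideal.map_span, ← Set.range_comp, ← hx]
    simp [Function.comp_def]
  rw [← h1, ← Ideal.map_pow, Ideal.map_le_iff_le_comap]
  exact fun p hp => h p hp

theorem step [CharZero k] (H : T1 k R) (resR : R →ₐ[k] k) {d : ℕ} (x : Fin d → R)
    (hx : Ideal.span (Set.range x) = maximalIdeal R) (e : ℕ) (he : 1 ≤ e)
    (ih : ∀ p : MvPolynomial (Fin d) k, aeval x p ∈ maximalIdeal R ^ (e + 1) → p ∈ idealOfVars (Fin d) k ^ (e + 1))
    {g : MvPolynomial (Fin d) k} (hg : aeval x g ∈ maximalIdeal R ^ (e + 2)) :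
    g ∈ idealOfVars (Fin d) k ^ (e + 2) := by
  classical
  obtain ⟨A, π, hπs, hπk⟩ := exists_art_pow resR e
  let ev : MvPolynomial (Fin d) k →ₐ[k] A := π.comp (aeval x)
  have hev : ev = aeval (fun i => π (x i)) := comp_aeval x π
  have hker : ∀ p ∈ idealOfVars (Fin d) k ^ (e + 1), ev p = 0 := fun p hp => by
    have := RegJets.aeval_mem_span_pow x hp
    rw [hx, ← hπk] at this
    exact this
  let S : Set (Fin d → A) := (fun p => fun i => ev (pderiv i p)) '' {p | aeval x p ∈ maximalIdeal R ^ (e + 2)}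
  let N : Submodule A (Fin d → A) := Submodule.span A S
  let w : Fin d → Fin d → A := fun i => Pi.single i 1
  let φ0 : MvPolynomial (Fin d) k →ₐ[k] TrivSqZeroExt A ((Fin d → A) ⧸ N) :=
    aeval fun i => TrivSqZeroExt.inl (π (x i)) + TrivSqZeroExt.inr (N.mkQ (w i))
  let π' : MvPolynomial (Fin d) k →ₐ[k] R ⧸ maximalIdeal R ^ (e + 2) := (Ideal.Quotient.mkₐ k _).comp (aeval x)
  have hπ' : Function.Surjective π' := fun z => by
    obtain ⟨a, rfl⟩ := Ideal.Quotient.mk_surjective z
    obtain ⟨p, hp⟩ := RegJets.exists_approx resR x hx (e + 2) a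
    exact ⟨p, (Ideal.Quotient.eq.2 hp).symm⟩
  have hsum : ∀ (c : Fin d → A), ∑ i, c i • w i = c := fun c => by
    funext j
    simp [w, Finset.sum_apply, Pi.single_apply]
  have hle : RingHom.ker π' ≤ RingHom.ker φ0 := by
    intro p hp
    have hp' : aeval x p ∈ maximalIdeal R ^ (e + 2) := Ideal.Quotient.eq_zero_iff_mem.1 hp
    have h0 : ev p = 0 := by
      have : aeval x p ∈ RingHom.ker π := hπk ▸ Ideal.pow_le_pow_right (by omega) hp'
      exact this
    have h1 : ∑ i, ev (pderiv i p) • N.mkQ (w i) = 0 := by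
      rw [Finset.sum_congr rfl fun i _ => ((N.mkQ).map_smul (ev (pderiv i p)) (w i)).symm, ← map_sum, hsum,
        Submodule.mkQ_apply, Submodule.Quotient.mk_eq_zero]
      exact Submodule.subset_span ⟨p, hp', rfl⟩
    rw [RingHom.mem_ker]
    change aeval _ p = 0
    rw [aeval_inl_add_inr, ← hev, h0, h1]
    simp
  let φ : R →ₐ[k] TrivSqZeroExt A ((Fin d → A) ⧸ N) :=
    (AlgHom.liftOfSurjective π' hπ' φ0 hle).comp (Ideal.Quotient.mkₐ k _)
  have hφx : ∀ i, φ (x i) = TrivSqZeroExt.inl (π (x i)) + TrivSqZeroExt.inr (N.mkQ (w i)) := fun i => by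
    have h := DFunLike.congr_fun (AlgHom.liftOfSurjective_comp π' hπ' φ0 hle) (X i)
    simpa [π', φ0, φ] using h
  obtain ⟨ψ, hψ⟩ := H A ((Fin d → A) ⧸ N) (Fin d → A) N.mkQ N.mkQ_surjective φ
  let w' : Fin d → Fin d → A := fun i => (ψ (x i)).snd
  have hψx : ψ.comp (aeval x) = aeval fun i => TrivSqZeroExt.inl (π (x i)) + TrivSqZeroExt.inr (w' i) := by
    rw [comp_aeval]
    congr 1
    funext i
    refine TrivSqZeroExt.ext ?_ (by simp [w'])
    rw [(hψ (x i)).1, hφx]
    simp
  have hδ : ∀ i, w' i - w i ∈ N := fun i => by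
    rw [← Submodule.Quotient.eq]
    have := (hψ (x i)).2
    rw [hφx] at this
    simpa [w'] using this
  have hψ0 : ψ (aeval x g) = 0 := by
    refine RingHom.mem_ker.1 (pow_le_ker x hx ψ (e + 2) (fun p hp => ?_) hg)
    rw [← AlgHom.comp_apply, hψx, aeval_inl_add_inr, ← hev,
      hker p (Ideal.pow_le_pow_right (by omega) hp)]
    simp [fun i => hker _ (pderiv_mem i hp)]
  rw [← AlgHom.comp_apply, hψx, aeval_inl_add_inr, ← hev] at hψ0
  have h2 : ∑ i, ev (pderiv i g) • w' i = 0 := by simpa using congrArg TrivSqZeroExt.snd hψ0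
  have hg1 : g ∈ idealOfVars (Fin d) k ^ (e + 1) := ih g (Ideal.pow_le_pow_right (by omega) hg)
  have h3 : ∀ i, ∀ δ ∈ N, ev (pderiv i g) • δ = 0 := by
    intro i δ hδ'
    induction hδ' using Submodule.span_induction with
    | mem v hv =>
      obtain ⟨p, hp, rfl⟩ := hv
      funext j
      rw [Pi.smul_apply, smul_eq_mul, Pi.zero_apply, ← map_mul]
      refine hker _ (Ideal.pow_le_pow_right (by omega : e + 1 ≤ e + e) ?_)
      rw [pow_add]
      have hp1 : p ∈ idealOfVars (Fin d) k ^ (e + 1) :=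
        ih p (Ideal.pow_le_pow_right (by omega : e + 1 ≤ e + 2) hp)
      exact Ideal.mul_mem_mul (pderiv_mem i hg1) (pderiv_mem j hp1)
    | zero => rw [smul_zero]
    | add u v _ _ hu hv => rw [smul_add, hu, hv, add_zero]
    | smul a u _ hu => rw [smul_comm, hu, smul_zero]
  have h4 : (fun i => ev (pderiv i g)) = 0 := by
    rw [← hsum (fun i => ev (pderiv i g)), ← h2]
    refine Finset.sum_congr rfl fun i _ => ?_
    have := h3 i _ (hδ i)
    rw [smul_sub, sub_eq_zero] at this
    exact this.symm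
  refine eq_zero_of_pderiv (Nat.succ_ne_zero e) hg1 fun i => ih _ ?_
  have h5 : aeval x (pderiv i g) ∈ RingHom.ker π := congrFun h4 i
  rwa [hπk] at h5

/-- In characteristic zero, T¹-lifting makes the associated graded ring polynomial. -/
theorem exists_indep [CharZero k] (H : T1 k R) (resR : R →ₐ[k] k) :
    ∃ (d : ℕ) (x : Fin d → R), Ideal.span (Set.range x) = maximalIdeal R ∧
      ∀ (N : ℕ) (p : MvPolynomial (Fin d) k), aeval x p ∈ maximalIdeal R ^ N → p ∈ idealOfVars (Fin d) k ^ N := by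
  classical
  obtain ⟨d, x, hxm, hgen, hmin⟩ := Groth.L12.exists_minimal_gens (maximalIdeal R ^ 2)
  have hspan : Ideal.span (Set.range x) = maximalIdeal R := by
    refine le_antisymm (Ideal.span_le.2 (Set.range_subset_iff.2 hxm)) ?_
    exact Groth.L01.maximalIdeal_le_of_le_sup_sq hgen
  refine ⟨d, x, hspan, ?_⟩
  intro N
  induction N with
  | zero => simp
  | succ N ih =>
    intro p hp
    match N with
    | 0 =>
      rw [mem_pow_idealOfVars_iff']
      intro m hm
      obtain rfl : m = 0 := (Finsupp.degree_eq_zero_iff m).1 (by omega)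
      rw [zero_add, pow_one, mem_maximalIdeal_of_res resR, ← AlgHom.comp_apply, comp_aeval] at hp
      have : (fun i => resR (x i)) = 0 := funext fun i => (mem_maximalIdeal_of_res resR _).1 (hxm i)
      rw [this] at hp
      simpa [constantCoeff_eq] using hp
    | 1 =>
      have h1 : p ∈ idealOfVars (Fin d) k := by
        simpa using ih p (Ideal.pow_le_pow_right (Nat.le_succ 1) hp)
      rw [idealOfVars, Ideal.mem_span_range_iff_exists_fun] at h1
      obtain ⟨c, rfl⟩ := h1
      have h2 : ∀ i, resR (aeval x (c i)) = 0 := fun i => by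
        rw [← mem_maximalIdeal_of_res]
        refine hmin (fun i => aeval x (c i)) ?_ i
        simpa [constantCoeff_eq] using hp
      rw [pow_two]
      refine Ideal.sum_mem _ fun i _ => Ideal.mul_mem_mul ?_ (Ideal.subset_span ⟨i, rfl⟩)
      rw [← pow_one (idealOfVars (Fin d) k), mem_pow_idealOfVars_iff']
      intro m hm
      obtain rfl : m = 0 := (Finsupp.degree_eq_zero_iff m).1 (by omega)
      have h3 := h2 i
      rw [← AlgHom.comp_apply, comp_aeval, show (fun i => resR (x i)) = 0 from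
        funext fun i => (mem_maximalIdeal_of_res resR _).1 (hxm i)] at h3
      simpa [constantCoeff_eq] using h3
    | e + 2 => exact step H resR x hspan (e + 1) (by omega) ih hp

end Groth.L12.T1Power
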