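import Groth.Agent.L07.QuasiRegular
import Mathlib.Algebra.MvPolynomial.Derivation
import Mathlib.Algebra.MvPolynomial.PDeriv
import Mathlib.LinearAlgebra.Quotient.Basic
import Mathlib.Tactic

/-!
`T¹` of a complete intersection in a polynomial ring.
-/

universe u

open MvPolynomial

namespace Groth.L12.TOneCI

variable {R : Type u} [CommRing R] {n : ℕ} (f : Fin n → R)

lemma rel_mem_span (hreg : RingTheory.Sequence.IsWeaklyRegular R (List.ofFn f)) (c : Fin n → R)
    (h : ∑ i, c i * f i = 0) (i : Fin n) : c i ∈ Ideal.span (Set.range f) := by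
  classical
  have hrel := Groth.L07.QReg.isQuasiRegular_iff_relCoeff.mp
    (Groth.L07.QReg.isQuasiRegular_of_isWeaklyRegular hreg)
  have := hrel 1 (∑ j, C (c j) * X j) (MvPolynomial.IsHomogeneous.sum _ _ _ fun j _ =>
    (isHomogeneous_X _ j).C_mul _) (by simpa [map_sum] using h) (Finsupp.single i 1)
  simpa [coeff_sum, coeff_C_mul, coeff_X', Finsupp.single_left_inj] using this

/-- `Hom_R(J, R/J) ≃ (R/J)^n` for the ideal of a weakly regular sequence. -/
theorem exists_equiv (hreg : RingTheory.Sequence.IsWeaklyRegular R (List.ofFn f)) :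
    ∃ e : (↥(Ideal.span (Set.range f)) →ₗ[R] (R ⧸ Ideal.span (Set.range f))) ≃ₗ[R]
        (Fin n → R ⧸ Ideal.span (Set.range f)),
      ∀ φ i, e φ i = φ ⟨f i, Ideal.subset_span (Set.mem_range_self i)⟩ := by
  set J := Ideal.span (Set.range f) with hJ
  let g : Fin n → ↥J := fun i => ⟨f i, Ideal.subset_span (Set.mem_range_self i)⟩
  let π : (Fin n → R) →ₗ[R] ↥J := ∑ i, LinearMap.smulRight (LinearMap.proj i) (g i)
  have hπc : ∀ c, (π c : R) = ∑ i, c i * f i := fun c => by simp [π, g]
  have hπs : Function.Surjective π := fun x => by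
    obtain ⟨c, hc⟩ := Ideal.mem_span_range_iff_exists_fun.1 (show (x : R) ∈ Ideal.span (Set.range f) from x.2)
    exact ⟨c, Subtype.ext ((hπc c).trans hc)⟩
  have hπsingle : ∀ i, π (Pi.single i 1) = g i := fun i => by
    refine Subtype.ext ?_
    rw [hπc, Finset.sum_eq_single i (fun j _ hj => by simp [hj]) (fun h => absurd (Finset.mem_univ i) h)]
    simp [g]
  let ev : (↥J →ₗ[R] (R ⧸ J)) →ₗ[R] (Fin n → R ⧸ J) := LinearMap.pi fun i => LinearMap.applyₗ (g i)
  have hev : Function.Bijective ev := by
    constructor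
    · intro φ ψ h
      refine LinearMap.ext fun x => ?_
      obtain ⟨c, rfl⟩ := hπs x
      simp only [π, LinearMap.coe_sum, Finset.sum_apply, LinearMap.coe_smulRight, LinearMap.coe_proj,
        Function.eval, map_sum, map_smul]
      exact Finset.sum_congr rfl fun i _ => congrArg (c i • ·) (congrFun h i)
    · intro b
      let ψ : (Fin n → R) →ₗ[R] (R ⧸ J) := ∑ i, LinearMap.smulRight (LinearMap.proj i) (b i)
      have hker : LinearMap.ker π ≤ LinearMap.ker ψ := by
        intro c hc
        have h0 : ∑ i, c i * f i = 0 := by rw [← hπc, LinearMap.mem_ker.mp hc]; rfl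
        rw [LinearMap.mem_ker]
        simp only [ψ, LinearMap.coe_sum, Finset.sum_apply, LinearMap.coe_smulRight, LinearMap.coe_proj, Function.eval]
        refine Finset.sum_eq_zero fun i _ => ?_
        rw [Algebra.smul_def, Ideal.Quotient.algebraMap_eq,
          Ideal.Quotient.eq_zero_iff_mem.mpr (rel_mem_span f hreg c h0 i), zero_mul]
      let φ : ↥J →ₗ[R] (R ⧸ J) :=
        ((LinearMap.ker π).liftQ ψ hker) ∘ₗ (π.quotKerEquivOfSurjective hπs).symm.toLinearMap
      refine ⟨φ, funext fun i => ?_⟩
      have h1 : (π.quotKerEquivOfSurjective hπs).symm (g i) = Submodule.Quotient.mk (Pi.single i 1) := by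
        rw [LinearEquiv.symm_apply_eq, ← hπsingle i]; rfl
      change φ (g i) = b i
      change ((LinearMap.ker π).liftQ ψ hker) ((π.quotKerEquivOfSurjective hπs).symm (g i)) = b i
      rw [h1]
      change ψ (Pi.single i 1) = b i
      simp only [ψ, LinearMap.coe_sum, Finset.sum_apply, LinearMap.coe_smulRight, LinearMap.coe_proj, Function.eval]
      rw [Finset.sum_eq_single i (fun j _ hj => by simp [hj]) (fun h => absurd (Finset.mem_univ i) h)]
      simp
  exact ⟨LinearEquiv.ofBijective ev hev, fun φ i => rfl⟩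

end Groth.L12.TOneCI

namespace Groth.L12.TOneCI

theorem derivation_eq {k : Type u} [CommRing k] {d : ℕ} {B : Type u} [CommRing B] [Algebra (MvPolynomial (Fin d) k) B]
    [Algebra k B] [IsScalarTower k (MvPolynomial (Fin d) k) B]
    (D : Derivation k (MvPolynomial (Fin d) k) B) (p : MvPolynomial (Fin d) k) :
    D p = ∑ j, algebraMap (MvPolynomial (Fin d) k) B (pderiv j p) * D (X j) := by
  induction p using MvPolynomial.induction_on with
  | C c =>
    rw [Finset.sum_eq_zero (fun j _ => by rw [pderiv_C, map_zero, zero_mul]), ← MvPolynomial.algebraMap_eq,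
      Derivation.map_algebraMap]
  | add p q hp hq =>
    simp only [map_add, hp, hq, add_mul, Finset.sum_add_distrib]
  | mul_X p i hp =>
    rw [Derivation.leibniz, hp, Algebra.smul_def, Algebra.smul_def]
    have h2 : ∀ j, pderiv j (p * X i) = p * Pi.single (M := fun _ => MvPolynomial (Fin d) k) i 1 j + X i * pderiv j p := by
      intro j
      rw [Derivation.leibniz, pderiv_X, smul_eq_mul, smul_eq_mul]
      congr 2
      rw [Pi.single_apply, Pi.single_apply]
      by_cases h : i = j
      · subst h; simp
      · simp [h, Ne.symm h]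
    simp only [h2, map_add, map_mul, add_mul, Finset.sum_add_distrib, Finset.mul_sum]
    congr 1
    · rw [Finset.sum_eq_single i (fun j _ hj => by simp [hj]) (fun h => absurd (Finset.mem_univ i) h)]
      simp
    · exact Finset.sum_congr rfl fun j _ => by ring

end Groth.L12.TOneCI
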