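import Groth.Agent.L12.NatMap

/-!
# The tangent space of a functor of Artin rings
-/

universe u v w

open CategoryTheory ArtFun ArtFun.Art IsLocalRing

namespace Groth.L12

variable {Λ : Type u} {k : Type u} [CommRing Λ] [Field k] [Algebra Λ k]

lemma dual_ext {x y : dual Λ k} (h₁ : TrivSqZeroExt.fst x = TrivSqZeroExt.fst y)
    (h₂ : TrivSqZeroExt.snd x = TrivSqZeroExt.snd y) : x = y := TrivSqZeroExt.ext h₁ h₂

lemma dualHom_ext {C : Art Λ k} {u v : C ⟶ dual Λ k}
    (h : ∀ c, TrivSqZeroExt.snd (u c) = TrivSqZeroExt.snd (v c)) : u = v :=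
  hom_ext fun c => dual_ext ((Art.res_app u c).trans (Art.res_app v c).symm) (h c)

@[simp] lemma snd_scale (c : k) (x : dual Λ k) :
    TrivSqZeroExt.snd ((scale c : dual Λ k ⟶ dual Λ k) x) = c * TrivSqZeroExt.snd x := rfl

@[simp] lemma snd_plus (x : dual2 Λ k) :
    TrivSqZeroExt.snd ((plus : dual2 Λ k ⟶ dual Λ k) x) =
      (TrivSqZeroExt.snd x).1 + (TrivSqZeroExt.snd x).2 := rfl

/-- the pair of two maps to `k[ε]` -/
lemma exists_pairHom {C : Art Λ k} (u v : C ⟶ dual Λ k) :
    ∃ w : C ⟶ dual2 Λ k, w ≫ pr₁ = u ∧ w ≫ pr₂ = v :=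
  IsFP.exists_lift isFibreProd_dual2 u v (by rw [eq_toBase (u ≫ _), eq_toBase (v ≫ _)])

/-- sum of two maps to `k[ε]` -/
noncomputable def sumHom {C : Art Λ k} (u v : C ⟶ dual Λ k) : C ⟶ dual Λ k :=
  (exists_pairHom u v).choose ≫ plus

lemma snd_sumHom {C : Art Λ k} (u v : C ⟶ dual Λ k) (c : C) :
    TrivSqZeroExt.snd (sumHom u v c) = TrivSqZeroExt.snd (u c) + TrivSqZeroExt.snd (v c) := by
  have h := (exists_pairHom u v).choose_spec
  have h₁ := congrArg (fun f : C ⟶ dual Λ k => TrivSqZeroExt.snd (f c)) h.1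
  have h₂ := congrArg (fun f : C ⟶ dual Λ k => TrivSqZeroExt.snd (f c)) h.2
  exact congr_arg₂ (· + ·) h₁ h₂

lemma snd_baseToDual (c : Art.base Λ k) :
    TrivSqZeroExt.snd ((baseToDual : Art.base Λ k ⟶ dual Λ k) c) = 0 := rfl

/-- the zero map to `k[ε]` -/
def zeroHom (C : Art Λ k) : C ⟶ dual Λ k := toBase C ≫ baseToDual

@[simp] lemma snd_zeroHom {C : Art Λ k} (c : C) : TrivSqZeroExt.snd (zeroHom C c) = 0 := rfl

lemma map_congr (F : Art Λ k ⥤ Type v) {A B : Art Λ k} {f g : A ⟶ B} (h : f = g) (x : F.obj A) :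
    F.map f x = F.map g x := by rw [h]

section

variable (F : Art Λ k ⥤ Type v)

/-- sum through `F(k[ε₁, ε₂])` -/
noncomputable def addT (h0 : H0 F) (h2 : Heps F) (x y : F.obj (dual Λ k)) : F.obj (dual Λ k) :=
  F.map plus ((Equiv.ofBijective _ (h2 pr₁ pr₂ isFibreProd_dual2)).symm
    ⟨(x, y), @Subsingleton.elim _ h0.2 _ _⟩)

variable {F}

lemma addT_map (h0 : H0 F) (h2 : Heps F) {C : Art Λ k} (u v : C ⟶ dual Λ k) (ζ : F.obj C) :
    addT F h0 h2 (F.map u ζ) (F.map v ζ) = F.map (sumHom u v) ζ := by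
  have hw := (exists_pairHom u v).choose_spec
  unfold addT sumHom
  rw [← map_map F _ plus]
  congr 1
  apply (Equiv.symm_apply_eq _).2
  apply FibProd.ext
  · change F.map u ζ = F.map pr₁ (F.map _ ζ)
    rw [map_map, hw.1]
  · change F.map v ζ = F.map pr₂ (F.map _ ζ)
    rw [map_map, hw.2]

lemma exists_pair (h0 : H0 F) (h2 : Heps F) (x y : F.obj (dual Λ k)) :
    ∃ z : F.obj (dual2 Λ k), F.map pr₁ z = x ∧ F.map pr₂ z = y :=
  (cmp_surj_iff F isFibreProd_dual2).1 (h2 pr₁ pr₂ isFibreProd_dual2).2 x y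
    (@Subsingleton.elim _ h0.2 _ _)

lemma exists_triple (h0 : H0 F) (h2 : Heps F) (x y z : F.obj (dual Λ k)) :
    ∃ (C : Art Λ k) (u v w : C ⟶ dual Λ k) (ζ : F.obj C),
      F.map u ζ = x ∧ F.map v ζ = y ∧ F.map w ζ = z := by
  obtain ⟨ξ, h₁, h₂⟩ := exists_pair h0 h2 x y
  obtain ⟨C, q, w, hC⟩ := exists_isFibreProd_of_surjective (toBase (dual2 Λ k)) (toBase (dual Λ k))
    (toBase_surjective _)
  obtain ⟨ζ, e₁, e₂⟩ := (cmp_surj_iff F hC).1 (h2 q w hC).2 ξ z (@Subsingleton.elim _ h0.2 _ _)
  exact ⟨C, q ≫ pr₁, q ≫ pr₂, w, ζ, by rw [← map_map, e₁, h₁], by rw [← map_map, e₁, h₂], e₂⟩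

theorem nonempty_tangentStr (h0 : H0 F) (h2 : Heps F) : Nonempty (TangentStr F) := by
  obtain ⟨pt⟩ := h0.1
  have hz : ∀ {C : Art Λ k} (ζ : F.obj C), F.map (zeroHom C) ζ = F.map baseToDual pt := by
    intro C ζ
    rw [zeroHom, ← map_map, @Subsingleton.elim _ h0.2 (F.map (toBase C) ζ) pt]
  have hid : ∀ x : F.obj (dual Λ k), F.map (𝟙 _) x = x := fun x => map_id' F x
  letI : Add (F.obj (dual Λ k)) := ⟨addT F h0 h2⟩
  letI : Zero (F.obj (dual Λ k)) := ⟨F.map baseToDual pt⟩
  letI : Neg (F.obj (dual Λ k)) := ⟨fun x => F.map (scale (-1)) x⟩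
  letI : SMul k (F.obj (dual Λ k)) := ⟨fun c x => F.map (scale c) x⟩
  have hA : ∀ {C : Art Λ k} (u v : C ⟶ dual Λ k) (ζ : F.obj C),
      F.map u ζ + F.map v ζ = F.map (sumHom u v) ζ := fun u v ζ => addT_map h0 h2 u v ζ
  have hS : ∀ {C : Art Λ k} (c : k) (u : C ⟶ dual Λ k) (ζ : F.obj C),
      c • F.map u ζ = F.map (u ≫ scale c) ζ := fun c u ζ => map_map F u _ ζ
  have zero_add' : ∀ x : F.obj (dual Λ k), 0 + x = x := fun x => by
    obtain ⟨z, rfl, -⟩ := exists_pair h0 h2 x x
    rw [show (0 : F.obj (dual Λ k)) = F.map (zeroHom _) z from (hz z).symm, hA]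
    refine map_congr F (dualHom_ext fun c => ?_) _
    exact by simp [snd_sumHom]
  letI G : AddCommGroup (F.obj (dual Λ k)) :=
    { add_assoc := fun x y z => by
        obtain ⟨C, u, v, w, ζ, rfl, rfl, rfl⟩ := exists_triple h0 h2 x y z
        rw [hA, hA, hA, hA]
        refine map_congr F (dualHom_ext fun c => ?_) _
        exact by simp [snd_sumHom, add_assoc]
      zero_add := zero_add'
      add_zero := fun x => by
        obtain ⟨z, rfl, -⟩ := exists_pair h0 h2 x x
        rw [show (0 : F.obj (dual Λ k)) = F.map (zeroHom _) z from (hz z).symm, hA]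
        refine map_congr F (dualHom_ext fun c => ?_) _
        exact by simp [snd_sumHom]
      neg_add_cancel := fun x => by
        obtain ⟨z, rfl, -⟩ := exists_pair h0 h2 x x
        change F.map (scale (-1)) (F.map pr₁ z) + _ = _
        rw [show (0 : F.obj (dual Λ k)) = F.map (zeroHom _) z from (hz z).symm, map_map, hA]
        refine map_congr F (dualHom_ext fun c => ?_) _
        exact by
          rw [snd_sumHom, snd_zeroHom]
          change (-1) * TrivSqZeroExt.snd (pr₁ c) + TrivSqZeroExt.snd (pr₁ c) = 0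
          ring
      add_comm := fun x y => by
        obtain ⟨z, rfl, rfl⟩ := exists_pair h0 h2 x y
        rw [hA, hA]
        refine map_congr F (dualHom_ext fun c => ?_) _
        exact by simp [snd_sumHom, add_comm]
      nsmul := nsmulRec
      zsmul := zsmulRec }
  letI M : Module k (F.obj (dual Λ k)) :=
      { one_smul := fun x => by
          change F.map (scale 1) x = x
          conv_rhs => rw [← hid x]
          refine map_congr F (dualHom_ext fun c => ?_) _
          exact by simp
        mul_smul := fun a b x => by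
          change F.map (scale (a * b)) x = F.map (scale a) (F.map (scale b) x)
          rw [map_map]
          refine map_congr F (dualHom_ext fun c => ?_) _
          exact mul_assoc a b _
        smul_zero := fun a => by
          change F.map (scale a) (F.map baseToDual pt) = F.map baseToDual pt
          rw [map_map]
          refine map_congr F (dualHom_ext fun c => ?_) _
          exact by
            change a * TrivSqZeroExt.snd ((baseToDual : Art.base Λ k ⟶ dual Λ k) c) = _
            rw [snd_baseToDual, mul_zero]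
        smul_add := fun a x y => by
          obtain ⟨z, rfl, rfl⟩ := exists_pair h0 h2 x y
          rw [hA, hS, hS, hS, hA]
          refine map_congr F (dualHom_ext fun c => ?_) _
          rw [snd_sumHom]
          change a * TrivSqZeroExt.snd (sumHom pr₁ pr₂ c) = _
          rw [snd_sumHom, mul_add]
          rfl
        add_smul := fun a b x => by
          obtain ⟨z, rfl, -⟩ := exists_pair h0 h2 x x
          rw [hS, hS, hS, hA]
          refine map_congr F (dualHom_ext fun c => ?_) _
          rw [snd_sumHom]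
          exact add_mul a b _
        zero_smul := fun x => by
          change F.map (scale 0) x = F.map baseToDual pt
          rw [← hz x]
          refine map_congr F (dualHom_ext fun c => ?_) _
          exact by simp }
  refine ⟨{ addCommGroup := G, module := M, smul_eq := fun c x => rfl, add_eq := fun z => ?_ }⟩
  · change F.map pr₁ z + F.map pr₂ z = F.map plus z
    rw [hA]
    refine map_congr F (dualHom_ext fun c => ?_) _
    exact by rw [snd_sumHom]; rfl

lemma add_map [TangentStr F] {C : Art Λ k} (u v : C ⟶ dual Λ k) (ζ : F.obj C) :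
    (TangentSpace.mk (F.map u ζ) + TangentSpace.mk (F.map v ζ) : TangentSpace F) =
      TangentSpace.mk (F.map (sumHom u v) ζ) := by
  have hw := (exists_pairHom u v).choose_spec
  have := TangentStr.add_eq (F := F) (F.map (exists_pairHom u v).choose ζ)
  rw [map_map, map_map, map_map, hw.1, hw.2] at this
  exact this

lemma smul_map [TangentStr F] {C : Art Λ k} (c : k) (u : C ⟶ dual Λ k) (ζ : F.obj C) :
    (c • TangentSpace.mk (F.map u ζ) : TangentSpace F) = TangentSpace.mk (F.map (u ≫ scale c) ζ) := by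
  have := TangentStr.smul_eq (F := F) c (F.map u ζ)
  rw [map_map] at this
  exact this

lemma zero_map [TangentStr F] {C : Art Λ k} (ζ : F.obj C) :
    TangentSpace.mk (F.map (zeroHom C) ζ) = (0 : TangentSpace F) := by
  have h := smul_map (F := F) 0 (zeroHom C) ζ
  rw [zero_smul, show zeroHom C ≫ scale 0 = zeroHom C from dualHom_ext fun c => by
    change (0 : k) * TrivSqZeroExt.snd (zeroHom C c) = _
    rw [zero_mul]
    rfl] at h
  exact h.symm

/-- the differential of a natural map is linear -/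
theorem exists_linearMap {F : Art Λ k ⥤ Type v} {G : Art Λ k ⥤ Type w} [TangentStr F] [TangentStr G]
    (h0 : H0 F) (h2 : Heps F) (η : NatMap F G) :
    ∃ f : TangentSpace F →ₗ[k] TangentSpace G, ∀ x, f x = η.app (dual Λ k) x := by
  refine ⟨{ toFun := fun x => η.app (dual Λ k) x, map_add' := fun x y => ?_,
            map_smul' := fun c x => ?_ }, fun x => rfl⟩
  · obtain ⟨z, h₁, h₂⟩ := exists_pair h0 h2 x y
    subst h₁ h₂
    change η.app _ (TangentSpace.mk (F.map pr₁ z) + TangentSpace.mk (F.map pr₂ z) : TangentSpace F) = _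
    rw [add_map]
    change η.app _ (F.map _ z) = TangentSpace.mk (η.app _ (F.map pr₁ z)) + TangentSpace.mk (η.app _ (F.map pr₂ z))
    rw [η.natural, η.natural, η.natural, add_map]
    rfl
  · change η.app _ (c • x : TangentSpace F) = c • TangentSpace.mk (η.app _ x)
    rw [show (c • x : TangentSpace F) = F.map (scale c) x from TangentStr.smul_eq c x]
    exact (η.natural _ _).trans (TangentStr.smul_eq c _).symm

end

end Groth.L12
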