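import Groth.Agent.L12.Tangent

/-!
# The action of the tangent space on the lifts along a small extension
-/

universe u v w

open CategoryTheory ArtFun ArtFun.Art IsLocalRing

namespace Groth.L12

variable {Λ : Type u} {k : Type u} [CommRing Λ] [Field k] [Algebra Λ k]

/-- lift of a scalar -/
noncomputable def liftRes (B : Art Λ k) (c : k) : B := Function.surjInv B.res_surjective c

@[simp] lemma res_liftRes (B : Art Λ k) (c : k) : B.res (liftRes B c) = c :=
  Function.surjInv_eq B.res_surjective c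

/-- the data of the square `B ×_A B` of a small extension, identified with `B ×_k k[ε]` -/
structure SmallSquare {B A : Art Λ k} (p : B ⟶ A) where
  /-- generator of the kernel -/
  t : B
  /-- the fibre product -/
  P : Art Λ k
  /-- first projection -/
  p₁ : P ⟶ B
  /-- second projection -/
  p₂ : P ⟶ B
  /-- the difference -/
  g : P ⟶ dual Λ k
  hP : IsFibreProd p₁ p₂ p p
  hg : ∀ z : P, p₂ z = p₁ z + liftRes B (TrivSqZeroExt.snd (g z)) * t
  hPg : IsFibreProd p₁ g (toBase B) (toBase (dual Λ k))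
  t_ne : t ≠ 0
  t_ker : p t = 0
  t_max : ∀ a ∈ maximalIdeal B, a * t = 0
  small : IsSmallExt p

lemma coef_unique {B : Art Λ k} {t : B} (ht0 : t ≠ 0) (htm : ∀ a ∈ maximalIdeal B, a * t = 0)
    {a b : B} (h : a * t = b * t) : B.res a = B.res b := by
  by_contra hne
  have hu : IsUnit (a - b) := (isUnit_iff_res_ne_zero B _).2 (by rwa [map_sub, sub_ne_zero])
  exact ht0 ((hu.mul_right_eq_zero).1 (by rw [sub_mul, h, sub_self]))

lemma nonempty_smallSquare {B A : Art Λ k} {p : B ⟶ A} (hp : IsSmallExt p) :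
    Nonempty (SmallSquare p) := by
  obtain ⟨t, ht, ht0, htk, htm⟩ := IsSmall.exists_gen hp
  obtain ⟨P, p₁, p₂, hP⟩ := exists_isFibreProd_of_surjective p p hp.1
  have key : ∀ z : P, ∃ c : k, p₂ z = p₁ z + liftRes B c * t := fun z => by
    have hz : p₂ z - p₁ z ∈ Ideal.span {t} := by
      rw [← ht, RingHom.mem_ker, map_sub, sub_eq_zero]
      exact (hP.w_apply z).symm
    obtain ⟨b, hb⟩ := Ideal.mem_span_singleton'.1 hz
    exact ⟨B.res b, by rw [mul_eq_of_res_eq (res_liftRes B _) htm, hb, add_sub_cancel]⟩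
  choose d hd using key
  have huniq : ∀ {b : B} {c : k}, b * t = liftRes B c * t → B.res b = c := fun h => by
    rw [coef_unique ht0 htm h, res_liftRes]
  have hmap : ∀ (z : P) (b : B), p₂ z = p₁ z + b * t → d z = B.res b := fun z b h =>
    (huniq (add_left_cancel (a := p₁ z) (h.symm.trans (hd z)))).symm
  have hd_alg : ∀ r : Λ, d (algebraMap Λ P r) = 0 := fun r => by
    rw [hmap (algebraMap Λ P r) 0 (by rw [AlgHom.commutes, AlgHom.commutes, zero_mul, add_zero]), map_zero]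
  have hd_one : d 1 = 0 := by rw [← map_one (algebraMap Λ P)]; exact hd_alg 1
  have hd_zero : d 0 = 0 := by rw [← map_zero (algebraMap Λ P)]; exact hd_alg 0
  have hd_add : ∀ x y, d (x + y) = d x + d y := fun x y => by
    rw [hmap (x + y) (liftRes B (d x) + liftRes B (d y))
      (by rw [map_add, map_add, hd x, hd y]; ring), map_add, res_liftRes, res_liftRes]
  have hd_mul : ∀ x y, d (x * y) = P.res x * d y + d x * P.res y := fun x y => by
    have hsq : t * t = 0 := htm t (ker_le_maximalIdeal p (RingHom.mem_ker.2 htk))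
    rw [hmap (x * y) (p₁ x * liftRes B (d y) + liftRes B (d x) * p₁ y)
      (by rw [map_mul, map_mul, hd x, hd y]; linear_combination liftRes B (d x) * liftRes B (d y) * hsq),
      map_add, map_mul, map_mul, res_liftRes, res_liftRes, Art.res_app, Art.res_app]
  let φ : P →ₐ[Λ] dual Λ k :=
    { toFun := fun z => (P.res z, d z)
      map_one' := TrivSqZeroExt.ext (map_one P.res) hd_one
      map_mul' := fun x y => TrivSqZeroExt.ext (map_mul P.res x y) (by
        change d (x * y) = P.res x • d y + MulOpposite.op (P.res y) • d x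
        rw [hd_mul, op_smul_eq_smul, smul_eq_mul, smul_eq_mul, mul_comm (P.res y)])
      map_zero' := TrivSqZeroExt.ext (map_zero P.res) hd_zero
      map_add' := fun x y => TrivSqZeroExt.ext (map_add P.res x y) (hd_add x y)
      commutes' := fun r => TrivSqZeroExt.ext (by
          change P.res (algebraMap Λ P r) = TrivSqZeroExt.fst (algebraMap Λ (DualNumber k) r)
          rw [AlgHom.commutes, TrivSqZeroExt.algebraMap_eq_inl', TrivSqZeroExt.fst_inl]) (by
          change d (algebraMap Λ P r) = TrivSqZeroExt.snd (algebraMap Λ (DualNumber k) r)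
          rw [hd_alg, TrivSqZeroExt.algebraMap_eq_inl', TrivSqZeroExt.snd_inl]) }
  refine ⟨{ t := t, P := P, p₁ := p₁, p₂ := p₂, g := ⟨φ, AlgHom.ext fun _ => rfl⟩, hP := hP, hg := hd,
            hPg := ?_, t_ne := ht0, t_ker := htk, t_max := htm, small := hp }⟩
  refine ⟨(eq_toBase _).trans (eq_toBase _).symm, fun z₁ z₂ e₁ e₂ => hP.inj _ _ e₁ ?_, fun b q e => ?_⟩
  · rw [hd z₁, hd z₂, e₁]
    have : d z₁ = d z₂ := congrArg TrivSqZeroExt.snd e₂
    rw [this]
  · obtain ⟨z, hz₁, hz₂⟩ := hP.surj b (b + liftRes B (TrivSqZeroExt.snd q) * t) (by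
      rw [map_add, map_mul, show p t = 0 from htk, mul_zero, add_zero])
    refine ⟨z, hz₁, TrivSqZeroExt.ext ?_ ?_⟩
    · change P.res z = _
      rw [← Art.res_app p₁, hz₁]
      exact e
    · change d z = _
      rw [hmap z (liftRes B (TrivSqZeroExt.snd q)) (by rw [hz₁, hz₂]), res_liftRes]

namespace SmallSquare

variable {B A : Art Λ k} {p : B ⟶ A} (S : SmallSquare p)

lemma p₂_p : S.p₁ ≫ p = S.p₂ ≫ p := S.hP.w

/-- the diagonal -/
lemma exists_diag : ∃ δ : B ⟶ S.P, δ ≫ S.p₁ = 𝟙 B ∧ δ ≫ S.p₂ = 𝟙 B ∧ δ ≫ S.g = zeroHom B := by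
  obtain ⟨δ, h₁, h₂⟩ := IsFP.exists_lift S.hP (𝟙 B) (𝟙 B) rfl
  refine ⟨δ, h₁, h₂, dualHom_ext fun b => ?_⟩
  have hb := S.hg (δ b)
  have e₁ : S.p₁ (δ b) = b := congrArg (fun f : B ⟶ B => f b) h₁
  have e₂ : S.p₂ (δ b) = b := congrArg (fun f : B ⟶ B => f b) h₂
  rw [e₁, e₂, left_eq_add] at hb
  have h0 := coef_unique (b := 0) S.t_ne S.t_max (hb.trans (zero_mul S.t).symm)
  rw [res_liftRes, map_zero] at h0
  exact h0

variable {F : Art Λ k ⥤ Type v}

/-- two lifts differ by an element of the tangent space -/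
lemma exists_over (hs : Hbar F) (y y' : F.obj B) (e : F.map p y = F.map p y') :
    ∃ z : F.obj S.P, F.map S.p₁ z = y ∧ F.map S.p₂ z = y' :=
  (cmp_surj_iff F S.hP).1 (hs _ _ _ _ S.hP S.small) y y' e

lemma exists_act (h0 : H0 F) (h2 : Heps F) (y : F.obj B) (θ : F.obj (dual Λ k)) :
    ∃ z : F.obj S.P, F.map S.p₁ z = y ∧ F.map S.g z = θ :=
  (cmp_surj_iff F S.hPg).1 (h2 _ _ S.hPg).2 y θ (@Subsingleton.elim _ h0.2 _ _)

lemma ext_act (h2 : Heps F) {z z' : F.obj S.P} (h₁ : F.map S.p₁ z = F.map S.p₁ z')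
    (h₂ : F.map S.g z = F.map S.g z') : z = z' :=
  (cmp_inj_iff F S.hPg).1 (h2 _ _ S.hPg).1 z z' h₁ h₂

lemma ext_over (h4 : HSq F) {z z' : F.obj S.P} (h₁ : F.map S.p₁ z = F.map S.p₁ z')
    (h₂ : F.map S.p₂ z = F.map S.p₂ z') : z = z' :=
  (cmp_inj_iff F S.hP).1 (h4 _ _ _ S.hP S.small).1 z z' h₁ h₂

lemma map_p_p₂ (z : F.obj S.P) : F.map p (F.map S.p₂ z) = F.map p (F.map S.p₁ z) := by
  rw [map_map, map_map, S.hP.w]

end SmallSquare

variable {F : Art Λ k ⥤ Type v} {G : Art Λ k ⥤ Type w}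

lemma RS.hsq {F : Art Λ k ⥤ Type v} (h : RS F) : HSq F :=
  fun _ _ _ p₁ p₂ f hh hs => h p₁ p₂ f f hh hs.1

lemma RS.hbar {F : Art Λ k ⥤ Type v} (h : RS F) : Hbar F :=
  fun _ _ _ _ p' p'' f' f'' hh hs => (h p' p'' f' f'' hh hs.1).2

/-- smoothness criterion: tangent surjectivity and existence of lifts along small extensions -/
theorem NatMap.smooth_criterion (η : NatMap F G) (hF0 : H0 F) (hF2 : Heps F) (hG1 : Hbar G)
    (hG2 : Heps G) (hd : Function.Surjective (η.app (dual Λ k)))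
    (hl : ∀ ⦃B A : Art Λ k⦄ (μ : B ⟶ A), IsSmallExt μ → ∀ x : F.obj A,
      (∃ y : G.obj B, G.map μ y = η.app A x) → ∃ x' : F.obj B, F.map μ x' = x) : η.Smooth := by
  refine η.smooth_of_small fun B A μ hμ x y hxy => ?_
  obtain ⟨S⟩ := nonempty_smallSquare hμ
  obtain ⟨x', hx'⟩ := hl μ hμ x ⟨y, hxy.symm⟩
  obtain ⟨z, hz₁, hz₂⟩ := S.exists_over hG1 (η.app B x') y (by rw [← η.natural, hx', hxy])
  obtain ⟨τ, hτ⟩ := hd (G.map S.g z)
  obtain ⟨w, hw₁, hw₂⟩ := S.exists_act hF0 hF2 x' τ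
  have hwz : η.app S.P w = z := S.ext_act hG2 (by rw [← η.natural, hw₁, hz₁]) (by rw [← η.natural, hw₂, hτ])
  exact ⟨F.map S.p₂ w, by rw [S.map_p_p₂, hw₁, hx'], by rw [η.natural, hwz, hz₂]⟩

/-- injectivity criterion -/
theorem NatMap.injective_criterion (η : NatMap F G) (hF0 : H0 F) (hF1 : Hbar F) (hF2 : Heps F)
    (hG2 : Heps G) (hG4 : HSq G) (hd : Function.Injective (η.app (dual Λ k))) (C : Art Λ k) :
    Function.Injective (η.app C) := by
  suffices H : ∀ ⦃A B : Art Λ k⦄ (μ : B ⟶ A), Function.Surjective μ → ∀ x x' : F.obj B,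
      F.map μ x = F.map μ x' → η.app B x = η.app B x' → x = x' from
    fun x x' e => H (toBase C) (toBase_surjective C) x x' (@Subsingleton.elim _ hF0.2 _ _) e
  intro A B μ hμ
  refine surjective_induction (fun A B μ => ∀ x x' : F.obj B,
      F.map μ x = F.map μ x' → η.app B x = η.app B x' → x = x') ?_ ?_ ?_ μ hμ
  · exact fun A B e he x x' h _ => (map_bijective_of_isIso F e).1 h
  · intro A B μ hμ x x' hxx hη
    obtain ⟨S⟩ := nonempty_smallSquare hμ
    obtain ⟨δ, hδ₁, hδ₂, -⟩ := S.exists_diag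
    obtain ⟨z, hz₁, hz₂⟩ := S.exists_over hF1 x x' hxx
    have e₁ : η.app S.P z = η.app S.P (F.map δ x) := by
      refine S.ext_over hG4 ?_ ?_
      · rw [← η.natural, ← η.natural, hz₁, map_map, hδ₁, map_id']
      · rw [← η.natural, ← η.natural, hz₂, map_map, hδ₂, map_id', hη]
    have e₂ : z = F.map δ x := by
      refine S.ext_act hF2 (by rw [hz₁, map_map, hδ₁, map_id']) (hd ?_)
      rw [η.natural, η.natural, e₁]
    rw [← hz₂, e₂, map_map, hδ₂, map_id']
  · intro A B C p q hp hq x x' h hη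
    rw [← map_map, ← map_map] at h
    exact hp x x' (hq _ _ h (by rw [η.natural, η.natural, hη])) hη

theorem NatMap.bijective_criterion (η : NatMap F G) (hs : η.Smooth) (hF0 : H0 F) (hG0 : H0 G)
    (hF1 : Hbar F) (hF2 : Heps F) (hG2 : Heps G) (hG4 : HSq G)
    (hd : Function.Injective (η.app (dual Λ k))) (C : Art Λ k) : Function.Bijective (η.app C) :=
  ⟨η.injective_criterion hF0 hF1 hF2 hG2 hG4 hd C,
    η.surjective_app hs (fun y => let ⟨x⟩ := hF0.1; ⟨x, @Subsingleton.elim _ hG0.2 _ _⟩) C⟩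

end Groth.L12
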