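import Groth.Agent.L12.Stage
import Groth.Agent.L12.FormalFam
import Groth.Agent.L12.FreeCRing

/-!
# Construction of a versal family on a quotient of a smooth coefficient ring
-/

universe u v w

open CategoryTheory ArtFun ArtFun.Art IsLocalRing

namespace Groth.L12

variable {Λ : Type u} {k : Type u} [CommRing Λ] [Field k] [Algebra Λ k] {F : Art Λ k ⥤ Type v}

lemma ker_contains_pow {P : CRing Λ k} {A : Art Λ k} (φ : HomSet P.carrier P.res A) :
    ∃ e, maximalIdeal P.carrier ^ e ≤ RingHom.ker φ.1 := by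
  obtain ⟨N, hN⟩ := isNilpotent_maximalIdeal A
  refine ⟨N, fun a ha => ?_⟩
  have := Ideal.pow_right_mono (homSet_map_max φ) N ((Ideal.map_pow φ.1 _ N) ▸ Ideal.mem_map_of_mem φ.1 ha)
  rwa [hN] at this

lemma exists_next (P : CRing Λ k) (h1 : S1 F) (S : Stage P.carrier P.res F) :
    ∃ (T : Stage P.carrier P.res F) (f : T.A ⟶ S.A), HomSet.map f T.π = S.π ∧ F.map f T.η = S.η ∧
      maximalIdeal P.carrier * RingHom.ker S.π.1 ≤ RingHom.ker T.π.1 ∧
      ∀ K, maximalIdeal P.carrier * RingHom.ker S.π.1 ≤ K → LiftIdeal S K → RingHom.ker T.π.1 ≤ K := by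
  set M := maximalIdeal P.carrier * RingHom.ker S.π.1
  obtain ⟨e, he⟩ := ker_contains_pow S.π
  have hM : RingHom.ker (P.truncHom (e + 1)).1 ≤ M := by
    intro a ha
    have h1 : a ∈ maximalIdeal P.carrier ^ (e + 1 + 1) := Ideal.Quotient.eq_zero_iff_mem.1 ha
    rw [pow_succ', ← pow_succ'] at h1
    have h2 : a ∈ maximalIdeal P.carrier ^ (e + 1) := Ideal.pow_le_pow_right (by omega) h1
    rw [pow_succ'] at h2
    exact Ideal.mul_mono_right he h2
  obtain ⟨E₀, q, hq, hker⟩ := exists_quot_of_le (P.truncHom (e + 1)) (truncHom_surjective P _) hM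
    (Ideal.mul_le_right.trans (ker_le_ker_res S.π))
  have hsurj : Function.Surjective (HomSet.map q (P.truncHom (e + 1))).1 := fun x => by
    obtain ⟨a, rfl⟩ := hq x
    obtain ⟨b, rfl⟩ := truncHom_surjective P _ a
    exact ⟨b, rfl⟩
  obtain ⟨K, hMK, ⟨E, χ, g, z, hχ, hKχ, hg, hz⟩, hmin⟩ := exists_least_liftIdeal h1 S le_rfl Ideal.mul_le_right _ hsurj hker
  exact ⟨⟨E, χ, hχ, z⟩, g, hg, hz, hKχ.symm ▸ hMK, fun K' h h' => hKχ.symm ▸ hmin K' h h'⟩

lemma ker_eq_or_section {B A : Art Λ k} {p : B ⟶ A} (hp : IsSmallExt p) {R : Type u} [CommRing R]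
    [Algebra Λ R] {resR : R →ₐ[Λ] k} (χ : HomSet R resR B) (hs : Function.Surjective (HomSet.map p χ).1) :
    Function.Surjective χ.1 ∨ RingHom.ker χ.1 = RingHom.ker (HomSet.map p χ).1 := by
  obtain ⟨t, ht, -, htk, htm⟩ := IsSmall.exists_gen hp
  have hres : ∀ c : k, ∃ r, resR r = c := fun c => by
    obtain ⟨a, ha⟩ := A.res_surjective c
    obtain ⟨r, hr⟩ := hs a
    exact ⟨r, by rw [← ha, ← hr, ← AlgHom.comp_apply, (HomSet.map p χ).2]⟩
  have hr' : ∀ r, B.res (χ.1 r) = resR r := fun r => DFunLike.congr_fun χ.2 r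
  by_cases hne : ∃ r, p (χ.1 r) = 0 ∧ χ.1 r ≠ 0
  · left
    obtain ⟨r, hr, hr0⟩ := hne
    obtain ⟨b, hb⟩ := Ideal.mem_span_singleton'.1 (ht ▸ RingHom.mem_ker.2 hr : χ.1 r ∈ Ideal.span {t})
    have hbu : B.res b ≠ 0 := fun h0 => hr0 (by rw [← hb]; exact htm b ((B.mem_maximalIdeal_iff _).2 h0))
    intro x
    obtain ⟨s, hs'⟩ := hs (p x)
    have hx : x - χ.1 s ∈ Ideal.span {t} := by
      rw [← ht, RingHom.mem_ker, map_sub, sub_eq_zero]
      exact hs'.symm
    obtain ⟨c, hc⟩ := Ideal.mem_span_singleton'.1 hx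
    obtain ⟨d, hd⟩ := hres (B.res c / B.res b)
    refine ⟨s + d * r, ?_⟩
    rw [map_add, map_mul, ← hb, ← mul_assoc,
      mul_eq_of_res_eq (b' := c) (by rw [map_mul, hr', hd, div_mul_cancel₀ _ hbu]) htm, hc, add_sub_cancel]
  · right
    push_neg at hne
    refine le_antisymm (fun r hr => ?_) fun r hr => hne r hr
    rw [RingHom.mem_ker] at hr ⊢
    change p (χ.1 r) = 0
    rw [hr, map_zero]

theorem exists_versal_quot (h0 : H0 F) (h1 : S1 F) (h2 : Heps F) (P : CRing Λ k)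
    (hP : IsSmoothFunctor (hR P.carrier P.res)) (S₀ : Stage P.carrier P.res F)
    (hspan : ∀ θ : F.obj (dual Λ k), ∃ g : S₀.A ⟶ dual Λ k, F.map g S₀.η = θ) :
    ∃ (R : CRing Λ k) (q : P.carrier →ₐ[Λ] R.carrier) (_hq : R.res.comp q = P.res)
      (ξ : Family R.carrier R.res F) (π₀ : HomSet R.carrier R.res S₀.A),
      Function.Surjective q ∧ π₀.1.comp q = S₀.π.1 ∧ ξ.app S₀.A π₀ = S₀.η ∧ IsVersal ξ := by
  choose nxt f hf hfη hmJ hmin using exists_next P h1
  let T : ℕ → Stage P.carrier P.res F := fun n => Nat.rec S₀ (fun _ S => nxt S) n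
  have hT : ∀ n, T (n + 1) = nxt (T n) := fun n => rfl
  let J : ℕ → Ideal P.carrier := fun n => RingHom.ker (T n).π.1
  have hanti : Antitone J := antitone_nat_of_succ_le fun n a ha => by
    have e := hf (T n)
    rw [RingHom.mem_ker, ← e]
    change f (T n) ((nxt (T n)).π.1 a) = 0
    rw [show (nxt (T n)).π.1 a = 0 from ha, map_zero]
  have hopen : ∀ n, ∃ e, maximalIdeal P.carrier ^ e ≤ J n := fun n => ker_contains_pow _
  have hJm : ⨅ i, J i ≤ maximalIdeal P.carrier :=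
    (iInf_le J 0).trans ((ker_le_ker_res _).trans_eq (cring_ker_eq P))
  obtain ⟨R, q, hq, hqs, hqker⟩ := exists_cring_quot P _ hJm
  have hfac : ∀ n, ∃ φ : HomSet R.carrier R.res (T n).A, φ.1.comp q = (T n).π.1 := fun n => by
    let φ : R.carrier →ₐ[Λ] (T n).A := AlgHom.liftOfSurjective q hqs (T n).π.1 (by
      rw [show RingHom.ker q.toRingHom = ⨅ i, J i from hqker]; exact iInf_le J n)
    have hφ : ∀ a, φ (q a) = (T n).π.1 a := fun a => AlgHom.liftOfSurjective_apply _ hqs _ _ a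
    refine ⟨⟨φ, AlgHom.ext fun r => ?_⟩, AlgHom.ext hφ⟩
    obtain ⟨a, rfl⟩ := hqs r
    rw [AlgHom.comp_apply, hφ, ← AlgHom.comp_apply, ← AlgHom.comp_apply, hq, (T n).π.2]
  choose π hπq using hfac
  have hπs : ∀ n, Function.Surjective (π n).1 := fun n x => by
    obtain ⟨a, rfl⟩ := (T n).surj x
    exact ⟨q a, DFunLike.congr_fun (hπq n) a⟩
  have hcof : ∀ (B : Art Λ k) (φ : HomSet R.carrier R.res B),
      ∃ (n : ℕ) (ψ : (T n).A ⟶ B), HomSet.map ψ (π n) = φ := by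
    intro B φ
    let φP : HomSet P.carrier P.res B := ⟨φ.1.comp q, by rw [← AlgHom.comp_assoc, φ.2, hq]⟩
    obtain ⟨e, he⟩ := ker_contains_pow φP
    obtain ⟨N, hN⟩ := chevalley J hanti hopen e
    have hker : RingHom.ker (T N).π.1 ≤ RingHom.ker φP.1 := hN.trans (sup_le (fun a ha => by
      rw [RingHom.mem_ker]
      change φ.1 (q a) = 0
      rw [RingHom.mem_ker.1 (hqker.symm ▸ ha : a ∈ RingHom.ker q), map_zero]) he)
    obtain ⟨ψ, hψ⟩ := exists_desc_homSet (T N).π (T N).surj φP hker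
    refine ⟨N, ψ, Subtype.ext (AlgHom.ext fun r => ?_)⟩
    obtain ⟨a, rfl⟩ := hqs r
    exact (congrArg ψ.toAlgHom (DFunLike.congr_fun (hπq N) a)).trans
      (DFunLike.congr_fun (congrArg Subtype.val hψ) a)
  obtain ⟨ξ, hξ, -⟩ := existsUnique_family_of_tower (F := F) (fun n => (T n).A) π hπs (fun n => f (T n))
    (fun n => Subtype.ext (AlgHom.ext fun r => by
      obtain ⟨a, rfl⟩ := hqs r
      exact (congrArg (f (T n)).toAlgHom (DFunLike.congr_fun (hπq (n + 1)) a)).trans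
        ((DFunLike.congr_fun (congrArg Subtype.val (hf (T n))) a).trans (DFunLike.congr_fun (hπq n) a).symm)))
    (fun n => (T n).η) (fun n => hfη (T n)) hcof
  refine ⟨R, q, hq, ξ, π 0, hqs, hπq 0, hξ 0, (isVersal_iff ξ).2 ?_⟩
  refine NatMap.smooth_criterion _ (h0_hR R.res) (rs_hR R.res).heps (fun _ _ _ _ a b c d hh hs => h1 a b c d hh hs.1)
    h2 (fun θ => ?_) fun B A μ hμ (φ : HomSet R.carrier R.res A) ⟨y, hy⟩ => ?_
  · obtain ⟨g, hg⟩ := hspan θ
    exact ⟨HomSet.map g (π 0), (ξ.natural g (π 0)).trans ((congrArg (F.map g) (hξ 0)).trans hg)⟩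
  · obtain ⟨n, ψ, hψ⟩ := hcof A φ
    have hyn : F.map μ y = F.map ψ (T n).η := by
      rw [hy]
      change ξ.app A φ = _
      rw [← hψ, ξ.natural, hξ]
    obtain ⟨E, e₁, e₂, hE⟩ := exists_isFibreProd_of_surjective ψ μ hμ.1
    have he₁ : IsSmallExt e₁ := IsFP.isSmallExt_fst hE hμ
    obtain ⟨z, hz₁, hz₂⟩ := (cmp_surj_iff F hE).1 (h1 e₁ e₂ ψ μ hE hμ.1) (T n).η y hyn.symm
    obtain ⟨χ, hχ⟩ : ∃ χ : HomSet P.carrier P.res E, HomSet.map e₁ χ = (T n).π := hP e₁ he₁.1 (T n).π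
    have hmKer : maximalIdeal P.carrier * RingHom.ker (T n).π.1 ≤ RingHom.ker χ.1 := by
      rw [Ideal.mul_le]
      intro a ha b hb
      rw [RingHom.mem_ker, map_mul]
      refine IsSemismall.mul_eq_zero he₁.isSemismallExt (homSet_map_max χ (Ideal.mem_map_of_mem _ ha)) ?_
      exact (DFunLike.congr_fun (congrArg Subtype.val hχ) b).trans (RingHom.mem_ker.1 hb)
    have hsurj1 : Function.Surjective (HomSet.map e₁ χ).1 := hχ.symm ▸ (T n).surj
    rcases ker_eq_or_section he₁ χ hsurj1 with hsurj | hker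
    · have hle : RingHom.ker (T (n + 1)).π.1 ≤ RingHom.ker χ.1 :=
        hmin (T n) _ hmKer ⟨E, χ, e₁, z, hsurj, rfl, hχ, hz₁⟩
      obtain ⟨w, hw⟩ := exists_desc_homSet (T (n + 1)).π (T (n + 1)).surj χ hle
      refine ⟨HomSet.map (w ≫ e₂) (π (n + 1)), Subtype.ext (AlgHom.ext fun r => ?_)⟩
      obtain ⟨a, rfl⟩ := hqs r
      have h1' : (π (n + 1)).1 (q a) = (T (n + 1)).π.1 a := DFunLike.congr_fun (hπq (n + 1)) a
      have h2' : w ((T (n + 1)).π.1 a) = χ.1 a := DFunLike.congr_fun (congrArg Subtype.val hw) a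
      change μ (e₂ (w ((π (n + 1)).1 (q a)))) = φ.1 (q a)
      rw [h1', h2', ← hE.w_apply, show e₁ (χ.1 a) = (T n).π.1 a from DFunLike.congr_fun (congrArg Subtype.val hχ) a,
        ← show (π n).1 (q a) = (T n).π.1 a from DFunLike.congr_fun (hπq n) a]
      exact DFunLike.congr_fun (congrArg Subtype.val hψ) (q a)
    · rw [hχ] at hker
      obtain ⟨s, hs⟩ := exists_desc_homSet (T n).π (T n).surj χ hker.ge
      refine ⟨HomSet.map (s ≫ e₂) (π n), Subtype.ext (AlgHom.ext fun r => ?_)⟩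
      obtain ⟨a, rfl⟩ := hqs r
      have h1' : (π n).1 (q a) = (T n).π.1 a := DFunLike.congr_fun (hπq n) a
      have h2' : s ((T n).π.1 a) = χ.1 a := DFunLike.congr_fun (congrArg Subtype.val hs) a
      change μ (e₂ (s ((π n).1 (q a)))) = φ.1 (q a)
      rw [h1', h2', ← hE.w_apply, show e₁ (χ.1 a) = (T n).π.1 a from DFunLike.congr_fun (congrArg Subtype.val hχ) a, ← h1']
      exact DFunLike.congr_fun (congrArg Subtype.val hψ) (q a)

end Groth.L12
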